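import Mathlib
import Cfsg.Agent.Lib.PGroup.Frattini
import Cfsg.Agent.Lib.Coprime.Action
import Cfsg.Agent.Lib.Fusion.Alperin
import Cfsg.Agent.Lib.Fusion.Tate
import Cfsg.Agent.Lib.OddOrder.OmegaLemma

/-!
Normal p-complements from H-subgroups of a fixed order (smallest prime).
-/

set_option autoImplicit false
set_option linter.style.haveILetI false
set_option linter.unusedSectionVars false
open scoped commutatorElement

namespace CfsgLib.LocalEvenB.HSubgroup

variable {G : Type*} [Group G] [Finite G] {p : ℕ} [Fact p.Prime]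

/-- The Frattini subgroup of `R` inside `G`. -/
def phi (R : Subgroup G) : Subgroup G := (frattini R).map R.subtype

theorem phi_le (R : Subgroup G) : phi R ≤ R := Subgroup.map_subtype_le _

theorem mem_phi_iff {R : Subgroup G} {x : G} :
    x ∈ phi R ↔ x ∈ R ∧ ∀ K : Subgroup R, IsCoatom K → x ∈ K.map R.subtype := by
  constructor
  · rintro ⟨z, hz, rfl⟩
    exact ⟨z.2, fun K hK => ⟨z, frattini_le_coatom hK hz, rfl⟩⟩
  · rintro ⟨hx, h⟩
    refine ⟨⟨x, hx⟩, ?_, rfl⟩
    show (⟨x, hx⟩ : R) ∈ Order.radical (Subgroup R)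
    rw [Order.radical]
    simp only [Subgroup.mem_iInf]
    intro K hK
    obtain ⟨z, hz, he⟩ := h K hK
    exact (Subtype.ext he : z = ⟨x, hx⟩) ▸ hz

theorem char_normalizer {R : Subgroup G} (K : Subgroup R) [K.Characteristic] :
    Subgroup.normalizer (R : Set G) ≤ Subgroup.normalizer ((K.map R.subtype : Subgroup G) : Set G) := by
  intro g hg
  have h := Subgroup.characteristic_iff_map_eq.mp (inferInstance : K.Characteristic)
    (R.normalizerMonoidHom ⟨g, hg⟩)
  rw [Subgroup.mem_normalizer_iff_map_conj_eq]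
  refine Subgroup.eq_of_le_of_card_ge ?_
    (le_of_eq (Subgroup.card_map_of_injective (MulAut.conj g).injective).symm)
  rintro _ ⟨_, ⟨z, hz, rfl⟩, rfl⟩
  exact ⟨_, h.le ⟨z, hz, rfl⟩, rfl⟩

theorem normalizer_phi (R : Subgroup G) :
    Subgroup.normalizer (R : Set G) ≤ Subgroup.normalizer (phi R : Set G) := char_normalizer _

theorem le_normalizer_max {R : Subgroup G} (hR : IsPGroup p R) {K : Subgroup R} (hK : IsCoatom K) :
    R ≤ Subgroup.normalizer ((K.map R.subtype : Subgroup G) : Set G) := by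
  haveI := PGroup.Frattini.normal_of_isCoatom hR hK
  intro r hr
  rw [Subgroup.mem_normalizer_iff]
  intro x
  constructor
  · rintro ⟨z, hz, rfl⟩
    exact ⟨_, (inferInstance : K.Normal).conj_mem z hz ⟨r, hr⟩, rfl⟩
  · rintro ⟨z, hz, he⟩
    refine ⟨_, (inferInstance : K.Normal).conj_mem z hz ⟨r⁻¹, inv_mem hr⟩, ?_⟩
    simp only [Subgroup.coe_subtype] at he
    simp [he, mul_assoc]

theorem card_max {R : Subgroup G} (hR : IsPGroup p R) {K : Subgroup R} (hK : IsCoatom K) :
    Nat.card ↥(K.map R.subtype) * p = Nat.card R := by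
  rw [Subgroup.card_map_of_injective R.subtype_injective, ← K.card_mul_index,
    PGroup.Frattini.index_of_isCoatom hR hK]

theorem pow_mem_phi {R : Subgroup G} (hR : IsPGroup p R) {x : G} (hx : x ∈ R) : x ^ p ∈ phi R :=
  ⟨_, PGroup.Frattini.pow_mem_frattini hR ⟨x, hx⟩, rfl⟩

theorem comm_mem_phi {R : Subgroup G} (hR : IsPGroup p R) {x y : G} (hx : x ∈ R) (hy : y ∈ R) :
    ⁅x, y⁆ ∈ phi R :=
  ⟨_, PGroup.Frattini.commutatorElement_mem_frattini hR ⟨x, hx⟩ ⟨y, hy⟩, by simp [commutatorElement_def]⟩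

theorem eq_of_sup_phi {R X : Subgroup G} (hX : X ≤ R) (h : X ⊔ phi R = R) : X = R := by
  have h' : X.subgroupOf R ⊔ frattini R = ⊤ := by
    refine eq_top_iff.mpr fun z _ => ?_
    have hz : (z : G) ∈ ((X.subgroupOf R ⊔ frattini R).map R.subtype) := by
      rw [Subgroup.map_sup, Subgroup.map_subgroupOf_eq_of_le hX]
      exact h.symm ▸ z.2
    obtain ⟨w, hw, he⟩ := hz
    exact (Subtype.ext he : w = z) ▸ hw
  exact le_antisymm hX (Subgroup.subgroupOf_eq_top.mp (frattini_nongenerating h'))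

theorem coprime_pred {n : ℕ} (hmin : ∀ q : ℕ, q.Prime → q ∣ n → p ≤ q) :
    n.Coprime (p - 1) := by
  refine Nat.coprime_of_dvd fun q hq h1 h2 => ?_
  have hp := (Fact.out : p.Prime).two_le
  have := hmin q hq h1
  have := Nat.le_of_dvd (by omega) h2
  omega

/-- A `p'`-element, `p` smallest, acts trivially on a quotient of order `p`. -/
theorem trivial_on_index_p {D I : Subgroup G} {y a : G} (hID : I ≤ D)
    (hidx : Nat.card I * p = Nat.card D) (hDI : D ≤ Subgroup.normalizer (I : Set G))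
    (hyD : y ∈ Subgroup.normalizer (D : Set G)) (hyI : y ∈ Subgroup.normalizer (I : Set G))
    (hcop : (orderOf y).Coprime p) (hmin : ∀ q : ℕ, q.Prime → q ∣ orderOf y → p ≤ q) (ha : a ∈ D) :
    a⁻¹ * (y * a * y⁻¹) ∈ I := by
  set I' := I.subgroupOf D
  haveI : I'.Normal := (Subgroup.normal_subgroupOf_iff_le_normalizer hID).mpr hDI
  have hQ : Nat.card (D ⧸ I') = p := by
    have h := I'.card_mul_index
    rw [Nat.card_congr (Subgroup.subgroupOfEquivOfLe hID).toEquiv, ← hidx] at h
    exact Nat.eq_of_mul_eq_mul_left Nat.card_pos h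
  by_cases haI : a ∈ I
  · exact mul_mem (inv_mem haI) ((Subgroup.mem_normalizer_iff.mp hyI a).mp haI)
  set π := QuotientGroup.mk' I'
  have hπ1 : π ⟨a, ha⟩ ≠ 1 := fun h =>
    haI (Subgroup.mem_subgroupOf.mp ((QuotientGroup.eq_one_iff _).mp h))
  have hord : orderOf (π ⟨a, ha⟩) = p :=
    ((Nat.dvd_prime Fact.out).mp (hQ ▸ orderOf_dvd_natCard _)).resolve_left
      (fun h => hπ1 (orderOf_eq_one_iff.mp h))
  have hgen : ∀ w : D ⧸ I', ∃ k : ℤ, π ⟨a, ha⟩ ^ k = w := fun w =>
    Subgroup.mem_zpowers_iff.mp (mem_zpowers_of_prime_card hQ hπ1)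
  set e : MulAut D := D.normalizerMonoidHom ⟨y, hyD⟩ with he
  have heI : ∀ z : D, z ∈ I' → e z ∈ I' := fun z hz =>
    (Subgroup.mem_normalizer_iff.mp hyI _).mp hz
  obtain ⟨r, hr⟩ := hgen (π (e ⟨a, ha⟩))
  have hee : ∀ z : D, π (e z) = π z ^ r := by
    intro z
    obtain ⟨k, hk⟩ := hgen (π z)
    have h1 : z * ((⟨a, ha⟩ : D) ^ k)⁻¹ ∈ I' := by
      rw [← QuotientGroup.eq_one_iff]
      show π _ = 1
      rw [map_mul, map_inv, map_zpow, hk, mul_inv_cancel]
    have h2 : π (e (z * ((⟨a, ha⟩ : D) ^ k)⁻¹)) = 1 := (QuotientGroup.eq_one_iff _).mpr (heI _ h1)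
    rw [map_mul, map_mul, mul_eq_one_iff_eq_inv, map_inv, map_inv, inv_inv, map_zpow, map_zpow,
      ← hr] at h2
    rw [h2, ← hk, ← zpow_mul, ← zpow_mul, mul_comm r k]
  have hit : ∀ (i : ℕ) (z : D), π ((e ^ i) z) = π z ^ (r ^ i) := by
    intro i
    induction i with
    | zero => intro z; simp
    | succ i ih =>
      intro z
      rw [pow_succ', MulAut.mul_apply, hee, ih, ← zpow_mul, pow_succ]
  have hn : e ^ orderOf y = 1 := by
    rw [he, ← map_pow, ← map_one D.normalizerMonoidHom]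
    exact congrArg _ (Subtype.ext (by simp [pow_orderOf_eq_one]))
  have h1 := hit (orderOf y) ⟨a, ha⟩
  rw [hn, MulAut.one_apply] at h1
  have h2 : ((r : ℤ) : ZMod p) ^ orderOf y = 1 := by
    have h3 : π ⟨a, ha⟩ ^ (r ^ orderOf y - 1) = 1 := by
      rw [zpow_sub, zpow_one, ← h1, mul_inv_cancel]
    have h4 := orderOf_dvd_iff_zpow_eq_one.mpr h3
    rw [hord] at h4
    have h5 := (ZMod.intCast_zmod_eq_zero_iff_dvd _ p).mpr h4
    push_cast at h5
    exact sub_eq_zero.mp h5
  have hr0 : ((r : ℤ) : ZMod p) ≠ 0 := fun h => by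
    rw [h, zero_pow (orderOf_pos y).ne'] at h2
    exact zero_ne_one h2
  have h6 : ((r : ℤ) : ZMod p) = 1 := by
    have := pow_gcd_eq_one.mpr ⟨h2, ZMod.pow_card_sub_one_eq_one hr0⟩
    rwa [coprime_pred hmin, pow_one] at this
  have h7 : π (e ⟨a, ha⟩) = π ⟨a, ha⟩ := by
    rw [hee]
    conv_rhs => rw [← zpow_one (π ⟨a, ha⟩)]
    rw [zpow_eq_zpow_iff_modEq, hord, ← ZMod.intCast_eq_intCast_iff, h6, Int.cast_one]
  have h8 : π ((⟨a, ha⟩ : D)⁻¹ * e ⟨a, ha⟩) = 1 := by rw [map_mul, map_inv, h7, inv_mul_cancel]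
  exact Subgroup.mem_subgroupOf.mp ((QuotientGroup.eq_one_iff _).mp h8)

/-- Acting trivially modulo every maximal subgroup, hence trivially. -/
theorem centralizes_of_max {R : Subgroup G} (hR : IsPGroup p R) {y : G}
    (hy : y ∈ Subgroup.normalizer (R : Set G)) (hcop : (orderOf y).Coprime p)
    (h : ∀ r ∈ R, ∀ K : Subgroup R, IsCoatom K → r⁻¹ * (y * r * y⁻¹) ∈ K.map R.subtype) :
    y ∈ Subgroup.centralizer (R : Set G) := by
  refine Coprime.le_centralizer_of_frattini (A := Subgroup.zpowers y) (Subgroup.zpowers_le.mpr hy)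
    ?_ ?_ (Subgroup.mem_zpowers y)
  · obtain ⟨n, hn⟩ := (hR.to_subgroup (frattini R)).exists_card_eq
    rw [Nat.card_zpowers, hn]
    exact hcop.pow_right n
  · have key : ∀ r ∈ R, ⁅y, r⁆ ∈ phi R := by
      intro r hr
      refine mem_phi_iff.mpr ⟨?_, fun K hK => ?_⟩
      · exact mul_mem ((Subgroup.mem_normalizer_iff.mp hy r).mp hr) (inv_mem hr)
      · have h1 := (Subgroup.mem_normalizer_iff.mp (le_normalizer_max hR hK hr) _).mp (h r hr K hK)
        rw [commutatorElement_def]
        simpa [mul_assoc] using h1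
    intro b hb r hr
    have hbn : b ∈ Subgroup.normalizer (R : Set G) := Subgroup.zpowers_le.mpr hy hb
    obtain ⟨i, rfl⟩ := Submonoid.mem_powers_iff _ _ |>.mp (mem_powers_iff_mem_zpowers.mpr hb)
    clear hb hbn
    induction i generalizing r with
    | zero => simpa using (phi R).one_mem
    | succ i ih =>
      have hr' : y ^ i * r * (y ^ i)⁻¹ ∈ R :=
        (Subgroup.mem_normalizer_iff.mp (pow_mem hy i) r).mp hr
      have := mul_mem (key _ hr') (ih r hr)
      rw [commutatorElement_def, commutatorElement_def] at this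
      rw [commutatorElement_def, pow_succ']
      show _ ∈ phi R
      convert this using 1
      group

theorem centralizes_of_cyclic {R : Subgroup G} (hR : IsPGroup p R) [IsCyclic R] {y : G}
    (hy : y ∈ Subgroup.normalizer (R : Set G)) (hcop : (orderOf y).Coprime p)
    (hmin : ∀ q : ℕ, q.Prime → q ∣ orderOf y → p ≤ q) : y ∈ Subgroup.centralizer (R : Set G) := by
  refine centralizes_of_max hR hy hcop fun r hr K hK => ?_
  refine trivial_on_index_p (Subgroup.map_subtype_le _) (card_max hR hK) (le_normalizer_max hR hK) hy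
    ?_ hcop hmin hr
  haveI : K.Characteristic := Subgroup.characteristic_iff_map_le.mpr fun φ => by
    obtain ⟨m, hm⟩ := MonoidHom.map_cyclic φ.toMonoidHom
    rintro _ ⟨z, hz, rfl⟩
    rw [hm]
    exact zpow_mem hz m
  exact char_normalizer K hy

/-- The hypothesis on subgroups of order `d`. -/
def Hyp (G : Type*) [Group G] (p d : ℕ) : Prop :=
  ∀ E : Subgroup G, IsPGroup p E → (Nat.card E = d ∨ (d = 2 ∧ Nat.card E = 4)) →
    ∀ g : G, E.map (MulAut.conj g).toMonoidHom ⊓ Subgroup.normalizer (E : Set G) ≤ E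

variable {d : ℕ}

theorem normal_in_pgroup (hH : Hyp G p d) {E R : Subgroup G} (hR : IsPGroup p R) (hER : E ≤ R)
    (hcard : Nat.card E = d ∨ (d = 2 ∧ Nat.card E = 4)) :
    R ≤ Subgroup.normalizer (E : Set G) := by
  by_contra hcon
  set N := R ⊓ Subgroup.normalizer (E : Set G) with hN
  have hNR : N < R := lt_of_le_of_ne inf_le_left fun h => hcon (inf_eq_left.mp h)
  haveI := hR.isNilpotent
  obtain ⟨⟨u, hu⟩, huN, huC⟩ := SetLike.exists_of_lt (Group.normalizerCondition_of_isNilpotent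
    (N.subgroupOf R) (lt_top_iff_ne_top.mpr fun h => hNR.ne
      (le_antisymm hNR.le (Subgroup.subgroupOf_eq_top.mp h))))
  refine huC (Subgroup.mem_inf.mpr ⟨hu, ?_⟩)
  rw [Subgroup.mem_normalizer_iff_map_conj_eq]
  refine Subgroup.eq_of_le_of_card_ge (fun z hz => hH E (hR.to_le hER) hcard u
    (Subgroup.mem_inf.mpr ⟨hz, ?_⟩)) (by rw [Subgroup.card_map_of_injective (MulAut.conj u).injective])
  obtain ⟨w, hw, rfl⟩ := hz
  exact (Subgroup.mem_inf.mp ((Subgroup.mem_normalizer_iff.mp huN ⟨w, hER hw⟩).mp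
    (Subgroup.mem_subgroupOf.mpr (Subgroup.mem_inf.mpr ⟨hER hw, Subgroup.le_normalizer hw⟩)))).2

theorem fixed_member (hH : Hyp G p d) {E R : Subgroup G} (hR : IsPGroup p R) (hER : E ≤ R)
    (hcard : Nat.card E = d ∨ (d = 2 ∧ Nat.card E = 4)) {y : G}
    (hy : y ∈ Subgroup.normalizer (R : Set G)) : y ∈ Subgroup.normalizer (E : Set G) := by
  rw [Subgroup.mem_normalizer_iff_map_conj_eq]
  refine Subgroup.eq_of_le_of_card_ge (fun z hz => hH E (hR.to_le hER) hcard y
    (Subgroup.mem_inf.mpr ⟨hz, ?_⟩)) (le_of_eq (Subgroup.card_map_of_injective (MulAut.conj y).injective).symm)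
  obtain ⟨w, hw, rfl⟩ := hz
  exact normal_in_pgroup hH hR hER hcard ((Subgroup.mem_normalizer_iff.mp hy w).mp (hER hw))

theorem exists_between {A B : Subgroup G} (hB : IsPGroup p B) (hAB : A ≤ B) {m : ℕ}
    (hA : Nat.card A ≤ p ^ m) (hm : p ^ m ≤ Nat.card B) :
    ∃ F : Subgroup G, A ≤ F ∧ F ≤ B ∧ Nat.card F = p ^ m := by
  obtain ⟨k, hk⟩ := hB.exists_card_eq
  obtain ⟨n, hn⟩ := (hB.to_le hAB).exists_card_eq
  have h2 := (Fact.out : p.Prime).two_le
  obtain ⟨F, hF, hle⟩ := Sylow.exists_subgroup_card_pow_prime_le p (n := n) (m := m)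
    (show p ^ m ∣ Nat.card B from hk ▸ pow_dvd_pow p ((Nat.pow_le_pow_iff_right h2).mp (hk ▸ hm)))
    (A.subgroupOf B) (by rw [Nat.card_congr (Subgroup.subgroupOfEquivOfLe hAB).toEquiv, hn])
    ((Nat.pow_le_pow_iff_right h2).mp (hn ▸ hA))
  exact ⟨F.map B.subtype, fun a ha => ⟨⟨a, hAB ha⟩, hle (Subgroup.mem_subgroupOf.mpr ha), rfl⟩,
    Subgroup.map_subtype_le _, by rw [Subgroup.card_map_of_injective B.subtype_injective, hF]⟩

/-- A unique subgroup of its order in a larger `p`-group is cyclic. -/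
theorem cyclic_of_unique {R W : Subgroup G} (hR : IsPGroup p R) (hWR : W < R)
    (hu : ∀ F : Subgroup G, F ≤ R → Nat.card F = Nat.card W → F = W) : IsCyclic W := by
  induction hn : Nat.card R using Nat.strong_induction_on generalizing R with
  | _ n ih =>
    subst hn
    obtain ⟨k, hk⟩ := hR.exists_card_eq
    obtain ⟨j, hj⟩ := (hR.to_le hWR.le).exists_card_eq
    have h2 := (Fact.out : p.Prime).two_le
    have hjk : j < k := by
      refine (Nat.pow_lt_pow_iff_right h2).mp ?_
      rw [← hj, ← hk]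
      exact lt_of_le_of_ne (Subgroup.card_le_of_le hWR.le)
        fun e => hWR.ne (Subgroup.eq_of_le_of_card_ge hWR.le e.ge)
    have hmaxcard : ∀ K : Subgroup R, IsCoatom K → Nat.card ↥(K.map R.subtype) = p ^ (k - 1) := by
      intro K hK
      have h1 := card_max hR hK
      rw [hk, show k = k - 1 + 1 by omega, pow_succ] at h1
      exact Nat.eq_of_mul_eq_mul_right (Fact.out : p.Prime).pos h1
    have hin : ∀ K : Subgroup R, IsCoatom K → W ≤ K.map R.subtype := by
      intro K hK
      obtain ⟨F, -, hF, hFc⟩ := exists_between (hR.to_le (Subgroup.map_subtype_le K)) bot_le (m := j)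
        (by rw [Subgroup.card_bot]; exact Nat.one_le_pow _ _ (by omega))
        (by rw [hmaxcard K hK]; exact Nat.pow_le_pow_right (by omega) (by omega))
      exact hu F (hF.trans (Subgroup.map_subtype_le _)) (hFc.trans hj.symm) ▸ hF
    haveI : Nontrivial R := by
      rw [← Finite.one_lt_card_iff_nontrivial, hk]
      exact Nat.one_lt_pow (by omega) (by omega)
    by_cases hjk' : j + 1 = k
    · haveI : IsCyclic R := by
        obtain ⟨⟨x, hx⟩, -, hxW⟩ := SetLike.exists_of_lt
          (lt_top_iff_ne_top.mpr fun h => hWR.ne (le_antisymm hWR.le (Subgroup.subgroupOf_eq_top.mp h)) :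
            W.subgroupOf R < ⊤)
        refine isCyclic_iff_exists_zpowers_eq_top.mpr ⟨⟨x, hx⟩, ?_⟩
        refine ((eq_top_or_exists_le_coatom _).resolve_right ?_)
        rintro ⟨K, hK, hle⟩
        have hKW : K.map R.subtype = W := hu _ (Subgroup.map_subtype_le _)
          (by rw [hmaxcard K hK, hj, show k - 1 = j by omega])
        exact hxW (Subgroup.mem_subgroupOf.mpr (hKW ▸ ⟨⟨x, hx⟩, hle (Subgroup.mem_zpowers _), rfl⟩))
      exact Subgroup.isCyclic_of_le hWR.le
    · obtain ⟨K, hK, -⟩ := (eq_top_or_exists_le_coatom (⊥ : Subgroup R)).resolve_left bot_ne_top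
      refine ih _ ?_ (hR.to_le (Subgroup.map_subtype_le K)) (lt_of_le_of_ne (hin K hK) fun e => ?_)
        (fun F hF hc => hu F (hF.trans (Subgroup.map_subtype_le _)) hc) rfl
      · rw [hmaxcard K hK, hk]
        exact Nat.pow_lt_pow_right (by omega) (by omega)
      · have := hmaxcard K hK
        rw [← e, hj] at this
        have := Nat.pow_right_injective h2 this
        omega

theorem centralizes_large (hH : Hyp G p d) (hd : ∃ m : ℕ, 1 ≤ m ∧ d = p ^ m) {R : Subgroup G}
    (hR : IsPGroup p R) (hlarge : d < Nat.card R) {y : G}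
    (hy : y ∈ Subgroup.normalizer (R : Set G)) (hcop : (orderOf y).Coprime p)
    (hmin : ∀ q : ℕ, q.Prime → q ∣ orderOf y → p ≤ q) : y ∈ Subgroup.centralizer (R : Set G) := by
  induction hn : Nat.card R using Nat.strong_induction_on generalizing R with
  | _ n ih =>
  subst hn
  obtain ⟨m, hm1, hdm⟩ := hd
  have h2 := (Fact.out : p.Prime).two_le
  have hproper : ∀ X : Subgroup G, X ≤ R → X ≠ R → y ∈ Subgroup.normalizer (X : Set G) →
      d < Nat.card X → y ∈ Subgroup.centralizer (X : Set G) := fun X hX hne hyX hdX =>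
    ih _ (lt_of_le_of_ne (Subgroup.card_le_of_le hX)
      fun e => hne (Subgroup.eq_of_le_of_card_ge hX e.ge)) (hR.to_le hX) hdX hyX rfl
  haveI : Nontrivial R := by
    rw [← Finite.one_lt_card_iff_nontrivial]
    exact lt_of_le_of_lt (hdm ▸ Nat.one_le_pow _ _ (by omega)) hlarge
  have hphine : phi R ≠ R := fun e => by
    obtain ⟨K, hK, -⟩ := (eq_top_or_exists_le_coatom (⊥ : Subgroup R)).resolve_left bot_ne_top
    refine hK.1 ((Subgroup.eq_top_iff' K).mpr fun z => ?_)
    obtain ⟨w, hw, he⟩ := (mem_phi_iff.mp (e.symm ▸ z.2 : (z : G) ∈ phi R)).2 K hK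
    exact (Subtype.ext he : w = z) ▸ hw
  have hyphi := normalizer_phi R hy
  by_cases hsmall : Nat.card ↥(phi R) < d
  · -- every maximal subgroup is normalised
    refine centralizes_of_max hR hy hcop fun r hr K hK => ?_
    refine trivial_on_index_p (Subgroup.map_subtype_le _) (card_max hR hK) (le_normalizer_max hR hK)
      hy ?_ hcop hmin hr
    set M := K.map R.subtype
    have hphiM : phi R ≤ M := fun z hz => (mem_phi_iff.mp hz).2 K hK
    rw [Subgroup.mem_normalizer_iff_map_conj_eq]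
    refine Subgroup.eq_of_le_of_card_ge ?_
      (le_of_eq (Subgroup.card_map_of_injective (MulAut.conj y).injective).symm)
    rintro _ ⟨x, hx, rfl⟩
    set X := phi R ⊔ Subgroup.zpowers x
    have hxR : x ∈ R := Subgroup.map_subtype_le K hx
    have hXR : X ≤ R := sup_le (phi_le R) (Subgroup.zpowers_le.mpr hxR)
    have hXc : Nat.card X ≤ d := by
      have hcle : Nat.card X ≤ Nat.card ↥(phi R) * p := by
        have hn : R ≤ Subgroup.normalizer (phi R : Set G) := Subgroup.le_normalizer.trans (normalizer_phi R)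
        haveI : ((phi R).subgroupOf X).Normal :=
          (Subgroup.normal_subgroupOf_iff_le_normalizer le_sup_left).mpr (hXR.trans hn)
        rw [← Nat.card_congr (Subgroup.subgroupOfEquivOfLe (le_sup_left : phi R ≤ X)).toEquiv,
          ← ((phi R).subgroupOf X).card_mul_index]
        refine Nat.mul_le_mul_left _ ?_
        set π := QuotientGroup.mk' ((phi R).subgroupOf X)
        have hxX : x ∈ X := Subgroup.mem_sup_right (Subgroup.mem_zpowers x)
        have hgen : ∀ q : X ⧸ (phi R).subgroupOf X, q ∈ Subgroup.zpowers (π ⟨x, hxX⟩) := by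
          intro q
          obtain ⟨⟨z, hz⟩, rfl⟩ := QuotientGroup.mk'_surjective _ q
          rw [← SetLike.mem_coe, Subgroup.coe_mul_of_right_le_normalizer_left _ _
            ((Subgroup.zpowers_le.mpr hxR).trans hn)] at hz
          obtain ⟨f, hf, w, ⟨i, rfl⟩, rfl⟩ := Set.mem_mul.mp hz
          refine ⟨i, ?_⟩
          show π ⟨x, hxX⟩ ^ i = π _
          rw [← map_zpow]
          refine QuotientGroup.eq.mpr (Subgroup.mem_subgroupOf.mpr ?_)
          simp only [Subgroup.coe_mul, Subgroup.coe_inv, Subgroup.coe_zpow]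
          exact (Subgroup.mem_normalizer_iff''.mp (hn (zpow_mem hxR i)) f).mp hf |> fun h => by
            simpa [mul_assoc] using h
        have hp1 : π ⟨x, hxX⟩ ^ p = 1 := by
          rw [← map_pow]
          exact (QuotientGroup.eq_one_iff _).mpr (Subgroup.mem_subgroupOf.mpr (pow_mem_phi hR hxR))
        rw [Subgroup.index, ← Subgroup.card_top (G := X ⧸ (phi R).subgroupOf X),
          ← (Subgroup.eq_top_iff' _).mpr hgen, Nat.card_zpowers]
        exact orderOf_le_of_pow_eq_one (Fact.out : p.Prime).pos hp1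
      obtain ⟨f, hf⟩ := (hR.to_le (phi_le R)).exists_card_eq
      have hfm : f < m := (Nat.pow_lt_pow_iff_right h2).mp (by rw [← hf, ← hdm]; exact hsmall)
      refine hcle.trans ?_
      rw [hf, hdm, ← pow_succ]
      exact Nat.pow_le_pow_right (by omega) hfm
    have hMd : d ≤ Nat.card M := by
      have h1 := card_max hR hK
      obtain ⟨f, hf⟩ := (hR.to_le (Subgroup.map_subtype_le K)).exists_card_eq
      obtain ⟨k, hk⟩ := hR.exists_card_eq
      rw [hf, hk, ← pow_succ] at h1
      have h3 := Nat.pow_right_injective h2 h1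
      have h4 : m < k := (Nat.pow_lt_pow_iff_right h2).mp (by rw [← hdm, ← hk]; exact hlarge)
      rw [hf, hdm]
      exact Nat.pow_le_pow_right (by omega) (by omega)
    obtain ⟨F, hXF, hFM, hF⟩ := exists_between (hR.to_le (Subgroup.map_subtype_le K))
      (sup_le hphiM (Subgroup.zpowers_le.mpr hx) : X ≤ M) (m := m) (hdm ▸ hXc) (hdm ▸ hMd)
    have hyF := fixed_member hH hR (hFM.trans (Subgroup.map_subtype_le K)) (Or.inl (hF.trans hdm.symm)) hy
    exact hFM ((Subgroup.mem_normalizer_iff.mp hyF x).mp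
      (hXF (Subgroup.mem_sup_right (Subgroup.mem_zpowers x))))
  -- the Frattini subgroup is centralised
  replace hsmall := not_lt.mp hsmall
  have hmember : ∀ E : Subgroup G, E ≤ R → (Nat.card E = d ∨ (d = 2 ∧ Nat.card E = 4)) →
      ¬ E ≤ phi R → y ∈ Subgroup.centralizer ((E ⊔ phi R : Subgroup G) : Set G) ∨ E = R := by
    intro E hE hc hEphi
    by_cases heq : E ⊔ phi R = R
    · exact Or.inr (eq_of_sup_phi hE heq)
    refine Or.inl (hproper _ (sup_le hE (phi_le R)) heq ?_ ?_)
    · rw [Subgroup.mem_normalizer_iff_map_conj_eq, Subgroup.map_sup,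
        Subgroup.mem_normalizer_iff_map_conj_eq.mp (fixed_member hH hR hE hc hy),
        Subgroup.mem_normalizer_iff_map_conj_eq.mp hyphi]
    · refine lt_of_le_of_lt hsmall (lt_of_le_of_ne (Subgroup.card_le_of_le le_sup_right) fun e => ?_)
      exact hEphi (le_sup_left.trans (Subgroup.eq_of_le_of_card_ge le_sup_right e.ge).symm.le)
  have hcentphi : y ∈ Subgroup.centralizer (phi R : Set G) := by
    rcases lt_or_eq_of_le hsmall with h | h
    · exact hproper _ (phi_le R) hphine hyphi h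
    by_cases hex : ∃ E : Subgroup G, E ≤ R ∧ Nat.card E = d ∧ E ≠ phi R
    · obtain ⟨E, hE, hc, hne⟩ := hex
      have hnle : ¬ E ≤ phi R := fun hl => hne (Subgroup.eq_of_le_of_card_ge hl (by omega))
      rcases hmember E hE (Or.inl hc) hnle with h' | h'
      · exact Subgroup.centralizer_le (SetLike.coe_subset_coe.mpr le_sup_right) h'
      · rw [h'] at hc; omega
    · push_neg at hex
      haveI := cyclic_of_unique hR (lt_of_le_of_ne (phi_le R) hphine)
        (fun F hF hc => hex F hF (hc.trans h.symm))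
      exact centralizes_of_cyclic (hR.to_le (phi_le R)) hyphi hcop hmin
  -- elements of order p (or 4) are centralised
  have hfix : ∀ s ∈ R, (s ^ p = 1 ∨ (p = 2 ∧ s ^ 4 = 1)) → s * y = y * s := by
    intro s hs hsp
    by_cases hsphi : s ∈ phi R
    · exact hcentphi s hsphi
    obtain ⟨E, hsE, hER, hEc, hcyc⟩ : ∃ E : Subgroup G, s ∈ E ∧ E ≤ R ∧
        (Nat.card E = d ∨ (d = 2 ∧ Nat.card E = 4)) ∧
        (Nat.card E = d ∨ E = Subgroup.zpowers s) := by
      by_cases hso : orderOf s ≤ d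
      · obtain ⟨E, h1, h2', h3⟩ := exists_between hR (Subgroup.zpowers_le.mpr hs) (m := m)
          (by rwa [Nat.card_zpowers, ← hdm]) (by rw [← hdm]; exact hlarge.le)
        exact ⟨E, h1 (Subgroup.mem_zpowers s), h2', Or.inl (h3.trans hdm.symm), Or.inl (h3.trans hdm.symm)⟩
      · rcases hsp with hsp | ⟨hp2, hs4⟩
        · exact absurd ((orderOf_le_of_pow_eq_one (by omega) hsp).trans
            (hdm ▸ Nat.le_self_pow (by omega) p)) hso
        · subst hp2
          have ho : orderOf s ∣ 4 := orderOf_dvd_of_pow_eq_one hs4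
          have hle : orderOf s ≤ 4 := Nat.le_of_dvd (by omega) ho
          have hm : m = 1 := by
            by_contra hne
            exact hso (hle.trans (hdm ▸ Nat.pow_le_pow_right (n := 2) (by omega) (show 2 ≤ m by omega)))
          subst hm
          have h4 : orderOf s = 4 := by
            have : orderOf s ∈ (4 : ℕ).divisors := Nat.mem_divisors.mpr ⟨ho, by omega⟩
            rw [show (4 : ℕ).divisors = {1, 2, 4} by decide] at this
            simp only [Finset.mem_insert, Finset.mem_singleton] at this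
            omega
          exact ⟨_, Subgroup.mem_zpowers s, Subgroup.zpowers_le.mpr hs,
            Or.inr ⟨by simpa using hdm, by rw [Nat.card_zpowers, h4]⟩, Or.inr rfl⟩
    rcases hmember E hER hEc (fun hl => hsphi (hl hsE)) with h' | h'
    · exact h' s (Subgroup.mem_sup_left hsE)
    · subst h'
      rcases hcyc with hc | hc
      · omega
      · haveI : IsCyclic E := by rw [hc]; infer_instance
        exact centralizes_of_cyclic hR hy hcop hmin s hs
  -- the commutators with y
  have hstep : ∀ r ∈ R, Commute y (r⁻¹ * (y * r * y⁻¹)) → y * r * y⁻¹ = r := by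
    intro r hr hc
    set s := r⁻¹ * (y * r * y⁻¹) with hs
    have hit : ∀ i : ℕ, y ^ i * r * (y ^ i)⁻¹ = r * s ^ i := by
      intro i
      induction i with
      | zero => simp
      | succ i ih =>
        calc y ^ (i + 1) * r * (y ^ (i + 1))⁻¹ = y * (y ^ i * r * (y ^ i)⁻¹) * y⁻¹ := by group
          _ = (y * r * y⁻¹) * (y * s ^ i * y⁻¹) := by rw [ih]; group
          _ = r * s * s ^ i := by
              rw [(hc.pow_right i).eq, mul_inv_cancel_right, hs]; group
          _ = r * s ^ (i + 1) := by rw [pow_succ', mul_assoc]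
    have h1 := hit (orderOf y)
    rw [pow_orderOf_eq_one, one_mul, inv_one, mul_one, left_eq_mul] at h1
    obtain ⟨j, hj⟩ := IsPGroup.iff_orderOf.mp hR ⟨s, mul_mem (inv_mem hr)
      ((Subgroup.mem_normalizer_iff.mp hy r).mp hr)⟩
    rw [Subgroup.orderOf_mk] at hj
    have hd1 : orderOf s ∣ 1 := by
      have hg := Nat.dvd_gcd (orderOf_dvd_of_pow_eq_one h1) (dvd_refl (orderOf s))
      rw [hj] at hg ⊢
      rwa [Nat.Coprime.gcd_eq_one (hcop.pow_right j)] at hg
    have hs1 : s = 1 := orderOf_eq_one_iff.mp (Nat.dvd_one.mp hd1)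
    calc y * r * y⁻¹ = r * s := by rw [hs]; group
      _ = r := by rw [hs1, mul_one]
  set C := R ⊓ Subgroup.centralizer (phi R : Set G) with hC
  have hsC : ∀ r ∈ R, r⁻¹ * (y * r * y⁻¹) ∈ C := by
    intro r hr
    have hu := (Subgroup.mem_normalizer_iff.mp hy r).mp hr
    refine Subgroup.mem_inf.mpr ⟨mul_mem (inv_mem hr) hu, fun f hf => ?_⟩
    have hrf : r * f * r⁻¹ ∈ phi R :=
      (Subgroup.mem_normalizer_iff.mp (normalizer_phi R (Subgroup.le_normalizer hr)) f).mp hf
    have e1 : (y * r * y⁻¹) * f * (y * r * y⁻¹)⁻¹ = r * f * r⁻¹ := by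
      have hyf : y⁻¹ * f * y = f := by rw [mul_assoc, hcentphi f hf, inv_mul_cancel_left]
      calc (y * r * y⁻¹) * f * (y * r * y⁻¹)⁻¹ = y * (r * (y⁻¹ * f * y) * r⁻¹) * y⁻¹ := by group
        _ = y * (r * f * r⁻¹) * y⁻¹ := by rw [hyf]
        _ = r * f * r⁻¹ := by rw [← hcentphi _ hrf]; group
    calc f * (r⁻¹ * (y * r * y⁻¹)) = r⁻¹ * (r * f * r⁻¹) * (y * r * y⁻¹) := by group
      _ = r⁻¹ * (y * r * y⁻¹) * f := by rw [← e1]; group
  intro r hr
  suffices h : y * r * y⁻¹ = r by rw [← mul_inv_eq_iff_eq_mul.mp h]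
  refine hstep r hr ?_
  by_cases hCR : C = R
  · -- class two
    set u := y * r * y⁻¹ with hu_def
    set s := r⁻¹ * u with hs_def
    have hsR : s ∈ R := (Subgroup.mem_inf.mp (hsC r hr)).1
    have hcen : ∀ z ∈ R, ∀ f ∈ phi R, Commute f z := fun z hz f hf =>
      (Subgroup.mem_inf.mp (hCR.symm ▸ hz : z ∈ C)).2 f hf
    have hz := comm_mem_phi hR hsR hr
    have hp' : u ^ p = r ^ p := by
      rw [hu_def, conj_pow, ← hcentphi _ (pow_mem_phi hR hr)]; group
    have hmul := OddOrder.OmegaLemma.mul_pow_central (u := r) (v := s) (z := ⁅s, r⁆)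
      (by rw [commutatorElement_def]; group) (hcen s hsR _ hz) (hcen r hr _ hz) p
    rw [show r * s = u by rw [hs_def]; group, hp', ← mul_assoc,
      ((hcen r hr _ hz).pow_left (p.choose 2)).pow_right p |>.eq, mul_assoc, left_eq_mul] at hmul
    have hzp : ⁅s, r⁆ ^ p = 1 := by
      have h1 : Commute (s ^ p) r := hcen r hr _ (pow_mem_phi hR hsR)
      have hc' := OddOrder.OmegaLemma.pow_mul_comm_central (u := r) (v := s) (z := ⁅s, r⁆)
        (by rw [commutatorElement_def]; group) (hcen s hsR _ hz) (hcen r hr _ hz) p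
      rw [h1.eq] at hc'
      simpa using hc'
    refine (hfix s hsR ?_).symm
    rcases eq_or_ne p 2 with hp2 | hp2
    · refine Or.inr ⟨hp2, ?_⟩
      subst hp2
      rw [Nat.choose_self, pow_one] at hmul
      rw [show (4 : ℕ) = 2 * 2 from rfl, pow_mul, eq_inv_of_mul_eq_one_right hmul, inv_pow, hzp, inv_one]
    · obtain ⟨c, hc⟩ := (Fact.out : p.Prime).dvd_choose_self (k := 2) (by omega)
        (lt_of_le_of_ne h2 (Ne.symm hp2))
      rw [hc, pow_mul, hzp, one_pow, one_mul] at hmul
      exact Or.inl hmul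
  · have hyC : y ∈ Subgroup.normalizer (C : Set G) := by
      rw [Subgroup.mem_normalizer_iff_map_conj_eq]
      refine Subgroup.eq_of_le_of_card_ge ?_
        (le_of_eq (Subgroup.card_map_of_injective (MulAut.conj y).injective).symm)
      rintro _ ⟨z, hz, rfl⟩
      refine Subgroup.mem_inf.mpr ⟨(Subgroup.mem_normalizer_iff.mp hy z).mp hz.1, fun f hf => ?_⟩
      have hyf : y⁻¹ * f * y = f := by rw [mul_assoc, hcentphi f hf, inv_mul_cancel_left]
      show f * (y * z * y⁻¹) = y * z * y⁻¹ * f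
      calc f * (y * z * y⁻¹) = y * ((y⁻¹ * f * y) * z) * y⁻¹ := by group
        _ = y * (z * (y⁻¹ * f * y)) * y⁻¹ := by rw [hyf, (Subgroup.mem_inf.mp hz).2 f hf]
        _ = y * z * y⁻¹ * f := by group
    by_cases hCphi : C ≤ phi R
    · exact (hcentphi _ (hCphi (hsC r hr))).symm
    have hne : C ⊔ phi R ≠ R := fun e => hCR (eq_of_sup_phi inf_le_left e)
    have hyX : y ∈ Subgroup.normalizer ((C ⊔ phi R : Subgroup G) : Set G) := by
      rw [Subgroup.mem_normalizer_iff_map_conj_eq, Subgroup.map_sup,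
        Subgroup.mem_normalizer_iff_map_conj_eq.mp hyC, Subgroup.mem_normalizer_iff_map_conj_eq.mp hyphi]
    have := hproper _ (sup_le inf_le_left (phi_le R)) hne hyX
      (lt_of_le_of_lt hsmall (lt_of_le_of_ne (Subgroup.card_le_of_le le_sup_right) fun e =>
        hCphi (le_sup_left.trans (Subgroup.eq_of_le_of_card_ge le_sup_right e.ge).symm.le)))
    exact (this _ (Subgroup.mem_sup_left (hsC r hr))).symm

theorem npc_of_hyp (hH : Hyp G p d) (hmin : ∀ q : ℕ, q.Prime → q ∣ Nat.card G → p ≤ q)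
    (hd : ∃ m : ℕ, 1 ≤ m ∧ d = p ^ m) (P : Sylow p G) (hdP : d < Nat.card (P : Subgroup G)) :
    Cfsg.HasNormalPComplement p G := by
  obtain ⟨m, hm1, hdm⟩ := id hd
  have hmin' : ∀ y : G, ∀ q : ℕ, q.Prime → q ∣ orderOf y → p ≤ q := fun y q hq h =>
    hmin q hq (h.trans (orderOf_dvd_natCard y))
  set π := QuotientGroup.mk' (frattini (P : Subgroup G))
  letI : CommGroup ((P : Subgroup G) ⧸ frattini (P : Subgroup G)) :=
    { (inferInstance : Group _) with mul_comm := PGroup.Frattini.quotient_mul_comm P.2 }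
  have step : ∀ (D : Subgroup G) (hDP : D ≤ (P : Subgroup G)) (y : G), (orderOf y).Coprime p →
      ∀ hy : y ∈ Subgroup.normalizer (D : Set G), ∀ a (ha : a ∈ D),
        π ⟨y * a * y⁻¹, hDP ((Subgroup.mem_normalizer_iff.mp hy a).mp ha)⟩ = π ⟨a, hDP ha⟩ := by
    intro D hDP y hcop hy a ha
    have hDp := P.2.to_le hDP
    have hya := (Subgroup.mem_normalizer_iff.mp hy a).mp ha
    suffices h : a⁻¹ * (y * a * y⁻¹) ∈ phi (P : Subgroup G) by
      obtain ⟨w, hw, he⟩ := h
      refine (QuotientGroup.eq.mpr ?_).symm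
      have : w = (⟨a, hDP ha⟩ : (P : Subgroup G))⁻¹ * ⟨y * a * y⁻¹, hDP hya⟩ := Subtype.ext he
      exact this ▸ hw
    by_cases hlarge : d < Nat.card D
    · rw [← centralizes_large hH hd hDp hlarge hy hcop (hmin' y) a ha, mul_inv_cancel_right,
        inv_mul_cancel]
      exact one_mem _
    refine mem_phi_iff.mpr ⟨mul_mem (inv_mem (hDP ha)) (hDP hya), fun K hK => ?_⟩
    set M := K.map (P : Subgroup G).subtype
    by_cases hDM : D ≤ M
    · exact mul_mem (inv_mem (hDM ha)) (hDM hya)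
    set I := D ⊓ M
    have hID : D ≤ Subgroup.normalizer (I : Set G) := fun z hz => by
      rw [Subgroup.mem_normalizer_iff_map_conj_eq, Subgroup.map_inf _ _ _ (MulAut.conj z).injective,
        Subgroup.mem_normalizer_iff_map_conj_eq.mp (Subgroup.le_normalizer hz),
        Subgroup.mem_normalizer_iff_map_conj_eq.mp (le_normalizer_max P.2 hK (hDP hz))]
    have hidx : Nat.card I * p = Nat.card D := by
      have h1 : M.relIndex D ∣ p := by
        haveI := PGroup.Frattini.normal_of_isCoatom P.2 hK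
        have : M.relIndex D = K.relIndex (D.subgroupOf (P : Subgroup G)) := by
          rw [← Subgroup.relIndex_map_map_of_injective _ _ (P : Subgroup G).subtype_injective,
            Subgroup.map_subgroupOf_eq_of_le hDP]
        rw [this]
        exact (Subgroup.relIndex_dvd_index_of_normal K _).trans (PGroup.Frattini.index_of_isCoatom P.2 hK).dvd
      have h1' : M.relIndex D = p := ((Nat.dvd_prime Fact.out).mp h1).resolve_left
        fun e => hDM (Subgroup.relIndex_eq_one.mp e)
      have h3 := Subgroup.card_mul_index (M.subgroupOf D)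
      rw [← Subgroup.inf_subgroupOf_left, Nat.card_congr (Subgroup.subgroupOfEquivOfLe inf_le_left).toEquiv] at h3
      rw [← h3, Subgroup.inf_subgroupOf_left]
      exact congrArg _ h1'.symm
    have hMd : d ≤ Nat.card M := by
      have h1 := card_max P.2 hK
      obtain ⟨f, hf⟩ := (P.2.to_le (Subgroup.map_subtype_le K)).exists_card_eq
      obtain ⟨k, hk⟩ := P.2.exists_card_eq
      have h2 := (Fact.out : p.Prime).two_le
      rw [hf, hk, ← pow_succ] at h1
      have h3 := Nat.pow_right_injective h2 h1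
      have h4 : m < k := (Nat.pow_lt_pow_iff_right h2).mp (by rw [← hdm, ← hk]; exact hdP)
      rw [hf, hdm]
      exact Nat.pow_le_pow_right (by omega) (by omega)
    obtain ⟨F, hIF, hFM, hF⟩ := exists_between (P.2.to_le (Subgroup.map_subtype_le K))
      (inf_le_right : I ≤ M) (m := m)
      (hdm ▸ le_trans (Subgroup.card_le_of_le inf_le_left) (not_lt.mp hlarge)) (hdm ▸ hMd)
    have hFP : F ≤ (P : Subgroup G) := hFM.trans (Subgroup.map_subtype_le K)
    have hcF : Nat.card F = d ∨ (d = 2 ∧ Nat.card F = 4) := Or.inl (hF.trans hdm.symm)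
    have hyI : y ∈ Subgroup.normalizer (I : Set G) := by
      rw [Subgroup.mem_normalizer_iff_map_conj_eq]
      refine Subgroup.eq_of_le_of_card_ge ?_
        (le_of_eq (Subgroup.card_map_of_injective (MulAut.conj y).injective).symm)
      rintro _ ⟨z, hz, rfl⟩
      have hzD := (Subgroup.mem_normalizer_iff.mp hy z).mp hz.1
      refine Subgroup.mem_inf.mpr ⟨hzD, hFM (hH F (P.2.to_le hFP) hcF y
        (Subgroup.mem_inf.mpr ⟨⟨z, hIF hz, rfl⟩, normal_in_pgroup hH P.2 hFP hcF (hDP hzD)⟩))⟩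
    exact (Subgroup.mem_inf.mp
      (trivial_on_index_p inf_le_left hidx hID hy hyI hcop (hmin' y) ha)).2
  have key : ∀ (x : (P : Subgroup G)) (g : G) (hx : g⁻¹ * (x : G) * g ∈ (P : Subgroup G)),
      π ⟨_, hx⟩ = π x := by
    intro x g hx
    have hch := Fusion.Alperin.chain_of_conj P {(x : G)} g (Set.singleton_subset_iff.mpr x.2)
      (by rw [Set.image_singleton]; exact Set.singleton_subset_iff.mpr hx)
    suffices ∀ (A : Set G) (w : G), Fusion.Alperin.Chain P A w → ∀ a ∈ A,
        ∀ (h1 : a ∈ (P : Subgroup G)) (h2 : w⁻¹ * a * w ∈ (P : Subgroup G)),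
          π ⟨_, h2⟩ = π ⟨a, h1⟩ from this _ _ hch x rfl x.2 hx
    intro A w hw
    induction hw with
    | nil A _ => intro a _ h1 h2; congr 1; apply Subtype.ext; simp
    | cons A Q v w ht hv hA _ ih =>
      intro a ha h1 h2
      set D := (P : Subgroup G) ⊓ (Q : Subgroup G)
      set N := Subgroup.normalizer (D : Set G)
      let U : Sylow p N := Fusion.Basic.sylowSubgroupOf (inf_le_right : (P : Subgroup G) ⊓ N ≤ N)
        (P.2.to_le inf_le_left) ht.1
      obtain ⟨c, hc, u, hu, hxe⟩ := Fusion.Basic.exists_eq_pResidual_mul U ⟨v, hv⟩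
      have hu' : (u : G) ∈ (P : Subgroup G) ⊓ N := hu
      let T : Subgroup N :=
        { carrier := {c | ∀ b (hb : b ∈ D), π ⟨(c : G) * b * (c : G)⁻¹,
            ((Subgroup.mem_normalizer_iff.mp c.2 b).mp hb).1⟩ = π ⟨b, hb.1⟩}
          one_mem' := fun b hb => by congr 1; apply Subtype.ext; simp
          mul_mem' := fun {c e} hc he b hb => by
            have h' := hc _ ((Subgroup.mem_normalizer_iff.mp e.2 b).mp hb)
            rw [← he b hb, ← h']
            congr 1; apply Subtype.ext; simp [mul_assoc]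
          inv_mem' := fun {c} hc b hb => by
            have hb' : (c : G)⁻¹ * b * c ∈ D := (Subgroup.mem_normalizer_iff''.mp c.2 b).mp hb
            have h' := hc _ hb'
            rw [show (⟨b, hb.1⟩ : (P : Subgroup G)) = ⟨(c : G) * ((c : G)⁻¹ * b * c) * (c : G)⁻¹,
              ((Subgroup.mem_normalizer_iff.mp c.2 _).mp hb').1⟩ from Subtype.ext (by group), h']
            congr 1; apply Subtype.ext; simp }
      have hT : Cfsg.pResidual p N ≤ T := by
        rw [Cfsg.pResidual, Subgroup.closure_le]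
        intro z hz b hb
        exact step D inf_le_left z (by rwa [Subgroup.orderOf_coe]) z.2 b hb
      have hcinv := T.inv_mem (hT hc) a (hA ha)
      have hxc : v = (c : G) * u := congrArg Subtype.val hxe
      have hmid : v⁻¹ * a * v ∈ (P : Subgroup G) :=
        ((Subgroup.mem_normalizer_iff''.mp hv a).mp (hA ha)).1
      have e1 := ih (v⁻¹ * a * v) ⟨a, ha, rfl⟩ hmid (by simpa [mul_assoc] using h2)
      have e2 : π ⟨v⁻¹ * a * v, hmid⟩ = π ⟨a, h1⟩ := by
        have hmc : ((c⁻¹ : N) : G) * a * ((c⁻¹ : N) : G)⁻¹ ∈ (P : Subgroup G) :=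
          ((Subgroup.mem_normalizer_iff.mp (c⁻¹ : N).2 a).mp (hA ha)).1
        rw [← hcinv]
        have : (⟨v⁻¹ * a * v, hmid⟩ : (P : Subgroup G)) =
            (⟨u, hu'.1⟩ : (P : Subgroup G))⁻¹ * ⟨_, hmc⟩ * ⟨u, hu'.1⟩ :=
          Subtype.ext (by simp [hxc, mul_assoc])
        rw [this, map_mul, map_mul, map_inv, mul_comm, ← mul_assoc, mul_inv_cancel, one_mul]
      rw [← e2, ← e1]
      congr 1; apply Subtype.ext; simp [mul_assoc]
  refine Fusion.Tate.npc_of_inf_pResidual_le_frattini P fun x hx => ?_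
  have hker := Fusion.Basic.pResidual_le_ker (MonoidHom.transfer π) (P.2.to_quotient _) hx.2
  rw [MonoidHom.mem_ker, Fusion.Transfer.transfer_eq_pow_of_invariant π key ⟨x, hx.1⟩] at hker
  obtain ⟨j, hj⟩ := IsPGroup.iff_orderOf.mp (P.2.to_quotient (frattini (P : Subgroup G))) (π ⟨x, hx.1⟩)
  have hd1 : orderOf (π ⟨x, hx.1⟩) ∣ 1 := by
    have hg := Nat.dvd_gcd (orderOf_dvd_of_pow_eq_one hker) (dvd_refl (orderOf (π ⟨x, hx.1⟩)))
    rw [hj] at hg ⊢
    rwa [Nat.Coprime.gcd_eq_one
      ((((Fact.out : p.Prime).coprime_iff_not_dvd.mpr P.not_dvd_index).symm).pow_right j)] at hg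
  exact ⟨⟨x, hx.1⟩, (QuotientGroup.eq_one_iff _).mp (orderOf_eq_one_iff.mp (Nat.dvd_one.mp hd1)), rfl⟩

theorem npc_of_cyclic (hmin : ∀ q : ℕ, q.Prime → q ∣ Nat.card G → p ≤ q) (P : Sylow p G)
    [IsCyclic (P : Subgroup G)] : Cfsg.HasNormalPComplement p G := by
  refine Fusion.Alperin.npc_of_frobenius P fun Q hQ g hg ho => ?_
  haveI := Subgroup.isCyclic_of_le hQ
  exact centralizes_of_cyclic (P.2.to_le hQ) hg ho fun q hq h => hmin q hq (h.trans (orderOf_dvd_natCard g))

theorem hyp_of_sylow (P : Sylow p G)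
    (h : ∀ E : Subgroup G, E ≤ (P : Subgroup G) → (Nat.card E = d ∨ (d = 2 ∧ Nat.card E = 4)) →
      ∀ g : G, E.map (MulAut.conj g).toMonoidHom ⊓ Subgroup.normalizer (E : Set G) ≤ E) :
    Hyp G p d := by
  intro E hE hc g
  obtain ⟨Q, hQ⟩ := hE.exists_le_sylow
  obtain ⟨k, hk⟩ := MulAction.exists_smul_eq G Q P
  have hle : E.map (MulAut.conj k).toMonoidHom ≤ (P : Subgroup G) := by
    rw [← hk]
    exact Subgroup.map_mono hQ
  have h' := h _ hle (by rwa [Subgroup.card_map_of_injective (MulAut.conj k).injective]) (k * g * k⁻¹)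
  intro z hz
  obtain ⟨⟨w, hw, rfl⟩, hzN⟩ := hz
  have hm : (MulAut.conj k).toMonoidHom ((MulAut.conj g).toMonoidHom w) ∈ E.map (MulAut.conj k).toMonoidHom := by
    refine h' (Subgroup.mem_inf.mpr ⟨⟨_, ⟨w, hw, rfl⟩, by simp [mul_assoc]⟩, ?_⟩)
    rw [Subgroup.mem_normalizer_iff_map_conj_eq]
    have hN := Subgroup.mem_normalizer_iff_map_conj_eq.mp hzN
    conv_rhs => rw [← hN]
    rw [Subgroup.map_map, Subgroup.map_map]
    congr 1
    ext t; simp [mul_assoc]
  obtain ⟨e, he, hee⟩ := hm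
  exact (MulAut.conj k).injective hee ▸ he

theorem exists_pow_card {D : Subgroup G} (hD : IsPGroup p D) (h1 : 1 < Nat.card D) :
    ∃ m : ℕ, 1 ≤ m ∧ Nat.card D = p ^ m := by
  obtain ⟨m, hm⟩ := hD.exists_card_eq
  refine ⟨m, ?_, hm⟩
  by_contra h
  rw [show m = 0 by omega, pow_zero] at hm
  omega

end CfsgLib.LocalEvenB.HSubgroup
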