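import Cfsg.Agent.Lib.LocalEvenB.HigmanRing

/-!
G. Higman's theorem: a `2`-group on which an extension by `SL₂(2ⁿ)`, `n ≥ 2`, has a fixed-point-free
element of order three is elementary abelian and a multiple of the natural module.
-/

set_option autoImplicit false
set_option linter.style.haveILetI false
set_option linter.unusedSectionVars false

namespace CfsgLib.LocalEvenB.HigmanSL2

open Matrix CfsgLib.Perm.SL2Unipotent HigmanRing
open scoped MatrixGroups commutatorElement

universe u v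

variable {F : Type u} [Field F] [CharP F 2] [Finite F]

/-- A representative of the class of elements of order three. -/
def cub : SL(2, F) := up 1 * low 1

theorem cube_entries {g : SL(2, F)} (hg : g ^ 3 = 1) (hne : g ≠ 1) : g.1 0 0 + g.1 1 1 = 1 := by
  have hdet := Matrix.det_fin_two g.1
  rw [g.2] at hdet
  have h : g.1 * g.1 * g.1 = 1 := by
    have := congrArg Subtype.val hg
    rw [pow_three] at this
    simpa [mul_assoc] using this
  rw [Matrix.eta_fin_two g.1, Matrix.mul_fin_two, Matrix.mul_fin_two, Matrix.one_fin_two] at h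
  have e00 := congrFun (congrFun h 0) 0
  have e01 := congrFun (congrFun h 0) 1
  have e10 := congrFun (congrFun h 1) 0
  have e11 := congrFun (congrFun h 1) 1
  simp at e00 e01 e10 e11
  set a := g.1 0 0
  set b := g.1 0 1
  set c := g.1 1 0
  set d := g.1 1 1
  have h2 : (2 : F) = 0 := two_zero
  have kb : b * (a + d + 1) ^ 2 = 0 := by
    linear_combination e01 + b * hdet.symm + b * (a + d + 1) * h2
  have kc : c * (a + d + 1) ^ 2 = 0 := by
    linear_combination e10 + c * hdet.symm + c * (a + d + 1) * h2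
  by_contra hne'
  have ht : (a + d + 1) ^ 2 ≠ 0 := pow_ne_zero _ fun e => hne' (CharTwo.add_eq_zero.1 e)
  have hb : b = 0 := (mul_eq_zero.1 kb).resolve_right ht
  have hc : c = 0 := (mul_eq_zero.1 kc).resolve_right ht
  rw [hb, hc] at e00 e11
  simp at e00 e11
  have had : a * d = 1 := by rw [hb, hc] at hdet; linear_combination -hdet
  have ka : (a + 1) * (a + d + 1) = 0 := by
    linear_combination d * e00 - a ^ 2 * had + had + (d + a + 1) * h2
  rcases mul_eq_zero.1 ka with e | e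
  · have ha : a = 1 := CharTwo.add_eq_zero.1 e
    rw [ha, one_mul] at had
    exact hne (sl_ext (by simpa using ha) (by simpa using hb) (by simpa using hc) (by simpa using had))
  · exact hne' (CharTwo.add_eq_zero.1 e)

theorem exists_conj_cub {g : SL(2, F)} (hg : g ^ 3 = 1) (hne : g ≠ 1) :
    ∃ P : SL(2, F), g = P * cub * P⁻¹ := by
  have htr := cube_entries hg hne
  have hdet := Matrix.det_fin_two g.1
  rw [g.2] at hdet
  have h2 : (2 : F) = 0 := two_zero
  set a := g.1 0 0 with ha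
  set b := g.1 0 1 with hb
  set c := g.1 1 0 with hc
  set d := g.1 1 1 with hd
  suffices ∃ P : SL(2, F), g * P = P * cub by
    obtain ⟨P, hP⟩ := this
    exact ⟨P, by rw [← hP, mul_inv_cancel_right]⟩
  have hcub : (cub : SL(2, F)).1 = !![0, 1; 1, 1] := by
    ext i j
    fin_cases i <;> fin_cases j <;> simp [cub, up_val, low_val, CharTwo.add_self_eq_zero]
  -- the columns `v, g v` of a vector `v` with determinant one
  suffices ∃ p q : F, p * (c * p + d * q) - q * (a * p + b * q) = 1 by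
    obtain ⟨p, q, hpq⟩ := this
    refine ⟨⟨!![p, a * p + b * q; q, c * p + d * q], by rw [Matrix.det_fin_two]; simp; linear_combination hpq⟩,
      Subtype.ext ?_⟩
    show g.1 * _ = _ * cub.1
    rw [hcub, Matrix.eta_fin_two g.1, ← ha, ← hb, ← hc, ← hd]
    ext i j
    fin_cases i <;> fin_cases j <;> simp
    · linear_combination (a * p + b * q) * htr + p * hdet - p * h2
    · linear_combination (c * p + d * q) * htr + q * hdet - q * h2
  by_cases hc0 : c = 0
  · by_cases hb0 : b = 0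
    · exact ⟨1, 1, by rw [hb0, hc0]; linear_combination htr - a * h2⟩
    · obtain ⟨s, hs⟩ := FiniteField.isSquare_of_char_two (ringChar.eq F 2) b⁻¹
      exact ⟨0, s, by linear_combination (-b) * hs.symm - (mul_inv_cancel₀ hb0) - 1 * h2⟩
  · obtain ⟨s, hs⟩ := FiniteField.isSquare_of_char_two (ringChar.eq F 2) c⁻¹
    exact ⟨s, 0, by linear_combination c * hs.symm + mul_inv_cancel₀ hc0⟩

/-- The natural action on a pair. -/
def act {W : Type v} [AddCommGroup W] [Module F W] (g : SL(2, F)) (w : W × W) : W × W :=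
  (g.1 0 0 • w.1 + g.1 0 1 • w.2, g.1 1 0 • w.1 + g.1 1 1 • w.2)

/-- A module with a fixed-point-free element of order three is a multiple of the natural one. -/
theorem exists_module {V : Type v} [AddCommGroup V] (h4 : ∀ w : V, (4 : ℕ) • w = 0)
    (ρ : SL(2, F) →* AddMonoid.End V) {x : SL(2, F)} (hx : x ^ 3 = 1) (hx1 : x ≠ 1)
    (hfpf : ∀ w, ρ x w = w → w = 0) (hF : ∃ a : F, a ≠ 0 ∧ a ≠ 1) :
    (∀ w : V, w + w = 0) ∧ ∃ (W : Type v) (_ : AddCommGroup W) (_ : Module F W) (Θ : V ≃+ W × W),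
      ∀ g w, Θ (ρ g w) = act g (Θ w) := by
  obtain ⟨P, hP⟩ := exists_conj_cub hx hx1
  have hmul : ∀ (g h : SL(2, F)) (w : V), ρ (g * h) w = ρ g (ρ h w) := fun g h w => by rw [map_mul]; rfl
  have hone : ∀ w : V, ρ 1 w = w := fun w => by rw [map_one]; rfl
  have hfix : ∀ g : SL(2, F), g ^ 3 = 1 → g ≠ 1 → ∀ w, ρ g (ρ g w) + ρ g w + w = 0 := by
    intro g hg hg1 w
    obtain ⟨Q, hQ⟩ := exists_conj_cub hg hg1
    have hgx : g * (Q * P⁻¹) = (Q * P⁻¹) * x := by rw [hQ, hP]; group
    have key : ∀ z, ρ g z = z → z = 0 := fun z hz => by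
      have h1 : ρ (Q * P⁻¹)⁻¹ z = 0 := hfpf _ (by
        rw [← hmul, show x * (Q * P⁻¹)⁻¹ = (Q * P⁻¹)⁻¹ * g by
          rw [eq_inv_mul_iff_mul_eq, ← mul_assoc, ← hgx, mul_inv_cancel_right], hmul, hz])
      have h2 := congrArg (ρ (Q * P⁻¹)) h1
      rwa [← hmul, mul_inv_cancel, hone, map_zero] at h2
    refine key _ ?_
    rw [map_add, map_add, ← hmul g g w, ← hmul g (g * g) w, show g * (g * g) = 1 by rw [← pow_three, hg], hone]
    abel
  have hrel : ∀ a : F, a ≠ 0 → ρ (up a) * ρ (low a⁻¹) + ρ (low a⁻¹) * ρ (up a) = -1 := by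
    intro a ha
    set g := up a * low a⁻¹ with hg
    have hv : g.1 = !![0, a; a⁻¹, 1] := by
      rw [hg]
      show (up a).1 * (low a⁻¹).1 = _
      rw [up_val, low_val]
      ext i j; fin_cases i <;> fin_cases j <;> simp [ha, CharTwo.add_self_eq_zero]
    have hg3 : g ^ 3 = 1 := Subtype.ext (by
      rw [pow_three]
      show g.1 * (g.1 * g.1) = (1 : Matrix (Fin 2) (Fin 2) F)
      rw [hv, Matrix.mul_fin_two,
        Matrix.mul_fin_two]
      ext i j; fin_cases i <;> fin_cases j <;> simp [ha, CharTwo.add_self_eq_zero])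
    have hg1 : g ≠ 1 := fun e => by
      have h := congrArg (fun g : SL(2, F) => g.1 0 0) e
      simp [hv] at h
    have hinv : low a⁻¹ * up a = g * g := by
      have e1 : g * (low a⁻¹ * up a) = 1 := by
        rw [hg, ← mul_assoc, mul_assoc (up a), low_mul, CharTwo.add_self_eq_zero, low_zero, mul_one, up_mul,
          CharTwo.add_self_eq_zero, up_zero]
      have e2 : g * (g * g) = 1 := by rw [← pow_three, hg3]
      exact mul_left_cancel (e1.trans e2.symm)
    refine AddMonoidHom.ext fun w => ?_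
    show ρ (up a) (ρ (low a⁻¹) w) + ρ (low a⁻¹) (ρ (up a) w) = -w
    rw [← hmul, ← hmul, hinv, ← hg, hmul g g, eq_neg_iff_add_eq_zero, add_comm (ρ g w)]
    exact hfix g hg3 hg1 w
  have h4' : (4 : AddMonoid.End V) = 0 := AddMonoidHom.ext fun w => by
    show ((4 : ℕ) : AddMonoid.End V) w = 0
    rw [AddMonoid.End.natCast_apply]; exact h4 w
  obtain ⟨h2, E, φ, hm, hE1, hcomm, hg⟩ := exists_natural h4' ρ hrel hF
  refine ⟨fun w => by simpa [two_smul] using DFunLike.congr_fun h2 w, ?_⟩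
  let W := AddMonoidHom.range (E 0 0 : V →+ V)
  have hEE : ∀ i j k l (w : V), E i j (E k l w) = if j = k then E i l w else 0 := fun i j k l w => by
    have := DFunLike.congr_fun (hm i j k l) w
    split_ifs with h
    · rw [if_pos h] at this; exact this
    · rw [if_neg h] at this; exact this
  have hWfix : ∀ w ∈ W, E 0 0 w = w := by
    rintro _ ⟨y, rfl⟩; show E 0 0 (E 0 0 y) = E 0 0 y; rw [hEE]; simp
  have hφmem : ∀ (c : F), ∀ w ∈ W, φ c w ∈ W := by
    rintro c _ ⟨y, rfl⟩
    exact ⟨φ c y, (DFunLike.congr_fun (hcomm c 0 0) y).symm⟩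
  letI : Module F ↥W :=
    { smul := fun c w => ⟨φ c w, hφmem c w w.2⟩
      one_smul := fun w => Subtype.ext (by show φ 1 (w : V) = w; rw [map_one]; rfl)
      mul_smul := fun c c' w => Subtype.ext (by show φ (c * c') (w : V) = φ c (φ c' (w : V)); rw [map_mul]; rfl)
      smul_zero := fun c => Subtype.ext (by show φ c 0 = 0; rw [map_zero])
      smul_add := fun c w w' => Subtype.ext (by show φ c (w + w' : V) = φ c w + φ c w'; rw [map_add])
      add_smul := fun c c' w => Subtype.ext (by show φ (c + c') (w : V) = φ c w + φ c' w; rw [map_add]; rfl)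
      zero_smul := fun w => Subtype.ext (by show φ 0 (w : V) = 0; rw [map_zero]; rfl) }
  have hsum : ∀ w : V, E 0 0 w + E 1 1 w = w := fun w => DFunLike.congr_fun hE1 w
  let Θ : V ≃+ ↥W × ↥W :=
    { toFun := fun w => (⟨E 0 0 w, w, rfl⟩, ⟨E 0 1 w, E 0 1 w, by show E 0 0 (E 0 1 w) = E 0 1 w; rw [hEE]; simp⟩)
      invFun := fun p => (p.1 : V) + E 1 0 (p.2 : V)
      left_inv := fun w => by
        show E 0 0 w + E 1 0 (E 0 1 w) = w
        simp [hEE, hsum]
      right_inv := fun p => by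
        refine Prod.ext (Subtype.ext ?_) (Subtype.ext ?_)
        · show E 0 0 ((p.1 : V) + E 1 0 (p.2 : V)) = p.1
          simp [map_add, hEE, hWfix _ p.1.2]
        · show E 0 1 ((p.1 : V) + E 1 0 (p.2 : V)) = p.2
          rw [map_add, ← hWfix _ p.1.2]
          simp [hEE, hWfix _ p.2.2]
      map_add' := fun a b => Prod.ext (Subtype.ext (map_add _ a b)) (Subtype.ext (map_add _ a b)) }
  refine ⟨↥W, inferInstance, inferInstance, Θ, fun g w => ?_⟩
  have happ : ρ g w = φ (g.1 0 0) (E 0 0 w) + φ (g.1 0 1) (E 0 1 w) + φ (g.1 1 0) (E 1 0 w) +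
      φ (g.1 1 1) (E 1 1 w) := DFunLike.congr_fun (hg g) w
  have hc : ∀ c i j (y : V), E i j (φ c y) = φ c (E i j y) := fun c i j y =>
    (DFunLike.congr_fun (hcomm c i j) y).symm
  refine Prod.ext (Subtype.ext ?_) (Subtype.ext ?_)
  · show E 0 0 (ρ g w) = φ (g.1 0 0) (E 0 0 w) + φ (g.1 0 1) (E 0 1 w)
    simp [happ, hc, hEE]
  · show E 0 1 (ρ g w) = φ (g.1 1 0) (E 0 0 w) + φ (g.1 1 1) (E 0 1 w)
    simp [happ, hc, hEE]

/-- There is no nonzero equivariant biadditive map between multiples of the natural module. -/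
theorem biadditive_eq_zero {A B C : Type v} [AddCommGroup A] [Module F A] [AddCommGroup B] [Module F B]
    [AddCommGroup C] [Module F C] (β : A × A →+ B × B →+ C × C)
    (hβ : ∀ (g : SL(2, F)) a b, β (act g a) (act g b) = act g (β a b))
    {c : F} (hc : c ≠ 0) (hc1 : c ≠ 1) : β = 0 := by
  have hu : ∀ (a : F) {M : Type v} [AddCommGroup M] [Module F M] (w : M × M),
      act (up a) w = (w.1 + a • w.2, w.2) := fun a M _ _ w => by simp [act, up_val]
  have hw : ∀ {M : Type v} [AddCommGroup M] [Module F M] (w : M × M),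
      act (wel (1 : F)) w = (w.2, w.1) := fun {M} _ _ w => by simp [act, wel_val (one_ne_zero (α := F))]
  have ht : ∀ {M : Type v} [AddCommGroup M] [Module F M] (w : M × M),
      act (tel c) w = (c • w.1, c⁻¹ • w.2) := fun {M} _ _ w => by simp [act, tel_val hc]
  have h11 : ∀ x y, (β (x, 0) (y, 0)).2 = 0 := fun x y => by
    have h := hβ (up 1) (x, 0) (y, 0)
    simp only [hu, smul_zero, add_zero, one_smul] at h
    have h1 := congrArg Prod.fst h
    simp only [left_eq_add] at h1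
    exact h1
  let g := fun x y => (β (x, 0) (y, 0)).1
  have hr : ∀ (a : F) x y, g x (a • y) = a • (β (x, 0) (0, y)).2 := fun a x y => by
    have h := hβ (up a) (x, 0) (0, y)
    simp only [hu, smul_zero, add_zero, zero_add] at h
    rw [show ((a • y, y) : B × B) = (a • y, 0) + (0, y) by simp, map_add] at h
    have h1 := congrArg Prod.fst h
    simp only [Prod.fst_add] at h1
    rw [add_comm] at h1
    exact add_left_cancel h1
  have hl : ∀ (a : F) x y, g (a • x) y = a • (β (0, x) (y, 0)).2 := fun a x y => by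
    have h := hβ (up a) (0, x) (y, 0)
    simp only [hu, smul_zero, add_zero, zero_add] at h
    rw [show ((a • x, x) : A × A) = (a • x, 0) + (0, x) by simp, map_add, AddMonoidHom.add_apply] at h
    have h1 := congrArg Prod.fst h
    simp only [Prod.fst_add] at h1
    rw [add_comm] at h1
    exact add_left_cancel h1
  have hr' : ∀ (a : F) x y, g x (a • y) = a • g x y := fun a x y => by
    rw [hr, show g x y = g x ((1 : F) • y) by rw [one_smul], hr, one_smul]
  have hl' : ∀ (a : F) x y, g (a • x) y = a • g x y := fun a x y => by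
    rw [hl, show g x y = g ((1 : F) • x) y by rw [one_smul], hl, one_smul]
  have hg : ∀ x y, g x y = 0 := fun x y => by
    have h := hβ (tel c) (x, 0) (y, 0)
    simp only [ht, smul_zero] at h
    have h1 : g (c • x) (c • y) = c • g x y := congrArg Prod.fst h
    rw [hl', hr', smul_smul, ← sub_eq_zero, ← sub_smul] at h1
    refine (smul_eq_zero.1 h1).resolve_left fun e => hc1 ?_
    have : c * (c - 1) = 0 := by rw [mul_sub, mul_one]; exact e
    exact sub_eq_zero.1 ((mul_eq_zero.1 this).resolve_left hc)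
  have h12 : ∀ x y, (β (x, 0) (0, y)).2 = 0 := fun x y => by
    have := hr 1 x y; rw [hg, one_smul] at this; exact this.symm
  have h21 : ∀ x y, (β (0, x) (y, 0)).2 = 0 := fun x y => by
    have := hl 1 x y; rw [hg, one_smul] at this; exact this.symm
  have z11 : ∀ x y, β (x, 0) (y, 0) = 0 := fun x y => Prod.ext (hg x y) (h11 x y)
  have z22 : ∀ x y, β (0, x) (0, y) = 0 := fun x y => by
    have h := hβ (wel 1) (x, 0) (y, 0)
    simp only [hw, z11] at h
    exact h.trans Prod.mk_zero_zero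
  have z12 : ∀ x y, β (x, 0) (0, y) = 0 := fun x y => by
    refine Prod.ext ?_ (h12 x y)
    have h := hβ (wel 1) (x, 0) (0, y)
    simp only [hw] at h
    have h1 := congrArg Prod.snd h
    simp only [h21] at h1
    exact h1.symm
  have z21 : ∀ x y, β (0, x) (y, 0) = 0 := fun x y => by
    refine Prod.ext ?_ (h21 x y)
    have h := hβ (wel 1) (0, x) (y, 0)
    simp only [hw] at h
    have h1 := congrArg Prod.snd h
    simp only [h12] at h1
    exact h1.symm
  refine AddMonoidHom.ext fun a => AddMonoidHom.ext fun b => ?_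
  rw [show a = (a.1, 0) + (0, a.2) by simp, show b = (b.1, 0) + (0, b.2) by simp]
  simp only [map_add, AddMonoidHom.add_apply, z11, z12, z21, z22]
  simp

section Groups

variable {G : Type v} [Group G]

/-- A multiplicative automorphism as an additive endomorphism. -/
def autEnd (M : Type v) [CommGroup M] : MulAut M →* AddMonoid.End (Additive M) where
  toFun f := f.toMonoidHom.toAdditive
  map_one' := rfl
  map_mul' _ _ := rfl

/-- The abelian case. -/
theorem abelian_case (A : Subgroup G) [A.Normal] (hab : ∀ a ∈ A, ∀ b ∈ A, a * b = b * a)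
    (h4 : ∀ a ∈ A, a ^ 4 = 1) (p : G →* SL(2, F)) (hp : Function.Surjective p)
    (hker : p.ker ≤ Subgroup.centralizer (A : Set G)) {x : G} (hx : orderOf x = 3) (hx1 : p x ≠ 1)
    (hfpf : ∀ a ∈ A, x * a * x⁻¹ = a → a = 1) (hF : ∃ a : F, a ≠ 0 ∧ a ≠ 1) :
    (∀ a ∈ A, a ^ 2 = 1) ∧ ∃ (W : Type v) (_ : AddCommGroup W) (_ : Module F W)
      (Θ : Additive ↥A ≃+ W × W), ∀ (g : G) (a : ↥A),
        Θ (Additive.ofMul (MulAut.conjNormal g a)) = act (p g) (Θ (Additive.ofMul a)) := by
  letI : CommGroup ↥A :=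
    { (inferInstance : Group ↥A) with mul_comm := fun a b => Subtype.ext (hab a a.2 b b.2) }
  let cn : G →* MulAut ↥A := MulAut.conjNormal
  let ρ0 : G →* AddMonoid.End (Additive ↥A) := (autEnd ↥A).comp cn
  have hk : p.ker ≤ cn.ker := fun g hg => by
    rw [MonoidHom.mem_ker]
    refine MulEquiv.ext fun a => ?_
    apply Subtype.ext
    show g * (a : G) * g⁻¹ = (a : G)
    rw [← Subgroup.mem_centralizer_iff.1 (hker hg) _ a.2, mul_inv_cancel_right]
  let σ : SL(2, F) →* MulAut ↥A := p.liftOfSurjective hp ⟨cn, hk⟩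
  let ρ : SL(2, F) →* AddMonoid.End (Additive ↥A) := (autEnd ↥A).comp σ
  have hρ : ∀ g, ρ (p g) = ρ0 g := fun g =>
    congrArg (autEnd ↥A) (MonoidHom.liftOfRightInverse_comp_apply p _ _ ⟨cn, hk⟩ g)
  have h4' : ∀ w : Additive ↥A, (4 : ℕ) • w = 0 := fun w => by
    apply Additive.toMul.injective
    apply Subtype.ext
    simpa using h4 _ (Additive.toMul w).2
  obtain ⟨h2, W, iW, iM, Θ, hΘ⟩ := exists_module h4' ρ
    (x := p x) (by rw [← map_pow, ← hx, pow_orderOf_eq_one, map_one]) hx1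
    (fun w hw => by
      rw [hρ] at hw
      apply Additive.toMul.injective
      apply Subtype.ext
      exact hfpf _ (Additive.toMul w).2 (congrArg (fun z => ((Additive.toMul z : ↥A) : G)) hw)) hF
  refine ⟨fun a ha => ?_, W, iW, iM, Θ, fun g a => ?_⟩
  · have h := congrArg (fun z => ((Additive.toMul z : ↥A) : G)) (h2 (Additive.ofMul ⟨a, ha⟩))
    simpa [pow_two] using h
  · rw [← hΘ, hρ]; rfl

/-- Higman: `Q` is elementary abelian. -/
theorem elementary (hF : ∃ a : F, a ≠ 0 ∧ a ≠ 1) : ∀ (N : ℕ) (G : Type v) [Group G] [Finite G]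
    (Q : Subgroup G) [Q.Normal], IsPGroup 2 Q → Nat.card G ≤ N → ∀ (p : G →* SL(2, F)),
      Function.Surjective p → p.ker = Q → ∀ x : G, orderOf x = 3 →
      (∀ q ∈ Q, x * q * x⁻¹ = q → q = 1) →
      (∀ a ∈ Q, ∀ b ∈ Q, a * b = b * a) ∧ ∀ a ∈ Q, a ^ 2 = 1 := by
  intro N
  induction N with
  | zero => intro G _ _ Q _ _ hN; exact absurd hN (Nat.not_le.2 Nat.card_pos)
  | succ N ih =>
    intro G _ _ Q hQn hQ hN p hp hker x hx hfpf
    haveI : Fact (Nat.Prime 2) := ⟨Nat.prime_two⟩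
    have hx1 : p x ≠ 1 := fun e => by
      have hxQ : x ∈ Q := by rw [← hker]; exact e
      obtain ⟨k, hk⟩ := IsPGroup.iff_orderOf.1 hQ ⟨x, hxQ⟩
      rw [Subgroup.orderOf_mk, hx] at hk
      rcases k with _ | k
      · simp at hk
      · have : 2 ∣ 3 := ⟨2 ^ k, by rw [hk, pow_succ']⟩
        omega
    by_cases hQ1 : Q = ⊥
    · subst hQ1
      simp
    haveI : Nontrivial ↥Q := (Subgroup.nontrivial_iff_ne_bot Q).2 hQ1
    haveI := hQ.center_nontrivial
    -- `Z = Ω₁(Z(Q))`
    let Z : Subgroup G :=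
      { carrier := {z | z ∈ Q ∧ (∀ q ∈ Q, q * z = z * q) ∧ z ^ 2 = 1}
        one_mem' := ⟨one_mem _, fun q _ => by rw [mul_one, one_mul], one_pow 2⟩
        mul_mem' := fun {a b} ha hb => ⟨mul_mem ha.1 hb.1,
          fun q hq => by rw [← mul_assoc, ha.2.1 q hq, mul_assoc, hb.2.1 q hq, mul_assoc],
          by rw [(show Commute a b from hb.2.1 a ha.1).mul_pow, ha.2.2, hb.2.2, one_mul]⟩
        inv_mem' := fun {a} ha => ⟨inv_mem ha.1,
          fun q hq => ((show Commute q a from ha.2.1 q hq).inv_right).eq, by rw [inv_pow, ha.2.2, inv_one]⟩ }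
    have hZQ : Z ≤ Q := fun z hz => hz.1
    haveI hZn : Z.Normal := ⟨fun z hz g => ⟨hQn.conj_mem z hz.1 g, fun q hq => by
      have h := hz.2.1 (g⁻¹ * q * g) (by simpa using hQn.conj_mem q hq g⁻¹)
      calc q * (g * z * g⁻¹) = g * ((g⁻¹ * q * g) * z) * g⁻¹ := by group
        _ = g * (z * (g⁻¹ * q * g)) * g⁻¹ := by rw [h]
        _ = g * z * g⁻¹ * q := by group, by rw [conj_pow, hz.2.2, mul_one, mul_inv_cancel]⟩⟩
    obtain ⟨z0, hz0, hz0o⟩ : ∃ z : ↥Q, z ∈ Subgroup.center ↥Q ∧ orderOf z = 2 := by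
      have hd : 2 ∣ Nat.card (Subgroup.center ↥Q) :=
        ((hQ.to_subgroup _).card_eq_or_dvd).resolve_left fun e => by
          have := (Finite.one_lt_card_iff_nontrivial).2 (inferInstance : Nontrivial (Subgroup.center ↥Q))
          omega
      obtain ⟨z, hz⟩ := exists_prime_orderOf_dvd_card' 2 hd
      exact ⟨z, z.2, by rw [Subgroup.orderOf_coe, hz]⟩
    have hz0Z : (z0 : G) ∈ Z := ⟨z0.2, fun q hq =>
      congrArg Subtype.val (Subgroup.mem_center_iff.1 hz0 ⟨q, hq⟩), by
        rw [← hz0o, ← Subgroup.orderOf_coe, pow_orderOf_eq_one]⟩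
    have hlt : Nat.card (G ⧸ Z) ≤ N := by
      have h1 : Nat.card G = Nat.card (G ⧸ Z) * Nat.card Z := Subgroup.card_eq_card_quotient_mul_card_subgroup Z
      have h2 : 2 ≤ Nat.card Z := by
        haveI : Nontrivial Z := ⟨⟨⟨_, hz0Z⟩, 1, fun e => by
          have : (z0 : G) = 1 := congrArg Subtype.val e
          rw [← Subgroup.orderOf_coe, this, orderOf_one] at hz0o
          omega⟩⟩
        exact Finite.one_lt_card
      have h3 : 0 < Nat.card (G ⧸ Z) := Nat.card_pos
      nlinarith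
    set mk := QuotientGroup.mk' Z
    let Qb := Q.map mk
    haveI : Qb.Normal := hQn.map _ (QuotientGroup.mk'_surjective Z)
    let pb : G ⧸ Z →* SL(2, F) := QuotientGroup.lift Z p (fun z hz => by
      show z ∈ p.ker
      rw [hker]; exact hZQ hz)
    have hpb : Function.Surjective pb := fun s => by
      obtain ⟨g, rfl⟩ := hp s
      exact ⟨mk g, rfl⟩
    have hkerb : pb.ker = Qb := by
      ext y
      obtain ⟨g, rfl⟩ := QuotientGroup.mk'_surjective Z y
      constructor
      · intro h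
        exact ⟨g, by rw [SetLike.mem_coe, ← hker]; exact h, rfl⟩
      · rintro ⟨q, hq, e⟩
        rw [MonoidHom.mem_ker, ← e]
        show p q = 1
        rw [← MonoidHom.mem_ker, hker]; exact hq
    have hxb : orderOf (mk x) = 3 := by
      refine orderOf_eq_prime (by rw [← map_pow, ← hx, pow_orderOf_eq_one, map_one]) fun e => hx1 ?_
      have : pb (mk x) = 1 := by rw [e, map_one]
      exact this
    have hfpfb : ∀ q ∈ Qb, mk x * q * (mk x)⁻¹ = q → q = 1 := by
      rintro _ ⟨q, hq, rfl⟩ he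
      rw [← map_inv, ← map_mul, ← map_mul] at he
      have hz : q⁻¹ * (x * q * x⁻¹) ∈ Z := QuotientGroup.eq.1 he.symm
      set z := q⁻¹ * (x * q * x⁻¹) with hzdef
      let f : ↥Z → ↥Z := fun w => w⁻¹ * ⟨x * w * x⁻¹, hZn.conj_mem w w.2 x⟩
      have hf : Function.Injective f := by
        intro v w hvw
        have e : (v : G)⁻¹ * (x * v * x⁻¹) = (w : G)⁻¹ * (x * w * x⁻¹) := congrArg Subtype.val hvw
        apply Subtype.ext
        apply mul_inv_eq_one.1
        refine hfpf _ (mul_mem (hZQ v.2) (inv_mem (hZQ w.2))) ?_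
        have hx' : x * v * x⁻¹ = (v : G) * ((w : G)⁻¹ * (x * w * x⁻¹)) := by rw [← e, mul_inv_cancel_left]
        calc x * ((v : G) * (w : G)⁻¹) * x⁻¹ = (x * v * x⁻¹) * (x * w * x⁻¹)⁻¹ := by group
          _ = (v : G) * (w : G)⁻¹ := by rw [hx']; group
      obtain ⟨w, hw⟩ := (Finite.injective_iff_surjective.1 hf) ⟨z⁻¹, inv_mem hz⟩
      have hw' : (w : G)⁻¹ * (x * w * x⁻¹) = z⁻¹ := congrArg Subtype.val hw
      have hzw : z * (w : G) = (w : G) * z := w.2.2.1 z (hZQ hz)
      have hqw : q * (w : G) = 1 := hfpf _ (mul_mem hq (hZQ w.2)) (by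
        calc x * (q * (w : G)) * x⁻¹ = (x * q * x⁻¹) * (x * w * x⁻¹) := by group
          _ = (q * z) * ((w : G) * z⁻¹) := by rw [hzdef, mul_inv_cancel_left, ← hw', mul_inv_cancel_left]
          _ = q * (z * (w : G)) * z⁻¹ := by group
          _ = q * (w : G) := by rw [hzw]; group)
      rw [QuotientGroup.mk'_apply, QuotientGroup.eq_one_iff, eq_inv_of_mul_eq_one_left hqw]
      exact inv_mem w.2
    obtain ⟨hbc, hb2⟩ := ih (G ⧸ Z) Qb (hQ.map mk) hlt pb hpb hkerb (mk x) hxb hfpfb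
    -- the modules
    obtain ⟨-, W1, iW1, iM1, Θ1, hΘ1⟩ := abelian_case Qb hbc (fun a ha => by
      rw [show (4 : ℕ) = 2 * 2 from rfl, pow_mul, hb2 a ha, one_pow]) pb hpb (by
      rw [hkerb]; exact fun a ha => Subgroup.mem_centralizer_iff.2 fun b hb => hbc b hb a ha) hxb
      (fun e => hx1 e) hfpfb hF
    obtain ⟨-, W2, iW2, iM2, Θ2, hΘ2⟩ := abelian_case Z (fun a ha b hb => hb.2.1 a ha.1) (fun a ha => by
      rw [show (4 : ℕ) = 2 * 2 from rfl, pow_mul, ha.2.2, one_pow]) p hp (by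
      rw [hker]; exact fun q hq => Subgroup.mem_centralizer_iff.2 fun z hz => (hz.2.1 q hq).symm) hx hx1
      (fun a ha => hfpf a (hZQ ha)) hF
    have hcZ : ∀ a ∈ Q, ∀ b ∈ Q, ⁅a, b⁆ ∈ Z := fun a ha b hb => by
      rw [← QuotientGroup.eq_one_iff, ← QuotientGroup.mk'_apply, map_commutatorElement,
        commutatorElement_eq_one_iff_mul_comm]
      exact hbc _ ⟨a, ha, rfl⟩ _ ⟨b, hb, rfl⟩
    have hkill : ∀ {a a' b : G}, a ∈ Q → a' ∈ Q → b ∈ Q →
        ⁅a * a', b⁆ = ⁅a, b⁆ * ⁅a', b⁆ ∧ ⁅b, a * a'⁆ = ⁅b, a⁆ * ⁅b, a'⁆ := by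
      intro a a' b ha ha' hb
      have h1 := (hcZ a' ha' b hb).2.1 a ha
      have h2 := (hcZ b hb a' ha').2.1 a ha
      have hzz : ⁅a, b⁆ * ⁅a', b⁆ = ⁅a', b⁆ * ⁅a, b⁆ := (hcZ a' ha' b hb).2.1 _ (hZQ (hcZ a ha b hb))
      constructor
      · rw [hzz]
        calc ⁅a * a', b⁆ = a * ⁅a', b⁆ * (b * a⁻¹ * b⁻¹) := by simp [commutatorElement_def]; group
          _ = ⁅a', b⁆ * a * (b * a⁻¹ * b⁻¹) := by rw [h1]
          _ = ⁅a', b⁆ * ⁅a, b⁆ := by simp [commutatorElement_def]; group
      · calc ⁅b, a * a'⁆ = ⁅b, a⁆ * (a * ⁅b, a'⁆) * a⁻¹ := by simp [commutatorElement_def]; group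
          _ = ⁅b, a⁆ * (⁅b, a'⁆ * a) * a⁻¹ := by rw [h2]
          _ = ⁅b, a⁆ * ⁅b, a'⁆ := by group
    have hZkill : ∀ z ∈ Z, ∀ b ∈ Q, ⁅z, b⁆ = 1 ∧ ⁅b, z⁆ = 1 := fun z hz b hb =>
      ⟨commutatorElement_eq_one_iff_mul_comm.2 (hz.2.1 b hb).symm,
        commutatorElement_eq_one_iff_mul_comm.2 (hz.2.1 b hb)⟩
    have hindep : ∀ {a a' b b' : G}, a ∈ Q → a' ∈ Q → b ∈ Q → b' ∈ Q → mk a = mk a' → mk b = mk b' →
        ⁅a, b⁆ = ⁅a', b'⁆ := by
      intro a a' b b' ha ha' hb hb' ea eb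
      have e1 : a⁻¹ * a' ∈ Z := QuotientGroup.eq.1 ea
      have e2 : b⁻¹ * b' ∈ Z := QuotientGroup.eq.1 eb
      rw [show a' = a * (a⁻¹ * a') by group, (hkill ha (hZQ e1) hb').1, (hZkill _ e1 _ hb').1, mul_one,
        show b' = b * (b⁻¹ * b') by group, (hkill hb (hZQ e2) ha).2, (hZkill _ e2 _ ha).2, mul_one]
    have hsec : ∀ y : ↥Qb, ∃ q : ↥Q, mk q = y := fun y => by
      obtain ⟨q, hq, e⟩ := y.2
      exact ⟨⟨q, hq⟩, e⟩
    choose s hs using hsec
    let βf : W1 × W1 → W1 × W1 → W2 × W2 := fun a b => Θ2 (Additive.ofMul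
      ⟨⁅((s (Additive.toMul (Θ1.symm a))) : G), ((s (Additive.toMul (Θ1.symm b))) : G)⁆,
        hcZ _ (s _).2 _ (s _).2⟩)
    let β : W1 × W1 →+ W1 × W1 →+ W2 × W2 := AddMonoidHom.mk'
      (fun a => AddMonoidHom.mk' (βf a) fun b b' => by
        simp only [βf]; rw [← map_add, ← ofMul_mul]
        congr 2
        apply Subtype.ext
        show _ = ⁅_, _⁆ * ⁅_, _⁆
        rw [← (hkill (s _).2 (s _).2 (s _).2).2]
        refine hindep (s _).2 (s _).2 (s _).2 (mul_mem (s _).2 (s _).2) rfl ?_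
        rw [map_mul, hs, hs, hs, map_add]; rfl)
      fun a a' => AddMonoidHom.ext fun b => by
        show βf (a + a') b = βf a b + βf a' b
        simp only [βf]; rw [← map_add, ← ofMul_mul]
        congr 2
        apply Subtype.ext
        show _ = ⁅_, _⁆ * ⁅_, _⁆
        rw [← (hkill (s _).2 (s _).2 (s _).2).1]
        refine hindep (s _).2 (mul_mem (s _).2 (s _).2) (s _).2 (s _).2 ?_ rfl
        rw [map_mul, hs, hs, hs, map_add]; rfl
    have hβeq : ∀ (g : SL(2, F)) a b, β (act g a) (act g b) = act g (β a b) := by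
      intro g a b
      obtain ⟨g, rfl⟩ := hp g
      show βf _ _ = act (p g) (βf a b)
      have e : ∀ w, Θ1.symm (act (p g) w) = Additive.ofMul (MulAut.conjNormal (mk g) (Additive.toMul (Θ1.symm w))) := by
        intro w
        rw [AddEquiv.symm_apply_eq, hΘ1, ofMul_toMul, AddEquiv.apply_symm_apply]
        rfl
      simp only [βf, e]
      rw [← hΘ2]
      congr 2
      apply Subtype.ext
      show _ = g * ⁅_, _⁆ * g⁻¹
      rw [conjugate_commutatorElement]
      refine hindep (s _).2 (hQn.conj_mem _ (s _).2 g) (s _).2 (hQn.conj_mem _ (s _).2 g) ?_ ?_ <;>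
      · rw [map_mul, map_mul, map_inv, hs, hs]; rfl
    obtain ⟨c, hc0, hc1⟩ := hF
    have hzero := biadditive_eq_zero β hβeq hc0 hc1
    have habel : ∀ a ∈ Q, ∀ b ∈ Q, a * b = b * a := by
      intro a ha b hb
      have h1 : βf (Θ1 (Additive.ofMul ⟨mk a, a, ha, rfl⟩)) (Θ1 (Additive.ofMul ⟨mk b, b, hb, rfl⟩)) = 0 :=
        DFunLike.congr_fun (DFunLike.congr_fun hzero _) _
      simp only [βf, AddEquiv.symm_apply_apply, toMul_ofMul, EmbeddingLike.map_eq_zero_iff] at h1
      have h2 := congrArg (fun z => ((Additive.toMul z : ↥Z) : G)) h1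
      simp only [toMul_ofMul, toMul_zero, OneMemClass.coe_one] at h2
      rw [← commutatorElement_eq_one_iff_mul_comm, ← h2]
      exact hindep ha (s _).2 hb (s _).2 (hs ⟨mk a, a, ha, rfl⟩).symm (hs ⟨mk b, b, hb, rfl⟩).symm
    have h4 : ∀ a ∈ Q, a ^ 4 = 1 := fun a ha => by
      have h1 : a ^ 2 ∈ Z := by
        rw [← QuotientGroup.eq_one_iff, ← QuotientGroup.mk'_apply, map_pow]
        exact hb2 _ ⟨a, ha, rfl⟩
      rw [show (4 : ℕ) = 2 * 2 from rfl, pow_mul, h1.2.2]
    exact ⟨habel, (abelian_case Q habel h4 p hp (by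
      rw [hker]; exact fun q hq => Subgroup.mem_centralizer_iff.2 fun b hb => habel b hb q hq) hx hx1 hfpf
      ⟨c, hc0, hc1⟩).1⟩

end Groups

end CfsgLib.LocalEvenB.HigmanSL2
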