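import Cfsg.Agent.Lib.LocalEvenB.CentrallyLarge
import Cfsg.Agent.Lib.LocalEvenB.HSubgroup
import Cfsg.Agent.Lib.Classical.SL2Sylow
import Cfsg.Agent.Lib.Solvable.Cores
import Mathlib.GroupTheory.FiniteAbelian.Duality
import Mathlib.RingTheory.RootsOfUnity.AlgebraicallyClosed
import Mathlib.Analysis.Complex.Polynomial.Basic

/-!
The basic pushing-up situation: no over-offenders on central modules, and the consequences for minimal
centrally large subgroups.
-/

set_option autoImplicit false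
set_option linter.unusedSectionVars false
set_option linter.style.haveILetI false


namespace CfsgLib.LocalEvenB.PushingUp

open CfsgLib.LocalEvenB.CDMeasure CfsgLib.LocalEvenB.CentrallyLarge
open scoped Pointwise commutatorElement

variable {G : Type*} [Group G] [Finite G] {p : ℕ} [Fact p.Prime]

local notation "ℭ" X:max => Subgroup.centralizer (SetLike.coe X)

/-- What is used of the pushing-up situation. -/
structure Setup (p : ℕ) (S M T : Subgroup G) : Prop where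
  isPGroup : IsPGroup p S
  sylow : ∃ P : Sylow p G, (P : Subgroup G) = S
  normal : T.Normal
  le : T ≤ S
  cent : ℭ T ≤ T
  maximal : ∀ N : Subgroup G, N.Normal → IsPGroup p N → N ≤ T
  top_of : ∀ H : Subgroup G, S ≤ H → ¬ H ≤ M → H = ⊤
  spread : ∃ g : G, ∀ a ∈ S, a ∈ M.map (MulAut.conj g).toMonoidHom → a ∈ T
  proper : M ≠ ⊤
  sleM : S ≤ M

theorem frattini_step {S M T : Subgroup G} (hS : ∃ P : Sylow p G, (P : Subgroup G) = S)
    (hmax : ∀ N : Subgroup G, N.Normal → IsPGroup p N → N ≤ T)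
    (htop : ∀ H : Subgroup G, S ≤ H → ¬ H ≤ M → H = ⊤) (hM : M ≠ ⊤)
    (C : Subgroup G) [C.Normal] (hCM : C ≤ M) : S ⊓ C ≤ T := by
  obtain ⟨P, rfl⟩ := hS
  have hp : IsPGroup p ↥((P : Subgroup G) ⊓ C) := P.isPGroup'.to_le inf_le_left
  obtain ⟨Q, hQ⟩ := (hp.of_equiv (Subgroup.subgroupOfEquivOfLe inf_le_right).symm).exists_le_sylow
  have hQeq : (Q : Subgroup C).map C.subtype = (P : Subgroup G) ⊓ C := by
    have hle : (P : Subgroup G) ⊓ C ≤ (Q : Subgroup C).map C.subtype := fun x hx =>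
      ⟨⟨x, (Subgroup.mem_inf.mp hx).2⟩, hQ (by rw [Subgroup.mem_subgroupOf]; exact hx), rfl⟩
    refine (Subgroup.eq_of_le_of_card_ge hle ?_).symm
    obtain ⟨R, hR⟩ := (Q.isPGroup'.map C.subtype).exists_le_sylow
    obtain ⟨g, hg⟩ := MulAction.exists_smul_eq G R P
    refine le_trans (le_of_eq (Nat.card_congr (Subgroup.equivMapOfInjective
      ((Q : Subgroup C).map C.subtype) (MulAut.conj g).toMonoidHom (MulAut.conj g).injective).toEquiv)) ?_
    refine Subgroup.card_le_of_le ?_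
    rintro _ ⟨x, hx, rfl⟩
    refine Subgroup.mem_inf.mpr ⟨?_, ?_⟩
    · rw [← hg]; exact ⟨x, hR hx, rfl⟩
    · obtain ⟨y, -, rfl⟩ := hx
      exact (inferInstance : C.Normal).conj_mem _ y.2 g
  have h1 := Sylow.normalizer_sup_eq_top Q
  rw [hQeq] at h1
  have hPn : (P : Subgroup G) ≤ Subgroup.normalizer (((P : Subgroup G) ⊓ C : Subgroup G) : Set G) := by
    intro s hs
    rw [Subgroup.mem_normalizer_iff]
    intro x
    simp only [Subgroup.mem_inf]
    constructor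
    · rintro ⟨h1, h2⟩
      exact ⟨mul_mem (mul_mem hs h1) (inv_mem hs), (inferInstance : C.Normal).conj_mem x h2 s⟩
    · rintro ⟨h1, h2⟩
      have h3 := mul_mem (mul_mem (inv_mem hs) h1) hs
      have h4 := (inferInstance : C.Normal).conj_mem _ h2 s⁻¹
      exact ⟨by simpa [mul_assoc] using h3, by simpa [mul_assoc] using h4⟩
  have hNtop := htop _ hPn fun hle => hM (eq_top_iff.mpr (h1 ▸ sup_le hle hCM))
  exact hmax _ (Subgroup.normalizer_eq_top_iff.mp hNtop) hp

/-- Upper unitriangular matrices meet a conjugate of a proper overgroup trivially. -/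
theorem sl2_spread {F : Type*} [Field F] (H : Subgroup (Matrix.SpecialLinearGroup (Fin 2) F))
    (hU : CfsgLib.Classical.unipSL F ≤ H) (hH : H ≠ ⊤) :
    ∃ w : Matrix.SpecialLinearGroup (Fin 2) F,
      ∀ x ∈ CfsgLib.Classical.unipSL F, w⁻¹ * x * w ∈ H → x = 1 := by
  let w : Matrix.SpecialLinearGroup (Fin 2) F := ⟨!![0, 1; -1, 0], by simp [Matrix.det_fin_two]⟩
  refine ⟨w, ?_⟩
  rintro _ ⟨c, rfl⟩ hx
  by_contra hne
  apply hH
  set c0 : F := c.toAdd with hc0
  have hc : c0 ≠ 0 := by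
    intro h
    apply hne
    have : c = 1 := by
      rw [hc0] at h
      exact h
    rw [this, map_one]
  let l : F → Matrix.SpecialLinearGroup (Fin 2) F := fun d =>
    Matrix.SpecialLinearGroup.transvection one_ne_zero d
  have hl : ∀ d, ((l d : Matrix.SpecialLinearGroup (Fin 2) F) : Matrix (Fin 2) (Fin 2) F) = !![1, 0; d, 1] := by
    intro d
    ext i j
    fin_cases i <;> fin_cases j <;>
      simp [l, Matrix.SpecialLinearGroup.transvection, Matrix.transvection, Matrix.single]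
  have hu : ∀ d : F, ((CfsgLib.Classical.uSL (Multiplicative.ofAdd d) :
      Matrix.SpecialLinearGroup (Fin 2) F) : Matrix (Fin 2) (Fin 2) F) = !![1, d; 0, 1] :=
    CfsgLib.Classical.uSL_coe
  have hlow : l (-c0) ∈ H := by
    have e : w⁻¹ * CfsgLib.Classical.uSL c * w = l (-c0) := by
      have hce : c = Multiplicative.ofAdd c0 := rfl
      rw [mul_assoc, inv_mul_eq_iff_eq_mul]
      apply Subtype.ext
      rw [Matrix.SpecialLinearGroup.coe_mul, Matrix.SpecialLinearGroup.coe_mul, hce, hu, hl]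
      ext i j
      fin_cases i <;> fin_cases j <;> simp [w, Matrix.mul_apply, Fin.sum_univ_two]
    rw [← e]; exact hx
  set d := -c0 with hd
  have hd0 : d ≠ 0 := neg_ne_zero.mpr hc
  set n := CfsgLib.Classical.uSL (Multiplicative.ofAdd (-1 / d)) * l d with hn
  have hnH : n ∈ H := mul_mem (hU ⟨_, rfl⟩) hlow
  refine CfsgLib.Classical.sl2_transvections_generate H (fun t => hU ⟨Multiplicative.ofAdd t, rfl⟩) fun t => ?_
  have e : n * CfsgLib.Classical.uSL (Multiplicative.ofAdd (-t / d ^ 2)) = l t * n := by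
    apply Subtype.ext
    simp only [hn, Matrix.SpecialLinearGroup.coe_mul, hu, hl]
    ext i j
    fin_cases i <;> fin_cases j <;> simp [Matrix.mul_apply, Fin.sum_univ_two] <;> field_simp <;>
      (try ring_nf) <;> simp [hd0]
  have h1 : n * CfsgLib.Classical.uSL (Multiplicative.ofAdd (-t / d ^ 2)) * n⁻¹ = l t := by
    rw [e, mul_inv_cancel_right]
  show l t ∈ H
  rw [← h1]
  exact mul_mem (mul_mem hnH (hU ⟨_, rfl⟩)) (inv_mem hnH)

theorem setup_of {S : Subgroup G} (h : Cfsg.IsPushingUpSituation p S) :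
    ∃ M, Setup p S M (Cfsg.pCore p G) := by
  classical
  obtain ⟨-, ⟨P, rfl⟩, hcent, ⟨M, ⟨hM, hSM⟩, huniq⟩, K, hK, F, iF, iFt, n, hcard, ⟨e⟩⟩ := h
  have hp : p.Prime := Fact.out
  have hmax : ∀ N : Subgroup G, N.Normal → IsPGroup p N → N ≤ Cfsg.pCore p G := fun N hN hNp =>
    Solvable.Cores.le_pCore (hn := hN) hNp
  have htop : ∀ H : Subgroup G, (P : Subgroup G) ≤ H → ¬ H ≤ M → H = ⊤ := by
    intro H hH hHM
    rcases eq_top_or_exists_le_coatom H with h | ⟨M', hM', hle⟩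
    · exact h
    · exact absurd ((huniq M' ⟨hM', hH.trans hle⟩) ▸ hle) hHM
  refine ⟨M, P.isPGroup', ⟨P, rfl⟩, inferInstance, Solvable.Cores.pCore_le_sylow P, hcent, hmax, htop,
    ?_, hM.1, hSM⟩
  have hq2 : 2 ≤ Fintype.card F := Fintype.one_lt_card
  haveI : CharP F p := by
    obtain ⟨m, hr, hc⟩ := FiniteField.card F (ringChar F)
    rw [hcard] at hc
    have hd : ringChar F ∣ p ^ n := hc ▸ dvd_pow_self _ m.ne_zero
    have := (Nat.prime_dvd_prime_iff_eq hr hp).mp (hr.dvd_of_dvd_pow hd)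
    exact this ▸ ringChar.charP F
  let mk := QuotientGroup.mk' K
  let f : Matrix.SpecialLinearGroup (Fin 2) F →* G ⧸ K :=
    (e.symm : _ ≃* G ⧸ K).toMonoidHom.comp (QuotientGroup.mk' _)
  have hf : Function.Surjective f := e.symm.surjective.comp (QuotientGroup.mk'_surjective _)
  -- K lies in M
  have hKM : K ≤ M := by
    by_contra hKM
    have hKS : (P : Subgroup G) ⊔ K = ⊤ :=
      htop _ le_sup_left fun hle => hKM (le_sup_right.trans hle)
    have hpq : IsPGroup p (G ⧸ K) := by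
      intro y
      obtain ⟨x, rfl⟩ := QuotientGroup.mk'_surjective K y
      have hx : x ∈ (P : Subgroup G) ⊔ K := hKS ▸ Subgroup.mem_top x
      obtain ⟨s, hs, k, hk, rfl⟩ := Subgroup.mem_sup_of_normal_right.mp hx
      obtain ⟨a, ha⟩ := P.isPGroup' ⟨s, hs⟩
      refine ⟨a, ?_⟩
      rw [map_mul, show QuotientGroup.mk' K k = 1 from (QuotientGroup.eq_one_iff k).mpr hk, mul_one,
        ← map_pow, show s ^ p ^ a = 1 by simpa using congrArg Subtype.val ha, map_one]
    obtain ⟨a, ha⟩ := IsPGroup.iff_card.mp hpq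
    have hkpsl : Nat.card (Matrix.ProjectiveSpecialLinearGroup (Fin 2) F) = p ^ a := by
      rw [← Nat.card_congr e.toEquiv, ha]
    have hsl := Subgroup.card_eq_card_quotient_mul_card_subgroup
      (Subgroup.center (Matrix.SpecialLinearGroup (Fin 2) F))
    have hz : Nat.card (Subgroup.center (Matrix.SpecialLinearGroup (Fin 2) F)) ∣ 2 := by
      rw [CfsgLib.Classical.card_center_sl 2 (by norm_num)]
      exact Nat.gcd_dvd_left _ _
    rw [CfsgLib.Classical.card_sl2 rfl] at hsl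
    replace hsl : Fintype.card F * (Fintype.card F ^ 2 - 1) = p ^ a *
        Nat.card (Subgroup.center (Matrix.SpecialLinearGroup (Fin 2) F)) := by
      rw [hsl, ← hkpsl]
    have hdvd : Fintype.card F * (Fintype.card F ^ 2 - 1) ∣ p ^ a * 2 := hsl ▸ Nat.mul_dvd_mul_left _ hz
    have hcop : Nat.Coprime (Fintype.card F ^ 2 - 1) p := by
      rw [Nat.coprime_comm, hp.coprime_iff_not_dvd]
      intro hd
      have hn0 : n ≠ 0 := by intro h0; rw [hcard, h0, pow_zero] at hq2; omega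
      have h1 : p ∣ Fintype.card F ^ 2 := hcard ▸ dvd_pow (dvd_pow_self p hn0) (by norm_num)
      have h2 := Nat.dvd_sub h1 hd
      rw [Nat.sub_sub_self (Nat.one_le_pow _ _ (by omega))] at h2
      exact hp.not_dvd_one h2
    have h2 : Fintype.card F ^ 2 - 1 ∣ 2 :=
      (hcop.pow_right a).dvd_of_dvd_mul_left ((Dvd.intro_left _ rfl).trans hdvd)
    have h3 := Nat.le_of_dvd (by norm_num) h2
    have h4 : 2 ^ 2 ≤ Fintype.card F ^ 2 := Nat.pow_le_pow_left hq2 2
    omega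
  -- a Sylow subgroup of the image
  let U : Sylow p (Matrix.SpecialLinearGroup (Fin 2) F) := CfsgLib.Classical.unipSLSylow p
  obtain ⟨y, hy⟩ := MulAction.exists_smul_eq (G ⧸ K) (P.mapSurjective (QuotientGroup.mk'_surjective K))
    (U.mapSurjective hf)
  obtain ⟨h, rfl⟩ := QuotientGroup.mk'_surjective K y
  have himg : ∀ a ∈ (P : Subgroup G), mk (h * a * h⁻¹) ∈ (CfsgLib.Classical.unipSL F).map f := by
    intro a ha
    have h1 : mk (h * a * h⁻¹) ∈
        ((QuotientGroup.mk' K h • P.mapSurjective (QuotientGroup.mk'_surjective K) :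
          Sylow p (G ⧸ K)) : Subgroup (G ⧸ K)) :=
      ⟨mk a, ⟨a, ha, rfl⟩, by simp [mk]⟩
    rw [hy] at h1
    exact h1
  set Mh := M.map (MulAut.conj h).toMonoidHom with hMh
  set H := (Mh.map mk).comap f with hH
  have hUH : CfsgLib.Classical.unipSL F ≤ H := by
    intro u hu
    have h1 : f u ∈ ((U.mapSurjective hf : Sylow p (G ⧸ K)) : Subgroup (G ⧸ K)) := ⟨u, hu, rfl⟩
    rw [← hy] at h1
    obtain ⟨_, ⟨a, ha, rfl⟩, hae⟩ := h1
    refine ⟨h * a * h⁻¹, ⟨a, hSM ha, rfl⟩, ?_⟩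
    rw [← hae]; simp [mk]
  have hKMh : K ≤ Mh := by
    intro k hk
    exact ⟨h⁻¹ * k * h, hKM (by simpa using hK.conj_mem k hk h⁻¹), by simp [mul_assoc]⟩
  have hHne : H ≠ ⊤ := by
    intro hHt
    apply hM.1
    rw [eq_top_iff]
    intro x _
    obtain ⟨z, hz⟩ := hf (mk (h * x * h⁻¹))
    have h1 : z ∈ H := hHt ▸ Subgroup.mem_top z
    obtain ⟨m, hm, hme⟩ := h1
    have h2 : mk m = mk (h * x * h⁻¹) := hme.trans hz
    have h3 : m⁻¹ * (h * x * h⁻¹) ∈ K := by
      rw [← QuotientGroup.eq]; exact h2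
    have h4 := mul_mem hm (hKMh h3)
    rw [mul_inv_cancel_left] at h4
    obtain ⟨m', hm', he⟩ := h4
    have : m' = x := (MulAut.conj h).injective he
    exact this ▸ hm'
  obtain ⟨w, hw⟩ := sl2_spread H hUH hHne
  obtain ⟨k, hk⟩ := QuotientGroup.mk'_surjective K (f w)
  refine ⟨h⁻¹ * k * h, fun a ha haM => ?_⟩
  obtain ⟨m, hm, hma⟩ := haM
  obtain ⟨u, hu, hue⟩ := himg a ha
  have h1 : w⁻¹ * u * w ∈ H := by
    refine ⟨h * m * h⁻¹, ⟨m, hm, rfl⟩, ?_⟩
    have e1 : h * m * h⁻¹ = k⁻¹ * (h * a * h⁻¹) * k := by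
      rw [← hma]; simp [mul_assoc]
    rw [e1]
    show mk (k⁻¹ * (h * a * h⁻¹) * k) = f (w⁻¹ * u * w)
    rw [map_mul mk, map_mul mk, map_inv mk, map_mul f, map_mul f, map_inv f, show mk k = f w from hk, ← hue]
  have hu1 := hw u hu h1
  rw [hu1, map_one] at hue
  have h2 : h * a * h⁻¹ ∈ K := (QuotientGroup.eq_one_iff _).mp hue.symm
  have h3 : a ∈ K := by
    have := hK.conj_mem _ h2 h⁻¹
    simpa [mul_assoc] using this
  exact frattini_step ⟨P, rfl⟩ hmax htop hM.1 K hKM (Subgroup.mem_inf.mpr ⟨ha, h3⟩)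

/-- Some element of order prime to `p` moves some element of `U`. -/
def Nontriv (p : ℕ) (U : Subgroup G) : Prop :=
  ∃ x : G, (orderOf x).Coprime p ∧ ∃ u ∈ U, x * u ≠ u * x

theorem fixed_of_step {x u c : G} (h1 : x * u * x⁻¹ = c * u) (h2 : x * c = c * x)
    (hx : (orderOf x).Coprime p) (hc : ∃ k : ℕ, c ^ p ^ k = 1) : c = 1 := by
  have key : ∀ n : ℕ, x ^ n * u * (x ^ n)⁻¹ = c ^ n * u := by
    intro n
    induction n with
    | zero => simp
    | succ n ih =>
      calc x ^ (n + 1) * u * (x ^ (n + 1))⁻¹ = x * (x ^ n * u * (x ^ n)⁻¹) * x⁻¹ := by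
            rw [pow_succ']; group
        _ = (x * c ^ n * x⁻¹) * (x * u * x⁻¹) := by rw [ih]; group
        _ = c ^ (n + 1) * u := by
            rw [h1, ((show Commute x c from h2).pow_right n).eq, pow_succ]; group
  have h3 := key (orderOf x)
  rw [pow_orderOf_eq_one, one_mul, inv_one, mul_one] at h3
  have h4 : c ^ orderOf x = 1 := by
    calc c ^ orderOf x = c ^ orderOf x * u * u⁻¹ := by group
      _ = 1 := by rw [← h3, mul_inv_cancel]
  obtain ⟨k, hk⟩ := hc
  exact orderOf_eq_one_iff.mp (Nat.eq_one_of_dvd_coprimes (hx.pow_right k)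
    (orderOf_dvd_of_pow_eq_one h4) (orderOf_dvd_of_pow_eq_one hk))

variable {S M T : Subgroup G}

theorem mem_of_coprime (hs : Setup p S M T) (C : Subgroup G) [C.Normal] (hC : ¬ S ⊓ C ≤ T) {x : G}
    (hx : (orderOf x).Coprime p) : x ∈ C := by
  have hnle : ¬ C ≤ M := fun h => hC (frattini_step hs.sylow hs.maximal hs.top_of hs.proper C h)
  have htop : S ⊔ C = ⊤ := hs.top_of _ le_sup_left fun hle => hnle (le_sup_right.trans hle)
  obtain ⟨s, hsS, c, hc, rfl⟩ := Subgroup.mem_sup_of_normal_right.mp (htop ▸ Subgroup.mem_top x)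
  rw [← QuotientGroup.eq_one_iff]
  show QuotientGroup.mk' C (s * c) = 1
  obtain ⟨a, ha⟩ := hs.isPGroup ⟨s, hsS⟩
  have hd1 : orderOf (QuotientGroup.mk' C (s * c)) ∣ orderOf (s * c) := orderOf_map_dvd _ _
  have hd2 : orderOf (QuotientGroup.mk' C (s * c)) ∣ p ^ a := by
    rw [map_mul, show QuotientGroup.mk' C c = 1 from (QuotientGroup.eq_one_iff c).mpr hc, mul_one]
    refine (orderOf_map_dvd _ _).trans (orderOf_dvd_of_pow_eq_one ?_)
    simpa using congrArg Subtype.val ha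
  exact orderOf_eq_one_iff.mp (Nat.eq_one_of_dvd_coprimes (hx.pow_right a) hd1 hd2)

theorem mem_center_of_fixed (hs : Setup p S M T) {y : G} (hyS : y ∈ ℭ S)
    (h : ∀ x : G, (orderOf x).Coprime p → x * y = y * x) : y ∈ Subgroup.center G := by
  have htop : Subgroup.centralizer ({y} : Set G) = ⊤ := by
    apply Solvable.Cores.eq_top_of_sylow_le
    intro q hq
    by_cases hqp : q = p
    · subst hqp
      obtain ⟨P, hP⟩ := hs.sylow
      refine ⟨P, fun s hsP => Subgroup.mem_centralizer_singleton_iff.mpr ?_⟩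
      exact Subgroup.mem_centralizer_iff.mp hyS s (hP ▸ hsP)
    · haveI := Fact.mk hq
      obtain ⟨Q⟩ : Nonempty (Sylow q G) := inferInstance
      refine ⟨Q, fun s hsQ => Subgroup.mem_centralizer_singleton_iff.mpr (h s ?_)⟩
      obtain ⟨a, ha⟩ := Q.isPGroup' ⟨s, hsQ⟩
      have : orderOf s ∣ q ^ a := orderOf_dvd_of_pow_eq_one (by simpa using congrArg Subtype.val ha)
      exact Nat.Coprime.coprime_dvd_left this
        (Nat.Coprime.pow_left a ((Nat.coprime_primes hq Fact.out).mpr hqp))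
  exact Subgroup.mem_center_iff.mpr fun g =>
    Subgroup.mem_centralizer_singleton_iff.mp (htop ▸ Subgroup.mem_top g)

/-- No over-offenders, counted with characters fixed by a Sylow subgroup. -/
theorem exists_module (hs : Setup p S M T) (V : Subgroup G) (hVn : V.Normal) (hVS : V ≤ S)
    (hVab : IsMulCommutative V) (hV : Nontriv p V) :
    ∃ W : Subgroup G, W ≤ V ∧ W.Normal ∧ S ⊓ ℭ W ≤ T ∧
      ∀ A : Subgroup G, A ≤ S → T.relIndex A * Nat.card ↥(W ⊓ ℭ A) ≤ Nat.card W := by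
  classical
  haveI := hs.normal
  obtain ⟨W, ⟨hWn, hWV, hWnt⟩, hWmin⟩ := Set.Finite.exists_minimal
    (Set.toFinite {W : Subgroup G | W.Normal ∧ W ≤ V ∧ Nontriv p W}) ⟨V, hVn, le_rfl, hV⟩
  haveI := hWn
  have hker : S ⊓ ℭ W ≤ T := by
    by_contra hc
    obtain ⟨x, hx, u, hu, hne⟩ := hWnt
    exact hne (Subgroup.mem_centralizer_iff.mp (mem_of_coprime hs (ℭ W) hc hx) u hu).symm
  refine ⟨W, hWV, hWn, hker, fun A hA => ?_⟩
  have hWp : IsPGroup p W := hs.isPGroup.to_le (hWV.trans hVS)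
  haveI := hVab
  have hcom : ∀ a b : W, a * b = b * a := fun a b => by
    apply Subtype.ext
    have := congrArg (fun t : V => (t : G)) (hVab.is_comm.comm (⟨(a : G), hWV a.2⟩ : V) ⟨(b : G), hWV b.2⟩)
    simpa using this
  letI : CommGroup W := { (inferInstance : Group W) with mul_comm := hcom }
  obtain ⟨g, hg⟩ := hs.spread
  set S' := S.map (MulAut.conj g).toMonoidHom with hS'
  haveI : NeZero (Monoid.exponent W) := ⟨Monoid.exponent_ne_zero_of_finite⟩
  -- the action on characters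
  let cj : G → (W →* W) := fun x => (MulAut.conjNormal x : W ≃* W).toMonoidHom
  have hcj : ∀ x y : G, ∀ u : W, cj (x * y) u = cj x (cj y u) := fun x y u => by
    simp [cj, map_mul]
  have hcjv : ∀ (x : G) (u : W), ((cj x u : W) : G) = x * (u : G) * x⁻¹ := fun x u => by simp [cj]
  let act : MulAction S' (W →* ℂˣ) :=
    { smul := fun s χ => χ.comp (cj (s : G)⁻¹)
      one_smul := fun χ => MonoidHom.ext fun u => by
        show χ (cj (((1 : S') : G))⁻¹ u) = χ u
        congr 1; exact Subtype.ext (by simp [hcjv])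
      mul_smul := fun s t χ => MonoidHom.ext fun u => by
        show χ (cj (((s * t : S') : G))⁻¹ u) = χ (cj (t : G)⁻¹ (cj (s : G)⁻¹ u))
        rw [← hcj]; simp }
  have hS'p : IsPGroup p S' := hs.isPGroup.map _
  have hcardchar : Nat.card (W →* ℂˣ) = Nat.card W :=
    CommGroup.card_monoidHom_of_hasEnoughRootsOfUnity W ℂ
  have hWne : W ≠ ⊥ := by
    obtain ⟨x, -, u, hu, hne⟩ := hWnt
    intro h
    rw [h, Subgroup.mem_bot] at hu
    exact hne (by rw [hu]; simp)
  haveI : Finite (W →* ℂˣ) := Nat.finite_of_card_ne_zero (by rw [hcardchar]; exact Nat.card_pos.ne')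
  have hdvd : p ∣ Nat.card (W →* ℂˣ) := by
    rw [hcardchar]
    obtain ⟨k, hk⟩ := IsPGroup.iff_card.mp hWp
    rcases k with _ | k
    · exact absurd (Subgroup.card_eq_one.mp (by simpa using hk)) hWne
    · exact hk ▸ dvd_pow_self p (Nat.succ_ne_zero k)
  obtain ⟨χ, hχ, hχ1⟩ := hS'p.exists_fixed_point_of_prime_dvd_card_of_fixed_point (W →* ℂˣ) hdvd
    (a := 1) (fun s => MonoidHom.ext fun u => rfl)
  let St : Subgroup G :=
    { carrier := {x | ∀ u : W, χ (cj x u) = χ u}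
      one_mem' := fun u => by congr 1; exact Subtype.ext (by simp [hcjv])
      mul_mem' := fun {x y} hx hy u => by rw [hcj, hx, hy]
      inv_mem' := fun {x} hx u => by
        rw [← hx (cj x⁻¹ u), ← hcj]; congr 1; exact Subtype.ext (by simp [hcjv]) }
  have hS'St : S' ≤ St := fun s hsS u => by
    have := DFunLike.congr_fun (hχ ⟨s⁻¹, inv_mem hsS⟩) u
    change χ (cj (s⁻¹)⁻¹ u) = χ u at this
    rwa [inv_inv] at this
  -- not everything fixes χ
  have hSt : St ≠ ⊤ := by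
    intro htop
    set U := (χ.ker).map W.subtype with hU
    have hUW : U ≤ W := Subgroup.map_subtype_le _
    have hUn : U.Normal := by
      refine ⟨?_⟩
      rintro _ ⟨u, hu, rfl⟩ x
      refine ⟨cj x u, ?_, hcjv x u⟩
      rw [SetLike.mem_coe, MonoidHom.mem_ker, (htop ▸ Subgroup.mem_top x : x ∈ St) u]
      exact hu
    have hUne : U ≠ W := by
      intro hUe
      apply hχ1
      refine MonoidHom.ext fun u => ?_
      obtain ⟨v, hv, hvu⟩ : (u : G) ∈ U := hUe.symm ▸ u.2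
      rw [MonoidHom.one_apply, ← (Subtype.ext hvu : v = u)]
      exact (MonoidHom.mem_ker.mp hv).symm
    obtain ⟨x, hx, u, hu, hne⟩ := hWnt
    apply hne
    have hU0 : ∀ v ∈ U, x * v = v * x := by
      intro v hv
      by_contra hne'
      exact hUne (le_antisymm hUW (hWmin ⟨hUn, hUW.trans hWV, x, hx, v, hv, hne'⟩ hUW))
    set c := x * u * x⁻¹ * u⁻¹ with hc
    have hcU : c ∈ U := by
      refine ⟨cj x ⟨u, hu⟩ * (⟨u, hu⟩ : W)⁻¹, ?_, ?_⟩
      · rw [SetLike.mem_coe, MonoidHom.mem_ker, map_mul, map_inv,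
          (htop ▸ Subgroup.mem_top x : x ∈ St) ⟨u, hu⟩, mul_inv_cancel]
      · simp [hcjv, hc]
    obtain ⟨k, hk⟩ := hWp ⟨c, hUW hcU⟩
    have h1 := fixed_of_step (u := u) (c := c) (by rw [hc]; group) (hU0 c hcU) hx
      ⟨k, by simpa using congrArg Subtype.val hk⟩
    calc x * u = c * (u * x) := by rw [hc]; group
      _ = u * x := by rw [h1, one_mul]
  have hkey : ∀ a ∈ S, a ∈ St → a ∈ T := by
    intro a haS haSt
    by_contra haT
    apply hSt
    have h1 : S ≤ St.comap (MulAut.conj g).toMonoidHom := fun s hsS => hS'St ⟨s, hsS, rfl⟩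
    have h2 : ¬ St.comap (MulAut.conj g).toMonoidHom ≤ M := by
      intro hle
      apply haT (hg a haS ?_)
      refine ⟨g⁻¹ * a * g, hle ?_, by simp [mul_assoc]⟩
      show g * (g⁻¹ * a * g) * g⁻¹ ∈ St
      simpa [mul_assoc] using haSt
    have h3 := hs.top_of _ h1 h2
    rw [eq_top_iff]
    intro x _
    have : g⁻¹ * x * g ∈ St.comap (MulAut.conj g).toMonoidHom := h3 ▸ Subgroup.mem_top _
    simpa [mul_assoc] using Subgroup.mem_comap.mp this
  -- the injection
  set D : Subgroup W := (W ⊓ ℭ A).subgroupOf W with hD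
  have hψ : ∀ a : A, D ≤ ((χ.comp (cj (a : G))) * χ⁻¹).ker := by
    intro a u hu
    have hu' := (Subgroup.mem_inf.mp (Subgroup.mem_subgroupOf.mp hu)).2
    have he : cj (a : G) u = u := Subtype.ext (by
      rw [hcjv, Subgroup.mem_centralizer_iff.mp hu' a a.2, mul_inv_cancel_right])
    rw [MonoidHom.mem_ker, MonoidHom.mul_apply, MonoidHom.comp_apply, he, MonoidHom.inv_apply,
      mul_inv_cancel]
  let Ψ : A → ((W ⧸ D) →* ℂˣ) := fun a => QuotientGroup.lift D _ (hψ a)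
  have hΨ : ∀ a b : A, (a : G)⁻¹ * (b : G) ∈ T → Ψ a = Ψ b → True := fun _ _ _ _ => trivial
  let R : Subgroup A := T.subgroupOf A
  have hinj : ∀ a b : A, Ψ a = Ψ b → ((a : G) * (b : G)⁻¹) ∈ T := by
    intro a b hab
    refine hkey _ (mul_mem (hA a.2) (inv_mem (hA b.2))) fun u => ?_
    have h1 := DFunLike.congr_fun hab (QuotientGroup.mk (cj (b : G)⁻¹ u))
    simp only [Ψ, QuotientGroup.lift_mk, MonoidHom.mul_apply, MonoidHom.comp_apply] at h1
    have h2 := mul_right_cancel h1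
    rw [← hcj, ← hcj, mul_inv_cancel] at h2
    rw [h2]; congr 1; exact Subtype.ext (by simp [hcjv])
  have hle : T.relIndex A ≤ Nat.card (W ⧸ D) := by
    haveI : NeZero (Monoid.exponent (W ⧸ D)) := ⟨Monoid.exponent_ne_zero_of_finite⟩
    rw [← CommGroup.card_monoidHom_of_hasEnoughRootsOfUnity (W ⧸ D) ℂ]
    haveI : Finite ((W ⧸ D) →* ℂˣ) := Nat.finite_of_card_ne_zero (by
      rw [CommGroup.card_monoidHom_of_hasEnoughRootsOfUnity (W ⧸ D) ℂ]; exact Nat.card_pos.ne')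
    have hrel : T.relIndex A = Nat.card (A ⧸ R) := rfl
    rw [hrel]
    refine Nat.card_le_card_of_injective (fun q : A ⧸ R => Ψ q.out) ?_
    intro q q' hqq
    have h1 := hinj _ _ hqq
    rw [← QuotientGroup.out_eq' q, ← QuotientGroup.out_eq' q', QuotientGroup.eq]
    show ((q.out : A) : G)⁻¹ * ((q'.out : A) : G) ∈ T
    have h2 := hs.normal.conj_mem _ (inv_mem h1) ((q.out : A) : G)⁻¹
    simpa [mul_assoc] using h2
  calc T.relIndex A * Nat.card ↥(W ⊓ ℭ A) ≤ Nat.card (W ⧸ D) * Nat.card ↥(W ⊓ ℭ A) :=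
        Nat.mul_le_mul_right _ hle
    _ = Nat.card W := by
        rw [Subgroup.card_eq_card_quotient_mul_card_subgroup D, hD,
          Nat.card_congr (Subgroup.subgroupOfEquivOfLe (inf_le_left : W ⊓ ℭ A ≤ W)).toEquiv]

/-- The elementary module attached to a non-central element of `Z(S)` with central `p`-th power. -/
theorem closure_module (hs : Setup p S M T) {y : G} (hyS : y ∈ S) (hyc : y ∈ ℭ S)
    (hyp : y ^ p ∈ Subgroup.center G) (hy : y ∉ Subgroup.center G) :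
    ∃ V : Subgroup G, V.Normal ∧ V ≤ S ∧ T ≤ ℭ V ∧ V ≤ T ∧ IsMulCommutative V ∧
      (∀ v ∈ V, v ^ p = 1) ∧ Nontriv p V ∧
      ∀ X : Subgroup G, X.Normal → y ∈ X → V ≤ X := by
  classical
  set V := Subgroup.closure (Set.range fun g : G => g * y * g⁻¹ * y⁻¹) with hV
  have hyT : y ∈ ℭ T := Subgroup.centralizer_le hs.le hyc
  haveI := hs.normal
  have hgen : ∀ g : G, g * y * g⁻¹ * y⁻¹ ∈ V := fun g => Subgroup.subset_closure ⟨g, rfl⟩
  have hnX : ∀ X : Subgroup G, X.Normal → y ∈ X → V ≤ X := by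
    intro X hX hyX
    rw [hV, Subgroup.closure_le]
    rintro _ ⟨g, rfl⟩
    exact mul_mem (hX.conj_mem y hyX g) (inv_mem hyX)
  have hVc : V ≤ ℭ T := hnX _ inferInstance hyT
  have hVT : V ≤ T := hVc.trans hs.cent
  have hab : IsMulCommutative V := Subgroup.le_centralizer_iff_isMulCommutative.mp
    (hVc.trans (Subgroup.centralizer_le hVT))
  have hVn : V.Normal := by
    refine ⟨fun v hv h => ?_⟩
    rw [hV] at hv
    induction hv using Subgroup.closure_induction with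
    | mem v hv =>
      obtain ⟨g, rfl⟩ := hv
      have e : h * (g * y * g⁻¹ * y⁻¹) * h⁻¹ =
          (h * g * y * (h * g)⁻¹ * y⁻¹) * (h * y * h⁻¹ * y⁻¹)⁻¹ := by group
      rw [e]; exact mul_mem (hgen _) (inv_mem (hgen _))
    | one => simp
    | mul a b _ _ ha hb =>
      rw [show h * (a * b) * h⁻¹ = (h * a * h⁻¹) * (h * b * h⁻¹) by group]; exact mul_mem ha hb
    | inv a _ ha => rw [show h * a⁻¹ * h⁻¹ = (h * a * h⁻¹)⁻¹ by group]; exact inv_mem ha
  refine ⟨V, hVn, hVT.trans hs.le, le_centralizer_comm hVc, hVT, hab, ?_, ?_, hnX⟩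
  · intro v hv
    rw [hV] at hv
    haveI := hab
    induction hv using Subgroup.closure_induction with
    | mem v hv =>
      obtain ⟨g, rfl⟩ := hv
      have hgy : g * y * g⁻¹ ∈ ℭ T :=
        (inferInstance : (ℭ T).Normal).conj_mem y hyT g
      have hyT' : y ∈ T := hs.cent hyT
      have hc : Commute (g * y * g⁻¹) y⁻¹ :=
        (show Commute (g * y * g⁻¹) y from (Subgroup.mem_centralizer_iff.mp hgy y hyT').symm).inv_right
      rw [hc.mul_pow, conj_pow, inv_pow, Subgroup.mem_center_iff.mp hyp g]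
      group
    | one => simp
    | mul a b ha hb iha ihb =>
      have hc : Commute a b := congrArg Subtype.val (mul_comm' (⟨a, ha⟩ : V) ⟨b, hb⟩)
      rw [hc.mul_pow, iha, ihb, one_mul]
    | inv a _ ha => rw [inv_pow, ha, inv_one]
  · by_contra hnt
    apply hy
    refine mem_center_of_fixed hs hyc fun x hx => ?_
    set c := x * y * x⁻¹ * y⁻¹ with hc
    have hcV : c ∈ V := hgen x
    have h2 : x * c = c * x := by
      by_contra hne; exact hnt ⟨x, hx, c, hcV, hne⟩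
    obtain ⟨k, hk⟩ := (hs.isPGroup.to_le (hVT.trans hs.le)) ⟨c, hcV⟩
    have h1 := fixed_of_step (u := y) (c := c) (by rw [hc]; group) h2 hx
      ⟨k, by simpa using congrArg Subtype.val hk⟩
    calc x * y = c * (y * x) := by rw [hc]; group
      _ = y * x := by rw [h1, one_mul]

theorem exists_pow_central {Y : Subgroup G} (hY : IsPGroup p Y) {y : G} (hyY : y ∈ Y)
    (hy : y ∉ Subgroup.center G) : ∃ z ∈ Y, z ∉ Subgroup.center G ∧ z ^ p ∈ Subgroup.center G := by
  classical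
  obtain ⟨k, hk⟩ := hY ⟨y, hyY⟩
  have hk' : y ^ p ^ k = 1 := by simpa using congrArg Subtype.val hk
  have hex : ∃ j, y ^ p ^ j ∈ Subgroup.center G := ⟨k, hk' ▸ one_mem _⟩
  obtain ⟨j, hj⟩ : ∃ j, Nat.find hex = j + 1 :=
    Nat.exists_eq_succ_of_ne_zero fun h0 => hy (by simpa [h0] using Nat.find_spec hex)
  refine ⟨y ^ p ^ j, pow_mem hyY _, Nat.find_min hex (by omega), ?_⟩
  rw [← pow_mul, ← pow_succ, ← hj]
  exact Nat.find_spec hex

section Internal

variable {P : Type*} [Group P] [Finite P]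

/-- The measure step: a module inside a normal subgroup moves a minimal centrally large subgroup into it. -/
theorem mcl_step {Q T W : Subgroup P} (hQ : MCL Q) (hWab : IsMulCommutative W) (hWT : W ≤ T)
    (hTW : T ≤ ℭ W) (hb : ∀ A : Subgroup P, T.relIndex A * Nat.card ↥(W ⊓ ℭ A) ≤ Nat.card W) :
    MCL ((Q ⊓ T) ⊔ W) ∧ ℭ ((Q ⊓ T) ⊔ W) = (ℭ Q ⊓ T) ⊔ W ∧
      T.relIndex Q = T.relIndex (ℭ Q) ∧
      T.relIndex Q * Nat.card ↥(W ⊓ ℭ Q) = Nat.card W ∧ W ⊓ Q = W ⊓ ℭ Q := by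
  set Q1 := (Q ⊓ T) ⊔ W with hQ1
  set Z1 := (ℭ Q ⊓ T) ⊔ W with hZ1
  have hZ1c : Z1 ≤ ℭ Q1 := by
    rw [hQ1, centralizer_sup, hZ1]
    refine sup_le (le_inf ?_ (inf_le_right.trans hTW)) (le_inf ?_ (abelian_le hWab))
    · exact inf_le_left.trans (Subgroup.centralizer_le inf_le_left)
    · exact (le_centralizer_comm hTW).trans (Subgroup.centralizer_le inf_le_right)
  set a := T.relIndex Q
  set b := T.relIndex (ℭ Q)
  have e1 : Nat.card Q = Nat.card ↥(Q ⊓ T) * a := by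
    rw [inf_comm]; exact card_eq_inf_mul_relIndex T Q
  have e2 : Nat.card ↥(ℭ Q) = Nat.card ↥(ℭ Q ⊓ T) * b := by
    rw [inf_comm]; exact card_eq_inf_mul_relIndex T (ℭ Q)
  have e3 : a * Nat.card ↥(W ⊓ ℭ Q) ≤ Nat.card W := hb Q
  have e4 : b * Nat.card ↥(W ⊓ Q) ≤ Nat.card W := by
    have := hb (ℭ Q)
    rwa [hQ.1.double_centralizer] at this
  have e5 : Nat.card ↥(Q ⊓ T) * Nat.card W ≤ Nat.card Q1 * Nat.card ↥(W ⊓ Q) :=
    (card_mul_card_le _ _).trans (Nat.mul_le_mul_left _ (Subgroup.card_le_of_le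
      (le_inf inf_le_right (inf_le_left.trans inf_le_left))))
  have e6 : Nat.card ↥(ℭ Q ⊓ T) * Nat.card W ≤ Nat.card Z1 * Nat.card ↥(W ⊓ ℭ Q) :=
    (card_mul_card_le _ _).trans (Nat.mul_le_mul_left _ (Subgroup.card_le_of_le
      (le_inf inf_le_right (inf_le_left.trans inf_le_left))))
  have e7 : Nat.card Q1 * Nat.card Z1 ≤ Nat.card Q * Nat.card ↥(ℭ Q) :=
    (Nat.mul_le_mul_left _ (Subgroup.card_le_of_le hZ1c)).trans (hQ.1 Q1)
  set q := Nat.card Q
  set z := Nat.card ↥(ℭ Q)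
  set qt := Nat.card ↥(Q ⊓ T)
  set zt := Nat.card ↥(ℭ Q ⊓ T)
  set w := Nat.card W
  set wq := Nat.card ↥(W ⊓ Q)
  set wz := Nat.card ↥(W ⊓ ℭ Q)
  set q1 := Nat.card Q1
  set z1 := Nat.card Z1
  have hqt : 0 < qt := Nat.card_pos
  have hzt : 0 < zt := Nat.card_pos
  have hw : 0 < w := Nat.card_pos
  have hwq : 0 < wq := Nat.card_pos
  have hwz : 0 < wz := Nat.card_pos
  have ha : 0 < a := Nat.pos_of_ne_zero Subgroup.index_ne_zero_of_finite
  have hbpos : 0 < b := Nat.pos_of_ne_zero Subgroup.index_ne_zero_of_finite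
  have c1 : (qt * w) * (zt * w) ≤ (q1 * z1) * (wq * wz) := by
    calc _ ≤ (q1 * wq) * (z1 * wz) := Nat.mul_le_mul e5 e6
      _ = _ := by ring
  have c2 : (q1 * z1) * (wq * wz) ≤ (q * z) * (wq * wz) := Nat.mul_le_mul_right _ e7
  have c3 : (q * z) * (wq * wz) = (qt * zt) * ((a * wz) * (b * wq)) := by rw [e1, e2]; ring
  have c4 : (qt * zt) * ((a * wz) * (b * wq)) ≤ (qt * w) * (zt * w) := by
    calc _ ≤ (qt * zt) * (w * w) := Nat.mul_le_mul_left _ (Nat.mul_le_mul e3 e4)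
      _ = _ := by ring
  have d1 : q1 * z1 = q * z := Nat.eq_of_mul_eq_mul_right (Nat.mul_pos hwq hwz)
    (le_antisymm c2 ((c3.le.trans c4).trans c1))
  have d2 : (a * wz) * (b * wq) = w * w := by
    apply Nat.eq_of_mul_eq_mul_left (Nat.mul_pos hqt hzt)
    refine le_antisymm (Nat.mul_le_mul_left _ (Nat.mul_le_mul e3 e4)) ?_
    calc qt * zt * (w * w) = (qt * w) * (zt * w) := by ring
      _ ≤ (q * z) * (wq * wz) := c1.trans c2
      _ = _ := c3
  have d3 : a * wz = w := by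
    by_contra hne
    exact absurd d2 (ne_of_lt (Nat.mul_lt_mul_of_lt_of_le (lt_of_le_of_ne e3 hne) e4 hw))
  have d4 : b * wq = w := Nat.eq_of_mul_eq_mul_left hw (by
    calc w * (b * wq) = (a * wz) * (b * wq) := by rw [d3]
      _ = w * w := d2)
  have hmax : IsMaxCD Q1 := hQ.1.of_le (by
    calc cd Q = q1 * z1 := d1.symm
      _ ≤ _ := Nat.mul_le_mul_left _ (Subgroup.card_le_of_le hZ1c))
  have hc : ℭ Q1 = Z1 := by
    refine (Subgroup.eq_of_le_of_card_ge hZ1c ?_).symm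
    have h : q1 * Nat.card ↥(ℭ Q1) = q * z := hmax.eq hQ.1
    exact le_of_eq (Nat.eq_of_mul_eq_mul_left Nat.card_pos (h.trans d1.symm))
  have hcl : ℭ Q1 ≤ Q1 := by
    rw [hc]; exact sup_le ((inf_le_inf_right _ hQ.2.1).trans le_sup_left) le_sup_right
  have hwle : wz ≤ wq := Subgroup.card_le_of_le (inf_le_inf_left _ hQ.2.1)
  have hba : b ≤ a := by
    by_contra hlt
    have := Nat.mul_lt_mul_of_lt_of_le (not_le.mp hlt) hwle hwq
    omega
  obtain ⟨R, hR, hRmcl⟩ := exists_mcl_le hmax hcl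
  have hq1 : q ≤ q1 := by
    rw [show q = Nat.card R from (hQ.card_eq hRmcl).1]; exact Subgroup.card_le_of_le hR
  have hab : a = b := by
    refine le_antisymm ?_ hba
    -- `q1 = qt * b`
    have f1 : q1 * wq = qt * w := by
      refine le_antisymm ?_ e5
      by_contra hlt
      have := Nat.mul_lt_mul_of_lt_of_le (not_le.mp hlt) e6 (Nat.mul_pos Nat.card_pos hwz)
      have f2 : (qt * w) * (zt * w) = (q1 * wq) * (z1 * wz) := by
        refine le_antisymm (Nat.mul_le_mul e5 e6) ?_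
        calc (q1 * wq) * (z1 * wz) = (q1 * z1) * (wq * wz) := by ring
          _ ≤ _ := c2
          _ = _ := c3
          _ ≤ _ := c4
      omega
    have f3 : q1 = qt * b := Nat.eq_of_mul_eq_mul_right hwq (by rw [f1, ← d4]; ring)
    exact Nat.le_of_mul_le_mul_left (by rw [← e1, ← f3]; exact hq1) hqt
  refine ⟨⟨hmax, hcl, fun R' hR' h1 h2 => Subgroup.eq_of_le_of_card_ge hR' ?_⟩, hc, hab, d3, ?_⟩
  · obtain ⟨R'', hR'', hm''⟩ := exists_mcl_le h1 h2
    have f4 : q1 ≤ q := by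
      have h5 : b * wq = b * wz := by rw [d4, ← hab, d3]
      have h6 := Nat.eq_of_mul_eq_mul_left hbpos h5
      have : q1 * wq = q * wq := by
        refine le_antisymm ?_ (Nat.mul_le_mul_right _ hq1)
        by_contra hlt
        have h7 := Nat.mul_lt_mul_of_lt_of_le (not_le.mp hlt) e6 (Nat.mul_pos Nat.card_pos hwz)
        have h8 : (q * wq) * (zt * w) = (q * z) * (wq * wz) := by rw [e2, ← d4, h6]; ring
        have h9 : (q1 * wq) * (z1 * wz) = (q1 * z1) * (wq * wz) := by ring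
        rw [h8, h9, d1] at h7
        exact lt_irrefl _ h7
      exact le_of_eq (Nat.eq_of_mul_eq_mul_right hwq this)
    calc q1 ≤ q := f4
      _ = Nat.card R'' := (hQ.card_eq hm'').1
      _ ≤ _ := Subgroup.card_le_of_le hR''
  · refine (Subgroup.eq_of_le_of_card_ge (inf_le_inf_left _ hQ.2.1) ?_).symm
    exact le_of_eq (Nat.eq_of_mul_eq_mul_left hbpos (by rw [d4, ← hab, d3]))

theorem mem_omegaOne {H : Subgroup P} (hH : IsMulCommutative H) {x : P} :
    x ∈ Cfsg.omegaOne p H ↔ x ∈ H ∧ x ^ p = 1 := by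
  refine ⟨fun hx => ?_, fun hx => Subgroup.subset_closure hx⟩
  induction hx using Subgroup.closure_induction with
  | mem y hy => exact hy
  | one => exact ⟨one_mem _, one_pow p⟩
  | mul a b _ _ ha hb =>
    have hc : Commute a b := congrArg Subtype.val (hH.is_comm.comm ⟨a, ha.1⟩ ⟨b, hb.1⟩)
    exact ⟨mul_mem ha.1 hb.1, by rw [hc.mul_pow, ha.2, hb.2, one_mul]⟩
  | inv a _ ha => exact ⟨inv_mem ha.1, by rw [inv_pow, ha.2, inv_one]⟩

theorem omegaOneCenter_eq {Q : Subgroup P} (hQ : ℭ Q ≤ Q) :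
    Cfsg.omegaOneCenter p Q = Cfsg.omegaOne p (ℭ Q) := by
  rw [Cfsg.omegaOneCenter, inf_eq_right.mpr hQ]

theorem center_abelian {Q : Subgroup P} (hQ : ℭ Q ≤ Q) : IsMulCommutative ↥(ℭ Q) :=
  Subgroup.le_centralizer_iff_isMulCommutative.mp (hQ.trans (le_centralizer_comm le_rfl))

/-- `Q` has the largest `Ω₁` of the centre among minimal centrally large subgroups. -/
def IsMaxOmega (p : ℕ) (Q : Subgroup P) : Prop :=
  MCL Q ∧ ∀ R : Subgroup P, MCL R →
    Nat.card ↥(Cfsg.omegaOne p (ℭ R)) ≤ Nat.card ↥(Cfsg.omegaOne p (ℭ Q))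

theorem frattiniJoin_eq :
    Cfsg.frattiniOfMinimalCLJoin p P = ⨆ Q : {Q : Subgroup P // IsMaxOmega p Q}, HSubgroup.phi Q.1 := by
  have hb : BddAbove {k : ℕ | ∃ Q : Subgroup P, Cfsg.IsMinimalCentrallyLarge Q ∧
      Nat.card ↥(Cfsg.omegaOneCenter p Q) = k} :=
    ((Set.finite_range fun Q : Subgroup P => Nat.card ↥(Cfsg.omegaOneCenter p Q)).subset
      (by rintro _ ⟨Q, -, rfl⟩; exact ⟨Q, rfl⟩)).bddAbove
  have hiff : ∀ Q : Subgroup P, (Cfsg.IsMinimalCentrallyLarge Q ∧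
      Nat.card ↥(Cfsg.omegaOneCenter p Q) = Cfsg.maxOmegaCenterOfMinimalCL p P) ↔ IsMaxOmega p Q := by
    intro Q
    unfold Cfsg.maxOmegaCenterOfMinimalCL IsMaxOmega
    constructor
    · rintro ⟨h1, h2⟩
      have h1' := (mcl_iff Q).mp h1
      refine ⟨h1', fun R hR => ?_⟩
      rw [← omegaOneCenter_eq h1'.2.1, ← omegaOneCenter_eq hR.2.1, h2]
      exact le_csSup hb ⟨R, (mcl_iff R).mpr hR, rfl⟩
    · rintro ⟨h1, h2⟩
      refine ⟨(mcl_iff Q).mpr h1, le_antisymm (le_csSup hb ⟨Q, (mcl_iff Q).mpr h1, rfl⟩)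
        (csSup_le ⟨_, Q, (mcl_iff Q).mpr h1, rfl⟩ ?_)⟩
      rintro _ ⟨R, hR, rfl⟩
      have hR' := (mcl_iff R).mp hR
      rw [omegaOneCenter_eq h1.2.1, omegaOneCenter_eq hR'.2.1]
      exact h2 R hR'
  unfold Cfsg.frattiniOfMinimalCLJoin
  apply le_antisymm
  · exact iSup_le fun Q => le_iSup_of_le ⟨Q.1, (hiff Q.1).mp Q.2⟩ le_rfl
  · exact iSup_le fun Q => le_iSup_of_le ⟨Q.1, (hiff Q.1).mpr Q.2⟩ le_rfl

theorem exists_maxOmega : ∃ Q : Subgroup P, IsMaxOmega p Q := by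
  obtain ⟨Q₀, h₀⟩ := exists_mcl (G := P)
  obtain ⟨⟨Q, hQ⟩, hmax⟩ := @Finite.exists_max {Q : Subgroup P // MCL Q} _ _ ⟨⟨Q₀, h₀⟩⟩ _
    (fun Q => Nat.card ↥(Cfsg.omegaOne p (ℭ Q.1)))
  exact ⟨Q, hQ, fun R hR => hmax ⟨R, hR⟩⟩

theorem phi_le_of {R N : Subgroup P} (hR : IsPGroup p R) (hpow : ∀ x ∈ R, x ^ p ∈ N)
    (hcomm : ∀ x ∈ R, ∀ y ∈ R, ⁅x, y⁆ ∈ N) : HSubgroup.phi R ≤ N := by
  rintro _ ⟨z, hz, rfl⟩
  by_contra hzN
  obtain ⟨H, ⟨hNH, hzH⟩, hmax⟩ := Set.Finite.exists_maximal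
    (Set.toFinite {H : Subgroup R | N.subgroupOf R ≤ H ∧ z ∉ H})
    ⟨N.subgroupOf R, le_rfl, fun h => hzN (Subgroup.mem_subgroupOf.mp h)⟩
  have hcH : ∀ x y : R, ⁅x, y⁆ ∈ H := fun x y => hNH (Subgroup.mem_subgroupOf.mpr (by
    simpa [commutatorElement_def] using hcomm x x.2 y y.2))
  haveI : H.Normal := ⟨fun h hh g => by
    have : g * h * g⁻¹ = ⁅g, h⁆ * h := by rw [commutatorElement_def]; group
    rw [this]; exact mul_mem (hcH g h) hh⟩
  have htop : H ⊔ Subgroup.zpowers z = ⊤ := by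
    rw [eq_top_iff]
    intro y _
    by_contra hy
    have hle : H ≤ H ⊔ Subgroup.zpowers y := le_sup_left
    have hzy : z ∈ H ⊔ Subgroup.zpowers y := by
      by_contra hz'
      have := hmax ⟨hNH.trans hle, hz'⟩ hle
      exact hy (Subgroup.mem_sup_left (this (Subgroup.mem_sup_right (Subgroup.mem_zpowers y))))
    obtain ⟨h, hh, v, hv, hzeq⟩ := Subgroup.mem_sup_of_normal_left.mp hzy
    obtain ⟨i, rfl⟩ := Subgroup.mem_zpowers_iff.mp hv
    have hyp : y ^ (p : ℤ) ∈ H := hNH (Subgroup.mem_subgroupOf.mpr (by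
      simpa using hpow y y.2))
    by_cases hi : (p : ℤ) ∣ i
    · obtain ⟨j, rfl⟩ := hi
      apply hzH
      rw [← hzeq, zpow_mul]
      exact mul_mem hh (zpow_mem hyp j)
    · obtain ⟨u, v', huv⟩ := ((Nat.prime_iff_prime_int.mp (Fact.out : p.Prime)).coprime_iff_not_dvd.mpr hi)
      apply hy
      have h1 : y ^ i ∈ H ⊔ Subgroup.zpowers z := by
        have : y ^ i = h⁻¹ * z := by rw [← hzeq, inv_mul_cancel_left]
        rw [this]
        exact mul_mem (Subgroup.mem_sup_left (inv_mem hh)) (Subgroup.mem_sup_right (Subgroup.mem_zpowers z))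
      have h2 : y = (y ^ (p : ℤ)) ^ u * (y ^ i) ^ v' := by
        rw [← zpow_mul, ← zpow_mul, ← zpow_add, mul_comm _ u, mul_comm _ v', huv, zpow_one]
      rw [h2]
      exact mul_mem (zpow_mem (Subgroup.mem_sup_left hyp) u) (zpow_mem h1 v')
  have hco : IsCoatom H := by
    refine ⟨fun h => hzH (h ▸ Subgroup.mem_top z), fun K hK => ?_⟩
    have hzK : z ∈ K := by
      by_contra hz'
      exact hK.not_ge (hmax ⟨hNH.trans hK.le, hz'⟩ hK.le)
    rw [eq_top_iff, ← htop]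
    exact sup_le hK.le (Subgroup.zpowers_le.mpr hzK)
  exact hzH (frattini_le_coatom hco hz)

theorem phi_sup_central {X E Q : Subgroup P} (hQp : IsPGroup p Q) (h : X ⊔ E = Q)
    (hE : E ≤ ℭ Q) (hEp : ∀ e ∈ E, e ^ p = 1) : HSubgroup.phi Q = HSubgroup.phi X := by
  have hX : X ≤ Q := h ▸ le_sup_left
  apply le_antisymm
  · have hn : E ≤ Subgroup.normalizer (X : Set P) :=
      (hE.trans (Subgroup.centralizer_le hX)).trans (Subgroup.centralizer_le_normalizer _)
    have hdec : ∀ q ∈ Q, ∃ x ∈ X, ∃ e ∈ E, q = x * e := by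
      intro q hq
      rw [← h, ← SetLike.mem_coe, set_mul_of_normalizer hn] at hq
      obtain ⟨x, hx, e, he, rfl⟩ := Set.mem_mul.mp hq
      exact ⟨x, hx, e, he, rfl⟩
    have hXp : IsPGroup p X := hQp.to_le hX
    refine phi_le_of hQp ?_ ?_
    · intro q hq
      obtain ⟨x, hx, e, he, rfl⟩ := hdec q hq
      have hc : Commute x e := Subgroup.mem_centralizer_iff.mp (hE he) x (hX hx)
      rw [hc.mul_pow, hEp e he, mul_one]
      exact HSubgroup.pow_mem_phi hXp hx
    · intro q hq r hr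
      obtain ⟨x, hx, e, he, rfl⟩ := hdec q hq
      obtain ⟨y, hy, f, hf, rfl⟩ := hdec r hr
      have hec : ∀ t ∈ Q, e * t = t * e := fun t ht => (Subgroup.mem_centralizer_iff.mp (hE he) t ht).symm
      have hfc : ∀ t ∈ Q, f * t = t * f := fun t ht => (Subgroup.mem_centralizer_iff.mp (hE hf) t ht).symm
      have e1 : ⁅x * e, y * f⁆ = ⁅x, y⁆ := by
        rw [commutatorElement_def, commutatorElement_def]
        calc x * e * (y * f) * (x * e)⁻¹ * (y * f)⁻¹
            = x * (e * (y * f)) * e⁻¹ * x⁻¹ * f⁻¹ * y⁻¹ := by group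
          _ = x * ((y * f) * e) * e⁻¹ * x⁻¹ * f⁻¹ * y⁻¹ := by rw [hec _ hr]
          _ = x * y * (f * x⁻¹) * f⁻¹ * y⁻¹ := by group
          _ = x * y * (x⁻¹ * f) * f⁻¹ * y⁻¹ := by rw [hfc _ (inv_mem (hX hx))]
          _ = _ := by group
      rw [e1]; exact HSubgroup.comm_mem_phi hXp hx hy
  · exact phi_le_of (hQp.to_le hX) (fun x hx => HSubgroup.pow_mem_phi hQp (hX hx))
      (fun x hx y hy => HSubgroup.comm_mem_phi hQp (hX hx) (hX hy))

/-- The refinement of `mcl_step` for the largest `Ω₁` of the centre. -/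
theorem maxOmega_step {Q T W : Subgroup P} (hQ : IsMaxOmega p Q) (hQp : IsPGroup p P)
    (hWab : IsMulCommutative W) (hWp : ∀ w ∈ W, w ^ p = 1) (hWT : W ≤ T) (hTW : T ≤ ℭ W)
    (hb : ∀ A : Subgroup P, T.relIndex A * Nat.card ↥(W ⊓ ℭ A) ≤ Nat.card W) :
    IsMaxOmega p ((Q ⊓ T) ⊔ W) ∧ HSubgroup.phi Q = HSubgroup.phi ((Q ⊓ T) ⊔ W) := by
  obtain ⟨hm, hc, hab, hd, -⟩ := mcl_step hQ.1 hWab hWT hTW hb
  have hab' := center_abelian hQ.1.2.1
  set O := Cfsg.omegaOne p (ℭ Q) with hO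
  set Q1 := (Q ⊓ T) ⊔ W with hQ1
  set O1 := Cfsg.omegaOne p (ℭ Q1) with hO1
  have hOZ : O ≤ ℭ Q := fun x hx => ((mem_omegaOne hab').mp hx).1
  have h1 : (O ⊓ T) ⊔ W ≤ O1 := by
    have hab1 := center_abelian hm.2.1
    refine sup_le (fun x hx => ?_) (fun x hx => ?_)
    · obtain ⟨hx1, hx2⟩ := Subgroup.mem_inf.mp hx
      refine (mem_omegaOne hab1).mpr ⟨?_, ((mem_omegaOne hab').mp hx1).2⟩
      rw [hc]; exact Subgroup.mem_sup_left (Subgroup.mem_inf.mpr ⟨hOZ hx1, hx2⟩)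
    · refine (mem_omegaOne hab1).mpr ⟨?_, hWp x hx⟩
      rw [hc]; exact Subgroup.mem_sup_right hx
  have e1 : Nat.card O = Nat.card ↥(O ⊓ T) * T.relIndex O := by
    rw [inf_comm]; exact card_eq_inf_mul_relIndex T O
  have e2 : Nat.card ↥(O ⊓ T) * Nat.card W ≤ Nat.card O1 * Nat.card ↥(W ⊓ ℭ Q) :=
    (card_mul_card_le _ _).trans (Nat.mul_le_mul (Subgroup.card_le_of_le h1) (Subgroup.card_le_of_le
      (le_inf inf_le_right (inf_le_left.trans (inf_le_left.trans hOZ)))))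
  rw [← hd, ← mul_assoc] at e2
  have e3 : Nat.card ↥(O ⊓ T) * T.relIndex Q ≤ Nat.card O1 := Nat.le_of_mul_le_mul_right e2 Nat.card_pos
  have e4 : T.relIndex O ≤ T.relIndex (ℭ Q) :=
    Subgroup.relIndex_le_of_le_right hOZ Subgroup.index_ne_zero_of_finite
  have e5 : Nat.card O1 ≤ Nat.card O := hQ.2 Q1 hm
  have e6 : T.relIndex O = T.relIndex Q := by
    refine le_antisymm (hab ▸ e4) (Nat.le_of_mul_le_mul_left (e3.trans (e5.trans e1.le)) Nat.card_pos)
  refine ⟨⟨hm, fun R hR => (hQ.2 R hR).trans ?_⟩, ?_⟩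
  · rw [e1, e6]; exact e3
  have hQT : (Q ⊓ T) ⊔ O = Q := by
    refine Subgroup.eq_of_le_of_card_ge (sup_le inf_le_left (hOZ.trans hQ.1.2.1)) ?_
    have h2 := card_mul_card_le (Q ⊓ T) O
    have h3 : Nat.card ↥(Q ⊓ T ⊓ O) ≤ Nat.card ↥(O ⊓ T) :=
      Subgroup.card_le_of_le (le_inf inf_le_right (inf_le_left.trans inf_le_right))
    have h4 : Nat.card Q = Nat.card ↥(Q ⊓ T) * T.relIndex Q := by
      rw [inf_comm]; exact card_eq_inf_mul_relIndex T Q
    refine Nat.le_of_mul_le_mul_right (le_trans ?_ (h2.trans (Nat.mul_le_mul_left _ h3))) Nat.card_pos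
    exact le_of_eq (by rw [h4, e1, e6]; ring)
  rw [phi_sup_central (X := Q ⊓ T) (E := O) (hQp.to_subgroup Q) hQT hOZ
      fun e he => ((mem_omegaOne hab').mp he).2]
  refine (phi_sup_central (X := Q ⊓ T) (E := W) (hQp.to_subgroup _) rfl ?_ hWp).symm
  rw [hc]; exact le_sup_right

theorem phi_map {P' : Type*} [Group P'] [Finite P'] (f : P →* P') {R : Subgroup P} (hR : IsPGroup p R) :
    HSubgroup.phi (R.map f) = (HSubgroup.phi R).map f := by
  apply le_antisymm
  · refine phi_le_of (hR.map f) ?_ ?_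
    · rintro _ ⟨x, hx, rfl⟩
      exact ⟨x ^ p, HSubgroup.pow_mem_phi hR hx, map_pow f x p⟩
    · rintro _ ⟨x, hx, rfl⟩ _ ⟨y, hy, rfl⟩
      exact ⟨⁅x, y⁆, HSubgroup.comm_mem_phi hR hx hy, map_commutatorElement f x y⟩
  · rw [Subgroup.map_le_iff_le_comap]
    refine phi_le_of hR ?_ ?_
    · intro x hx
      rw [Subgroup.mem_comap, map_pow]
      exact HSubgroup.pow_mem_phi (hR.map f) ⟨x, hx, rfl⟩
    · intro x hx y hy
      rw [Subgroup.mem_comap, map_commutatorElement]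
      exact HSubgroup.comm_mem_phi (hR.map f) ⟨x, hx, rfl⟩ ⟨y, hy, rfl⟩

end Internal

/-- Conjugating a subgroup of `T` inside `S`. -/
def conjIn (S : Subgroup G) (g : G) (R : Subgroup S) : Subgroup S :=
  ((R.map S.subtype).map (MulAut.conj g).toMonoidHom).subgroupOf S

theorem conjIn_spec (hs : Setup p S M T) (g : G) {R : Subgroup S} (hR : MCL R) (hRT : R ≤ T.subgroupOf S) :
    MCL (conjIn S g R) ∧ conjIn S g R ≤ T.subgroupOf S ∧
      (conjIn S g R).map S.subtype = (R.map S.subtype).map (MulAut.conj g).toMonoidHom ∧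
      Nat.card ↥(Cfsg.omegaOne p (ℭ (conjIn S g R))) = Nat.card ↥(Cfsg.omegaOne p (ℭ R)) := by
  have hT : ∀ K : Subgroup S, K ≤ T.subgroupOf S →
      (K.map S.subtype).map (MulAut.conj g).toMonoidHom ≤ T := by
    rintro K hK _ ⟨_, ⟨x, hx, rfl⟩, rfl⟩
    exact hs.normal.conj_mem _ (hK hx) g
  have hmap : ∀ K : Subgroup S, K ≤ T.subgroupOf S →
      (conjIn S g K).map S.subtype = (K.map S.subtype).map (MulAut.conj g).toMonoidHom := fun K hK =>
    Subgroup.map_subgroupOf_eq_of_le ((hT K hK).trans hs.le)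
  have hcard : ∀ K : Subgroup S, K ≤ T.subgroupOf S → Nat.card ↥(conjIn S g K) = Nat.card K := by
    intro K hK
    rw [← Subgroup.card_map_of_injective S.subtype_injective (K := conjIn S g K), hmap K hK,
      Subgroup.card_map_of_injective (MulAut.conj g).injective, Subgroup.card_map_of_injective S.subtype_injective]
  have hle : conjIn S g (ℭ R) ≤ ℭ (conjIn S g R) := by
    intro x hx
    rw [Subgroup.mem_centralizer_iff]
    intro y hy
    obtain ⟨_, ⟨c, hc, rfl⟩, hcx⟩ := hx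
    obtain ⟨_, ⟨r, hr, rfl⟩, hry⟩ := hy
    apply Subtype.ext
    change (y : G) * x = x * y
    have h1 : (r : G) * c = c * r := congrArg Subtype.val (Subgroup.mem_centralizer_iff.mp hc r hr)
    change g * (c : G) * g⁻¹ = (x : G) at hcx
    change g * (r : G) * g⁻¹ = (y : G) at hry
    rw [← hcx, ← hry]
    calc g * (r : G) * g⁻¹ * (g * c * g⁻¹) = g * ((r : G) * c) * g⁻¹ := by group
      _ = g * ((c : G) * r) * g⁻¹ := by rw [h1]
      _ = _ := by group
  have hcT : ℭ R ≤ T.subgroupOf S := hR.2.1.trans hRT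
  have hmax : IsMaxCD (conjIn S g R) := hR.1.of_le (by
    unfold cd
    rw [hcard R hRT]
    exact Nat.mul_le_mul_left _ ((hcard _ hcT) ▸ Subgroup.card_le_of_le hle))
  have hceq : ℭ (conjIn S g R) = conjIn S g (ℭ R) := by
    refine (Subgroup.eq_of_le_of_card_ge hle ?_).symm
    have h := hmax.eq hR.1
    unfold cd at h
    rw [hcard R hRT] at h
    exact le_of_eq ((Nat.eq_of_mul_eq_mul_left Nat.card_pos h).trans (hcard _ hcT).symm)
  have hcl : ℭ (conjIn S g R) ≤ conjIn S g R := by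
    rw [hceq]
    exact Subgroup.comap_mono (Subgroup.map_mono (Subgroup.map_mono hR.2.1))
  refine ⟨⟨hmax, hcl, fun R' hR' h1 h2 => Subgroup.eq_of_le_of_card_ge hR' ?_⟩, ?_, hmap R hRT, ?_⟩
  · obtain ⟨R'', hR'', hm''⟩ := exists_mcl_le h1 h2
    rw [hcard R hRT, (hR.card_eq hm'').1]
    exact Subgroup.card_le_of_le hR''
  · exact Subgroup.comap_mono (hT R hRT)
  · have hO : Cfsg.omegaOne p (ℭ R) ≤ T.subgroupOf S := fun x hx =>
      hcT ((mem_omegaOne (center_abelian hR.2.1)).mp hx).1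
    rw [← hcard _ hO]
    congr 2
    ext x
    rw [mem_omegaOne (center_abelian hcl), hceq]
    constructor
    · rintro ⟨⟨_, ⟨c, hc, rfl⟩, hcx⟩, hxp⟩
      refine ⟨_, ⟨c, (mem_omegaOne (center_abelian hR.2.1)).mpr ⟨hc, ?_⟩, rfl⟩, hcx⟩
      apply Subtype.ext
      have h1 : (x : G) ^ p = 1 := by simpa using congrArg Subtype.val hxp
      change g * (c : G) * g⁻¹ = (x : G) at hcx
      rw [← hcx, conj_pow] at h1
      simpa using h1
    · rintro ⟨_, ⟨c, hc, rfl⟩, hcx⟩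
      obtain ⟨hc1, hc2⟩ := (mem_omegaOne (center_abelian hR.2.1)).mp hc
      refine ⟨⟨_, ⟨c, hc1, rfl⟩, hcx⟩, Subtype.ext ?_⟩
      change g * (c : G) * g⁻¹ = (x : G) at hcx
      have h1 : (c : G) ^ p = 1 := by simpa using congrArg Subtype.val hc2
      simp [← hcx, conj_pow, h1]

/-- The internal data of a module from `exists_module`. -/
theorem internal_module {V : Subgroup G} (hs : Setup p S M T) (hVn : V.Normal) (hVS : V ≤ S)
    (hTV : T ≤ ℭ V) (hVT : V ≤ T) (hab : IsMulCommutative V) (hnt : Nontriv p V) :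
    ∃ W : Subgroup S, W ≤ V.subgroupOf S ∧ IsMulCommutative W ∧ W ≤ T.subgroupOf S ∧
      T.subgroupOf S ≤ ℭ W ∧ ℭ W ≤ T.subgroupOf S ∧
      ∀ A : Subgroup S, (T.subgroupOf S).relIndex A * Nat.card ↥(W ⊓ ℭ A) ≤ Nat.card W := by
  obtain ⟨W, hWV, -, hker, hb⟩ := exists_module hs V hVn hVS hab hnt
  have hWS := hWV.trans hVS
  have hmap : (W.subgroupOf S).map S.subtype = W := Subgroup.map_subgroupOf_eq_of_le hWS
  refine ⟨W.subgroupOf S, Subgroup.comap_mono hWV, ?_, Subgroup.comap_mono (hWV.trans hVT), ?_, ?_,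
    fun A => ?_⟩
  · refine Subgroup.le_centralizer_iff_isMulCommutative.mp fun x hx => ?_
    rw [Subgroup.mem_centralizer_iff]
    intro y hy
    apply Subtype.ext
    have := congrArg (fun t : V => (t : G))
      (hab.is_comm.comm (⟨((y : S) : G), hWV hy⟩ : V) ⟨((x : S) : G), hWV hx⟩)
    simpa using this
  · intro x hx
    rw [Subgroup.mem_centralizer_iff]
    intro y hy
    exact Subtype.ext (Subgroup.mem_centralizer_iff.mp (hTV hx) _ (hWV hy))
  · intro x hx
    refine hker (Subgroup.mem_inf.mpr ⟨x.2, ?_⟩)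
    rw [Subgroup.mem_centralizer_iff]
    intro w hw
    exact congrArg Subtype.val (Subgroup.mem_centralizer_iff.mp hx ⟨w, hWS hw⟩ hw)
  · have h := hb (A.map S.subtype) (Subgroup.map_subtype_le _)
    have e1 : (T.subgroupOf S).relIndex A = T.relIndex (A.map S.subtype) :=
      by rw [Subgroup.subgroupOf, Subgroup.relIndex_comap]
    have e2 : Nat.card ↥(W.subgroupOf S) = Nat.card W :=
      Nat.card_congr (Subgroup.subgroupOfEquivOfLe hWS).toEquiv
    have e3 : (W.subgroupOf S ⊓ ℭ A).map S.subtype ≤ W ⊓ ℭ (A.map S.subtype) := by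
      rintro _ ⟨x, hx, rfl⟩
      refine Subgroup.mem_inf.mpr ⟨(Subgroup.mem_inf.mp hx).1, ?_⟩
      rw [Subgroup.mem_centralizer_iff]
      rintro _ ⟨a, ha, rfl⟩
      exact congrArg Subtype.val (Subgroup.mem_centralizer_iff.mp (Subgroup.mem_inf.mp hx).2 a ha)
    rw [e1, e2]
    refine le_trans (Nat.mul_le_mul_left _ ?_) h
    rw [← Subgroup.card_map_of_injective S.subtype_injective (K := W.subgroupOf S ⊓ ℭ A)]
    exact Subgroup.card_le_of_le e3

theorem normal_join {ι : Sort*} (f : ι → Subgroup G)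
    (h : ∀ i, ∀ g : G, (f i).map (MulAut.conj g).toMonoidHom ≤ iSup f) : (iSup f).Normal := by
  refine ⟨fun x hx g => ?_⟩
  have hle : (iSup f).map (MulAut.conj g).toMonoidHom ≤ iSup f := by
    rw [Subgroup.map_iSup]; exact iSup_le fun i => h i g
  exact hle ⟨x, hx, rfl⟩

theorem main_frattini (hpu : Cfsg.IsPushingUpSituation p S) :
    (S ⊓ ℭ S).Normal ∨ ((Cfsg.frattiniOfMinimalCLJoin p ↥S).map S.subtype).Normal := by
  classical
  obtain ⟨M, hs⟩ := setup_of hpu
  set T := Cfsg.pCore p G with hTdef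
  by_cases hz : ∀ y ∈ S ⊓ ℭ S, y ∈ Subgroup.center G
  · left
    refine ⟨fun y hy g => ?_⟩
    rw [Subgroup.mem_center_iff.mp (hz y hy) g, mul_inv_cancel_right]
    exact hy
  right
  push Not at hz
  obtain ⟨y₀, hy₀, hy₀c⟩ := hz
  obtain ⟨y, hy, hyc, hyp⟩ := exists_pow_central (hs.isPGroup.to_le inf_le_left) hy₀ hy₀c
  obtain ⟨V, hVn, hVS, hTV, hVT, hab, hVp, hnt, -⟩ :=
    closure_module hs (Subgroup.mem_inf.mp hy).1 (Subgroup.mem_inf.mp hy).2 hyp hyc
  obtain ⟨W, hWV, hWab, hWT, hTW, -, hb⟩ := internal_module hs hVn hVS hTV hVT hab hnt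
  have hWp : ∀ w ∈ W, w ^ p = 1 := fun w hw => Subtype.ext (by simpa using hVp _ (hWV hw))
  rw [frattiniJoin_eq, Subgroup.map_iSup]
  refine normal_join _ fun ⟨Q, hQ⟩ g => ?_
  obtain ⟨h1, h2⟩ := maxOmega_step hQ hs.isPGroup hWab hWp hWT hTW hb
  set Q1 := (Q ⊓ T.subgroupOf S) ⊔ W
  have hQ1T : Q1 ≤ T.subgroupOf S := sup_le inf_le_right hWT
  obtain ⟨g1, g2, g3, g4⟩ := conjIn_spec hs g h1.1 hQ1T
  have hmo : IsMaxOmega p (conjIn S g Q1) := ⟨g1, fun R hR => g4.symm ▸ h1.2 R hR⟩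
  refine le_trans (le_of_eq ?_) (le_iSup (fun Q : {Q : Subgroup S // IsMaxOmega p Q} =>
    (HSubgroup.phi Q.1).map S.subtype) ⟨conjIn S g Q1, hmo⟩)
  show ((HSubgroup.phi Q).map S.subtype).map (MulAut.conj g).toMonoidHom = _
  rw [h2, ← phi_map S.subtype (hs.isPGroup.to_subgroup Q1),
    ← phi_map _ ((hs.isPGroup.to_subgroup Q1).map S.subtype), ← g3,
    phi_map S.subtype (hs.isPGroup.to_subgroup (conjIn S g Q1))]

theorem main_commutator (hpu : Cfsg.IsPushingUpSituation p S) (Q : Subgroup S) (hQ : MCL Q) :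
    (S ⊓ ℭ S ⊓ (⁅Q, Q⁆).map S.subtype).Normal ∨
      ((Cfsg.minimalCentrallyLargeJoin ↥S).map S.subtype).Normal := by
  classical
  obtain ⟨M, hs⟩ := setup_of hpu
  set T := Cfsg.pCore p G with hTdef
  set X := (⁅Q, Q⁆).map S.subtype with hX
  by_cases hz : ∀ y ∈ S ⊓ ℭ S ⊓ X, y ∈ Subgroup.center G
  · left
    refine ⟨fun y hy g => ?_⟩
    rw [Subgroup.mem_center_iff.mp (hz y hy) g, mul_inv_cancel_right]
    exact hy
  right
  push Not at hz
  obtain ⟨y₀, hy₀, hy₀c⟩ := hz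
  obtain ⟨y, hy, hyc, hyp⟩ :=
    exists_pow_central (hs.isPGroup.to_le (inf_le_left.trans inf_le_left)) hy₀ hy₀c
  obtain ⟨hyZ, hyX⟩ := Subgroup.mem_inf.mp hy
  obtain ⟨V, hVn, hVS, hTV, hVT, hab, -, hnt, hVX⟩ :=
    closure_module hs (Subgroup.mem_inf.mp hyZ).1 (Subgroup.mem_inf.mp hyZ).2 hyp hyc
  obtain ⟨W, hWV, hWab, hWT, hTW, hWker, hb⟩ := internal_module hs hVn hVS hTV hVT hab hnt
  obtain ⟨hR, -, -, -, -⟩ := mcl_step hQ hWab hWT hTW hb
  set R := (Q ⊓ T.subgroupOf S) ⊔ W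
  have hRT : R ≤ T.subgroupOf S := sup_le inf_le_right hWT
  have hXn : X.Normal := by
    refine ⟨fun x hx g => ?_⟩
    obtain ⟨g1, -, g3, -⟩ := conjIn_spec hs g hR hRT
    have h1 : X.map (MulAut.conj g).toMonoidHom = X := by
      rw [hX]
      conv_lhs => rw [hQ.commutator_eq hR]
      rw [hQ.commutator_eq g1, Subgroup.map_commutator, Subgroup.map_commutator,
        Subgroup.map_commutator, g3]
    exact h1 ▸ ⟨x, hx, rfl⟩
  have hWX : W ≤ ⁅Q, Q⁆ := by
    intro w hw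
    obtain ⟨v, hv, hvw⟩ := hVX X hXn hyX (hWV hw)
    exact (Subtype.ext hvw : v = w) ▸ hv
  have hall : ∀ Q' : Subgroup S, MCL Q' → Q' ≤ T.subgroupOf S := by
    intro Q' hQ'
    have hW' : W ≤ Q' := by
      refine hWX.trans ?_
      rw [hQ.commutator_eq hQ']
      exact Subgroup.commutator_le.mpr fun a ha b hb => by
        rw [commutatorElement_def]
        exact mul_mem (mul_mem (mul_mem ha hb) (inv_mem ha)) (inv_mem hb)
    have hZT : ℭ Q' ≤ T.subgroupOf S := (Subgroup.centralizer_le hW').trans hWker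
    calc Q' = (Q' ⊓ R) ⊔ ℭ Q' := (hQ'.split hR).symm
      _ ≤ _ := sup_le (inf_le_right.trans hRT) hZT
  unfold Cfsg.minimalCentrallyLargeJoin
  rw [sSup_eq_iSup', Subgroup.map_iSup]
  refine normal_join _ fun ⟨Q', hQ'⟩ g => ?_
  have hm := (mcl_iff Q').mp hQ'
  obtain ⟨g1, -, g3, -⟩ := conjIn_spec hs g hm (hall Q' hm)
  refine le_trans (le_of_eq g3.symm) (le_iSup (fun Q : {R : Subgroup S | Cfsg.IsMinimalCentrallyLarge R} =>
    (Q : Subgroup S).map S.subtype) ⟨conjIn S g Q', (mcl_iff _).mpr g1⟩)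

theorem commutator_characteristic {P : Type*} [Group P] [Finite P] {Q : Subgroup P} (hQ : MCL Q) :
    (⁅Q, Q⁆).Characteristic := by
  rw [Subgroup.characteristic_iff_map_eq]
  intro e
  rw [Subgroup.map_commutator]
  exact (hQ.map e).commutator_eq hQ

end CfsgLib.LocalEvenB.PushingUp
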