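import Cfsg.Prelude.Def_BaumannBlocks
import Cfsg.Agent.Lib.LocalEven.SylowIn
import Mathlib.LinearAlgebra.Matrix.SpecialLinearGroup
import Mathlib.GroupTheory.SpecificGroups.Alternating
import Mathlib.Tactic.FieldSimp
import Mathlib.Tactic.LinearCombination

/-!
The module `W / C_W(E)` of a block is irreducible and has kernel `O_p(E)`.
-/

set_option autoImplicit false
set_option linter.style.haveILetI false
set_option linter.unusedSectionVars false

namespace CfsgLib.LocalEvenB.BaumannModule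

universe u

open Subgroup Matrix

section SL

variable {F : Type*} [Field F]

local notation "SL₂" => Matrix.SpecialLinearGroup (Fin 2) F

def up (t : F) : SL₂ := ⟨!![1, t; 0, 1], by simp [Matrix.det_fin_two]⟩
def low (t : F) : SL₂ := ⟨!![1, 0; t, 1], by simp [Matrix.det_fin_two]⟩
def dia (a : F) (ha : a ≠ 0) : SL₂ := ⟨!![a, 0; 0, a⁻¹], by simp [Matrix.det_fin_two, ha]⟩

theorem comm_mem (x y : SL₂) : x * y * x⁻¹ * y⁻¹ ∈ _root_.commutator SL₂ :=
  commutatorElement_def x y ▸ commutator_mem_commutator (mem_top x) (mem_top y)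

theorem inv_up (s : F) : (up s)⁻¹ = up (-s) :=
  inv_eq_of_mul_eq_one_right (Subtype.ext (by
    simp only [Matrix.SpecialLinearGroup.coe_mul, Matrix.SpecialLinearGroup.coe_one]
    simp [up, Matrix.mul_fin_two, Matrix.one_fin_two]))

theorem inv_low (s : F) : (low s)⁻¹ = low (-s) :=
  inv_eq_of_mul_eq_one_right (Subtype.ext (by
    simp only [Matrix.SpecialLinearGroup.coe_mul, Matrix.SpecialLinearGroup.coe_one]
    simp [low, Matrix.mul_fin_two, Matrix.one_fin_two]))

theorem inv_dia {a : F} (ha : a ≠ 0) : (dia a ha)⁻¹ = dia a⁻¹ (inv_ne_zero ha) :=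
  inv_eq_of_mul_eq_one_right (Subtype.ext (by
    simp only [Matrix.SpecialLinearGroup.coe_mul, Matrix.SpecialLinearGroup.coe_one]
    simp [dia, Matrix.mul_fin_two, Matrix.one_fin_two, ha]))

theorem comm_dia_up {a : F} (ha : a ≠ 0) (s : F) :
    dia a ha * up s * (dia a ha)⁻¹ * (up s)⁻¹ = up ((a * a - 1) * s) := by
  rw [inv_dia, inv_up]
  refine Subtype.ext ?_
  simp only [Matrix.SpecialLinearGroup.coe_mul]
  simp [dia, up, Matrix.mul_fin_two, ha]
  ring

theorem comm_dia_low {a : F} (ha : a ≠ 0) (s : F) :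
    dia a⁻¹ (inv_ne_zero ha) * low s * (dia a⁻¹ (inv_ne_zero ha))⁻¹ * (low s)⁻¹ =
      low ((a * a - 1) * s) := by
  rw [inv_dia, inv_low]
  refine Subtype.ext ?_
  simp only [Matrix.SpecialLinearGroup.coe_mul]
  simp [dia, low, Matrix.mul_fin_two, ha]
  ring

theorem comm_up_low :
    ((up (1 : F) * low 1 * (up (1 : F))⁻¹ * (low (1 : F))⁻¹ : SL₂) : Matrix (Fin 2) (Fin 2) F) =
      !![3, -1; 1, 0] := by
  rw [inv_up, inv_low]
  simp only [Matrix.SpecialLinearGroup.coe_mul]
  simp [up, low, Matrix.mul_fin_two]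
  norm_num

/-- A nonzero subgroup of the natural module invariant under the derived group of `SL₂` is all. -/
theorem invariant_eq_top (X : AddSubgroup (Fin 2 → F))
    (hX : ∀ A ∈ _root_.commutator SL₂, ∀ v ∈ X, (A : Matrix (Fin 2) (Fin 2) F).mulVec v ∈ X)
    {v : Fin 2 → F} (hv : v ∈ X) (hv0 : v ≠ 0) : X = ⊤ := by
  have hsplit : (∀ r : F, ![r, 0] ∈ X) → (∀ r : F, ![0, r] ∈ X) → X = ⊤ := fun h1 h2 => by
    refine (AddSubgroup.eq_top_iff' X).2 fun w => ?_
    have : w = ![w 0, 0] + ![0, w 1] := by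
      funext i; fin_cases i <;> simp
    rw [this]; exact add_mem (h1 _) (h2 _)
  by_cases hbig : ∃ a : F, a ≠ 0 ∧ a * a ≠ 1
  · obtain ⟨a, ha, ha1⟩ := hbig
    have hne : a * a - 1 ≠ 0 := sub_ne_zero.2 ha1
    have hup : ∀ t : F, ∀ w ∈ X, ![w 0 + t * w 1, w 1] ∈ X := by
      intro t w hw
      have h := hX _ (comm_mem (dia a ha) (up (t / (a * a - 1)))) w hw
      rw [comm_dia_up ha, mul_div_cancel₀ _ hne] at h
      convert h using 1
      funext i
      fin_cases i <;> simp [up, Matrix.mulVec, dotProduct, Fin.sum_univ_two]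
    have hlow : ∀ t : F, ∀ w ∈ X, ![w 0, w 1 + t * w 0] ∈ X := by
      intro t w hw
      have h := hX _ (comm_mem (dia a⁻¹ (inv_ne_zero ha)) (low (t / (a * a - 1)))) w hw
      rw [comm_dia_low ha, mul_div_cancel₀ _ hne] at h
      convert h using 1
      funext i
      fin_cases i <;> simp [low, Matrix.mulVec, dotProduct, Fin.sum_univ_two, add_comm]
    by_cases h1 : v 1 = 0
    · have h0 : v 0 ≠ 0 := fun e => hv0 (by funext i; fin_cases i <;> simp [e, h1])
      have hy : ∀ r : F, ![0, r] ∈ X := fun r => by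
        have h := sub_mem (hlow (r / v 0) v hv) hv
        convert h using 1
        funext i; fin_cases i <;> simp [h0]
      refine hsplit (fun r => ?_) hy
      have h := sub_mem (hup r _ (hy 1)) (hy 1)
      convert h using 1
      funext i; fin_cases i <;> simp
    · have hx : ∀ r : F, ![r, 0] ∈ X := fun r => by
        have h := sub_mem (hup (r / v 1) v hv) hv
        convert h using 1
        funext i; fin_cases i <;> simp [h1]
      refine hsplit hx fun r => ?_
      have h := sub_mem (hlow r _ (hx 1)) (hx 1)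
      convert h using 1
      funext i; fin_cases i <;> simp
  · push Not at hbig
    have htri : ∀ z : F, z = 0 ∨ z = 1 ∨ z = -1 := fun z => by
      by_cases hz : z = 0
      · exact Or.inl hz
      · exact Or.inr (mul_self_eq_one_iff.1 (hbig z hz))
    have hsm : ∀ (r : F) (w : Fin 2 → F), w ∈ X → r • w ∈ X := fun r w hw => by
      rcases htri r with rfl | rfl | rfl
      · simp
      · simpa using hw
      · simpa using neg_mem hw
    have hg : ∀ w ∈ X, ![3 * w 0 - w 1, w 0] ∈ X := fun w hw => by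
      have h := hX _ (comm_mem (up (1 : F)) (low (1 : F))) w hw
      rw [comm_up_low] at h
      convert h using 1
      funext i
      fin_cases i <;> simp [Matrix.mulVec, dotProduct, Fin.sum_univ_two, sub_eq_add_neg]
    set D : F := v 0 * v 0 - 3 * (v 0 * v 1) + v 1 * v 1 with hD
    have hD0 : D ≠ 0 := by
      have h5 : (5 : F) ≠ 0 := fun e => by
        by_cases h2 : (2 : F) = 0
        · exact one_ne_zero (α := F) (by linear_combination e - 2 * h2)
        · have := hbig 2 h2
          exact h2 (by linear_combination e - this)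
      rcases htri (v 0) with e0 | e0 | e0 <;> rcases htri (v 1) with e1 | e1 | e1 <;>
        rw [hD, e0, e1] <;> intro e <;> first
        | (refine one_ne_zero (α := F) ?_; linear_combination e; done)
        | (refine one_ne_zero (α := F) ?_; linear_combination -e; done)
        | (refine h5 ?_; linear_combination e; done)
        | (apply hv0; funext i; fin_cases i <;> simp [e0, e1])
    refine hsplit (fun r => ?_) (fun r => ?_)
    · have h := hsm (r / D) _ (add_mem (hsm (v 0) _ hv) (hsm (-(v 1)) _ (hg v hv)))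
      convert h using 1
      funext i
      fin_cases i
      · show r = r / D * (v 0 * v 0 + -(v 1) * (3 * v 0 - v 1))
        rw [show v 0 * v 0 + -(v 1) * (3 * v 0 - v 1) = D by rw [hD]; ring, div_mul_cancel₀ r hD0]
      · show (0 : F) = r / D * (v 0 * v 1 + -(v 1) * v 0)
        ring
    · have h := hsm (r / D) _ (add_mem (hsm (-(3 * v 0 - v 1)) _ hv) (hsm (v 0) _ (hg v hv)))
      convert h using 1
      funext i
      fin_cases i
      · show (0 : F) = r / D * (-(3 * v 0 - v 1) * v 0 + v 0 * (3 * v 0 - v 1))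
        ring
      · show r = r / D * (-(3 * v 0 - v 1) * v 1 + v 0 * v 0)
        rw [show -(3 * v 0 - v 1) * v 1 + v 0 * v 0 = D by rw [hD]; ring, div_mul_cancel₀ r hD0]

theorem eq_one_of_fix {A : SL₂} (h : ∀ v, (A : Matrix (Fin 2) (Fin 2) F).mulVec v = v) : A = 1 := by
  ext i j
  have := congrFun (h (Pi.single j 1)) i
  simp only [Matrix.mulVec_single_one, Matrix.col_apply] at this
  rw [this]
  simp [Pi.single_apply, Matrix.one_apply]

end SL

section Perm

variable {n : ℕ}

/-- A nonzero subgroup of the even weight module invariant under the alternating group is all. -/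
theorem even_invariant (hn : Odd n) (X : AddSubgroup (Fin n → ZMod 2))
    (hX : ∀ σ ∈ alternatingGroup (Fin n), ∀ v ∈ X, (fun i => v (σ⁻¹ i)) ∈ X)
    {v : Fin n → ZMod 2} (hv : v ∈ X) (hv0 : v ≠ 0) (hvs : ∑ i, v i = 0)
    {w : Fin n → ZMod 2} (hws : ∑ i, w i = 0) : w ∈ X := by
  classical
  have h01 : ∀ z : ZMod 2, z = 0 ∨ z = 1 := by decide
  obtain ⟨i, hi⟩ : ∃ i, v i = 1 := by
    by_contra h; push Not at h
    exact hv0 (funext fun i => (h01 (v i)).resolve_right (h i))
  obtain ⟨j, hj⟩ : ∃ j, v j = 0 := by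
    by_contra h; push Not at h
    have h1 : ∀ j, v j = 1 := fun j => (h01 (v j)).resolve_left (h j)
    simp only [h1, Finset.sum_const, Finset.card_univ, Fintype.card_fin, nsmul_eq_mul, mul_one] at hvs
    obtain ⟨k, rfl⟩ := hn
    push_cast at hvs
    rw [show (2 : ZMod 2) = 0 by decide] at hvs
    simp at hvs
  have hij : i ≠ j := fun e => by rw [e, hj] at hi; exact zero_ne_one hi
  obtain ⟨k, hki, hkj⟩ : ∃ k : Fin n, k ≠ i ∧ k ≠ j := by
    by_contra h; push Not at h
    have h2 : Fintype.card (Fin n) = 2 := by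
      rw [← Finset.card_univ, show (Finset.univ : Finset (Fin n)) = {i, j} from ?_,
        Finset.card_pair hij]
      refine Finset.ext fun a => iff_of_true (Finset.mem_univ a) ?_
      rcases eq_or_ne a i with e | e
      · simp [e]
      · simp [h a e]
    rw [Fintype.card_fin] at h2
    rw [h2] at hn; exact absurd hn (by decide)
  have hcyc : ∀ a b c : Fin n, a ≠ b → a ≠ c → b ≠ c →
      (Equiv.swap a b * Equiv.swap b c)⁻¹ ∈ alternatingGroup (Fin n) := fun a b c hab _ hbc => by
    rw [Equiv.Perm.mem_alternatingGroup, map_inv, map_mul, Equiv.Perm.sign_swap hab,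
      Equiv.Perm.sign_swap hbc]
    rfl
  have hmv : ∀ a b c : Fin n, a ≠ b → a ≠ c → b ≠ c → ∀ u ∈ X,
      (fun x => u (Equiv.swap a b (Equiv.swap b c x))) ∈ X := fun a b c hab hac hbc u hu => by
    have := hX _ (hcyc a b c hab hac hbc) u hu
    simpa using this
  let e2 : Fin n → Fin n → (Fin n → ZMod 2) := fun a b => Pi.single a 1 + Pi.single b 1
  have hpair : ∃ a b, a ≠ b ∧ e2 a b ∈ X := by
    have h := add_mem hv (hmv i j k hij hki.symm hkj.symm v hv)
    have hc : v k = 0 ∨ v k = 1 := h01 _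
    have h11 : (1 : ZMod 2) + 1 = 0 := by decide
    have hid : ∀ x, x ≠ i → x ≠ j → x ≠ k →
        Equiv.swap i j (Equiv.swap j k x) = x := fun x h1 h2 h3 => by
      rw [Equiv.swap_apply_of_ne_of_ne h2 h3, Equiv.swap_apply_of_ne_of_ne h1 h2]
    have vi : Equiv.swap i j (Equiv.swap j k i) = j := by
      rw [Equiv.swap_apply_of_ne_of_ne hij hki.symm, Equiv.swap_apply_left]
    have vj : Equiv.swap i j (Equiv.swap j k j) = k := by
      rw [Equiv.swap_apply_left, Equiv.swap_apply_of_ne_of_ne hki hkj]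
    have vk : Equiv.swap i j (Equiv.swap j k k) = i := by
      rw [Equiv.swap_apply_right, Equiv.swap_apply_right]
    rcases hc with hk | hk
    · refine ⟨i, k, hki.symm, ?_⟩
      convert h using 1
      funext x
      simp only [e2, Pi.add_apply]
      rcases eq_or_ne x i with rfl | h1
      · rw [vi, hi, hj]; simp [hki.symm]
      rcases eq_or_ne x j with rfl | h2
      · rw [vj, hj, hk]; simp [hij.symm, hkj.symm]
      rcases eq_or_ne x k with rfl | h3
      · rw [vk, hk, hi]; simp [h1]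
      · simp [hid x h1 h2 h3, h1, h3]
        rcases h01 (v x) with e | e <;> simp [e, h11]
    · refine ⟨i, j, hij, ?_⟩
      convert h using 1
      funext x
      simp only [e2, Pi.add_apply]
      rcases eq_or_ne x i with rfl | h1
      · rw [vi, hi, hj]; simp [hij]
      rcases eq_or_ne x j with rfl | h2
      · rw [vj, hj, hk]; simp [hij.symm]
      rcases eq_or_ne x k with rfl | h3
      · rw [vk, hk, hi]; simp [h1, hkj, h11]
      · simp [hid x h1 h2 h3, h1, h2]
        rcases h01 (v x) with e | e <;> simp [e, h11]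
  have hsymm : ∀ a b, e2 a b = e2 b a := fun a b => add_comm _ _
  have hstep : ∀ a b c, a ≠ b → a ≠ c → b ≠ c → e2 a b ∈ X → e2 a c ∈ X := by
    intro a b c hab hac hbc hm
    have h := hmv a b c hab hac hbc _ hm
    convert h using 1
    funext x
    simp only [e2, Pi.add_apply]
    rcases eq_or_ne x a with rfl | h1
    · rw [Equiv.swap_apply_of_ne_of_ne hab hac, Equiv.swap_apply_left]
      simp [hab, hab.symm, hac]
    rcases eq_or_ne x c with rfl | h3
    · rw [Equiv.swap_apply_right, Equiv.swap_apply_right]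
      simp [hab, h1]
    rcases eq_or_ne x b with rfl | h2
    · rw [Equiv.swap_apply_left, Equiv.swap_apply_of_ne_of_ne hac.symm hbc.symm]
      simp [h1, h3, hac.symm, hbc.symm]
    · rw [Equiv.swap_apply_of_ne_of_ne h2 h3, Equiv.swap_apply_of_ne_of_ne h1 h2]
      simp [h1, h2, h3]
  obtain ⟨a, b, hab, hm⟩ := hpair
  have hall : ∀ c, c ≠ a → e2 a c ∈ X := fun c hc => by
    rcases eq_or_ne b c with rfl | hbc
    · exact hm
    · exact hstep a b c hab hc.symm hbc hm
  have hw : w = ∑ x, w x • e2 a x := by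
    funext y
    simp only [Finset.sum_apply, Pi.smul_apply, e2, Pi.add_apply, smul_eq_mul, mul_add,
      Finset.sum_add_distrib, ← Finset.sum_mul, hws, zero_mul, zero_add]
    simp [Pi.single_apply]
  rw [hw]
  refine sum_mem fun x _ => ?_
  rcases eq_or_ne x a with rfl | hx
  · have : e2 x x = 0 := funext fun y => by
      simp only [e2, Pi.add_apply, Pi.zero_apply]
      rcases h01 ((Pi.single x 1 : Fin n → ZMod 2) y) with e | e <;> rw [e] <;> decide
    rw [this, smul_zero]; exact zero_mem _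
  · rcases h01 (w x) with e | e <;> rw [e]
    · rw [zero_smul]; exact zero_mem _
    · rw [one_smul]; exact hall x hx

theorem perm_eq_one_of_fix (hn : Odd n) {σ : Equiv.Perm (Fin n)}
    (h : ∀ v : Fin n → ZMod 2, ∑ i, v i = 0 → ∀ i, v (σ⁻¹ i) = v i) : σ = 1 := by
  classical
  by_contra hσ
  obtain ⟨i, hi⟩ : ∃ i, σ⁻¹ i ≠ i := by
    by_contra hh; push Not at hh
    exact hσ (inv_eq_one.1 (Equiv.ext hh))
  obtain ⟨k, hki, hkj⟩ : ∃ k : Fin n, k ≠ i ∧ k ≠ σ⁻¹ i := by
    by_contra hh; push Not at hh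
    have h2 : Fintype.card (Fin n) = 2 := by
      rw [← Finset.card_univ, show (Finset.univ : Finset (Fin n)) = {σ⁻¹ i, i} from ?_,
        Finset.card_pair hi]
      refine Finset.ext fun a => iff_of_true (Finset.mem_univ a) ?_
      rcases eq_or_ne a i with e | e
      · simp [e]
      · simp [hh a e]
    rw [Fintype.card_fin] at h2
    rw [h2] at hn; exact absurd hn (by decide)
  have := h (Pi.single i 1 + Pi.single k 1) (by
    simp only [Pi.add_apply, Finset.sum_add_distrib, Finset.sum_pi_single', Finset.mem_univ, if_true]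
    decide) i
  simp only [Pi.add_apply] at this
  rw [Pi.single_eq_of_ne hi, Pi.single_eq_of_ne hkj.symm, Pi.single_eq_same, Pi.single_eq_of_ne hki.symm] at this
  simp at this

end Perm

section Block

variable {G : Type u} [Group G] [Finite G] {p : ℕ} [hp : Fact p.Prime]

/-- The properties of `W / C_W(E)` that are used. -/
structure Good (p : ℕ) (E U Z : Subgroup G) : Prop where
  normalizes : E ≤ normalizer (U : Set G)
  le : Z ≤ U
  irr : ∀ X : Subgroup G, Z ≤ X → X ≤ U → E ≤ normalizer (X : Set G) → X = Z ∨ X = U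
  ker : ∀ e ∈ E, (∀ u ∈ U, e * u * e⁻¹ * u⁻¹ ∈ Z) → e ∈ Cfsg.pCoreOf p E

theorem good_aux {E U Z : Subgroup G} {R : Type*} [Group R] {V : Type*} [AddCommGroup V]
    (act : R → V → V) (ρ : ↥E →* R) (S : Subgroup R) (ψ : ↥U →* Multiplicative V)
    (hrange : ρ.range = S) (hQker : ∀ e : ↥E, (e : G) ∈ Cfsg.pCoreOf p E → ∀ u ∈ U, (e : G) * u = u * e)
    (hiso : Nonempty (↥E ⧸ Cfsg.pCore p ↥E ≃* ↥S))
    (hEU : E ≤ normalizer (U : Set G)) (hZU : Z ≤ U)
    (hker : ∀ u : ↥U, ψ u = 1 ↔ (u : G) ∈ Z)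
    (hact : ∀ (e : ↥E) (u : ↥U), ∃ w : ↥U, (w : G) = (e : G) * (u : G) * (e : G)⁻¹ ∧
      Multiplicative.toAdd (ψ w) = act (ρ e) (Multiplicative.toAdd (ψ u)))
    (hirr : ∀ X : AddSubgroup V, (∀ v ∈ X, ∃ u, Multiplicative.toAdd (ψ u) = v) →
      (∀ A ∈ S, ∀ v ∈ X, act A v ∈ X) → (∃ v ∈ X, v ≠ 0) → ∀ u, Multiplicative.toAdd (ψ u) ∈ X)
    (hfaith : ∀ A ∈ S, (∀ u, act A (Multiplicative.toAdd (ψ u)) = Multiplicative.toAdd (ψ u)) → A = 1) :
    Good p E U Z := by
  have hconst : ∀ e : ↥E, (∀ u ∈ U, (e : G) * u * (e : G)⁻¹ * u⁻¹ ∈ Z) → ρ e = 1 := by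
    intro e he
    refine hfaith _ (hrange ▸ ⟨e, rfl⟩) fun u => ?_
    obtain ⟨w, hw, hw2⟩ := hact e u
    rw [← hw2]
    have : ψ (w * u⁻¹) = 1 := (hker _).2 (by
      simpa [hw] using he u u.2)
    rw [map_mul, map_inv, mul_inv_eq_one] at this
    rw [this]
  refine ⟨hEU, hZU, fun X hZX hXU hEX => ?_, fun e he hec => ?_⟩
  · let X' : AddSubgroup V :=
      { carrier := {v | ∃ u : ↥U, (u : G) ∈ X ∧ Multiplicative.toAdd (ψ u) = v}
        zero_mem' := ⟨1, one_mem _, by simp⟩
        add_mem' := by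
          rintro _ _ ⟨a, ha, rfl⟩ ⟨b, hb, rfl⟩
          exact ⟨a * b, mul_mem ha hb, by simp⟩
        neg_mem' := by
          rintro _ ⟨a, ha, rfl⟩
          exact ⟨a⁻¹, inv_mem ha, by simp⟩ }
    by_cases hne : ∃ v ∈ X', v ≠ 0
    · right
      refine le_antisymm hXU fun u hu => ?_
      have hinv : ∀ A ∈ S, ∀ v ∈ X', act A v ∈ X' := by
        rintro A hA _ ⟨a, ha, rfl⟩
        obtain ⟨e, rfl⟩ : A ∈ ρ.range := hrange ▸ hA
        obtain ⟨w, hw, hw2⟩ := hact e a
        exact ⟨w, hw ▸ (mem_normalizer_iff.1 (hEX e.2) _).1 ha, hw2⟩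
      obtain ⟨a, ha, hau⟩ := hirr X' (fun v hv => ⟨hv.choose, hv.choose_spec.2⟩) hinv hne ⟨u, hu⟩
      have h1 : ψ (a⁻¹ * ⟨u, hu⟩) = 1 := by
        rw [map_mul, map_inv, Multiplicative.toAdd.injective hau, inv_mul_cancel]
      have h2 : (a : G)⁻¹ * u ∈ X := hZX ((hker _).1 h1)
      simpa using mul_mem ha h2
    · left
      push Not at hne
      refine le_antisymm (fun x hx => (hker ⟨x, hXU hx⟩).1 ?_) hZX
      exact Multiplicative.toAdd.injective (hne _ ⟨⟨x, hXU hx⟩, hx, rfl⟩)
  · obtain ⟨f⟩ := hiso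
    have hle : Cfsg.pCore p ↥E ≤ ρ.ker := fun q hq => by
      refine hconst q fun u hu => ?_
      rw [hQker q ⟨q, hq, rfl⟩ u hu, mul_inv_cancel_right, mul_inv_cancel]
      exact one_mem _
    have hn : (Cfsg.pCore p ↥E).index = ρ.ker.index := by
      rw [index_eq_card, Nat.card_congr f.toEquiv, index_ker, hrange]
    have heq : Cfsg.pCore p ↥E = ρ.ker := by
      refine eq_of_le_of_card_ge hle (le_of_eq ?_)
      have h1 := (Cfsg.pCore p ↥E).card_mul_index
      rw [hn, ← ρ.ker.card_mul_index] at h1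
      exact (Nat.eq_of_mul_eq_mul_right (Nat.pos_of_ne_zero index_ne_zero_of_finite) h1).symm
    exact ⟨⟨e, he⟩, show _ ∈ Cfsg.pCore p ↥E from heq ▸ hconst ⟨e, he⟩ hec, rfl⟩

theorem good_of_block {T E : Subgroup G} (hE : Cfsg.IsBaumannBlock p T E) :
    Good p E (Cfsg.omegaOneCenter p (Cfsg.pCoreOf p E))
      (Cfsg.omegaOneCenter p (Cfsg.pCoreOf p E) ⊓ centralizer (E : Set G)) := by
  have hQker : ∀ e : ↥E, (e : G) ∈ Cfsg.pCoreOf p E →
      ∀ u ∈ Cfsg.omegaOneCenter p (Cfsg.pCoreOf p E), (e : G) * u = u * e := fun e he u hu => by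
    have h : u ∈ centralizer (Cfsg.pCoreOf p E : Set G) :=
      (closure_le _).2 (fun x hx => (mem_inf.1 hx.1).2) hu
    exact mem_centralizer_iff.1 h _ he
  rcases hE.2.2.2.2 with ⟨F, i1, i2, n, -, hiso, ⟨hEU, hZU, ρ, ψ, hr, hsurj, hker, hact⟩, -⟩ |
    ⟨-, m, hiso, ⟨hEU, hZU, ρ, ψ, hr, hsum, hsurj, hker, hact⟩, -⟩
  · refine good_aux (fun (A : Matrix.SpecialLinearGroup (Fin 2) F) v => (A : Matrix (Fin 2) (Fin 2) F).mulVec v) ρ _ ψ hr hQker hiso hEU hZU
      hker hact (fun X _ hinv ⟨v, hv, hv0⟩ u => ?_) (fun A _ h => eq_one_of_fix fun v => ?_)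
    · rw [invariant_eq_top X hinv hv hv0]; exact AddSubgroup.mem_top _
    · obtain ⟨u, hu⟩ := hsurj (Multiplicative.ofAdd v)
      have := h u
      rwa [hu] at this
  · have hn : Odd (2 * m + 1) := ⟨m, rfl⟩
    refine good_aux (fun σ v => fun i => v (σ⁻¹ i)) ρ _ ψ hr hQker hiso hEU hZU
      hker ?_ (fun X hXr hinv ⟨v, hv, hv0⟩ u => ?_) (fun σ _ h => perm_eq_one_of_fix hn fun v hv i => ?_)
    · intro e u
      obtain ⟨w, hw, hw2⟩ := hact e u
      exact ⟨w, hw, funext hw2⟩
    · obtain ⟨u0, hu0⟩ := hXr v hv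
      exact even_invariant hn X hinv hv hv0 (hu0 ▸ hsum u0) (hsum u)
    · obtain ⟨u, hu⟩ := hsurj v hv
      have := congrFun (h u) i
      rwa [hu] at this

end Block

end CfsgLib.LocalEvenB.BaumannModule
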