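import Mathlib
import Cfsg.Agent.Lib.Perm.SL2Unipotent

/-!
An irreducible module of `SL₂(F)` on which the root subgroup acts quadratically, or fixes at least the
square root of the module, is the natural module.
-/

set_option autoImplicit false
set_option linter.style.haveILetI false
set_option linter.unusedSectionVars false

namespace CfsgLib.LocalEvenB.SL2Natural

open Matrix CfsgLib.Perm.SL2Unipotent
open scoped MatrixGroups

universe u v

variable {F : Type u} [Field F]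

/-- The Weyl element `[[0, a], [-a⁻¹, 0]]`. -/
def wE (a : F) : SL(2, F) := up a * low (-a⁻¹) * up a

/-- The torus element. -/
def tE (a : F) : SL(2, F) := wE a * (wE 1)⁻¹

theorem wE_val {a : F} (ha : a ≠ 0) : (wE a).1 = !![0, a; -a⁻¹, 0] := by
  show (up a).1 * (low (-a⁻¹)).1 * (up a).1 = _
  rw [up_val, low_val]
  ext i j
  fin_cases i <;> fin_cases j <;> simp [ha]

theorem tE_val {a : F} (ha : a ≠ 0) : (tE a).1 = !![a, 0; 0, a⁻¹] := by
  rw [tE]
  show (wE a).1 * ((wE 1)⁻¹ : SL(2, F)).1 = _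
  rw [Matrix.SpecialLinearGroup.coe_inv, wE_val ha, wE_val one_ne_zero, Matrix.adjugate_fin_two]
  ext i j
  fin_cases i <;> fin_cases j <;> simp

theorem tE_up {a : F} (ha : a ≠ 0) (x : F) : tE a * up x = up (a ^ 2 * x) * tE a := by
  apply sl_ext <;> simp [SpecialLinearGroup.coe_mul, up_val, tE_val ha]
  field_simp

theorem tE_mul {a b : F} (ha : a ≠ 0) (hb : b ≠ 0) : tE a * tE b = tE (a * b) := by
  apply sl_ext <;> simp [SpecialLinearGroup.coe_mul, tE_val ha, tE_val hb, tE_val (mul_ne_zero ha hb), mul_comm]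

theorem wE_tE {a : F} (ha : a ≠ 0) : wE 1 * tE a = tE a⁻¹ * wE 1 := by
  apply sl_ext <;> simp [SpecialLinearGroup.coe_mul, tE_val ha, tE_val (inv_ne_zero ha), wE_val one_ne_zero]

theorem wE_wE : wE (1 : F) * wE 1 = tE (-1) := by
  apply sl_ext <;> simp [SpecialLinearGroup.coe_mul, tE_val (neg_ne_zero.2 (one_ne_zero (α := F))),
    wE_val one_ne_zero, inv_neg]

theorem low_eq (b : F) : low b = wE 1 * up (-b) * (wE 1)⁻¹ := by
  rw [eq_mul_inv_iff_mul_eq]
  apply sl_ext <;> simp [SpecialLinearGroup.coe_mul, up_val, low_val, wE_val one_ne_zero]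

/-- A property closed under products holding on both root subgroups holds everywhere. -/
theorem sl_induction {P : SL(2, F) → Prop} (h1 : P 1) (hmul : ∀ g h, P g → P h → P (g * h))
    (hu : ∀ c, P (up c)) (hl : ∀ c, P (low c)) (g : SL(2, F)) : P g := by
  have hg : g ∈ Cfsg.lowerUnipotentSL2 F ⊔ Cfsg.upperUnipotentSL2 F := by rw [sup_eq_top]; trivial
  rw [Subgroup.sup_eq_closure] at hg
  refine Subgroup.closure_induction_left (p := fun g _ => P g) h1 ?_ ?_ hg
  · rintro x (hx | hx) y _ hy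
    · obtain ⟨c, rfl⟩ := mem_lower.1 hx; exact hmul _ _ (hl c) hy
    · obtain ⟨c, rfl⟩ := mem_upper.1 hx; exact hmul _ _ (hu c) hy
  · rintro x (hx | hx) y _ hy
    · obtain ⟨c, rfl⟩ := mem_lower.1 hx; rw [low_inv]; exact hmul _ _ (hl _) hy
    · obtain ⟨c, rfl⟩ := mem_upper.1 hx; rw [up_inv]; exact hmul _ _ (hu _) hy

variable [Finite F] {V : Type v} [AddCommGroup V] [Finite V] (ρ : SL(2, F) →* AddMonoid.End V)

/-- The fixed points of the upper root subgroup. -/
def V0 : AddSubgroup V where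
  carrier := {z | ∀ a : F, ρ (up a) z = z}
  zero_mem' := fun a => map_zero _
  add_mem' := fun {x y} hx hy a => by rw [map_add, hx a, hy a]
  neg_mem' := fun {x} hx a => by rw [map_neg, hx a]

theorem natural (hirr : ∀ Y : AddSubgroup V, (∀ g, ∀ y ∈ Y, ρ g y ∈ Y) → Y = ⊥ ∨ Y = ⊤)
    (hnt : ∃ g z, ρ g z ≠ z) (p : ℕ) [Fact p.Prime] [CharP F p] (hpV : ∀ z : V, p • z = 0)
    (hyp : (∀ (a b : F) (z : V), ρ (up a) (ρ (up b) z - z) = ρ (up b) z - z) ∨
      Nat.card V ≤ Nat.card (V0 ρ) ^ 2) :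
    ∃ Ψ : V ≃+ (Fin 2 → F), ∀ g z, Ψ (ρ g z) = g.1 *ᵥ Ψ z := by
  classical
  haveI := Fintype.ofFinite F
  have hmul : ∀ (g h : SL(2, F)) (z : V), ρ (g * h) z = ρ g (ρ h z) := fun g h z => by rw [map_mul]; rfl
  have hone : ∀ z : V, ρ 1 z = z := fun z => by rw [map_one]; rfl
  have hinvl : ∀ (g : SL(2, F)) (z : V), ρ g⁻¹ (ρ g z) = z := fun g z => by rw [← hmul, inv_mul_cancel, hone]
  have hinvr : ∀ (g : SL(2, F)) (z : V), ρ g (ρ g⁻¹ z) = z := fun g z => by rw [← hmul, mul_inv_cancel, hone]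
  have hinj : ∀ g : SL(2, F), Function.Injective (ρ g) := fun g a b h => by
    rw [← hinvl g a, h, hinvl]
  set w := ρ (wE 1) with hw
  set W0 := (V0 ρ).map (w : V →+ V) with hW0
  have htmem : ∀ {a : F}, a ≠ 0 → ∀ z ∈ V0 ρ, ρ (tE a) z ∈ V0 ρ := fun {a} ha z hz x => by
    have e : up x * tE a = tE a * up ((a ^ 2)⁻¹ * x) := by
      rw [tE_up ha, ← mul_assoc (a ^ 2), mul_inv_cancel₀ (pow_ne_zero 2 ha), one_mul]
    rw [← hmul, e, hmul, hz]
  have hwwV0 : ∀ z ∈ V0 ρ, w (w z) ∈ V0 ρ := fun z hz => by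
    rw [hw, ← hmul, wE_wE]; exact htmem (neg_ne_zero.2 one_ne_zero) z hz
  -- invariance criterion
  have hcrit : ∀ Y : AddSubgroup V, (∀ a, ∀ y ∈ Y, ρ (up a) y ∈ Y) → (∀ y ∈ Y, w y ∈ Y) →
      Y = ⊥ ∨ Y = ⊤ := by
    intro Y hu hwY
    refine hirr Y fun g => sl_induction (P := fun g => ∀ y ∈ Y, ρ g y ∈ Y) (fun y hy => by rw [hone]; exact hy)
      (fun g h hg hh y hy => by rw [hmul]; exact hg _ (hh y hy)) hu (fun c y hy => ?_) g
    rw [low_eq, hmul, hmul]
    refine hwY _ (hu _ _ ?_)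
    obtain ⟨y', hy'⟩ : ∃ y' : ↥Y, w (y' : V) = y := by
      let f : ↥Y → ↥Y := fun z => ⟨w z, hwY _ z.2⟩
      have hf : Function.Injective f := fun a b h => Subtype.ext (hinj _ (congrArg Subtype.val h))
      obtain ⟨z, hz⟩ := Finite.injective_iff_surjective.1 hf ⟨y, hy⟩
      exact ⟨z, congrArg Subtype.val hz⟩
    rw [← hy', hw, hinvl]; exact y'.2
  have hdisj : ∀ z, z ∈ V0 ρ → z ∈ W0 → z = 0 := by
    rintro z hz ⟨z', hz', hzz⟩
    have hl : ∀ c, ρ (low c) z = z := fun c => by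
      rw [low_eq, hmul, hmul, ← hzz]
      show ρ (wE 1) (ρ (up (-c)) (ρ (wE 1)⁻¹ (ρ (wE 1) z'))) = ρ (wE 1) z'
      rw [hinvl, hz']
    have hall : ∀ g, ρ g z = z := sl_induction (P := fun g => ρ g z = z) (hone z)
      (fun g h hg hh => by rw [hmul, hh, hg]) hz hl
    let Y : AddSubgroup V :=
      { carrier := {y | ∀ g, ρ g y = y}
        zero_mem' := fun g => map_zero _
        add_mem' := fun {x y} hx hy g => by rw [map_add, hx, hy]
        neg_mem' := fun {x} hx g => by rw [map_neg, hx] }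
    rcases hirr Y (fun g y hy g' => by rw [hy g, hy g']) with e | e
    · exact AddSubgroup.mem_bot.1 (e ▸ (show z ∈ Y from hall))
    · obtain ⟨g, y, hy⟩ := hnt
      exact absurd ((show y ∈ Y from e ▸ AddSubgroup.mem_top y) g) hy
  -- a nonzero fixed point
  have hnz : ∃ z ∈ V0 ρ, z ≠ 0 := by
    obtain ⟨g, y, hy⟩ := hnt
    have hV : Nontrivial V := ⟨⟨_, _, hy⟩⟩
    letI : MulAction (Multiplicative F) V :=
      { smul := fun a z => ρ (up a.toAdd) z
        one_smul := fun z => by show ρ (up (0 : F)) z = z; rw [up_zero, hone]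
        mul_smul := fun a b z => by show ρ (up (a.toAdd + b.toAdd)) z = _; rw [← up_mul, hmul]; rfl }
    have hFp : IsPGroup p (Multiplicative F) := fun a => ⟨1, by
      rw [pow_one]; apply Multiplicative.toAdd.injective
      simp⟩
    have hd : p ∣ Nat.card V := by
      obtain ⟨z, hz⟩ := exists_ne (0 : V)
      have h1 : addOrderOf z = p := addOrderOf_eq_prime (hpV z) hz
      rw [← h1]; exact addOrderOf_dvd_natCard z
    have h0 : (0 : V) ∈ MulAction.fixedPoints (Multiplicative F) V := fun a => map_zero _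
    obtain ⟨z, hz, hz0⟩ := hFp.exists_fixed_point_of_prime_dvd_card_of_fixed_point V hd h0
    exact ⟨z, fun a => hz (Multiplicative.ofAdd a), Ne.symm hz0⟩
  -- the decomposition
  have hcardW : Nat.card W0 = Nat.card (V0 ρ) :=
    (Nat.card_congr (AddSubgroup.equivMapOfInjective (V0 ρ) (w : V →+ V) (hinj _)).toEquiv).symm
  have huniq : ∀ {x x' y y'}, x ∈ V0 ρ → x' ∈ V0 ρ → y ∈ W0 → y' ∈ W0 → x + y = x' + y' → x = x' ∧ y = y' := by
    intro x x' y y' hx hx' hy hy' h
    have e : x - x' = y' - y := by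
      rw [sub_eq_sub_iff_add_eq_add, h, add_comm]
    have h0 := hdisj _ (sub_mem hx hx') (e ▸ sub_mem hy' hy)
    refine ⟨sub_eq_zero.1 h0, ?_⟩
    rw [e] at h0
    exact (sub_eq_zero.1 h0).symm
  obtain ⟨hsplit, hq⟩ : (∀ z : V, ∃ x ∈ V0 ρ, ∃ y ∈ W0, z = x + y) ∧ ∀ a z, ρ (up a) z - z ∈ V0 ρ := by
    rcases hyp with hyp | hyp
    · have hq : ∀ a z, ρ (up a) z - z ∈ V0 ρ := fun a z b => hyp b a z
      refine ⟨fun z => ?_, hq⟩
      have h1 : V0 ρ ⊔ W0 = ⊤ := by
        refine (hcrit _ ?_ ?_).resolve_left ?_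
        · intro a y hy
          have := add_mem (AddSubgroup.mem_sup_left (T := W0) (hq a y)) hy
          rwa [sub_add_cancel] at this
        · intro y hy
          obtain ⟨x, hx, _, ⟨y', hy', rfl⟩, rfl⟩ := AddSubgroup.mem_sup.1 hy
          rw [map_add, add_comm]
          exact AddSubgroup.add_mem_sup (hwwV0 y' hy') ⟨x, hx, rfl⟩
        · intro e
          obtain ⟨z, hz, hz0⟩ := hnz
          exact hz0 (AddSubgroup.mem_bot.1 (e ▸ AddSubgroup.mem_sup_left hz))
      obtain ⟨x, hx, y, hy, e⟩ := AddSubgroup.mem_sup.1 (h1.symm ▸ AddSubgroup.mem_top z)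
      exact ⟨x, hx, y, hy, e.symm⟩
    · have hsplit : ∀ z : V, ∃ x ∈ V0 ρ, ∃ y ∈ W0, z = x + y := by
        let f : ↥(V0 ρ) × ↥W0 → V := fun q => (q.1 : V) + q.2
        have hf : Function.Injective f := fun a b h => by
          obtain ⟨h1, h2⟩ := huniq a.1.2 b.1.2 a.2.2 b.2.2 h
          exact Prod.ext (Subtype.ext h1) (Subtype.ext h2)
        have hb : Function.Bijective f :=
          hf.bijective_of_nat_card_le (by rw [Nat.card_prod, hcardW, ← pow_two]; exact hyp)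
        intro z
        obtain ⟨q, rfl⟩ := hb.2 z
        exact ⟨q.1, q.1.2, q.2, q.2.2, rfl⟩
      refine ⟨hsplit, ?_⟩
      let Y : AddSubgroup V :=
        { carrier := {y | y ∈ W0 ∧ ∀ a, ρ (up a) y - y ∈ V0 ρ}
          zero_mem' := ⟨zero_mem _, fun a => by simp⟩
          add_mem' := fun {x y} hx hy => ⟨add_mem hx.1 hy.1, fun a => by
            rw [map_add, add_sub_add_comm]; exact add_mem (hx.2 a) (hy.2 a)⟩
          neg_mem' := fun {x} hx => ⟨neg_mem hx.1, fun a => by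
            rw [map_neg, show -ρ (up a) x - -x = -(ρ (up a) x - x) by abel, neg_mem_iff]; exact hx.2 a⟩ }
      have hYt : ∀ {a : F}, a ≠ 0 → ∀ y ∈ Y, ρ (tE a) y ∈ Y := by
        rintro a ha y ⟨⟨y0, hy0, rfl⟩, hy⟩
        refine ⟨⟨ρ (tE a⁻¹) y0, htmem (inv_ne_zero ha) _ hy0, ?_⟩, fun x => ?_⟩
        · show ρ (wE 1) (ρ (tE a⁻¹) y0) = ρ (tE a) (ρ (wE 1) y0)
          rw [← hmul, ← hmul, wE_tE (inv_ne_zero ha), inv_inv]
        · have e : up x * tE a = tE a * up ((a ^ 2)⁻¹ * x) := by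
            rw [tE_up ha, ← mul_assoc (a ^ 2), mul_inv_cancel₀ (pow_ne_zero 2 ha), one_mul]
          rw [← hmul, e, hmul, ← map_sub]
          exact htmem ha _ (hy _)
      -- the image of `Y` under `w`
      set X := Y.map (w : V →+ V) with hX
      have hXV : ∀ z ∈ X, z ∈ V0 ρ := by
        rintro _ ⟨y, ⟨⟨y0, hy0, rfl⟩, -⟩, rfl⟩
        exact hwwV0 y0 hy0
      have hkey : ∀ a, ∀ y ∈ Y, ρ (up a) y - y ∈ X := by
        intro a y hy
        rcases eq_or_ne a 0 with rfl | ha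
        · rw [up_zero, hone, sub_self]; exact zero_mem _
        set z := ρ (up a) y - y with hz
        have hzV : z ∈ V0 ρ := hy.2 a
        obtain ⟨y1, hy1, hwy1⟩ : ∃ y1 ∈ Y, ρ (wE a) y = w y1 := by
          refine ⟨ρ (tE a⁻¹) y, hYt (inv_ne_zero ha) y hy, ?_⟩
          rw [hw, ← hmul, wE_tE (inv_ne_zero ha), inv_inv, tE, inv_mul_cancel_right]
        have hv0 : w y1 ∈ V0 ρ := hXV _ ⟨y1, hy1, rfl⟩
        have h1 : ρ (low (-a⁻¹)) (ρ (up a) y) = w y1 := by
          apply hinj (up a)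
          rw [hv0 a, ← hwy1, wE, hmul, hmul]
        have h2 : ρ (up a) y = ρ (low a⁻¹) (w y1) := by
          rw [← h1, ← hmul, low_mul, add_neg_cancel, low_zero, hone]
        have h3 : ρ (low a⁻¹) (w y1) = w y1 + w (ρ (up (-a⁻¹)) y1 - y1) := by
          rw [low_eq, hw, hmul, hmul, hinvl, map_sub, add_sub_cancel]
        have h4 : z + y = w y1 + w (ρ (up (-a⁻¹)) y1 - y1) := by
          rw [hz, sub_add_cancel, h2, h3]
        exact ⟨y1, hy1, ((huniq hzV hv0 hy.1 ⟨_, hy1.2 _, rfl⟩ h4).1).symm⟩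
      have hXY : X ⊔ Y = ⊤ := by
        refine (hcrit _ ?_ ?_).resolve_left ?_
        · intro a q hq
          obtain ⟨x, hx, y, hy, rfl⟩ := AddSubgroup.mem_sup.1 hq
          rw [map_add, hXV x hx a, show ρ (up a) y = (ρ (up a) y - y) + y by rw [sub_add_cancel], ← add_assoc]
          exact AddSubgroup.add_mem_sup (add_mem hx (hkey a y hy)) hy
        · intro q hq
          obtain ⟨_, ⟨x, hx, rfl⟩, y, hy, rfl⟩ := AddSubgroup.mem_sup.1 hq
          rw [map_add, add_comm]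
          refine AddSubgroup.add_mem_sup ⟨y, hy, rfl⟩ ?_
          show ρ (wE 1) (ρ (wE 1) x) ∈ Y
          rw [← hmul, wE_wE]
          exact hYt (neg_ne_zero.2 one_ne_zero) x hx
        · intro e
          -- a nonzero fixed point modulo `V0`
          obtain ⟨z, hz, hz0⟩ := hnz
          have hY0 : Y = ⊥ := le_bot_iff.1 (e ▸ le_sup_right)
          letI : MulAction (Multiplicative F) (V ⧸ V0 ρ) :=
            { smul := fun a => QuotientAddGroup.map (V0 ρ) (V0 ρ) (ρ (up a.toAdd) : V →+ V)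
                (fun q hq => by show ρ (up a.toAdd) q ∈ V0 ρ; rw [hq]; exact hq)
              one_smul := fun q => by
                induction q using QuotientAddGroup.induction_on with
                | H q => show ((ρ (up (0 : F)) q : V) : V ⧸ V0 ρ) = q; rw [up_zero, hone]
              mul_smul := fun a b q => by
                induction q using QuotientAddGroup.induction_on with
                | H q =>
                  show ((ρ (up (a.toAdd + b.toAdd)) q : V) : V ⧸ V0 ρ) = ((ρ (up a.toAdd) (ρ (up b.toAdd) q) : V) : V ⧸ V0 ρ)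
                  rw [← up_mul, hmul] }
          have hFp : IsPGroup p (Multiplicative F) := fun a => ⟨1, by
            rw [pow_one]; apply Multiplicative.toAdd.injective; simp⟩
          have hwz : ((w z : V) : V ⧸ V0 ρ) ≠ 0 := fun h => hz0 (hinj (wE 1) (by
            rw [hdisj _ ((QuotientAddGroup.eq_zero_iff _).1 h) ⟨z, hz, rfl⟩, map_zero]))
          have hd : p ∣ Nat.card (V ⧸ V0 ρ) := by
            have h1 : addOrderOf ((w z : V) : V ⧸ V0 ρ) = p :=
              addOrderOf_eq_prime (by rw [← QuotientAddGroup.mk_nsmul, hpV, QuotientAddGroup.mk_zero]) hwz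
            rw [← h1]; exact addOrderOf_dvd_natCard _
          have h0 : (0 : V ⧸ V0 ρ) ∈ MulAction.fixedPoints (Multiplicative F) (V ⧸ V0 ρ) := fun a => by
            show QuotientAddGroup.map _ _ _ _ 0 = 0
            exact map_zero _
          obtain ⟨q, hq, hq0⟩ := hFp.exists_fixed_point_of_prime_dvd_card_of_fixed_point _ hd h0
          obtain ⟨t, rfl⟩ := QuotientAddGroup.mk_surjective q
          obtain ⟨x, hx, y, hy, rfl⟩ := hsplit t
          refine hq0 ?_
          have hyY : y ∈ Y := ⟨hy, fun a => by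
            have h := QuotientAddGroup.eq.1 (show ((ρ (up a) (x + y) : V) : V ⧸ V0 ρ) = ((x + y : V) : V ⧸ V0 ρ)
              from hq (Multiplicative.ofAdd a))
            have h' := neg_mem h
            rw [map_add, hx a] at h'
            convert h' using 1
            abel⟩
          rw [hY0, AddSubgroup.mem_bot] at hyY
          rw [hyY, add_zero, eq_comm, QuotientAddGroup.eq_zero_iff]
          exact hx
      intro a t
      obtain ⟨x, hx, y, hy, rfl⟩ := hsplit t
      obtain ⟨x', hx', y', hy', e⟩ := AddSubgroup.mem_sup.1 (hXY.symm ▸ AddSubgroup.mem_top y)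
      have hyY : y ∈ Y := by
        rw [← zero_add y] at e
        obtain ⟨-, h2⟩ := huniq (hXV x' hx') (zero_mem _) hy'.1 hy e
        exact h2 ▸ hy'
      rw [map_add, hx a, add_sub_add_left_eq_sub]
      exact hyY.2 a
  -- the coordinate map `s : V₀ → W₀`
  have hlow : ∀ (c : F) t, ρ (low c) t - t ∈ W0 := fun c t => by
    refine ⟨ρ (up (-c)) (ρ (wE 1)⁻¹ t) - ρ (wE 1)⁻¹ t, hq _ _, ?_⟩
    show w _ = _
    rw [map_sub, hw, hinvr, low_eq, hmul, hmul]
  have hlowW : ∀ (c : F), ∀ y ∈ W0, ρ (low c) y = y := by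
    rintro c _ ⟨y0, hy0, rfl⟩
    show ρ (low c) (ρ (wE 1) y0) = ρ (wE 1) y0
    rw [low_eq, hmul, hmul, hinvl, hy0]
  have hwV0 : ∀ {a : F}, a ≠ 0 → ∀ x ∈ V0 ρ, ρ (wE a) x ∈ W0 := fun {a} ha x hx => by
    refine ⟨ρ (tE a⁻¹) x, htmem (inv_ne_zero ha) x hx, ?_⟩
    show ρ (wE 1) _ = _
    rw [← hmul, wE_tE (inv_ne_zero ha), inv_inv, tE, inv_mul_cancel_right]
  obtain ⟨s, hs, hsW⟩ : ∃ s : ↥(V0 ρ) → V, (∀ x, ρ (up 1) (s x) - s x = x) ∧ ∀ x, s x ∈ W0 := by
    let f : ↥W0 → ↥(V0 ρ) := fun y => ⟨ρ (up 1) y - y, hq 1 y⟩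
    have hf : Function.Injective f := fun y y' h => by
      have h0 : ρ (up 1) ((y : V) - y') = y - y' := by
        rw [map_sub, sub_eq_sub_iff_sub_eq_sub]; exact congrArg Subtype.val h
      have h1 : ρ (wE 1) ((y : V) - y') = y - y' := by
        rw [wE, inv_one, hmul, hmul, h0, hlowW _ _ (sub_mem y.2 y'.2), h0]
      obtain ⟨z, hz, hzy⟩ := sub_mem y.2 y'.2
      have h2 : (y : V) - y' ∈ V0 ρ := by
        rw [← h1, ← hzy]; exact hwwV0 z hz
      exact Subtype.ext (sub_eq_zero.1 (hdisj _ h2 (sub_mem y.2 y'.2)))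
    obtain ⟨g, hg⟩ := ((hf.bijective_of_nat_card_le (by rw [hcardW])).2).hasRightInverse
    exact ⟨fun x => g x, fun x => congrArg Subtype.val (hg x), fun x => (g x).2⟩
  have hinjW : ∀ {y y'}, y ∈ W0 → y' ∈ W0 → ρ (up 1) y - y = ρ (up 1) y' - y' → y = y' := by
    intro y y' hy hy' h
    have h0 : ρ (up 1) (y - y') = y - y' := by rw [map_sub, sub_eq_sub_iff_sub_eq_sub]; exact h
    have h1 : ρ (wE 1) (y - y') = y - y' := by
      rw [wE, inv_one, hmul, hmul, h0, hlowW _ _ (sub_mem hy hy'), h0]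
    obtain ⟨z, hz, hzy⟩ := sub_mem hy hy'
    have h2 : y - y' ∈ V0 ρ := by rw [← h1, ← hzy]; exact hwwV0 z hz
    exact sub_eq_zero.1 (hdisj _ h2 (sub_mem hy hy'))
  have hsadd : ∀ x x', s (x + x') = s x + s x' := fun x x' => hinjW (hsW _) (add_mem (hsW _) (hsW _)) (by
    rw [hs, map_add, add_sub_add_comm, hs, hs]; rfl)
  have hsneg : ∀ x, s (-x) = -s x := fun x => by
    have hs0 : s 0 = 0 := by
      have := hsadd 0 0
      rw [add_zero] at this
      exact left_eq_add.1 this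
    rw [eq_neg_iff_add_eq_zero, ← hsadd, neg_add_cancel, hs0]
  let φ : F → ↥(V0 ρ) → ↥(V0 ρ) := fun a x => ⟨ρ (up a) (s x) - s x, hq a _⟩
  have hφ : ∀ a x, ρ (up a) (s x) = (φ a x : V) + s x := fun a x => by simp [φ]
  have hφ1 : ∀ x, φ 1 x = x := fun x => Subtype.ext (hs x)
  -- `low c` and `w` on `V₀`
  have hw0 : ∀ x : ↥(V0 ρ), w x = s (-x) ∧ w (s x) = x ∧ ρ (low (-1)) x = (x : V) + s (-x) := by
    intro x
    obtain ⟨y, hy, hLx⟩ : ∃ y ∈ W0, ρ (low (-1)) (x : V) = (x : V) + y := ⟨_, hlow (-1) x, by rw [add_sub_cancel]⟩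
    have hwx : w x = ((x : V) + (ρ (up 1) y - y)) + y := by
      rw [hw, wE, inv_one, hmul, hmul, x.2, hLx, map_add, x.2]; abel
    have h1 := huniq (add_mem x.2 (hq 1 y)) (zero_mem _) hy (hwV0 one_ne_zero x x.2)
      (by rw [← hwx, zero_add])
    have hy' : y = s (-x) := hinjW hy (hsW _) (by
      rw [hs, AddSubgroup.coe_neg, eq_neg_iff_add_eq_zero, add_comm]; exact h1.1)
    refine ⟨h1.2.symm.trans hy', ?_, hy' ▸ hLx⟩
    rw [hw, wE, inv_one, hmul, hmul, hφ, hφ1, map_add, hlowW _ _ (hsW x), hLx, hy', hsneg,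
      show (x : V) + -s x + s x = x by abel, x.2]
  have hlowV : ∀ b (x : ↥(V0 ρ)), ρ (low b) x = (x : V) + s (φ b x) := by
    intro b x
    have e1 : ρ (wE 1)⁻¹ (x : V) = s x := by rw [← (hw0 x).2.1, hw, hinvl]
    have e2 : φ (-b) x = -φ b x := by
      apply Subtype.ext
      have h : ρ (up b) (ρ (up (-b)) (s x)) = s x := by rw [← hmul, up_mul, add_neg_cancel, up_zero, hone]
      rw [hφ, map_add, (φ (-b) x).2 b, hφ, ← add_assoc] at h
      rw [AddSubgroup.coe_neg, eq_neg_iff_add_eq_zero]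
      exact add_eq_right.1 h
    rw [low_eq, hmul, hmul, e1, hφ, map_add, ← hw, (hw0 _).1, (hw0 x).2.1, e2, neg_neg, add_comm]
  have hrec : ∀ a : F, a ≠ 0 → ∀ x, φ a (φ a⁻¹ x) = x := by
    intro a ha x
    have h : ρ (wE a) (x : V) = ((x : V) + φ a (φ (-a⁻¹) x)) + s (φ (-a⁻¹) x) := by
      rw [wE, hmul, hmul, x.2, hlowV, map_add, x.2, hφ]; abel
    have h1 := (huniq (add_mem x.2 (φ a _).2) (zero_mem _) (hsW _) (hwV0 ha x x.2) (by rw [← h, zero_add])).1
    have e2 : φ (-a⁻¹) x = -φ a⁻¹ x := by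
      apply Subtype.ext
      have h : ρ (up a⁻¹) (ρ (up (-a⁻¹)) (s x)) = s x := by rw [← hmul, up_mul, add_neg_cancel, up_zero, hone]
      rw [hφ, map_add, (φ (-a⁻¹) x).2 a⁻¹, hφ, ← add_assoc] at h
      rw [AddSubgroup.coe_neg, eq_neg_iff_add_eq_zero]
      exact add_eq_right.1 h
    have e3 : φ a (-φ a⁻¹ x) = -φ a (φ a⁻¹ x) := Subtype.ext (by
      show ρ (up a) (s (-φ a⁻¹ x)) - s (-φ a⁻¹ x) = -(ρ (up a) (s (φ a⁻¹ x)) - s (φ a⁻¹ x))
      rw [hsneg, map_neg]; abel)
    rw [e2, e3, AddSubgroup.coe_neg, ← sub_eq_add_neg, sub_eq_zero] at h1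
    exact (Subtype.ext h1).symm
  have ht0 : ∀ a : F, a ≠ 0 → ∀ x : ↥(V0 ρ), ρ (tE a) (x : V) = φ a x := by
    intro a ha x
    have e2 : φ (-a⁻¹) (φ a x) = -x := by
      have h : ρ (up a⁻¹) (ρ (up (-a⁻¹)) (s (φ a x))) = s (φ a x) := by
        rw [← hmul, up_mul, add_neg_cancel, up_zero, hone]
      rw [hφ, map_add, (φ (-a⁻¹) (φ a x)).2 a⁻¹, hφ, ← add_assoc] at h
      have h' := hrec a⁻¹ (inv_ne_zero ha) x
      rw [inv_inv] at h'
      rw [h'] at h
      apply Subtype.ext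
      rw [AddSubgroup.coe_neg, eq_neg_iff_add_eq_zero]
      exact add_eq_right.1 h
    have e1 : ρ (wE 1)⁻¹ (x : V) = s x := by rw [← (hw0 x).2.1, hw, hinvl]
    rw [tE, hmul, e1, wE, hmul, hmul, hφ, map_add, hlowW _ _ (hsW x), hlowV, e2, hsneg,
      show (φ a x : V) + -s x + s x = φ a x by abel]
    exact (φ a x).2 a
  have hφadd : ∀ a b x, φ (a + b) x = φ a x + φ b x := fun a b x => by
    apply Subtype.ext
    show ρ (up (a + b)) (s x) - s x = (φ a x : V) + φ b x
    rw [← up_mul, hmul, hφ, map_add, (φ b x).2 a, hφ]; abel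
  have hφx : ∀ a x x', φ a (x + x') = φ a x + φ a x' := fun a x x' => Subtype.ext (by
    show ρ (up a) (s (x + x')) - s (x + x') = (φ a x : V) + φ a x'
    rw [hsadd, map_add, hφ, hφ]; abel)
  have hφ0 : ∀ x, φ 0 x = 0 := fun x => Subtype.ext (by
    show ρ (up (0 : F)) (s x) - s x = 0
    rw [up_zero, hone, sub_self])
  have hφmul : ∀ a b x, φ (a * b) x = φ a (φ b x) := fun a b x => by
    rcases eq_or_ne a 0 with rfl | ha
    · rw [zero_mul, hφ0, hφ0]
    rcases eq_or_ne b 0 with rfl | hb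
    · rw [mul_zero, hφ0]
      apply Subtype.ext
      have h := hφx a 0 0
      rw [add_zero] at h
      have := left_eq_add.1 h
      rw [this]
    apply Subtype.ext
    rw [← ht0 _ (mul_ne_zero ha hb), ← ht0 a ha, ← ht0 b hb, ← hmul, tE_mul ha hb]
  letI : Module F ↥(V0 ρ) :=
    { smul := φ
      one_smul := hφ1
      mul_smul := fun a b x => hφmul a b x
      smul_zero := fun a => by
        have h := hφx a 0 0
        rw [add_zero] at h
        exact left_eq_add.1 h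
      smul_add := hφx
      add_smul := hφadd
      zero_smul := hφ0 }
  -- the matrix form of the action
  have hform : ∀ (g : SL(2, F)) (x y : ↥(V0 ρ)), ρ g ((x : V) + s y) =
      (g.1 0 0 • x + g.1 0 1 • y : ↥(V0 ρ)) + s (g.1 1 0 • x + g.1 1 1 • y) := by
    refine sl_induction (fun x y => ?_) (fun g h hg hh x y => ?_) (fun c x y => ?_) (fun c x y => ?_)
    · simp [hone]
    · rw [hmul, hh, hg]
      simp [Matrix.mul_apply, Fin.sum_univ_two, SpecialLinearGroup.coe_mul, smul_add, add_smul, mul_smul]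
      congr 1
      · abel
      · congr 1; abel
    · rw [map_add, x.2 c, hφ]
      simp [up_val]
      show _ = _ + (φ c y : V) + _
      abel
    · rw [map_add, hlowV, hlowW _ _ (hsW y)]
      simp [low_val, hsadd]
      show _ = _ + (s (φ c x) + _)
      abel
  -- irreducibility: one coordinate
  obtain ⟨z0, hz0, hz0ne⟩ := hnz
  set x0 : ↥(V0 ρ) := ⟨z0, hz0⟩
  have hx0 : x0 ≠ 0 := fun e => hz0ne (congrArg Subtype.val e)
  let L := Submodule.span F {x0}
  let Y : AddSubgroup V :=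
    { carrier := {z | ∃ x ∈ L, ∃ y ∈ L, z = (x : V) + s y}
      zero_mem' := ⟨0, zero_mem _, 0, zero_mem _, by
        have := hsadd 0 0
        rw [add_zero] at this
        rw [left_eq_add.1 this]; simp⟩
      add_mem' := by
        rintro _ _ ⟨x, hx, y, hy, rfl⟩ ⟨x', hx', y', hy', rfl⟩
        exact ⟨x + x', add_mem hx hx', y + y', add_mem hy hy', by rw [hsadd, AddSubgroup.coe_add]; abel⟩
      neg_mem' := by
        rintro _ ⟨x, hx, y, hy, rfl⟩
        exact ⟨-x, neg_mem hx, -y, neg_mem hy, by rw [hsneg, AddSubgroup.coe_neg]; abel⟩ }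
  have hYtop : Y = ⊤ := (hirr Y (by
    rintro g _ ⟨x, hx, y, hy, rfl⟩
    exact ⟨_, add_mem (L.smul_mem _ hx) (L.smul_mem _ hy), _, add_mem (L.smul_mem _ hx) (L.smul_mem _ hy),
      hform g x y⟩)).resolve_left fun e => by
      have h : z0 ∈ Y := ⟨x0, Submodule.mem_span_singleton_self _, 0, zero_mem _, by
        have := hsadd 0 0
        rw [add_zero] at this
        rw [left_eq_add.1 this, add_zero]⟩
      rw [e] at h
      exact hz0ne (AddSubgroup.mem_bot.1 h)
  have hs0 : s 0 = 0 := by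
    have := hsadd 0 0
    rw [add_zero] at this
    exact left_eq_add.1 this
  let Φ : (Fin 2 → F) →+ V := AddMonoidHom.mk' (fun c => (c 0 • x0 : ↥(V0 ρ)) + s (c 1 • x0)) fun c c' => by
    simp [add_smul, hsadd]; abel
  have hΦ : Function.Bijective Φ := by
    refine ⟨(injective_iff_map_eq_zero Φ).2 fun c hc => ?_, fun z => ?_⟩
    · obtain ⟨h1, h2⟩ := huniq (c 0 • x0).2 (zero_mem _) (hsW (c 1 • x0)) (zero_mem _)
        (hc.trans (add_zero 0).symm)
      have e2 : c 1 • x0 = 0 := by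
        apply Subtype.ext
        rw [← hs (c 1 • x0), h2, map_zero, sub_zero]; rfl
      have e1 : c 0 • x0 = 0 := Subtype.ext h1
      funext i
      fin_cases i
      · exact (smul_eq_zero.1 e1).resolve_right hx0
      · exact (smul_eq_zero.1 e2).resolve_right hx0
    · obtain ⟨x, hx, y, hy, rfl⟩ := (hYtop.symm ▸ AddSubgroup.mem_top z : z ∈ Y)
      obtain ⟨a, rfl⟩ := Submodule.mem_span_singleton.1 hx
      obtain ⟨b, rfl⟩ := Submodule.mem_span_singleton.1 hy
      exact ⟨![a, b], by simp [Φ]⟩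
  let Ψ := (AddEquiv.ofBijective Φ hΦ).symm
  refine ⟨Ψ, fun g z => ?_⟩
  obtain ⟨c, rfl⟩ := hΦ.2 z
  have e : ρ g (Φ c) = Φ (g.1 *ᵥ c) := by
    show ρ g ((c 0 • x0 : ↥(V0 ρ)) + s (c 1 • x0)) = _
    rw [hform]
    simp [Φ, Matrix.mulVec, dotProduct, Fin.sum_univ_two, smul_smul, add_smul]
  rw [e]
  have hinv : ∀ d, Ψ (Φ d) = d := fun d => (AddEquiv.ofBijective Φ hΦ).symm_apply_apply d
  rw [hinv, hinv]

end CfsgLib.LocalEvenB.SL2Natural
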