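import Cfsg.Agent.Lib.Involution.ZStar.Main
import Cfsg.Agent.Lib.Involution.KleinAutomizer
import Cfsg.Agent.Lib.Fusion.ThompsonTransfer
import Mathlib.GroupTheory.FixedPointFree

/-!
# Finite groups with an involution whose centralizer is dihedral of order eight
-/

set_option autoImplicit false

namespace CfsgLib.LocalEvenB.CentralizerDihedralEight

open Subgroup
open CfsgLib.Involution

variable {G : Type*} [Group G]

/-- Standard relations in a centralizer of an involution dihedral of order eight. -/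
structure Std (z t a : G) : Prop where
  aa : a * a = z
  amem : a ∈ centralizer ({z} : Set G)
  tmem : t ∈ centralizer ({z} : Set G)
  tat : t * a * t⁻¹ = a⁻¹
  cover : ∀ c ∈ centralizer ({z} : Set G),
    c = 1 ∨ c = z ∨ c = t ∨ c = t * z ∨ c = a ∨ c = a * z ∨ c = t * a ∨ c = t * a * z
  invol : ∀ c ∈ centralizer ({z} : Set G), orderOf c = 2 →
    c = z ∨ c = t ∨ c = t * z ∨ c = t * a ∨ c = t * a * z
  cent : ∀ c ∈ centralizer ({z} : Set G), c * t = t * c → c = 1 ∨ c = z ∨ c = t ∨ c = t * z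
  conj_t : a * t * a⁻¹ = t * z
  conj_ta : a * (t * a) * a⁻¹ = t * a * z

variable {z : G} (e : centralizer ({z} : Set G) ≃* DihedralGroup 4)

include e in
theorem card_centralizer : Nat.card (centralizer ({z} : Set G)) = 8 := by
  rw [Nat.card_congr e.toEquiv, DihedralGroup.nat_card]

include e in
theorem map_self (hz : orderOf z = 2) :
    e ⟨z, mem_centralizer_singleton_iff.mpr rfl⟩ = DihedralGroup.r 2 := by
  have hD : ∀ x : DihedralGroup 4, (∀ w, x * w = w * x) → x ≠ 1 → x = DihedralGroup.r 2 := by decide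
  refine hD _ (fun w => ?_) fun h => ?_
  · obtain ⟨x, rfl⟩ := e.surjective w
    rw [← map_mul, ← map_mul]
    exact congrArg e (Subtype.ext (mem_centralizer_singleton_iff.mp x.2).symm)
  · have h1 : z = 1 := congrArg Subtype.val (e.injective (h.trans (map_one e).symm))
    rw [h1, orderOf_one] at hz
    omega

include e in
theorem center_cases (hz : orderOf z = 2) {c : G} (hc : c ∈ centralizer ({z} : Set G))
    (hcc : ∀ d ∈ centralizer ({z} : Set G), c * d = d * c) : c = 1 ∨ c = z := by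
  have hD : ∀ x : DihedralGroup 4, (∀ w, x * w = w * x) → x = 1 ∨ x = DihedralGroup.r 2 := by decide
  rcases hD (e ⟨c, hc⟩) (fun w => by
      obtain ⟨x, rfl⟩ := e.surjective w
      rw [← map_mul, ← map_mul]
      exact congrArg e (Subtype.ext (hcc x x.2))) with h | h
  · exact Or.inl (congrArg Subtype.val (e.injective (h.trans (map_one e).symm)))
  · exact Or.inr (congrArg Subtype.val (e.injective (h.trans (map_self e hz).symm)))

include e in
theorem exists_std (hz : orderOf z = 2) {t : G} (ht : t ∈ centralizer ({z} : Set G))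
    (ht2 : orderOf t = 2) (htz : t ≠ z) : ∃ a : G, Std z t a := by
  classical
  set f : DihedralGroup 4 →* G := (centralizer ({z} : Set G)).subtype.comp e.symm.toMonoidHom with hf
  have hfi : Function.Injective f := fun x y h => e.symm.injective (Subtype.ext h)
  have hfmem : ∀ d, f d ∈ centralizer ({z} : Set G) := fun d => (e.symm d).2
  have hfs : ∀ c ∈ centralizer ({z} : Set G), ∃ d, f d = c := fun c hc =>
    ⟨e ⟨c, hc⟩, congrArg Subtype.val (e.symm_apply_apply ⟨c, hc⟩)⟩
  have hfz : f (DihedralGroup.r 2) = z := by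
    rw [← map_self e hz]
    exact congrArg Subtype.val (e.symm_apply_apply _)
  obtain ⟨dt, rfl⟩ := hfs t ht
  have hd2 : dt * dt = 1 := hfi (by
    rw [map_mul, map_one, ← pow_two, ← ht2, pow_orderOf_eq_one])
  have hd1 : dt ≠ 1 := fun h => by rw [h, map_one, orderOf_one] at ht2; omega
  have hdz : dt ≠ DihedralGroup.r 2 := fun h => htz (by rw [h, hfz])
  have key : ∀ u : DihedralGroup 4, u * u = 1 → u ≠ 1 → u ≠ DihedralGroup.r 2 →
      (DihedralGroup.r 1 * DihedralGroup.r 1 = (DihedralGroup.r 2 : DihedralGroup 4)) ∧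
      u * DihedralGroup.r 1 * u⁻¹ = (DihedralGroup.r 1)⁻¹ ∧
      DihedralGroup.r 1 * u * (DihedralGroup.r 1)⁻¹ = u * DihedralGroup.r 2 ∧
      DihedralGroup.r 1 * (u * DihedralGroup.r 1) * (DihedralGroup.r 1)⁻¹ =
        u * DihedralGroup.r 1 * DihedralGroup.r 2 ∧
      ∀ d : DihedralGroup 4,
        (d = 1 ∨ d = DihedralGroup.r 2 ∨ d = u ∨ d = u * DihedralGroup.r 2 ∨ d = DihedralGroup.r 1 ∨
          d = DihedralGroup.r 1 * DihedralGroup.r 2 ∨ d = u * DihedralGroup.r 1 ∨
          d = u * DihedralGroup.r 1 * DihedralGroup.r 2) ∧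
        (d * d = 1 → d = 1 ∨ d = DihedralGroup.r 2 ∨ d = u ∨ d = u * DihedralGroup.r 2 ∨
          d = u * DihedralGroup.r 1 ∨ d = u * DihedralGroup.r 1 * DihedralGroup.r 2) ∧
        (d * u = u * d → d = 1 ∨ d = DihedralGroup.r 2 ∨ d = u ∨ d = u * DihedralGroup.r 2) := by
    decide
  obtain ⟨k1, k2, k3, k4, k5⟩ := key dt hd2 hd1 hdz
  refine ⟨f (DihedralGroup.r 1), ⟨?_, hfmem _, hfmem _, ?_, ?_, ?_, ?_, ?_, ?_⟩⟩
  · rw [← map_mul, k1, hfz]
  · rw [← map_inv, ← map_mul, ← map_mul, k2, map_inv]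
  · intro c hc
    obtain ⟨d, rfl⟩ := hfs c hc
    rcases (k5 d).1 with h | h | h | h | h | h | h | h <;> subst h <;> simp only [map_one, map_mul, hfz] <;> tauto
  · intro c hc hc2
    obtain ⟨d, rfl⟩ := hfs c hc
    have hdd : d * d = 1 := hfi (by rw [map_mul, map_one, ← pow_two, ← hc2, pow_orderOf_eq_one])
    rcases (k5 d).2.1 hdd with h | h | h | h | h | h <;> subst h
    · rw [map_one, orderOf_one] at hc2; omega
    all_goals (simp only [map_mul, hfz]; tauto)
  · intro c hc hct
    obtain ⟨d, rfl⟩ := hfs c hc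
    have hdd : d * dt = dt * d := hfi (by rw [map_mul, map_mul]; exact hct)
    rcases (k5 d).2.2 hdd with h | h | h | h <;> subst h <;> simp only [map_one, map_mul, hfz] <;> tauto
  · rw [← hfz, ← map_inv, ← map_mul, ← map_mul, k3, map_mul]
  · rw [← hfz, ← map_mul f dt, ← map_inv, ← map_mul, ← map_mul, k4, map_mul]

variable [Finite G]

include e in
theorem exists_sylow (hz : orderOf z = 2) :
    ∃ S : Sylow 2 G, (S : Subgroup G) = centralizer ({z} : Set G) := by
  haveI : Fact (Nat.Prime 2) := ⟨Nat.prime_two⟩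
  set C := centralizer ({z} : Set G) with hC
  have hzC : z ∈ C := mem_centralizer_singleton_iff.mpr rfl
  have hC2 : IsPGroup 2 C := IsPGroup.of_card (n := 3) (by rw [card_centralizer e]; norm_num)
  obtain ⟨P, hP⟩ := hC2.exists_le_sylow
  refine ⟨P, le_antisymm (fun x hx => mem_centralizer_singleton_iff.mpr ?_) hP⟩
  haveI : Nontrivial (P : Subgroup G) :=
    ⟨⟨⟨z, hP hzC⟩, 1, fun h => by
      rw [show z = 1 from congrArg Subtype.val h, orderOf_one] at hz; omega⟩⟩
  obtain ⟨u, hu, hu1⟩ := (Subgroup.nontrivial_iff_exists_ne_one _).mp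
    P.isPGroup'.center_nontrivial
  have huc := Subgroup.mem_center_iff.mp hu
  have huC : (u : G) ∈ C :=
    mem_centralizer_singleton_iff.mpr (congrArg Subtype.val (huc ⟨z, hP hzC⟩)).symm
  rcases center_cases e hz huC (fun d hd => (congrArg Subtype.val (huc ⟨d, hP hd⟩)).symm) with h | h
  · exact absurd (Subtype.ext h) hu1
  · rw [← h]
    exact congrArg Subtype.val (huc ⟨x, hx⟩)

include e in
omit [Finite G] in
theorem normalizer_le (hz : orderOf z = 2) :
    normalizer (centralizer ({z} : Set G) : Set G) ≤ centralizer ({z} : Set G) := by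
  intro g hg
  have hzC : z ∈ centralizer ({z} : Set G) := mem_centralizer_singleton_iff.mpr rfl
  have h1 := (mem_normalizer_iff.1 hg z).1 hzC
  rcases center_cases e hz h1 (fun d hd => by
      have hd' := (mem_normalizer_iff.1 (inv_mem hg) d).1 hd
      have hc := mem_centralizer_singleton_iff.mp hd'
      simp only [inv_inv] at hc
      calc g * z * g⁻¹ * d = g * (z * (g⁻¹ * d * g)) * g⁻¹ := by group
        _ = g * ((g⁻¹ * d * g) * z) * g⁻¹ := by rw [hc]
        _ = d * (g * z * g⁻¹) := by group) with h | h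
  · rw [conj_eq_one_iff] at h
    rw [h, orderOf_one] at hz
    omega
  · exact mem_centralizer_singleton_iff.mpr (mul_inv_eq_iff_eq_mul.1 h)

include e in
omit [Finite G] in
/-- An element of odd order commuting with a conjugate of `z` is trivial. -/
theorem eq_one_of_commute {x y : G} (hx : ∃ g, g * z * g⁻¹ = x) (hy : Odd (orderOf y))
    (hxy : y * x = x * y) : y = 1 := by
  obtain ⟨g, rfl⟩ := hx
  have hmem : g⁻¹ * y * g ∈ centralizer ({z} : Set G) := mem_centralizer_singleton_iff.mpr (by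
    calc g⁻¹ * y * g * z = g⁻¹ * (y * (g * z * g⁻¹)) * g := by group
      _ = g⁻¹ * ((g * z * g⁻¹) * y) * g := by rw [hxy]
      _ = z * (g⁻¹ * y * g) := by group)
  have h8 := orderOf_dvd_natCard (⟨_, hmem⟩ : centralizer ({z} : Set G))
  rw [← orderOf_coe, card_centralizer e] at h8
  have ho : orderOf (g⁻¹ * y * g) = orderOf y := by
    rw [show g⁻¹ * y * g = MulAut.conj g⁻¹ y by simp]
    exact MulEquiv.orderOf_eq _ y
  have h8' : orderOf y ∣ 2 ^ 3 := by simpa [ho] using h8
  exact orderOf_eq_one_iff.1 (Nat.Coprime.eq_one_of_dvd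
    (Nat.Coprime.pow_right 3 hy.coprime_two_right) h8')

include e in
/-- A conjugate of `z` inverts each odd order subgroup it normalizes. -/
theorem inverts {K : Subgroup G} (hK : Odd (Nat.card K)) {x : G} (hx : ∃ g, g * z * g⁻¹ = x)
    (hx2 : x * x = 1) (hn : ∀ y ∈ K, x * y * x⁻¹ ∈ K) : ∀ y ∈ K, x * y * x⁻¹ = y⁻¹ := by
  let φ : K →* K := MonoidHom.mk' (fun y => ⟨x * y * x⁻¹, hn y y.2⟩)
    (fun a b => Subtype.ext (by simp))
  have hfix : MonoidHom.FixedPointFree φ := fun y hy => Subtype.ext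
    (eq_one_of_commute e hx (hK.of_dvd_nat (by rw [orderOf_coe]; exact orderOf_dvd_natCard y))
      (mul_inv_eq_iff_eq_mul.1 (congrArg Subtype.val hy)).symm)
  have hinv : Function.Involutive φ := fun y => Subtype.ext (by
    change x * (x * y * x⁻¹) * x⁻¹ = y
    rw [inv_eq_of_mul_eq_one_left hx2]
    calc x * (x * (y : G) * x) * x = x * x * y * (x * x) := by group
      _ = y := by rw [hx2, one_mul, mul_one])
  intro y hy
  exact congrArg Subtype.val (congrFun (hfix.coe_eq_inv_of_involutive hinv) ⟨y, hy⟩)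

variable {t a : G}

include e in
/-- The four group generated by `z` and a conjugate `t` of it normalizes no nontrivial odd order
subgroup. -/
theorem odd_eq_bot (hz : orderOf z = 2) (hS : Std z t a) (hgt : ∃ g, g * z * g⁻¹ = t)
    {K : Subgroup G} (hK : Odd (Nat.card K)) (hnz : ∀ y ∈ K, z * y * z⁻¹ ∈ K)
    (hnt : ∀ y ∈ K, t * y * t⁻¹ ∈ K) : K = ⊥ := by
  have hzz : z * z = 1 := by rw [← pow_two, ← hz, pow_orderOf_eq_one]
  have htt : t * t = 1 := by
    obtain ⟨g, rfl⟩ := hgt
    calc g * z * g⁻¹ * (g * z * g⁻¹) = g * (z * z) * g⁻¹ := by group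
      _ = 1 := by rw [hzz]; group
  have hgtz : ∃ g, g * z * g⁻¹ = t * z := by
    obtain ⟨g, hg⟩ := hgt
    exact ⟨a * g, by rw [← hS.conj_t, ← hg]; group⟩
  refine eq_bot_iff.2 fun y hy => mem_bot.2 ?_
  have h1 := inverts e hK ⟨1, by group⟩ hzz hnz y hy
  have h2 := inverts e hK hgt htt hnt _ (inv_mem hy)
  rw [inv_inv] at h2
  refine eq_one_of_commute e hgtz (hK.of_dvd_nat ?_) ?_
  · have := orderOf_dvd_natCard (⟨y, hy⟩ : K)
    rwa [← orderOf_coe] at this
  · refine (mul_inv_eq_iff_eq_mul.1 ?_).symm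
    calc t * z * y * (t * z)⁻¹ = t * (z * y * z⁻¹) * t⁻¹ := by group
      _ = y := by rw [h1, h2]

section Main

include e in
/-- An isolated such involution gives the factorization by the odd core. -/
theorem sup_oddCore_eq_top (hiso : Cfsg.IsIsolatedInvolution z) :
    centralizer ({z} : Set G) ⊔ Cfsg.oddCore G = ⊤ := by
  classical
  set O := Cfsg.oddCore G
  haveI hOn : O.Normal := ZStar.oddCore_normal
  haveI := Fintype.ofFinite G
  have hz2 : z * z = 1 := by rw [← pow_two, ← hiso.1, pow_orderOf_eq_one]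
  refine eq_top_iff.2 fun g _ => ?_
  have hclosed : ∀ y : G, g⁻¹ * y ∈ O → g⁻¹ * (z * y * z⁻¹) ∈ O := by
    intro y hy
    rw [show g⁻¹ * (z * y * z⁻¹) = g⁻¹ * (z * g * z⁻¹ * g⁻¹) * g * (z * (g⁻¹ * y) * z⁻¹) by group]
    refine mul_mem ?_ (hOn.conj_mem _ hy z)
    have := hOn.conj_mem _ (ZStar.comm_mem_oddCore hiso g) g⁻¹
    rwa [inv_inv] at this
  let Y := {y : G // g⁻¹ * y ∈ O}
  let σ : Equiv.Perm Y :=
    Function.Involutive.toPerm (fun y : Y => ⟨z * y * z⁻¹, hclosed y y.2⟩) fun y => Subtype.ext (by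
      change z * (z * (y : G) * z⁻¹) * z⁻¹ = y
      rw [inv_eq_of_mul_eq_one_left hz2]
      calc z * (z * (y : G) * z) * z = z * z * y * (z * z) := by group
        _ = y := by rw [hz2, one_mul, mul_one])
  have hYcard : Fintype.card Y = Fintype.card O :=
    Fintype.card_congr ((Equiv.mulLeft g⁻¹).subtypeEquiv fun y => Iff.rfl)
  haveI : Fact (Nat.Prime 2) := ⟨Nat.prime_two⟩
  obtain ⟨y, hy⟩ := Equiv.Perm.exists_fixed_point_of_prime (p := 2) (n := 1) (σ := σ)
    (by
      rw [hYcard, ← Nat.card_eq_fintype_card]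
      have := ZStar.odd_card_oddCore (G := G)
      exact fun h => (Nat.not_even_iff_odd.mpr this) (even_iff_two_dvd.mpr h))
    (by
      ext w
      simp only [pow_one, pow_two, Equiv.Perm.mul_apply, Equiv.Perm.one_apply]
      exact congrArg Subtype.val (Function.Involutive.toPerm_involutive _ w))
  have hyC : (y : G) ∈ centralizer ({z} : Set G) := mem_centralizer_singleton_iff.mpr
    (mul_inv_eq_iff_eq_mul.1 (congrArg Subtype.val hy : z * (y : G) * z⁻¹ = y)).symm
  rw [show g = (y : G) * ((g⁻¹ * y)⁻¹) by group]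
  exact mul_mem_sup hyC (inv_mem y.2)

include e in
/-- An element of order two is conjugate into the centralizer. -/
theorem exists_conj_mem (hz : orderOf z = 2) {x : G} (hx : orderOf x = 2) :
    ∃ g, g * x * g⁻¹ ∈ centralizer ({z} : Set G) := by
  obtain ⟨S, hS⟩ := exists_sylow e hz
  obtain ⟨g, hg⟩ := CfsgLib.Involution.Basic.exists_conj_mem S hx
  exact ⟨g, hS ▸ hg⟩

include e in
/-- If both classes of reflections fuse to `z`, the group is simple. -/
theorem isSimpleGroup_of_fused (hz : orderOf z = 2) (hS : Std z t a)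
    (hgt : ∃ g, g * z * g⁻¹ = t) (hgu : ∃ g, g * z * g⁻¹ = t * a) : IsSimpleGroup G := by
  haveI : Fact (Nat.Prime 2) := ⟨Nat.prime_two⟩
  haveI : Nontrivial G := ⟨⟨z, 1, fun h => by rw [h, orderOf_one] at hz; omega⟩⟩
  refine ⟨fun K hK => ?_⟩
  by_cases hodd : Odd (Nat.card K)
  · exact Or.inl (odd_eq_bot e hz hS hgt hodd (fun y hy => hK.conj_mem y hy z)
      (fun y hy => hK.conj_mem y hy t))
  refine Or.inr ?_
  obtain ⟨x, hx⟩ := exists_prime_orderOf_dvd_card' (G := K) 2
    (even_iff_two_dvd.mp (Nat.not_odd_iff_even.mp hodd))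
  rw [← orderOf_coe] at hx
  obtain ⟨c, hc⟩ := exists_conj_mem e hz hx
  obtain ⟨g1, hg1⟩ := hgt
  obtain ⟨g2, hg2⟩ := hgu
  have hzK : z ∈ K := by
    have hx' : c * (x : G) * c⁻¹ ∈ K := hK.conj_mem x x.2 c
    obtain ⟨g, hg⟩ : ∃ g, g * z * g⁻¹ = c * (x : G) * c⁻¹ := by
      rcases hS.invol _ hc ((Dihedral.orderOf_conj c _).trans hx) with h | h | h | h | h <;> rw [h]
      · exact ⟨1, by group⟩
      · exact ⟨g1, hg1⟩
      · exact ⟨a * g1, by rw [← hS.conj_t, ← hg1]; group⟩
      · exact ⟨g2, hg2⟩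
      · exact ⟨a * g2, by rw [← hS.conj_ta, ← hg2]; group⟩
    rw [← hg] at hx'
    have := hK.conj_mem _ hx' g⁻¹
    rwa [show g⁻¹ * (g * z * g⁻¹) * g⁻¹⁻¹ = z by group] at this
  have htK : t ∈ K := hg1 ▸ hK.conj_mem z hzK g1
  have haK : a ∈ K := by
    rw [show a = t⁻¹ * (t * a) by group]
    exact mul_mem (inv_mem htK) (hg2 ▸ hK.conj_mem z hzK g2)
  have hCK : centralizer ({z} : Set G) ≤ K := by
    intro d hd
    rcases hS.cover d hd with rfl | rfl | rfl | rfl | rfl | rfl | rfl | rfl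
    exacts [one_mem K, hzK, htK, mul_mem htK hzK, haK, mul_mem haK hzK, mul_mem htK haK,
      mul_mem (mul_mem htK haK) hzK]
  obtain ⟨S, hS'⟩ := exists_sylow e hz
  have h := Sylow.normalizer_sup_eq_top' (N := K) S (by rw [hS']; exact hCK)
  rw [← h]
  refine (sup_eq_right.2 ?_).symm
  exact (by rw [hS']; exact normalizer_le e hz : normalizer ((S : Subgroup G) : Set G) ≤ _).trans hCK

omit [Finite G] in
/-- A faithful action on cosets of the right size gives a symmetric group. -/
theorem iso_perm {H : Subgroup G} (hcore : H.normalCore = ⊥) {n : ℕ} (hn : H.index = n)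
    (hpos : n ≠ 0) (hcard : Nat.card G = n.factorial) : Nonempty (G ≃* Equiv.Perm (Fin n)) := by
  have hc : Nat.card (G ⧸ H) = n := hn
  haveI : Finite (G ⧸ H) := Nat.finite_of_card_ne_zero (hc ▸ hpos)
  let f : G →* Equiv.Perm (Fin n) :=
    (Finite.equivFinOfCardEq hc).permCongrHom.toMonoidHom.comp (MulAction.toPermHom G (G ⧸ H))
  have hf : Function.Injective f := by
    refine (Finite.equivFinOfCardEq hc).permCongrHom.injective.comp ?_
    rw [← MonoidHom.ker_eq_bot_iff, ← Subgroup.normalCore_eq_ker, hcore]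
  exact ⟨MulEquiv.ofBijective f (hf.bijective_of_nat_card_le
    (le_of_eq (by rw [hcard, Nat.card_perm, Nat.card_fin])))⟩

theorem isKleinFour_congr {A B : Type*} [Group A] [Group B] [IsKleinFour A] (f : A ≃* B) :
    IsKleinFour B :=
  ⟨by rw [← Nat.card_congr f.toEquiv, IsKleinFour.card_four],
    by rw [← Monoid.exponent_eq_of_mulEquiv f, IsKleinFour.exponent_two]⟩

/-- The data of the case in which only one class of reflections fuses to `z`. -/
structure Split (z t a : G) (M V : Subgroup G) : Prop where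
  std : Std z t a
  normal : M.Normal
  index : M.index = 2
  fused : ∃ g, g * z * g⁻¹ = t
  klein : IsKleinFour V
  inf_eq : centralizer ({z} : Set G) ⊓ M = V
  mem : ∀ v, v ∈ V ↔ v = 1 ∨ v = z ∨ v = t ∨ v = t * z
  notMem : t * a ∉ M
  conj : ∀ g, ∃ m ∈ M, g * z * g⁻¹ = m * z * m⁻¹

include e in
theorem exists_split (hz : orderOf z = 2) (hS : Std z t a) (hgt : ∃ g, g * z * g⁻¹ = t)
    (hgu : ¬ ∃ g, g * z * g⁻¹ = t * a) : ∃ M V : Subgroup G, Split z t a M V := by
  obtain ⟨S, hS'⟩ := exists_sylow e hz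
  have hzz : z * z = 1 := by rw [← pow_two, ← hz, pow_orderOf_eq_one]
  have htC := hS.tmem
  have hcomm : z * t = t * z := (mem_centralizer_singleton_iff.mp htC).symm
  obtain ⟨g1, hg1⟩ := hgt
  have ht2 : orderOf t = 2 := by rw [← hg1, Dihedral.orderOf_conj, hz]
  have htt : t * t = 1 := by rw [← pow_two, ← ht2, pow_orderOf_eq_one]
  have htz : t ≠ z := fun h => by
    have h1 := hS.conj_t
    rw [h, hzz, conj_eq_one_iff] at h1
    rw [h1, orderOf_one] at hz
    omega
  have hz1 : z ≠ 1 := fun h => by rw [h, orderOf_one] at hz; omega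
  have ht1 : t ≠ 1 := fun h => by rw [h, orderOf_one] at ht2; omega
  set V := TwoGroupLifts.fourGroup z t hzz htt hcomm with hV
  have hVmem : ∀ v, v ∈ V ↔ v = 1 ∨ v = z ∨ v = t ∨ v = t * z := by
    intro v
    rw [hV, TwoGroupLifts.mem_fourGroup, hcomm]
  have hVK : IsKleinFour V := TwoGroupLifts.isKleinFour_of_four hz1 ht1 htz.symm hzz htt hcomm
    fun v => TwoGroupLifts.mem_fourGroup
  have hVC : V ≤ centralizer ({z} : Set G) := by
    intro v hv
    rcases (hVmem v).1 hv with rfl | rfl | rfl | rfl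
    exacts [one_mem _, mem_centralizer_singleton_iff.mpr rfl, htC,
      mul_mem htC (mem_centralizer_singleton_iff.mpr rfl)]
  have haV : a ∉ V := by
    intro h
    have haz := hS.aa
    rcases (hVmem a).1 h with rfl | rfl | rfl | rfl
    · exact hz1 (by rw [← haz, one_mul])
    · exact hz1 (haz.symm.trans hzz)
    · exact hz1 (haz.symm.trans htt)
    · refine hz1 (haz.symm.trans ?_)
      calc t * z * (t * z) = t * (z * t) * z := by group
        _ = (t * t) * (z * z) := by rw [hcomm]; group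
        _ = 1 := by rw [htt, hzz, one_mul]
  have htaV : t * a ∉ V := fun h => haV (by
    have := mul_mem (inv_mem ((hVmem t).2 (Or.inr (Or.inr (Or.inl rfl))))) h
    rwa [← mul_assoc, inv_mul_cancel, one_mul] at this)
  have hidx : V.relIndex (S : Subgroup G) = 2 := by
    have h1 := (V.subgroupOf (S : Subgroup G)).card_mul_index
    rw [Nat.card_congr (subgroupOfEquivOfLe (hS' ▸ hVC)).toEquiv, IsKleinFour.card_four,
      ← relIndex, hS', card_centralizer e] at h1
    rw [hS']
    omega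
  have hu2 : (t * a) ^ 2 = 1 := by
    calc (t * a) ^ 2 = t * a * (t * a) := pow_two _
      _ = t * a * t⁻¹ * a := by rw [inv_eq_of_mul_eq_one_left htt]; group
      _ = 1 := by rw [hS.tat]; group
  have huC : t * a ∈ centralizer ({z} : Set G) := mul_mem htC hS.amem
  rcases CfsgLib.Fusion.ThompsonTransfer.thompson_transfer S V (hS' ▸ hVC) hidx (t * a) hu2
    (hS' ▸ huC) htaV with ⟨M, hMn, hMi, huM⟩ | ⟨c, hc⟩
  · have hzM : z ∈ M := hS.aa ▸ Subgroup.mul_self_mem_of_index_two hMi a
    have htM : t ∈ M := hg1 ▸ hMn.conj_mem z hzM g1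
    have haM : a ∉ M := fun h => huM (mul_mem htM h)
    refine ⟨M, V, hS, hMn, hMi, ⟨g1, hg1⟩, hVK, le_antisymm ?_ (le_inf hVC ?_), hVmem, huM, ?_⟩
    · rintro d ⟨hd, hdM⟩
      rw [hVmem]
      rcases hS.cover d hd with rfl | rfl | rfl | rfl | rfl | rfl | rfl | rfl
      · exact Or.inl rfl
      · exact Or.inr (Or.inl rfl)
      · exact Or.inr (Or.inr (Or.inl rfl))
      · exact Or.inr (Or.inr (Or.inr rfl))
      · exact absurd hdM haM
      · exact absurd ((mul_mem_cancel_right hzM).1 hdM) haM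
      · exact absurd hdM huM
      · exact absurd ((mul_mem_cancel_right hzM).1 hdM) huM
    · intro v hv
      rcases (hVmem v).1 hv with rfl | rfl | rfl | rfl
      exacts [one_mem _, hzM, htM, mul_mem htM hzM]
    · intro g
      by_cases hg : g ∈ M
      · exact ⟨g, hg, rfl⟩
      refine ⟨g * a, (mul_mem_iff_of_index_two hMi).2 (iff_of_false hg haM), ?_⟩
      rw [← hS.aa]
      group
  · exfalso
    have hne : c * (t * a) * c⁻¹ ≠ 1 := fun h => htaV (by rw [conj_eq_one_iff.1 h]; exact one_mem _)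
    obtain ⟨g, hg⟩ : ∃ g, g * z * g⁻¹ = c * (t * a) * c⁻¹ := by
      rcases (hVmem _).1 hc with h | h | h | h
      · exact absurd h hne
      · exact ⟨1, by rw [h]; group⟩
      · exact ⟨g1, by rw [h, hg1]⟩
      · exact ⟨a * g1, by rw [h, ← hS.conj_t, ← hg1]; group⟩
    exact hgu ⟨c⁻¹ * g, by
      calc c⁻¹ * g * z * (c⁻¹ * g)⁻¹ = c⁻¹ * (g * z * g⁻¹) * c := by group
        _ = t * a := by rw [hg]; group⟩

variable {M V : Subgroup G}

include e in
/-- A group normalized by `z`, `t` with the fours group as self normalizing Sylow subgroup. -/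
theorem eq_klein (hz : orderOf z = 2) (h : Split z t a M V) {K : Subgroup G} (hVK : V ≤ K)
    (hKM : K ≤ M) (hnK : normalizer (V : Set G) ⊓ K ≤ V) (hodd : Odd (V.relIndex M)) : K = V := by
  haveI := h.klein
  haveI : Fact (Nat.Prime 2) := ⟨Nat.prime_two⟩
  have hrel : ¬ 2 ∣ (V.subgroupOf K).index := fun hd => by
    have h2 : 2 ∣ V.relIndex M := hd.trans (Dvd.intro _ (relIndex_mul_relIndex V K M hVK hKM))
    exact (Nat.not_even_iff_odd.2 hodd) (even_iff_two_dvd.2 h2)
  have hp : IsPGroup 2 (V.subgroupOf K) := IsPGroup.of_card (n := 2)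
    (by rw [Nat.card_congr (subgroupOfEquivOfLe hVK).toEquiv, IsKleinFour.card_four]; norm_num)
  set P := hp.toSylow hrel
  have hPc : (P : Subgroup K) = V.subgroupOf K := rfl
  have hP : normalizer (P : Set K) ≤ centralizer (P : Set K) := by
    intro n hn
    have hnV : (n : G) ∈ V := by
      refine hnK ⟨?_, n.2⟩
      rw [← P.coe_coe, hPc, mem_normalizer_iff] at hn
      refine mem_normalizer_iff.2 fun v => ⟨fun hv => ?_, fun hv => ?_⟩
      · exact (hn ⟨v, hVK hv⟩).1 hv
      · have hvK : v ∈ K := by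
          have := mul_mem (mul_mem (inv_mem n.2) (hVK hv)) n.2
          simpa [mul_assoc] using this
        exact (hn ⟨v, hvK⟩).2 hv
    refine mem_centralizer_iff.2 fun p hp' => Subtype.ext ?_
    rw [← P.coe_coe, hPc] at hp'
    have hc := congrArg Subtype.val
      (mul_comm_of_exponent_two IsKleinFour.exponent_two (⟨(p : G), hp'⟩ : V) ⟨(n : G), hnV⟩)
    exact hc
  obtain ⟨L, hLn, hLodd, hc⟩ : ∃ L : Subgroup K,
      L.Normal ∧ Odd (Nat.card L) ∧ (P : Subgroup K).index = Nat.card L :=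
    ⟨_, MonoidHom.normal_ker (MonoidHom.transferSylow P hP),
      Nat.not_even_iff_odd.1 fun hd =>
        MonoidHom.not_dvd_card_ker_transferSylow P hP (even_iff_two_dvd.1 hd),
      (MonoidHom.ker_transferSylow_isComplement' P hP).index_eq_card⟩
  have hLo : Odd (Nat.card (L.map K.subtype)) := by
    rwa [Subgroup.card_map_of_injective K.subtype_injective]
  have hnorm : ∀ x ∈ V, ∀ y ∈ L.map K.subtype, x * y * x⁻¹ ∈ L.map K.subtype := by
    rintro x hx _ ⟨y, hy, rfl⟩
    exact ⟨⟨x, hVK hx⟩ * y * ⟨x, hVK hx⟩⁻¹, hLn.conj_mem y hy _, rfl⟩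
  have hL : L = ⊥ := (map_eq_bot_iff_of_injective _ K.subtype_injective).1
    (odd_eq_bot e hz h.std h.fused hLo (hnorm z ((h.mem z).2 (Or.inr (Or.inl rfl))))
      (hnorm t ((h.mem t).2 (Or.inr (Or.inr (Or.inl rfl))))))
  rw [hL, card_bot, index_eq_one, hPc, subgroupOf_eq_top] at hc
  exact le_antisymm hc hVK

include e in
theorem relIndex_klein (hz : orderOf z = 2) (h : Split z t a M V) : Odd (V.relIndex M) := by
  haveI := h.klein
  obtain ⟨S, hS⟩ := exists_sylow e hz
  have hVM : V ≤ M := h.inf_eq ▸ inf_le_right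
  have h1 := V.card_mul_index
  have h2 := (S : Subgroup G).card_mul_index
  have h4 : V.relIndex M * M.index = V.index := relIndex_mul_index hVM
  rw [IsKleinFour.card_four] at h1
  rw [hS, card_centralizer e] at h2
  rw [h.index] at h4
  have hi : V.relIndex M = (S : Subgroup G).index := by rw [hS]; omega
  rw [hi]
  haveI : Fact (Nat.Prime 2) := ⟨Nat.prime_two⟩
  exact Nat.not_even_iff_odd.1 fun hd => S.not_dvd_index (even_iff_two_dvd.1 hd)

include e in
theorem card_normalizer (hz : orderOf z = 2) (h : Split z t a M V) :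
    Nat.card (normalizer (V : Set G)) = 24 ∧ Nat.card (M ⊓ normalizer (V : Set G) : Subgroup G) = 12 ∧
      centralizer ({z} : Set G) ≤ normalizer (V : Set G) ∧ centralizer (V : Set G) = V := by
  haveI := h.klein
  haveI := h.normal
  set C := centralizer ({z} : Set G)
  set N := normalizer (V : Set G)
  have hzV : z ∈ V := (h.mem z).2 (Or.inr (Or.inl rfl))
  have htV : t ∈ V := (h.mem t).2 (Or.inr (Or.inr (Or.inl rfl)))
  have hcen : centralizer (V : Set G) = V := by
    refine le_antisymm (fun x hx => ?_) fun x hx => mem_centralizer_iff.2 fun y hy =>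
      congrArg Subtype.val (mul_comm_of_exponent_two IsKleinFour.exponent_two (⟨y, hy⟩ : V) ⟨x, hx⟩)
    rw [mem_centralizer_iff] at hx
    exact (h.mem x).2 (h.std.cent x (mem_centralizer_singleton_iff.mpr (hx z hzV).symm) (hx t htV).symm)
  have hCN : C ≤ N := by
    intro c hc
    have hfwd : ∀ d ∈ C, ∀ v ∈ V, d * v * d⁻¹ ∈ V := by
      intro d hd v hv
      rw [← h.inf_eq] at hv ⊢
      exact mem_inf.2 ⟨C.mul_mem (C.mul_mem hd (mem_inf.1 hv).1) (C.inv_mem hd),
        h.normal.conj_mem v (mem_inf.1 hv).2 d⟩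
    refine mem_normalizer_iff.2 fun v => ⟨hfwd c hc v, fun hv => ?_⟩
    have := hfwd c⁻¹ (inv_mem hc) _ hv
    simpa [mul_assoc] using this
  have hr := KleinAutomizer.relIndex_dvd_six h.klein
  rw [hcen] at hr
  have hVN : V ≤ N := le_normalizer
  have h1 := (V.subgroupOf N).card_mul_index
  rw [Nat.card_congr (subgroupOfEquivOfLe hVN).toEquiv, IsKleinFour.card_four, ← relIndex] at h1
  have h8 : 8 ∣ Nat.card N := by
    rw [← card_centralizer e]; exact card_dvd_of_le hCN
  have hodd := relIndex_klein e hz h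
  have hne : Nat.card N ≠ 8 := by
    intro hN
    have hNC : C = N := eq_of_le_of_card_ge hCN (by rw [hN, card_centralizer e])
    have hMV : M = V := eq_klein e hz h (h.inf_eq ▸ inf_le_right) le_rfl
      (by rw [show normalizer (V : Set G) = C from hNC.symm, h.inf_eq]) hodd
    obtain ⟨g, hg⟩ := h.fused
    obtain ⟨m, hm, hgm⟩ := h.conj g
    rw [hMV, ← h.inf_eq] at hm
    have hmz := mem_centralizer_singleton_iff.mp hm.1
    have htz : t = z := by rw [← hg, hgm, hmz, mul_inv_cancel_right]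
    refine h.notMem ?_
    exfalso
    have h1 := h.std.conj_t
    rw [htz] at h1
    have hz1 : z = 1 := by
      rw [show a * z * a⁻¹ = z by rw [← h.std.aa]; group] at h1
      exact (mul_eq_left.1 h1.symm)
    rw [hz1, orderOf_one] at hz
    omega
  have hrel : V.relIndex N = 6 := by
    obtain ⟨k, hk⟩ := h8
    have := Nat.le_of_dvd (by norm_num) hr
    interval_cases hv : V.relIndex N <;> omega
  have hN24 : Nat.card N = 24 := by rw [hrel] at h1; omega
  refine ⟨hN24, ?_, hCN, hcen⟩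
  have h2 := (M.subgroupOf N).card_mul_index
  rw [← inf_subgroupOf_right M N, Nat.card_congr (subgroupOfEquivOfLe inf_le_right).toEquiv,
    inf_subgroupOf_right, ← relIndex, hN24] at h2
  have hd : M.relIndex N ∣ 2 := h.index ▸ relIndex_dvd_index_of_normal M N
  rcases (Nat.dvd_prime Nat.prime_two).1 hd with h3 | h3
  · exact absurd (relIndex_eq_one.1 h3 (hCN (mul_mem h.std.tmem h.std.amem))) h.notMem
  · rw [h3] at h2; omega

include e in
theorem split_cases (hz : orderOf z = 2) (h : Split z t a M V) :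
    (normalizer (V : Set G) = ⊤ ∧ Nat.card G = 24) ∨ (normalizer (V : Set G) ≠ ⊤ ∧ IsSimpleGroup M) := by
  haveI := h.klein
  haveI := h.normal
  haveI : Fact (Nat.Prime 2) := ⟨Nat.prime_two⟩
  obtain ⟨hN24, hNM, hCN, -⟩ := card_normalizer e hz h
  set N := normalizer (V : Set G)
  by_cases hN : N = ⊤
  · exact Or.inl ⟨hN, by rw [← hN24, hN, card_top]⟩
  refine Or.inr ⟨hN, ?_⟩
  have hMN : ¬ M ≤ N := by
    intro hle
    refine hN (eq_top_iff.2 fun g _ => ?_)
    by_cases hg : g ∈ M
    · exact hle hg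
    have hua : g * (t * a) ∈ M := (mul_mem_iff_of_index_two h.index).2 (iff_of_false hg h.notMem)
    rw [show g = g * (t * a) * (t * a)⁻¹ by group]
    exact mul_mem (hle hua) (inv_mem (hCN (mul_mem h.std.tmem h.std.amem)))
  have hVM : V ≤ M := h.inf_eq ▸ inf_le_right
  have hzV : z ∈ V := (h.mem z).2 (Or.inr (Or.inl rfl))
  have htV : t ∈ V := (h.mem t).2 (Or.inr (Or.inr (Or.inl rfl)))
  haveI : Nontrivial M := ⟨⟨⟨z, hVM hzV⟩, 1, fun he => by
    rw [show z = 1 from congrArg Subtype.val he, orderOf_one] at hz; omega⟩⟩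
  refine ⟨fun L hL => ?_⟩
  set K := L.map M.subtype with hK
  have hKM : K ≤ M := map_subtype_le L
  have hKn : ∀ m ∈ M, ∀ y ∈ K, m * y * m⁻¹ ∈ K := by
    rintro m hm _ ⟨y, hy, rfl⟩
    exact ⟨⟨m, hm⟩ * y * ⟨m, hm⟩⁻¹, hL.conj_mem y hy _, rfl⟩
  by_cases hodd : Odd (Nat.card K)
  · exact Or.inl ((map_eq_bot_iff_of_injective _ M.subtype_injective).1
      (odd_eq_bot e hz h.std h.fused hodd (hKn z (hVM hzV)) (hKn t (hVM htV))))
  refine Or.inr ?_
  obtain ⟨x, hx⟩ := exists_prime_orderOf_dvd_card' (G := K) 2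
    (even_iff_two_dvd.mp (Nat.not_odd_iff_even.mp hodd))
  rw [← orderOf_coe] at hx
  obtain ⟨c, hc⟩ := exists_conj_mem e hz hx
  obtain ⟨g1, hg1⟩ := h.fused
  have hcV : c * (x : G) * c⁻¹ ∈ V := by
    rw [← h.inf_eq]; exact ⟨hc, h.normal.conj_mem _ (hKM x.2) c⟩
  have hzK : z ∈ K := by
    obtain ⟨g, hg⟩ : ∃ g, g * z * g⁻¹ = c * (x : G) * c⁻¹ := by
      rcases (h.mem _).1 hcV with he | he | he | he
      · rw [conj_eq_one_iff] at he
        rw [he, orderOf_one] at hx
        omega
      · exact ⟨1, by rw [he]; group⟩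
      · exact ⟨g1, by rw [he, hg1]⟩
      · exact ⟨a * g1, by rw [he, ← h.std.conj_t, ← hg1]; group⟩
    obtain ⟨m, hm, hgm⟩ := h.conj (c⁻¹ * g)
    have hxe : (x : G) = m * z * m⁻¹ := by
      rw [← hgm]
      calc (x : G) = c⁻¹ * (c * (x : G) * c⁻¹) * c := by group
        _ = _ := by rw [← hg]; group
    have := hKn m⁻¹ (inv_mem hm) _ x.2
    rw [hxe] at this
    rwa [show m⁻¹ * (m * z * m⁻¹) * m⁻¹⁻¹ = z by group] at this
  have htK : t ∈ K := by
    obtain ⟨m, hm, hgm⟩ := h.conj g1
    rw [← hg1, hgm]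
    exact hKn m hm z hzK
  have hVK : V ≤ K := by
    intro v hv
    rcases (h.mem v).1 hv with rfl | rfl | rfl | rfl
    exacts [one_mem _, hzK, htK, mul_mem htK hzK]
  by_cases hNK : M ⊓ N ≤ K
  · have hp : IsPGroup 2 (V.subgroupOf M) := IsPGroup.of_card (n := 2)
      (by rw [Nat.card_congr (subgroupOfEquivOfLe hVM).toEquiv, IsKleinFour.card_four]; norm_num)
    set P := hp.toSylow (fun hd =>
      (Nat.not_even_iff_odd.2 (relIndex_klein e hz h)) (even_iff_two_dvd.2 hd))
    have hPc : (P : Subgroup M) = V.subgroupOf M := rfl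
    have hPL : (P : Subgroup M) ≤ L := fun p hp' => (mem_map_iff_mem M.subtype_injective).1 (hVK hp')
    have hT := Sylow.normalizer_sup_eq_top' (N := L) P hPL
    rw [← hT]
    refine (sup_eq_right.2 ?_).symm
    intro n hn
    rw [← P.coe_coe, hPc, mem_normalizer_iff] at hn
    refine (mem_map_iff_mem M.subtype_injective).1 (hNK ⟨n.2, mem_normalizer_iff.2 fun v =>
      ⟨fun hv => (hn ⟨v, hVM hv⟩).1 hv, fun hv => ?_⟩⟩)
    have hvM : v ∈ M := by
      have := mul_mem (mul_mem (inv_mem n.2) (hVM hv)) n.2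
      simpa [mul_assoc] using this
    exact (hn ⟨v, hvM⟩).2 hv
  exfalso
  have hle : N ⊓ K ≤ M ⊓ N := fun y hy => ⟨hKM hy.2, hy.1⟩
  have h4 : 4 ∣ Nat.card (N ⊓ K : Subgroup G) := by
    rw [← IsKleinFour.card_four (G := V)]
    exact card_dvd_of_le (le_inf le_normalizer hVK)
  have h12 : Nat.card (N ⊓ K : Subgroup G) ∣ 12 := hNM ▸ card_dvd_of_le hle
  have hlt : Nat.card (N ⊓ K : Subgroup G) ≠ 12 := fun he =>
    hNK ((eq_of_le_of_card_ge hle (by rw [he, hNM])) ▸ inf_le_right)
  have hcard : Nat.card (N ⊓ K : Subgroup G) = 4 := by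
    obtain ⟨k, hk⟩ := h4
    have := Nat.le_of_dvd (by norm_num) h12
    obtain ⟨l, hl⟩ := h12
    have : 0 < Nat.card (N ⊓ K : Subgroup G) := Nat.card_pos
    interval_cases hn : Nat.card (N ⊓ K : Subgroup G) <;> omega
  have hVeq : V = N ⊓ K := eq_of_le_of_card_ge (le_inf le_normalizer hVK)
    (by rw [hcard, IsKleinFour.card_four])
  have hKV : K = V := eq_klein e hz h hVK hKM hVeq.ge (relIndex_klein e hz h)
  refine hMN fun m hm => mem_normalizer_iff.2 fun v => ⟨fun hv => ?_, fun hv => ?_⟩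
  · rw [← hKV] at hv ⊢; exact hKn m hm v hv
  · rw [← hKV] at hv ⊢
    have := hKn m⁻¹ (inv_mem hm) _ hv
    simpa [mul_assoc] using this

include e in
theorem iso_symmetric_four (hz : orderOf z = 2) (h : Split z t a M V)
    (hN : normalizer (V : Set G) = ⊤) (hG : Nat.card G = 24) :
    Nonempty (G ≃* Equiv.Perm (Fin 4)) := by
  haveI := h.klein
  haveI : V.Normal := normalizer_eq_top_iff.1 hN
  haveI : Fact (Nat.Prime 3) := ⟨Nat.prime_three⟩
  obtain ⟨-, -, -, hcen⟩ := card_normalizer e hz h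
  obtain ⟨g1, hg1⟩ := h.fused
  have key : ∀ K : Subgroup G, K.Normal → ¬ 4 ∣ Nat.card K → K = ⊥ := by
    intro K hK h4
    have hdis : Disjoint K V := by
      rw [disjoint_iff, eq_bot_iff]
      rintro v ⟨hvK, hvV⟩
      by_contra hv1
      obtain ⟨g, hg⟩ : ∃ g, g * z * g⁻¹ = v := by
        rcases (h.mem _).1 hvV with he | he | he | he
        · exact absurd he hv1
        · exact ⟨1, by rw [he]; group⟩
        · exact ⟨g1, by rw [he, hg1]⟩
        · exact ⟨a * g1, by rw [he, ← h.std.conj_t, ← hg1]; group⟩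
      have hzK : z ∈ K := by
        have := hK.conj_mem v hvK g⁻¹
        rwa [← hg, show g⁻¹ * (g * z * g⁻¹) * g⁻¹⁻¹ = z by group] at this
      have htK : t ∈ K := hg1 ▸ hK.conj_mem z hzK g1
      refine h4 ?_
      rw [← IsKleinFour.card_four (G := V)]
      refine card_dvd_of_le fun w hw => ?_
      rcases (h.mem w).1 hw with rfl | rfl | rfl | rfl
      exacts [one_mem _, hzK, htK, mul_mem htK hzK]
    refine eq_bot_iff.2 fun k hk => hdis.le_bot ⟨hk, hcen.le (mem_centralizer_iff.2 fun v hv => ?_)⟩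
    exact (commute_of_normal_of_disjoint K V hK inferInstance hdis k v hk hv).symm
  obtain ⟨Q⟩ := (inferInstance : Nonempty (Sylow 3 G))
  have hn := card_sylow_modEq_one 3 G
  rw [Q.card_eq_index_normalizer] at hn
  have hd := (normalizer ((Q : Subgroup G) : Set G)).index_dvd_card
  rw [hG] at hd
  have h1 : (normalizer ((Q : Subgroup G) : Set G)).index ≠ 1 := by
    intro h1
    rw [index_eq_one, normalizer_eq_top_iff] at h1
    refine Q.ne_bot_of_dvd_card (by rw [hG]; norm_num) (key _ h1 fun h4 => ?_)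
    obtain ⟨k, hk⟩ := IsPGroup.iff_card.1 Q.isPGroup'
    rw [hk] at h4
    have := (Nat.Prime.dvd_of_dvd_pow Nat.prime_two (dvd_trans (by norm_num) h4) : 2 ∣ 3)
    omega
  have h4 : (normalizer ((Q : Subgroup G) : Set G)).index = 4 := by
    have hle := Nat.le_of_dvd (by norm_num) hd
    unfold Nat.ModEq at hn
    interval_cases hi : (normalizer ((Q : Subgroup G) : Set G)).index <;> omega
  refine iso_perm ?_ h4 (by norm_num) (by rw [hG]; decide)
  refine key _ (normalCore_normal _) fun hd4 => ?_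
  have h6 := (normalizer ((Q : Subgroup G) : Set G)).card_mul_index
  rw [h4, hG] at h6
  have := hd4.trans (card_dvd_of_le (normalCore_le _))
  omega

include e in
theorem iso_symmetric_five (hz : orderOf z = 2) (h : Split z t a M V)
    (hN : normalizer (V : Set G) ≠ ⊤) [IsSimpleGroup M] (hM : Nat.card M = 60) :
    Nonempty (G ≃* Equiv.Perm (Fin 5)) := by
  haveI := h.klein
  obtain ⟨hN24, -, hCN, -⟩ := card_normalizer e hz h
  have hG : Nat.card G = 120 := by rw [← M.card_mul_index, hM, h.index]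
  set N := normalizer (V : Set G)
  have hidx : N.index = 5 := by
    have := N.card_mul_index
    rw [hN24, hG] at this
    omega
  refine iso_perm ?_ hidx (by norm_num) (by rw [hG]; decide)
  set K := N.normalCore
  have hKn : K.Normal := normalCore_normal N
  have hMN : ¬ M ≤ N := by
    intro hle
    have h1 := card_dvd_of_le hle
    rw [hM, hN24] at h1
    norm_num at h1
  have hdis : ∀ k ∈ K, k ∈ M → k = 1 := by
    haveI := h.normal
    intro k hk hkM
    rcases (hKn.subgroupOf M).eq_bot_or_eq_top with hb | ht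
    · exact congrArg Subtype.val ((eq_bot_iff.1 hb) (x := (⟨k, hkM⟩ : M)) hk |> mem_bot.1)
    · exact absurd ((subgroupOf_eq_top.1 ht).trans (normalCore_le N)) hMN
  have hzV : z ∈ V := (h.mem z).2 (Or.inr (Or.inl rfl))
  have hzM : z ∈ M := by rw [← h.inf_eq] at hzV; exact hzV.2
  refine eq_bot_iff.2 fun k hk => mem_bot.2 ?_
  have hcomm : ∀ d, d ∈ M ∨ d ∈ centralizer ({z} : Set G) → k * d * k⁻¹ * d⁻¹ = 1 := by
    intro d _
    refine hdis _ ?_ ?_
    · rw [show k * d * k⁻¹ * d⁻¹ = k * (d * k⁻¹ * d⁻¹) by group]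
      exact mul_mem hk (hKn.conj_mem _ (inv_mem hk) d)
    · simp only [mul_mem_iff_of_index_two h.index, inv_mem_iff]
      tauto
  have hkC : k ∈ centralizer ({z} : Set G) := mem_centralizer_singleton_iff.mpr
    (mul_inv_eq_iff_eq_mul.1 (mul_inv_eq_one.1 (hcomm z (Or.inl hzM))))
  rcases center_cases e hz hkC (fun d hd =>
      mul_inv_eq_iff_eq_mul.1 (mul_inv_eq_one.1 (hcomm d (Or.inr hd)))) with h1 | h1
  · exact h1
  · exact hdis k hk (h1 ▸ hzM)

end Main

end CfsgLib.LocalEvenB.CentralizerDihedralEight
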