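import Mathlib
import Cfsg.Agent.Lib.Coprime.SchurZassenhaus
import Cfsg.Agent.Lib.Coprime.Action
import Cfsg.Agent.Lib.Fusion.GlaubermanThompson
import Cfsg.Agent.Lib.Solvable.FPFNilpotent

/-!
Coprime action in which every proper invariant subgroup is nilpotent.
-/

set_option autoImplicit false

namespace CfsgLib.LocalEvenB.InvariantNilpotent

open Subgroup
open scoped Pointwise

universe u v

/-- Elements of coprime orders commute in a nilpotent group. -/
theorem commute_of_coprime {L : Type*} [Group L] [Finite L] [Group.IsNilpotent L] {a b : L}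
    (h : (orderOf a).Coprime (orderOf b)) : a * b = b * a := by
  obtain ⟨e⟩ := Group.isNilpotent_of_finite_tfae.out 0 4 |>.mp (inferInstance : Group.IsNilpotent L)
  refine e.symm.injective ?_
  rw [map_mul, map_mul]
  funext q P
  have hq : (q : ℕ).Prime := Nat.prime_of_mem_primeFactors q.2
  haveI := Fact.mk hq
  show e.symm a q P * e.symm b q P = e.symm b q P * e.symm a q P
  let π : L →* (P : Subgroup L) := ((Pi.evalMonoidHom _ P).comp (Pi.evalMonoidHom _ q)).comp e.symm.toMonoidHom
  obtain ⟨i, hi⟩ := IsPGroup.iff_orderOf.mp P.2 (π a)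
  obtain ⟨j, hj⟩ := IsPGroup.iff_orderOf.mp P.2 (π b)
  show π a * π b = π b * π a
  rcases Nat.eq_zero_or_pos i with rfl | hi0
  · rw [pow_zero, orderOf_eq_one_iff] at hi; rw [hi, one_mul, mul_one]
  rcases Nat.eq_zero_or_pos j with rfl | hj0
  · rw [pow_zero, orderOf_eq_one_iff] at hj; rw [hj, one_mul, mul_one]
  exfalso
  exact hq.ne_one (Nat.eq_one_of_dvd_coprimes h
    ((dvd_pow_self _ hi0.ne').trans (hi ▸ orderOf_map_dvd π a))
    ((dvd_pow_self _ hj0.ne').trans (hj ▸ orderOf_map_dvd π b)))

variable {A : Type u} [Group A] {G : Type v} [Group G]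

/-- Invariance under a group of automorphisms. -/
def Inv (φ : A →* MulAut G) (H : Subgroup G) : Prop := ∀ a, ∀ x ∈ H, φ a x ∈ H

theorem map_eq_of_inv [Finite G] {φ : A →* MulAut G} {H : Subgroup G} (h : Inv φ H) (a : A) :
    H.map (φ a).toMonoidHom = H := by
  refine eq_of_le_of_card_ge ?_ ?_
  · rintro _ ⟨x, hx, rfl⟩; exact h a x hx
  · exact (Nat.card_congr (H.equivMapOfInjective _ (φ a).injective).toEquiv).le

theorem inv_normalizer [Finite G] {φ : A →* MulAut G} {H : Subgroup G} (h : Inv φ H) :
    Inv φ (normalizer (H : Set G)) := by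
  intro a x hx
  refine Subgroup.mem_normalizer_iff.2 fun y => ?_
  obtain ⟨z, rfl⟩ := (φ a).surjective y
  have key : ∀ w, φ a w ∈ H ↔ w ∈ H := fun w => by
    refine ⟨fun hw => ?_, h a w⟩
    have := h a⁻¹ _ hw
    rwa [← MulAut.mul_apply, ← map_mul, inv_mul_cancel, map_one, MulAut.one_apply] at this
  rw [← map_inv, ← map_mul, ← map_mul, key, key]
  exact Subgroup.mem_normalizer_iff.1 hx z

/-- A conjugation and automorphism stable transitive family of subgroups has a fixed member. -/
theorem exists_inv [Finite A] [Finite G] (φ : A →* MulAut G)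
    (hcop : (Nat.card A).Coprime (Nat.card G)) (hsolv : Group.IsSolvable A ∨ Group.IsSolvable G)
    (s : Set (Subgroup G)) (hs : s.Nonempty)
    (hA : ∀ a, ∀ H ∈ s, H.map (φ a).toMonoidHom ∈ s)
    (hG : ∀ g, ∀ H ∈ s, H.map (MulAut.conj g).toMonoidHom ∈ s)
    (htr : ∀ H ∈ s, ∀ K ∈ s, ∃ g, H.map (MulAut.conj g).toMonoidHom = K) :
    ∃ H ∈ s, Inv φ H := by
  obtain ⟨x, hx⟩ := hs
  let X := G ⋊[φ] A
  haveI : Finite X := Finite.of_equiv _ SemidirectProduct.equivProd.symm
  let θ : X →* MulAut G := SemidirectProduct.lift MulAut.conj φ fun a => by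
    ext g h
    simp [MulAut.conj_apply]
  let inst : MulAction X (Subgroup G) := MulAction.compHom _ θ
  have hsmul : ∀ (z : X) (H : Subgroup G), z • H = H.map (θ z).toMonoidHom := fun z H => rfl
  have hl : ∀ g, θ (SemidirectProduct.inl g) = MulAut.conj g := fun g => SemidirectProduct.lift_inl _ _ _ g
  have hr : ∀ a, θ (SemidirectProduct.inr a) = φ a := fun a => SemidirectProduct.lift_inr _ _ _ a
  set A' : Subgroup X := (SemidirectProduct.inr : A →* X).range
  set K' : Subgroup X := (SemidirectProduct.inl : G →* X).range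
  have hcardA : Nat.card A' = Nat.card A :=
    (Nat.card_congr (MonoidHom.ofInjective SemidirectProduct.inr_injective).toEquiv).symm
  have hcardK : Nat.card K' = Nat.card G :=
    (Nat.card_congr (MonoidHom.ofInjective SemidirectProduct.inl_injective).toEquiv).symm
  haveI : K'.Normal := by
    rw [show K' = (SemidirectProduct.rightHom : X →* A).ker from
      SemidirectProduct.range_inl_eq_ker_rightHom]
    infer_instance
  have hs' : Group.IsSolvable A' ∨ Group.IsSolvable K' := by
    rcases hsolv with h | h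
    · left
      haveI := h
      exact Group.isSolvable_of_surjective
        (f := (MonoidHom.rangeRestrict (SemidirectProduct.inr : A →* X)))
        (MonoidHom.rangeRestrict_surjective _)
    · right
      haveI := h
      exact Group.isSolvable_of_surjective
        (f := (MonoidHom.rangeRestrict (SemidirectProduct.inl : G →* X)))
        (MonoidHom.rangeRestrict_surjective _)
  obtain ⟨H, hH, hfix⟩ := CfsgLib.Coprime.exists_fixed_mem (A := A') (K := K')
    (by rw [normalizer_eq_top]; exact le_top) (by rw [hcardA, hcardK]; exact hcop) hs' (s := s) hx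
    (by rintro _ ⟨a, rfl⟩ y hy; rw [hsmul, hr]; exact hA a y hy)
    (by rintro _ ⟨g, rfl⟩ y hy; rw [hsmul, hl]; exact hG g y hy)
    (fun y hy => by
      obtain ⟨g, hg⟩ := htr x hx y hy
      exact ⟨_, ⟨g, rfl⟩, by rw [hsmul, hl, hg]⟩)
  refine ⟨H, hH, fun a z hz => ?_⟩
  have := hfix _ ⟨a, rfl⟩
  rw [hsmul, hr] at this
  rw [← this]
  exact mem_map_of_mem _ hz

theorem exists_inv_sylow [Finite A] [Finite G] (φ : A →* MulAut G)
    (hcop : (Nat.card A).Coprime (Nat.card G)) (hsolv : Group.IsSolvable A ∨ Group.IsSolvable G)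
    (p : ℕ) [Fact p.Prime] : ∃ P : Sylow p G, Inv φ (P : Subgroup G) := by
  obtain ⟨P₀⟩ : Nonempty (Sylow p G) := inferInstance
  have key : ∀ (ψ : MulAut G) (P : Sylow p G),
      ∃ Q : Sylow p G, (Q : Subgroup G) = (P : Subgroup G).map ψ.toMonoidHom := fun ψ P => by
    refine ⟨Sylow.ofCard _ ?_, rfl⟩
    exact (Nat.card_congr ((P : Subgroup G).equivMapOfInjective _ ψ.injective).toEquiv).symm.trans
      P.card_eq_multiplicity
  obtain ⟨H, ⟨P, rfl⟩, h⟩ := exists_inv φ hcop hsolv (Set.range fun P : Sylow p G => (P : Subgroup G))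
    ⟨_, P₀, rfl⟩ (by rintro a _ ⟨P, rfl⟩; exact key _ P) (by rintro g _ ⟨P, rfl⟩; exact key _ P)
    (by
      rintro _ ⟨P, rfl⟩ _ ⟨Q, rfl⟩
      obtain ⟨g, hg⟩ := MulAction.exists_smul_eq G P Q
      exact ⟨g, by rw [← hg]; rfl⟩)
  exact ⟨P, h⟩

/-- A normal nilpotent subgroup of index prime to `r` yields a normal Sylow `r`-subgroup. -/
theorem normal_sylow_of_nilpotent [Finite G] {M : Subgroup G} [hM : M.Normal]
    (hn : Group.IsNilpotent M) (r : ℕ) [Fact r.Prime] (hi : ¬r ∣ M.index) :
    ∃ R : Sylow r G, (R : Subgroup G).Normal := by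
  obtain ⟨R₀⟩ : Nonempty (Sylow r M) := inferInstance
  haveI := hn
  have hR₀ : (R₀ : Subgroup M).Normal := inferInstance
  haveI : (R₀ : Subgroup M).Characteristic := Sylow.characteristic_of_normal R₀ hR₀
  refine ⟨Sylow.ofCard ((R₀ : Subgroup M).map M.subtype) ?_, ?_⟩
  · rw [Nat.card_congr ((R₀ : Subgroup M).equivMapOfInjective _ M.subtype_injective).symm.toEquiv,
      R₀.card_eq_multiplicity, ← card_mul_index M, Nat.factorization_mul Nat.card_pos.ne'
        index_ne_zero_of_finite, Finsupp.add_apply, Nat.factorization_eq_zero_of_not_dvd hi, add_zero]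
  · change ((R₀ : Subgroup M).map M.subtype).Normal
    infer_instance

/-- The action induced on a quotient. -/
noncomputable def quotAut [Finite G] (φ : A →* MulAut G) (W : Subgroup G) [W.Normal] (h : Inv φ W) :
    A →* MulAut (G ⧸ W) where
  toFun a := QuotientGroup.congr W W (φ a) (map_eq_of_inv h a)
  map_one' := by
    ext x
    induction x using QuotientGroup.induction_on
    simp
  map_mul' a b := by
    ext x
    induction x using QuotientGroup.induction_on with | _ z => ?_
    change ((φ (a * b) z : G) : G ⧸ W) = ((φ a (φ b z) : G) : G ⧸ W)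
    rw [map_mul]; rfl

theorem inv_comap [Finite G] (φ : A →* MulAut G) (W : Subgroup G) [W.Normal] (h : Inv φ W)
    {H : Subgroup (G ⧸ W)} (hH : Inv (quotAut φ W h) H) :
    Inv φ (H.comap (QuotientGroup.mk' W)) := by
  intro a x hx
  have := hH a _ hx
  exact this

/-- Some Sylow subgroup is normal. -/
theorem exists_normal_sylow [Finite A] : ∀ (n : ℕ) (G : Type v) [Group G] [Finite G],
    Nat.card G = n → ∀ φ : A →* MulAut G, (Nat.card A).Coprime (Nat.card G) →
      (Group.IsSolvable A ∨ Group.IsSolvable G) →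
      (∀ H : Subgroup G, H ≠ ⊤ → Inv φ H → Group.IsNilpotent H) → ¬Group.IsNilpotent G →
      ∃ r : ℕ, r.Prime ∧ r ∣ Nat.card G ∧ ∃ R : Sylow r G, (R : Subgroup G).Normal := by
  intro n
  induction n using Nat.strong_induction_on with | _ n ih => ?_
  intro G _ _ hn φ hcop hsolv hmax hG
  subst hn
  obtain ⟨p, hp, hpG, hp2⟩ : ∃ p, p.Prime ∧ p ∣ Nat.card G ∧ p ≠ 2 := by
    by_contra hcon
    push Not at hcon
    obtain ⟨k, hk⟩ : ∃ k, Nat.card G = 2 ^ k :=
      ⟨_, Nat.eq_prime_pow_of_unique_prime_dvd Nat.card_pos.ne' fun {d} hd hdd => hcon d hd hdd⟩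
    haveI : Fact (Nat.Prime 2) := ⟨Nat.prime_two⟩
    exact hG (IsPGroup.of_card hk).isNilpotent
  haveI := Fact.mk hp
  obtain ⟨P, hP⟩ := exists_inv_sylow φ hcop hsolv p
  let Z : CfsgLib.Fusion.GlaubermanThompson.ZFun.{v} p :=
    CfsgLib.Fusion.GlaubermanThompson.zFunFull hp2
  set W := Z.w (P : Subgroup G) with hW
  have hPne : (P : Subgroup G) ≠ ⊥ := P.ne_bot_of_dvd_card hpG
  have hWne : W ≠ ⊥ := Z.ne_bot _ P.isPGroup' hPne
  have hWP : W ≤ (P : Subgroup G) := Z.le _
  have hWI : Inv φ W := fun a x hx => by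
    have h1 := Z.map_inj (φ a).toMonoidHom (φ a).injective (P : Subgroup G)
    rw [map_eq_of_inv hP a] at h1
    rw [hW, h1]
    exact mem_map_of_mem _ hx
  by_cases hN : normalizer (W : Set G) = ⊤
  swap
  · have hnil := hmax _ hN (inv_normalizer hWI)
    haveI := hnil
    have hnpc : Cfsg.HasNormalPComplement p G :=
      CfsgLib.Fusion.GlaubermanThompson.npc_aux Z hp2 _ G rfl P
        (CfsgLib.Solvable.FPFNilpotent.npc_of_nilpotent p)
    obtain ⟨P', K, hK, hKc⟩ := hnpc
    haveI := hK
    have hKi : K.index = Nat.card (P' : Subgroup G) := hKc.symm.index_eq_card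
    have hKcop : ¬p ∣ Nat.card K := by
      rw [← hKc.index_eq_card]; exact P'.not_dvd_index
    have hKI : Inv φ K := fun a x hx => by
      have hx' : ((φ a x : G) : G ⧸ K) = 1 := by
        rw [← orderOf_eq_one_iff]
        refine Nat.eq_one_of_dvd_coprimes
          (Nat.Coprime.pow_left ((Nat.card G).factorization p) (hp.coprime_iff_not_dvd.2 hKcop)) ?_ ?_
        · refine (_root_.orderOf_dvd_natCard _).trans (dvd_of_eq ?_)
          rw [← index_eq_card, hKi]
          exact P'.card_eq_multiplicity
        · refine (orderOf_map_dvd (QuotientGroup.mk' K) _).trans ?_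
          rw [MulEquiv.orderOf_eq]
          exact Subgroup.orderOf_dvd_natCard _ hx
      exact (QuotientGroup.eq_one_iff _).1 hx'
    have hKt : K ≠ ⊤ := fun h => hKcop (by rw [h, card_top]; exact hpG)
    obtain ⟨q, hq, hqK⟩ := Nat.exists_prime_and_dvd (n := Nat.card K) fun h1 => hG (by
      have hPtop : (P' : Subgroup G) = ⊤ := by
        apply eq_top_of_card_eq
        have := hKc.card_mul
        rw [show Nat.card K = 1 from h1, one_mul] at this
        exact this
      have hpg : IsPGroup p G := by
        have := P'.isPGroup'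
        rw [hPtop] at this
        exact this.of_equiv Subgroup.topEquiv
      exact hpg.isNilpotent)
    haveI := Fact.mk hq
    refine ⟨q, hq, hqK.trans (card_subgroup_dvd_card K),
      normal_sylow_of_nilpotent (hmax K hKt hKI) q fun hqi => ?_⟩
    rw [hKi, P'.card_eq_multiplicity] at hqi
    obtain rfl := (Nat.prime_dvd_prime_iff_eq hq hp).1 (hq.dvd_of_dvd_pow hqi)
    exact hKcop hqK
  · haveI : W.Normal := normalizer_eq_top_iff.1 hN
    have hpowW : ∃ e, Nat.card W = p ^ e := (P.isPGroup'.to_le hWP).exists_card_eq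
    have hlt : Nat.card (G ⧸ W) < Nat.card G := by
      rw [card_eq_card_quotient_mul_card_subgroup W]
      exact lt_mul_of_one_lt_right Nat.card_pos
        ((Subgroup.one_lt_card_iff_ne_bot W).2 hWne)
    have hPnormal : ((P : Subgroup G).map (QuotientGroup.mk' W)).Normal →
        (P : Subgroup G).Normal := fun h => by
      have := h.comap (QuotientGroup.mk' W)
      rwa [comap_map_eq, QuotientGroup.ker_mk', sup_eq_left.2 hWP] at this
    have hsurj := QuotientGroup.mk'_surjective W
    by_cases hQn : Group.IsNilpotent (G ⧸ W)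
    · refine ⟨p, hp, hpG, P, hPnormal ?_⟩
      haveI := hQn
      have h : ((P.mapSurjective hsurj : Sylow p (G ⧸ W)) : Subgroup (G ⧸ W)).Normal := inferInstance
      simpa using h
    have hmax' : ∀ H : Subgroup (G ⧸ W), H ≠ ⊤ → Inv (quotAut φ W hWI) H → Group.IsNilpotent H := by
      intro H hH hHI
      have hne : H.comap (QuotientGroup.mk' W) ≠ ⊤ := fun e => hH (by
        rw [← map_comap_eq_self_of_surjective hsurj H, e, map_top_of_surjective _ hsurj])
      haveI := hmax _ hne (inv_comap φ W hWI hHI)
      refine Group.nilpotent_of_surjective ((QuotientGroup.mk' W).subgroupComap H) ?_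
      rintro ⟨y, hy⟩
      obtain ⟨x, rfl⟩ := hsurj y
      exact ⟨⟨x, hy⟩, rfl⟩
    have hsolv' : Group.IsSolvable A ∨ Group.IsSolvable (G ⧸ W) :=
      hsolv.imp_right fun h => by
        haveI := h
        exact Group.isSolvable_of_surjective (f := QuotientGroup.mk' W) hsurj
    obtain ⟨r, hr, hrd, R, hR⟩ := ih _ hlt (G ⧸ W) rfl (quotAut φ W hWI)
      (hcop.coprime_dvd_right (card_quotient_dvd_card W)) hsolv' hmax' hQn
    haveI := Fact.mk hr
    by_cases hrp : r = p
    · subst hrp
      refine ⟨r, hp, hpG, P, hPnormal ?_⟩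
      haveI := Sylow.unique_of_normal R hR
      have : P.mapSurjective hsurj = R := Subsingleton.elim _ _
      rw [← Sylow.coe_mapSurjective hsurj, this]
      exact hR
    set M := (R : Subgroup (G ⧸ W)).comap (QuotientGroup.mk' W) with hM
    haveI : M.Normal := hR.comap _
    have hMi : M.index = (R : Subgroup (G ⧸ W)).index := index_comap_of_surjective _ hsurj
    by_cases hMt : M = ⊤
    · refine ⟨p, hp, hpG, P, ?_⟩
      suffices h : (P : Subgroup G) = W by rw [h]; infer_instance
      refine le_antisymm ?_ hWP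
      intro x hx
      have hx' : QuotientGroup.mk' W x ∈ (R : Subgroup (G ⧸ W)) :=
        (show x ∈ M by rw [hMt]; exact mem_top x)
      have h1 : QuotientGroup.mk' W x ∈ (P : Subgroup G).map (QuotientGroup.mk' W) :=
        mem_map_of_mem _ hx
      have hdis : Disjoint ((P : Subgroup G).map (QuotientGroup.mk' W)) (R : Subgroup (G ⧸ W)) :=
        IsPGroup.disjoint_of_ne p r (Ne.symm hrp) _ _ (P.isPGroup'.map _) R.isPGroup'
      have h2 : QuotientGroup.mk' W x = 1 := by
        rw [← Subgroup.mem_bot, ← hdis.eq_bot]; exact ⟨h1, hx'⟩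
      exact (QuotientGroup.eq_one_iff x).1 h2
    · refine ⟨r, hr, hrd.trans (card_quotient_dvd_card W),
        normal_sylow_of_nilpotent (hmax M hMt (inv_comap φ W hWI ?_)) r ?_⟩
      · intro a x hx
        haveI := Sylow.unique_of_normal R hR
        let R' : Sylow r (G ⧸ W) := R.mapSurjective (f := (quotAut φ W hWI a).toMonoidHom)
          (quotAut φ W hWI a).surjective
        have : R' = R := Subsingleton.elim _ _
        rw [← this]
        exact mem_map_of_mem _ hx
      · rw [hMi]; exact R.not_dvd_index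

/-- Coprime action with all proper invariant subgroups nilpotent: the structure. -/
theorem structure_theorem [Finite A] [Finite G] (φ : A →* MulAut G)
    (hcop : (Nat.card A).Coprime (Nat.card G)) (hsolv : Group.IsSolvable A ∨ Group.IsSolvable G)
    (hmax : ∀ H : Subgroup G, H ≠ ⊤ → Inv φ H → Group.IsNilpotent H)
    (hG : ¬Group.IsNilpotent G) :
    Group.IsSolvable G ∧ (∃ p q a b : ℕ, p.Prime ∧ q.Prime ∧ p ≠ q ∧ Nat.card G = p ^ a * q ^ b) ∧
      ∃ (p : ℕ) (P : Sylow p G), p.Prime ∧ p ∣ Nat.card G ∧ (P : Subgroup G).Normal ∧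
        Inv φ (P : Subgroup G) := by
  obtain ⟨p, hp, hpG, P, hPn⟩ := exists_normal_sylow _ G rfl φ hcop hsolv hmax hG
  haveI := Fact.mk hp
  haveI := hPn
  have hPI : Inv φ (P : Subgroup G) := fun a x hx => by
    haveI := Sylow.unique_of_normal P hPn
    let P' : Sylow p G := P.mapSurjective (f := (φ a).toMonoidHom) (φ a).surjective
    have : P' = P := Subsingleton.elim _ _
    rw [← this]
    exact mem_map_of_mem _ hx
  have hc : (Nat.card (P : Subgroup G)).Coprime (P : Subgroup G).index := P.card_coprime_index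
  have hPpg := P.isPGroup'
  have hPsolv : Group.IsSolvable (P : Subgroup G) := by
    haveI := hPpg.isNilpotent; infer_instance
  -- an invariant complement
  obtain ⟨H₀, hH₀⟩ := Subgroup.exists_right_complement'_of_coprime hc
  obtain ⟨H, hH, hHI⟩ := exists_inv φ hcop hsolv
    {H : Subgroup G | Nat.card H = (P : Subgroup G).index} ⟨H₀, hH₀.symm.index_eq_card.symm⟩
    (fun a H hH => by
      rw [Set.mem_ofPred_eq, ← Nat.card_congr (H.equivMapOfInjective _ (φ a).injective).toEquiv]
      exact hH)
    (fun g H hH => by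
      rw [Set.mem_ofPred_eq,
        ← Nat.card_congr (H.equivMapOfInjective _ (MulAut.conj g).injective).toEquiv]
      exact hH)
    (fun H hH K hK => by
      rw [Set.mem_ofPred_eq] at hH hK
      have hcomp : IsComplement' (P : Subgroup G) K :=
        isComplement'_of_coprime (by rw [hK, card_mul_index]) (by rw [hK]; exact hc)
      obtain ⟨g, -, hg⟩ := CfsgLib.Coprime.exists_conj_eq (N := (P : Subgroup G)) (H := H) (K := K)
        (Or.inl hPsolv) (by rw [normalizer_eq_top]; exact le_top)
        (by rw [normalizer_eq_top]; exact le_top) (by rw [hcomp.sup_eq_top]; exact le_top)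
        (hH.trans hK.symm) (by rw [hH]; exact hc)
      exact ⟨g, hg⟩)
  rw [Set.mem_ofPred_eq] at hH
  have hHP : IsComplement' (P : Subgroup G) H :=
    isComplement'_of_coprime (by rw [hH, card_mul_index]) (by rw [hH]; exact hc)
  have hPt : (P : Subgroup G) ≠ ⊤ := fun e => hG (by
    rw [e] at hPpg
    exact (hPpg.of_equiv Subgroup.topEquiv).isNilpotent)
  have hHt : H ≠ ⊤ := fun e => by
    have h1 : (P : Subgroup G) = ⊥ := by
      rw [e, isComplement'_top_right] at hHP; exact hHP
    exact P.ne_bot_of_dvd_card hpG h1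
  haveI hHn : Group.IsNilpotent H := hmax H hHt hHI
  have hsolG : Group.IsSolvable G := by
    haveI := hPsolv
    haveI : Group.IsSolvable (G ⧸ (P : Subgroup G)) := by
      haveI : Group.IsSolvable H := inferInstance
      refine Group.isSolvable_of_surjective (f := (QuotientGroup.mk' (P : Subgroup G)).comp H.subtype)
        fun y => ?_
      obtain ⟨g, rfl⟩ := QuotientGroup.mk'_surjective _ y
      have hg : g ∈ ((P : Subgroup G) ⊔ H) := by rw [hHP.sup_eq_top]; exact mem_top g
      obtain ⟨x, hx, h, hh, rfl⟩ := mem_sup_of_normal_left.1 hg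
      refine ⟨⟨h, hh⟩, ?_⟩
      simp [(QuotientGroup.eq_one_iff x).2 hx]
    exact (Group.isSolvable_iff_subgroup_quotient (P : Subgroup G)).2 ⟨inferInstance, inferInstance⟩
  refine ⟨hsolG, ?_, p, P, hp, hpG, hPn, hPI⟩
  obtain ⟨q, hq, hqH⟩ := Nat.exists_prime_and_dvd (n := Nat.card H) fun h1 => hPt (by
    rw [hH] at h1; exact index_eq_one.1 h1)
  have hqp : q ≠ p := fun e => P.not_dvd_index (hH ▸ e ▸ hqH)
  have huniq : ∀ r : ℕ, r.Prime → r ∣ Nat.card H → r = q := by
    intro r hr hrH
    by_contra hrq
    haveI := Fact.mk hr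
    haveI := Fact.mk hq
    -- every Sylow subgroup of `H` centralises `P`
    refine hG ?_
    have hcent : (P : Subgroup G) ≤ centralizer (H : Set G) := by
      have hsyl : ∀ (s : ℕ) [Fact s.Prime] (S : Sylow s H),
          (P : Subgroup G) ≤ centralizer (((S : Subgroup H).map H.subtype : Subgroup G) : Set G) := by
        intro s _ S
        set S' := (S : Subgroup H).map H.subtype with hS'
        have hSc : (S : Subgroup H).Normal := inferInstance
        have hS'I : Inv φ S' := by
          intro a x hx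
          obtain ⟨y, hy, rfl⟩ := hx
          let α : MulAut H :=
            (H.equivMapOfInjective _ (φ a).injective).trans (MulEquiv.subgroupCongr (map_eq_of_inv hHI a))
          haveI := Sylow.unique_of_normal S hSc
          let S2 : Sylow s H := S.mapSurjective (f := α.toMonoidHom) α.surjective
          have : S2 = S := Subsingleton.elim _ _
          refine ⟨α y, this ▸ mem_map_of_mem _ hy, rfl⟩
        set L := (P : Subgroup G) ⊔ S' with hL
        have hLI : Inv φ L := fun a x hx => by
          have h2 : L.map (φ a).toMonoidHom = L := by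
            rw [hL, Subgroup.map_sup, map_eq_of_inv hPI a, map_eq_of_inv hS'I a]
          rw [← h2]; exact mem_map_of_mem _ hx
        have hLt : L ≠ ⊤ := by
          intro e
          have hS'le : S' ≤ H := map_subtype_le _
          have hdvd : (P : Subgroup G).index ∣ Nat.card S' := by
            have h1 := relIndex_sup_right (K := (P : Subgroup G)) (H := S')
            rw [sup_comm, ← hL, e, relIndex_top_right] at h1
            rw [h1]
            exact Subgroup.relIndex_dvd_card _ _
          have hcS : ∃ k, Nat.card S' = s ^ k := (S.isPGroup'.map _).exists_card_eq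
          obtain ⟨k, hk⟩ := hcS
          rw [hk, ← hH] at hdvd
          exact hrq (((Nat.prime_dvd_prime_iff_eq hr Fact.out).1 (hr.dvd_of_dvd_pow (hrH.trans hdvd))).trans
            ((Nat.prime_dvd_prime_iff_eq hq Fact.out).1 (hq.dvd_of_dvd_pow (hqH.trans hdvd))).symm)
        haveI hLn := hmax L hLt hLI
        intro x hx
        rw [mem_centralizer_iff]
        intro y hy
        have hcp : (Nat.card (P : Subgroup G)).Coprime (Nat.card S') :=
          hc.coprime_dvd_right (hH ▸ card_dvd_of_le (map_subtype_le _))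
        let x' : L := ⟨x, mem_sup_left hx⟩
        let y' : L := ⟨y, mem_sup_right hy⟩
        have hco : (orderOf x').Coprime (orderOf y') := by
          rw [← Subgroup.orderOf_coe x', ← Subgroup.orderOf_coe y']
          exact (hcp.coprime_dvd_left (orderOf_dvd_natCard _ hx)).coprime_dvd_right
            (orderOf_dvd_natCard _ hy)
        exact (congrArg Subtype.val (commute_of_coprime hco)).symm
      intro x hx
      rw [mem_centralizer_iff]
      intro y hy
      set C := (centralizer ({x} : Set G)).comap H.subtype with hC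
      have hCt : C = ⊤ := by
        rw [← index_eq_one]
        by_contra hne
        obtain ⟨s, hs, hsd⟩ := Nat.exists_prime_and_dvd hne
        haveI := Fact.mk hs
        obtain ⟨S⟩ : Nonempty (Sylow s H) := inferInstance
        refine S.not_dvd_index (hsd.trans (index_dvd_of_le fun z hz => ?_))
        rw [hC, mem_comap, mem_centralizer_iff]
        intro w hw
        rw [Set.mem_singleton_iff.1 hw]
        exact (mem_centralizer_iff.1 (hsyl s S hx) z (mem_map_of_mem _ hz)).symm
      have hyC : (⟨y, hy⟩ : H) ∈ C := by rw [hCt]; exact mem_top _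
      exact (mem_centralizer_iff.1 hyC x rfl).symm
    let f : ↥(P : Subgroup G) × ↥H →* G := MonoidHom.noncommCoprod (P : Subgroup G).subtype H.subtype
      fun a b => (mem_centralizer_iff.1 (hcent a.2) b b.2).symm
    haveI := hPpg.isNilpotent
    exact Group.nilpotent_of_surjective f fun g => by
      have hg : g ∈ ((P : Subgroup G) ⊔ H) := by rw [hHP.sup_eq_top]; exact mem_top g
      obtain ⟨x, hx, h, hh, rfl⟩ := mem_sup_of_normal_left.1 hg
      exact ⟨(⟨x, hx⟩, ⟨h, hh⟩), rfl⟩
  refine ⟨p, q, (Nat.card G).factorization p, (Nat.card H).factorization q, hp, hq, hqp.symm, ?_⟩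
  rw [← P.card_eq_multiplicity, ← card_mul_index (P : Subgroup G), ← hH]
  obtain ⟨k, hk⟩ : ∃ k, Nat.card H = q ^ k :=
    ⟨_, Nat.eq_prime_pow_of_unique_prime_dvd Nat.card_pos.ne' fun {d} hd hdd => huniq d hd hdd⟩
  rw [hk, hq.factorization_pow, Finsupp.single_eq_same]

end CfsgLib.LocalEvenB.InvariantNilpotent
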