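import Cfsg.Prelude.Def_Transfer
import Cfsg.Agent.Lib.Components.QdRankTwo
import Cfsg.Agent.Lib.Classical.SL2Sylow
import Cfsg.Agent.Lib.PGroup.Frattini
import Mathlib.GroupTheory.SpecificGroups.Cyclic
import Mathlib.GroupTheory.Nilpotent
import Mathlib.GroupTheory.Sylow

/-!
Nonabelian groups of order `p ^ 3`, and the Sylow `p`-subgroups of `Qd(p)`.
-/

set_option autoImplicit false
set_option linter.style.haveILetI false
set_option linter.unusedSectionVars false

namespace CfsgLib.LocalEvenB.OrderPCubed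

open Subgroup
open scoped commutatorElement

variable {P : Type*} [Group P] [Finite P] {p : ℕ} [hp : Fact p.Prime]

theorem center_quot_not_cyclic (hna : ∃ x y : P, x * y ≠ y * x) :
    ¬ IsCyclic (P ⧸ center P) := by
  intro h
  obtain ⟨x, y, hxy⟩ := hna
  exact hxy (commutative_of_cyclic_center_quotient (QuotientGroup.mk' (center P))
    (by rw [QuotientGroup.ker_mk']) x y)

theorem card_center (hcard : Nat.card P = p ^ 3) (hna : ∃ x y : P, x * y ≠ y * x) :
    Nat.card (center P) = p := by
  have hP : IsPGroup p P := IsPGroup.of_card hcard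
  obtain ⟨k, hk⟩ := IsPGroup.iff_card.mp (hP.to_subgroup (center P))
  haveI : Nontrivial P := by
    rw [← Finite.one_lt_card_iff_nontrivial, hcard]; exact Nat.one_lt_pow (by norm_num) hp.out.one_lt
  have h1 : k ≠ 0 := by
    intro h
    haveI := hP.center_nontrivial
    have := Finite.one_lt_card (α := center P)
    rw [hk, h] at this; simp at this
  have hmul := card_eq_card_quotient_mul_card_subgroup (center P)
  rw [hcard, hk] at hmul
  have hkle : k ≤ 3 := by
    have : p ^ k ∣ p ^ 3 := ⟨_, by rw [hmul, mul_comm]⟩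
    exact (Nat.pow_dvd_pow_iff_le_right hp.out.one_lt).mp this
  have hnc := center_quot_not_cyclic hna
  rcases (show k = 1 ∨ k = 2 ∨ k = 3 by omega) with rfl | rfl | rfl
  · rw [hk, pow_one]
  · exfalso
    apply hnc
    have : Nat.card (P ⧸ center P) = p := by
      have hpos : 0 < p ^ 2 := pow_pos hp.out.pos 2
      exact Nat.eq_of_mul_eq_mul_right hpos (by rw [← hmul]; ring)
    exact isCyclic_of_prime_card this
  · exfalso
    apply hnc
    have : Nat.card (P ⧸ center P) = 1 := by
      have hpos : 0 < p ^ 3 := pow_pos hp.out.pos 3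
      exact Nat.eq_of_mul_eq_mul_right hpos (by rw [← hmul, one_mul])
    haveI : Subsingleton (P ⧸ center P) := (Nat.card_eq_one_iff_unique.mp this).1
    exact isCyclic_of_subsingleton

theorem card_quot (hcard : Nat.card P = p ^ 3) (hna : ∃ x y : P, x * y ≠ y * x) :
    Nat.card (P ⧸ center P) = p ^ 2 := by
  have hmul := card_eq_card_quotient_mul_card_subgroup (center P)
  rw [hcard, card_center hcard hna] at hmul
  exact Nat.eq_of_mul_eq_mul_right hp.out.pos (by rw [← hmul]; ring)

theorem quot_pow (hcard : Nat.card P = p ^ 3) (hna : ∃ x y : P, x * y ≠ y * x) (x : P) :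
    x ^ p ∈ center P := by
  rw [← QuotientGroup.eq_one_iff, QuotientGroup.mk_pow]
  have h := orderOf_dvd_natCard (x : P ⧸ center P)
  rw [card_quot hcard hna] at h
  obtain ⟨i, hi, he⟩ := (Nat.dvd_prime_pow hp.out).mp h
  rcases (show i ≤ 1 ∨ i = 2 by omega) with hi1 | rfl
  · exact orderOf_dvd_iff_pow_eq_one.mp (he ▸ (pow_dvd_pow p hi1).trans (by simp))
  · exact absurd (isCyclic_of_orderOf_eq_card _ (by rw [he, card_quot hcard hna]))
      (center_quot_not_cyclic hna)

theorem quot_comm (hcard : Nat.card P = p ^ 3) (hna : ∃ x y : P, x * y ≠ y * x) (x y : P) :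
    ⁅x, y⁆ ∈ center P := by
  rw [← QuotientGroup.eq_one_iff]
  have h := IsPGroup.commutative_of_card_eq_prime_sq (card_quot hcard hna)
  have e : ((⁅x, y⁆ : P) : P ⧸ center P) = ⁅(x : P ⧸ center P), (y : P ⧸ center P)⁆ :=
    map_commutatorElement (QuotientGroup.mk' (center P)) x y
  rw [e, commutatorElement_eq_one_iff_mul_comm]
  exact h _ _

theorem isExtraspecial (hcard : Nat.card P = p ^ 3) (hna : ∃ x y : P, x * y ≠ y * x) :
    Cfsg.IsExtraspecial p P := by
  have hP : IsPGroup p P := IsPGroup.of_card hcard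
  have hZ := card_center hcard hna
  have hC : commutator P = center P := by
    have hle : commutator P ≤ center P := by
      rw [commutator_def, Subgroup.commutator_le]
      exact fun x _ y _ => quot_comm hcard hna x y
    refine eq_of_le_of_card_ge hle ?_
    obtain ⟨k, hk⟩ := IsPGroup.iff_card.mp (hP.to_subgroup (commutator P))
    rw [hZ, hk]
    refine Nat.le_self_pow ?_ p
    intro h
    obtain ⟨x, y, hxy⟩ := hna
    apply hxy
    have hbot : commutator P = ⊥ := card_eq_one.mp (by rw [hk, h, pow_zero])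
    have : ⁅x, y⁆ ∈ commutator P := commutator_mem_commutator (mem_top x) (mem_top y)
    rw [hbot, mem_bot, commutatorElement_eq_one_iff_mul_comm] at this
    exact this
  refine ⟨⟨hP, le_antisymm ?_ ?_, hC⟩, hZ⟩
  · intro z hz
    by_contra hzZ
    -- a maximal subgroup through the centre avoiding `z`
    obtain ⟨y, hy⟩ : ∃ y : P, y ∉ center P ⊔ zpowers z := by
      by_contra h
      push Not at h
      apply center_quot_not_cyclic hna
      refine ⟨⟨(z : P ⧸ center P), fun q => ?_⟩⟩
      induction q using QuotientGroup.induction_on with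
      | H w =>
        have hw := h w
        obtain ⟨c, hc, d, hd, rfl⟩ := mem_sup_of_normal_left.mp hw
        obtain ⟨i, rfl⟩ := mem_zpowers_iff.mp hd
        exact ⟨i, by simp [(QuotientGroup.eq_one_iff c).mpr hc]⟩
    set M := center P ⊔ zpowers y with hM
    have hMne : M ≠ ⊤ := by
      intro h
      apply center_quot_not_cyclic hna
      refine ⟨⟨(y : P ⧸ center P), fun q => ?_⟩⟩
      induction q using QuotientGroup.induction_on with
      | H w =>
        have hw : w ∈ M := h ▸ mem_top w
        obtain ⟨c, hc, d, hd, rfl⟩ := mem_sup_of_normal_left.mp hw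
        obtain ⟨i, rfl⟩ := mem_zpowers_iff.mp hd
        exact ⟨i, by simp [(QuotientGroup.eq_one_iff c).mpr hc]⟩
    obtain ⟨k, hk⟩ := IsPGroup.iff_card.mp (hP.to_subgroup M)
    have hk2 : k = 2 := by
      have h1 : Nat.card (center P) < Nat.card M := by
        refine lt_of_le_of_ne (card_le_of_le le_sup_left) fun he => ?_
        have h2 : center P = M := eq_of_le_of_card_ge le_sup_left (le_of_eq he.symm)
        exact hy (mem_sup_left (h2.symm ▸ mem_sup_right (mem_zpowers y)))
      have h2 : Nat.card M < Nat.card P := lt_of_le_of_ne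
        (Nat.card_le_card_of_injective _ M.subtype_injective) fun he => hMne (eq_top_of_card_eq M he)
      rw [hZ, hk] at h1
      rw [hcard, hk] at h2
      have := (Nat.pow_lt_pow_iff_right hp.out.one_lt).mp h2
      have : 1 < k := (Nat.pow_lt_pow_iff_right hp.out.one_lt).mp (by simpa using h1)
      omega
    have hco : IsCoatom M := by
      refine ⟨hMne, fun K hK => ?_⟩
      apply eq_top_of_card_eq
      obtain ⟨j, hj⟩ := IsPGroup.iff_card.mp (hP.to_subgroup K)
      have h1 : Nat.card M < Nat.card K := lt_of_le_of_ne (card_le_of_le hK.le) fun he =>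
        hK.ne (eq_of_le_of_card_ge hK.le (le_of_eq he.symm))
      have h2 : Nat.card K ≤ Nat.card P := Nat.card_le_card_of_injective _ K.subtype_injective
      rw [hk, hj] at h1
      rw [hcard, hj] at h2
      have := (Nat.pow_lt_pow_iff_right hp.out.one_lt).mp h1
      have := (Nat.pow_le_pow_iff_right hp.out.one_lt).mp h2
      rw [hj, hcard, show j = 3 by omega]
    have hzM : z ∈ M := frattini_le_coatom hco hz
    have hle : center P ⊔ zpowers z ≤ M := sup_le le_sup_left (zpowers_le.mpr hzM)
    obtain ⟨i, hi⟩ := IsPGroup.iff_card.mp (hP.to_subgroup (center P ⊔ zpowers z))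
    have hi1 : Nat.card (center P) < Nat.card ↥(center P ⊔ zpowers z) := by
      refine lt_of_le_of_ne (card_le_of_le le_sup_left) fun he => hzZ ?_
      have h2 : center P = center P ⊔ zpowers z :=
        eq_of_le_of_card_ge le_sup_left (le_of_eq he.symm)
      exact h2.symm ▸ mem_sup_right (mem_zpowers z)
    rw [hZ, hi] at hi1
    have : 1 < i := (Nat.pow_lt_pow_iff_right hp.out.one_lt).mp (by simpa using hi1)
    have heq : center P ⊔ zpowers z = M := eq_of_le_of_card_ge hle (by
      rw [hk, hk2, hi]; exact Nat.pow_le_pow_right hp.out.pos (by omega))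
    exact hy (heq ▸ mem_sup_right (mem_zpowers y))
  · rw [← hC, commutator_def, Subgroup.commutator_le]
    intro x _ y _
    rw [frattini, Order.radical]
    simp only [mem_iInf]
    intro M hM
    haveI : M.Normal := (NormalizerCondition.normal_of_coatom M
      (by haveI := hP.isNilpotent; exact normalizerCondition_of_isNilpotent) hM)
    rw [← QuotientGroup.eq_one_iff]
    have e : ((⁅x, y⁆ : P) : P ⧸ M) = ⁅(x : P ⧸ M), (y : P ⧸ M)⁆ :=
      map_commutatorElement (QuotientGroup.mk' M) x y
    rw [e, commutatorElement_eq_one_iff_mul_comm]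
    haveI : IsCyclic (P ⧸ M) := isCyclic_of_prime_card (p := p)
      (by rw [← index_eq_card]; exact PGroup.Frattini.index_of_isCoatom hP hM)
    exact (IsCyclic.isMulCommutative.is_comm).comm _ _

theorem mul_pow_of_central {P : Type*} [Group P] (x y : P) (hc : ⁅y, x⁆ ∈ center P) (n : ℕ) :
    (x * y) ^ n = x ^ n * y ^ n * ⁅y, x⁆ ^ n.choose 2 := by
  set c := ⁅y, x⁆ with hcdef
  have hcc : ∀ g : P, g * c = c * g := fun g => mem_center_iff.mp hc g
  have hyx : ∀ k : ℕ, y ^ k * x = x * y ^ k * c ^ k := by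
    intro k
    induction k with
    | zero => simp
    | succ k ih =>
      have h1 : y * x = x * y * c := by
        have : c * (x * y) = y * x := by rw [hcdef, commutatorElement_def]; group
        rw [← this, hcc (x * y)]
      rw [pow_succ, mul_assoc, h1, ← mul_assoc, ← mul_assoc, ih, pow_succ c k,
        mul_assoc (x * y ^ k) (c ^ k) y, ((Commute.pow_left (hcc y).symm k)).eq]
      simp only [mul_assoc]
  induction n with
  | zero => simp
  | succ n ih =>
    have hch : (n + 1).choose 2 = n + n.choose 2 := by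
      rw [Nat.choose_succ_succ', Nat.choose_one_right]
    have hck : ∀ (g : P) (k : ℕ), c ^ k * g = g * c ^ k := fun g k =>
      (Commute.pow_left (hcc g).symm k).eq
    rw [pow_succ, ih, hch, pow_add]
    calc x ^ n * y ^ n * c ^ n.choose 2 * (x * y)
        = x ^ n * (y ^ n * x) * y * c ^ n.choose 2 := by
          rw [mul_assoc _ (c ^ n.choose 2), hck]; simp only [mul_assoc]
      _ = x ^ n * (x * y ^ n * c ^ n) * y * c ^ n.choose 2 := by rw [hyx]
      _ = x ^ n * x * (y ^ n * y) * (c ^ n * c ^ n.choose 2) := by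
          simp only [mul_assoc]; rw [← mul_assoc (c ^ n) y, hck y n]; simp only [mul_assoc]
      _ = _ := by simp only [pow_add, pow_succ, pow_zero, one_mul, mul_assoc]

theorem pow_mul_hom (hp2 : p ≠ 2) (hcard : Nat.card P = p ^ 3) (hna : ∃ x y : P, x * y ≠ y * x)
    (x y : P) : (x * y) ^ p = x ^ p * y ^ p := by
  have hc := quot_comm hcard hna y x
  rw [mul_pow_of_central x y hc p]
  have h1 : ⁅y, x⁆ ^ p = 1 := by
    have h := orderOf_dvd_natCard (⟨_, hc⟩ : center P)
    rw [card_center hcard hna, orderOf_mk] at h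
    exact orderOf_dvd_iff_pow_eq_one.mp h
  obtain ⟨k, hk⟩ := hp.out.dvd_choose_self (k := 2) (by norm_num) (by
    have := hp.out.two_le
    omega)
  rw [hk, pow_mul, h1, one_pow, mul_one]

/-- The kernel of the `p`-th power map. -/
def omega (hp2 : p ≠ 2) (hcard : Nat.card P = p ^ 3) (hna : ∃ x y : P, x * y ≠ y * x) : Subgroup P :=
  ({ toFun := fun x => x ^ p, map_one' := one_pow p,
     map_mul' := pow_mul_hom hp2 hcard hna } : P →* P).ker

theorem mem_omega (hp2 : p ≠ 2) (hcard : Nat.card P = p ^ 3) (hna : ∃ x y : P, x * y ≠ y * x) (x : P) :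
    x ∈ omega hp2 hcard hna ↔ x ^ p = 1 := Iff.rfl

theorem card_omega (hp2 : p ≠ 2) (hcard : Nat.card P = p ^ 3) (hna : ∃ x y : P, x * y ≠ y * x)
    (hexp : ∃ x : P, x ^ p ≠ 1) : Nat.card (omega hp2 hcard hna) = p ^ 2 := by
  let f : P →* P := { toFun := fun x => x ^ p, map_one' := one_pow p,
                      map_mul' := pow_mul_hom hp2 hcard hna }
  have hle : f.range ≤ center P := by
    rintro _ ⟨x, rfl⟩
    exact quot_pow hcard hna x
  have hne : f.range ≠ ⊥ := by
    intro h
    obtain ⟨x, hx⟩ := hexp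
    apply hx
    have : f x ∈ f.range := ⟨x, rfl⟩
    rw [h, mem_bot] at this
    exact this
  have hr : Nat.card f.range = p := by
    have h1 : Nat.card f.range ∣ p := card_center hcard hna ▸ card_dvd_of_le hle
    rcases (Nat.dvd_prime hp.out).mp h1 with h | h
    · exact absurd (card_eq_one.mp h) hne
    · exact h
  have hmul := card_eq_card_quotient_mul_card_subgroup f.ker
  rw [Nat.card_congr (QuotientGroup.quotientKerEquivRange f).toEquiv, hr, hcard] at hmul
  exact Nat.eq_of_mul_eq_mul_left hp.out.pos (by rw [show omega hp2 hcard hna = f.ker from rfl, ← hmul]; ring)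

section Qd

open Components.QdRankTwo

/-- The unitriangular subgroup of `Qd(p)`. -/
def uni (p : ℕ) [Fact p.Prime] : Subgroup (SL3 p) where
  carrier := {M | ∃ a b c, M = tV a b * tX c}
  one_mem' := ⟨0, 0, 0, by rw [tV_zero, tX_zero, one_mul]⟩
  mul_mem' := by
    rintro M N ⟨a, b, c, rfl⟩ ⟨a', b', c', rfl⟩
    refine ⟨a + a' + c * b', b + b', c + c', ?_⟩
    apply Subtype.ext
    ext i j
    fin_cases i <;> fin_cases j <;>
      simp [Matrix.SpecialLinearGroup.coe_mul, Matrix.mul_apply, Fin.sum_univ_three] <;> ring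
  inv_mem' := by
    rintro M ⟨a, b, c, rfl⟩
    refine ⟨c * b - a, -b, -c, inv_eq_of_mul_eq_one_right ?_⟩
    apply Subtype.ext
    ext i j
    fin_cases i <;> fin_cases j <;>
      simp [Matrix.SpecialLinearGroup.coe_mul, Matrix.mul_apply, Fin.sum_univ_three] <;> ring

theorem uni_le_qd : uni p ≤ Cfsg.qd p := by
  rintro M ⟨a, b, c, rfl⟩
  exact mul_mem (tV_mem a b) (tX_mem c)

theorem uni_card : Nat.card (uni p) = p ^ 3 := by
  let f : ZMod p × ZMod p × ZMod p → uni p := fun t => ⟨tV t.1 t.2.1 * tX t.2.2, _, _, _, rfl⟩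
  have hf : Function.Bijective f := by
    constructor
    · rintro ⟨a, b, c⟩ ⟨a', b', c'⟩ h
      have h' := congrArg (fun M : uni p => ((M : SL3 p) : Matrix (Fin 3) (Fin 3) (ZMod p))) h
      have h02 := congrFun (congrFun h' 0) 2
      have h12 := congrFun (congrFun h' 1) 2
      have h01 := congrFun (congrFun h' 0) 1
      simp [f, Matrix.SpecialLinearGroup.coe_mul, Matrix.mul_apply, Fin.sum_univ_three] at h02 h12 h01
      simp [h02, h12, h01]
    · rintro ⟨M, a, b, c, rfl⟩
      exact ⟨(a, b, c), rfl⟩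
  rw [← Nat.card_eq_of_bijective f hf, Nat.card_prod, Nat.card_prod, Nat.card_zmod]
  ring

theorem uni_pow (hp2 : p ≠ 2) (M : uni p) : M ^ p = 1 := by
  obtain ⟨M, a, b, c, rfl⟩ := M
  apply Subtype.ext
  rw [SubmonoidClass.coe_pow, OneMemClass.coe_one]
  show (tV a b * tX c) ^ p = (1 : SL3 p)
  have h : ∀ n : ℕ, (tV a b * tX c) ^ n =
      tV ((n : ZMod p) * a + ((n.choose 2 : ℕ) : ZMod p) * (c * b)) ((n : ZMod p) * b) *
        tX ((n : ZMod p) * c) := by
    intro n
    induction n with
    | zero => simp [tV_zero, tX_zero]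
    | succ n ih =>
      rw [pow_succ, ih]
      have hc : ((n + 1).choose 2 : ℕ) = n + n.choose 2 := by
        rw [Nat.choose_succ_succ', Nat.choose_one_right]
      rw [hc]
      apply Subtype.ext
      ext i j
      fin_cases i <;> fin_cases j <;>
        simp [Matrix.SpecialLinearGroup.coe_mul, Matrix.mul_apply, Fin.sum_univ_three] <;> ring
  rw [h p]
  have h1 : ((p.choose 2 : ℕ) : ZMod p) = 0 := by
    rw [ZMod.natCast_eq_zero_iff]
    exact hp.out.dvd_choose_self (by norm_num) (by
      have := hp.out.two_le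
      omega)
  simp [h1, tV_zero, tX_zero]

theorem uni_nonabelian : ∃ x y : uni p, x * y ≠ y * x := by
  refine ⟨⟨tV 0 1, 0, 1, 0, by rw [tX_zero, mul_one]⟩,
    ⟨tX 1, 0, 0, 1, by rw [tV_zero, one_mul]⟩, fun h => ?_⟩
  have h' := congrArg (fun M : uni p => ((M : SL3 p) : Matrix (Fin 3) (Fin 3) (ZMod p))) h
  have h02 := congrFun (congrFun h' 0) 2
  simp [Matrix.SpecialLinearGroup.coe_mul, Matrix.mul_apply, Fin.sum_univ_three] at h02

/-- The Levi projection. -/
def levi (p : ℕ) [Fact p.Prime] : affine p →* Matrix.SpecialLinearGroup (Fin 2) (ZMod p) where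
  toFun M := ⟨Matrix.of fun i j => ((M : SL3 p) : Matrix (Fin 3) (Fin 3) (ZMod p)) i.castSucc j.castSucc, by
    have h0 := M.2 0
    have h1 := M.2 1
    have h2 := M.2 2
    have hd := (M : SL3 p).2
    rw [Matrix.det_fin_three] at hd
    simp [h0, h1, h2] at hd
    rw [Matrix.det_fin_two]
    simpa using hd⟩
  map_one' := by
    ext i j
    fin_cases i <;> fin_cases j <;> simp
  map_mul' A B := by
    have h0 := B.2 0
    have h1 := B.2 1
    apply Subtype.ext
    show (Matrix.of fun i j : Fin 2 => (((A * B : affine p) : SL3 p) : Matrix (Fin 3) (Fin 3) (ZMod p)) i.castSucc j.castSucc) =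
      (Matrix.of fun i j : Fin 2 => ((A : SL3 p) : Matrix (Fin 3) (Fin 3) (ZMod p)) i.castSucc j.castSucc) *
      (Matrix.of fun i j : Fin 2 => ((B : SL3 p) : Matrix (Fin 3) (Fin 3) (ZMod p)) i.castSucc j.castSucc)
    ext i j
    fin_cases i <;> fin_cases j <;>
      simp [Matrix.SpecialLinearGroup.coe_mul, Matrix.mul_apply, Fin.sum_univ_three, Fin.sum_univ_two, h0, h1]

theorem levi_ker (M : affine p) (h : M ∈ (levi p).ker) : (M : SL3 p) ∈ trans p := by
  have h' := congrArg (fun A : Matrix.SpecialLinearGroup (Fin 2) (ZMod p) =>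
    (A : Matrix (Fin 2) (Fin 2) (ZMod p))) (MonoidHom.mem_ker.mp h)
  have e00 := congrFun (congrFun h' 0) 0
  have e01 := congrFun (congrFun h' 0) 1
  have e10 := congrFun (congrFun h' 1) 0
  have e11 := congrFun (congrFun h' 1) 1
  change ((M : SL3 p) : Matrix (Fin 3) (Fin 3) (ZMod p)) 0 0 = _ at e00
  change ((M : SL3 p) : Matrix (Fin 3) (Fin 3) (ZMod p)) 0 1 = _ at e01
  change ((M : SL3 p) : Matrix (Fin 3) (Fin 3) (ZMod p)) 1 0 = _ at e10
  change ((M : SL3 p) : Matrix (Fin 3) (Fin 3) (ZMod p)) 1 1 = _ at e11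
  simp at e00 e01 e10 e11
  refine ⟨((M : SL3 p) : Matrix (Fin 3) (Fin 3) (ZMod p)) 0 2,
    ((M : SL3 p) : Matrix (Fin 3) (Fin 3) (ZMod p)) 1 2, ?_⟩
  apply Subtype.ext
  have h0 := M.2 0
  have h1 := M.2 1
  have h2 := M.2 2
  ext i j
  fin_cases i <;> fin_cases j <;> simp [e00, e01, e10, e11, h0, h1, h2]

theorem card_qd_not_dvd : ¬ p ^ 4 ∣ Nat.card (Cfsg.qd p) := by
  intro hd
  have h1 := hd.trans (card_dvd_of_le (qd_le_affine (p := p)))
  rw [card_eq_card_quotient_mul_card_subgroup (levi p).ker] at h1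
  have hk : Nat.card (levi p).ker ∣ p ^ 2 := by
    have h2 : Nat.card ↥((levi p).ker.map (affine p).subtype) ∣ Nat.card (trans p) := by
      apply card_dvd_of_le
      rintro _ ⟨M, hM, rfl⟩
      exact levi_ker M hM
    rw [card_map_of_injective (affine p).subtype_injective] at h2
    refine h2.trans (dvd_of_eq ?_)
    let f : ZMod p × ZMod p → trans p := fun t => ⟨tV t.1 t.2, _, _, rfl⟩
    have hf : Function.Bijective f := by
      constructor
      · rintro ⟨a, b⟩ ⟨a', b'⟩ h
        obtain ⟨e, e'⟩ := tV_injective (congrArg Subtype.val h)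
        exact Prod.ext e e'
      · rintro ⟨M, a, b, rfl⟩
        exact ⟨(a, b), rfl⟩
    rw [← Nat.card_eq_of_bijective f hf, Nat.card_prod, Nat.card_zmod, sq]
  have h3 : Nat.card (affine p ⧸ (levi p).ker) ∣ p * (p ^ 2 - 1) := by
    rw [← Classical.card_sl2 (F := ZMod p) (ZMod.card p),
      Nat.card_congr (QuotientGroup.quotientKerEquivRange (levi p)).toEquiv]
    exact card_subgroup_dvd_card _
  have h4 : p ^ 4 ∣ p ^ 3 * (p ^ 2 - 1) := by
    refine h1.trans ?_
    calc _ ∣ p * (p ^ 2 - 1) * p ^ 2 := mul_dvd_mul h3 hk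
      _ = p ^ 3 * (p ^ 2 - 1) := by ring
  rw [show (p : ℕ) ^ 4 = p ^ 3 * p from by ring] at h4
  have h5 := (Nat.mul_dvd_mul_iff_left (pow_pos hp.out.pos 3)).mp h4
  have h6 : p ∣ p ^ 2 := dvd_pow_self p (by norm_num)
  have h7 := Nat.dvd_sub h6 h5
  have h8 : 1 ≤ p ^ 2 := Nat.one_le_pow _ _ hp.out.pos
  rw [Nat.sub_sub_self h8] at h7
  exact hp.out.not_dvd_one h7

end Qd

end CfsgLib.LocalEvenB.OrderPCubed
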