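import Mathlib.GroupTheory.IsSubnormal
import Cfsg.Agent.Lib.KGroups.CharP
import Cfsg.Agent.Lib.OddOrder.Stabilize

/-!
Groups of characteristic `p` (`C_G(O_p(G)) ≤ O_p(G)`): inheritance lemmas.
-/

set_option autoImplicit false
open scoped commutatorElement
set_option linter.unusedSectionVars false
set_option linter.style.haveILetI false

namespace CfsgLib.LocalEvenB.CharP

open Cfsg

variable {G : Type*} [Group G] [Finite G] {p : ℕ} [Fact p.Prime]

/-- the image of `O_p(L)` contains every normal `p`-subgroup of `L`, seen in `G` -/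
theorem le_map_pCore {L R : Subgroup G} (hRL : R ≤ L) (hR : IsPGroup p ↥R)
    (hn : L ≤ Subgroup.normalizer (R : Set G)) : R ≤ (pCore p ↥L).map L.subtype := by
  haveI := (Subgroup.normal_subgroupOf_iff_le_normalizer hRL).mpr hn
  rw [← Subgroup.map_subgroupOf_eq_of_le hRL]
  exact Subgroup.map_mono (Solvable.Cores.le_pCore
    (hR.of_equiv (Subgroup.subgroupOfEquivOfLe hRL).symm))

theorem le_normalizer_pCore (L : Subgroup G) :
    L ≤ Subgroup.normalizer (((pCore p ↥L).map L.subtype : Subgroup G) : Set G) := by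
  refine (Subgroup.normal_subgroupOf_iff_le_normalizer (Subgroup.map_subtype_le _)).mp ?_
  have : ((pCore p ↥L).map L.subtype).subgroupOf L = pCore p ↥L :=
    Subgroup.comap_map_eq_self_of_injective L.subtype_injective _
  rw [this]; infer_instance

/-- A `p'`-element fixing a normal `p`-group modulo a subgroup it centralises centralises it. -/
theorem commute_of_stable {R : Subgroup G} (hR : IsPGroup p ↥R) {x r : G}
    (hx : (orderOf x).Coprime p) (hmem : r⁻¹ * (x * r * x⁻¹) ∈ R)
    (hc : Commute x (r⁻¹ * (x * r * x⁻¹))) : x * r = r * x := by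
  set c := r⁻¹ * (x * r * x⁻¹) with hcdef
  have h1 : x * r * x⁻¹ = r * c := by rw [hcdef]; group
  have hcop : Nat.Coprime (orderOf x) (orderOf c) := by
    obtain ⟨k, hk⟩ := IsPGroup.iff_orderOf.mp hR ⟨c, hmem⟩
    rw [Subgroup.orderOf_mk] at hk
    exact hk ▸ hx.pow_right k
  rw [OddOrder.Stabilize.eq_one_of_conj_eq_mul h1 hc hcop, mul_one] at h1
  calc x * r = x * r * x⁻¹ * x := by group
    _ = r * x := by rw [h1]

/-- A subgroup normalised by `O_p(G)` has characteristic `p` if `G` has. -/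
theorem charP_of_normalized (hG : Subgroup.centralizer (pCore p G : Set G) ≤ pCore p G)
    (L : Subgroup G) (hL : pCore p G ≤ Subgroup.normalizer (L : Set G)) :
    Subgroup.centralizer (pCore p ↥L : Set ↥L) ≤ pCore p ↥L := by
  refine KGroups.CharP.isPGroup_centralizer_pCore fun d hd hdc => Subtype.ext ?_
  refine KGroups.CharP.eq_one_of_centralizer_pCore_le hG _ (by simpa using hd) fun r hr => ?_
  have hQL : pCore p G ⊓ L ≤ (pCore p ↥L).map L.subtype := by
    refine le_map_pCore inf_le_right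
      ((Solvable.Cores.isPGroup_pCore p).to_le inf_le_left) ?_
    rw [Subgroup.le_normalizer_iff]
    exact fun y hy z hz => Subgroup.mem_inf.mpr ⟨(inferInstance : (pCore p G).Normal).conj_mem z
      (Subgroup.mem_inf.mp hz).1 y, mul_mem (mul_mem hy (Subgroup.mem_inf.mp hz).2) (inv_mem hy)⟩
  have hmem : r⁻¹ * ((d : G) * r * (d : G)⁻¹) ∈ pCore p G ⊓ L := by
    refine Subgroup.mem_inf.mpr ⟨mul_mem (inv_mem hr) ((inferInstance : (pCore p G).Normal).conj_mem r hr _), ?_⟩
    have h1 : r⁻¹ * (d : G) * r ∈ L := by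
      have := (Subgroup.le_normalizer_iff.mp hL) r⁻¹ (inv_mem hr) _ d.2
      simpa using this
    have := mul_mem h1 (inv_mem d.2)
    simpa [mul_assoc] using this
  refine (commute_of_stable (Solvable.Cores.isPGroup_pCore p) (by simpa using hd) hmem.1 ?_).symm
  obtain ⟨z, hz, hze⟩ := hQL hmem
  rw [← hze]
  exact congrArg Subtype.val (hdc z hz).symm

theorem charP_congr {H : Type*} [Group H] (e : G ≃* H)
    (hG : Subgroup.centralizer (pCore p G : Set G) ≤ pCore p G) :
    Subgroup.centralizer (pCore p H : Set H) ≤ pCore p H := by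
  rw [← Solvable.Cores.map_pCore e]
  intro x hx
  refine ⟨e.symm x, hG fun r hr => e.injective ?_, by simp⟩
  simpa using hx (e r) ⟨r, hr, rfl⟩

theorem charP_of_subnormal (hG : Subgroup.centralizer (pCore p G : Set G) ≤ pCore p G)
    {Y : Subgroup G} (hY : Y.IsSubnormal) :
    Subgroup.centralizer (pCore p ↥Y : Set ↥Y) ≤ pCore p ↥Y := by
  induction hY with
  | top => exact charP_congr Subgroup.topEquiv.symm hG
  | step H K h_le _ hN ih =>
    haveI := hN
    refine charP_congr (Subgroup.subgroupOfEquivOfLe h_le)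
      (charP_of_normalized ih (H.subgroupOf K) ?_)
    rw [Subgroup.normalizer_eq_top_iff.mpr hN]
    exact le_top

theorem centralizer_le_of_sylow (hG : Subgroup.centralizer (pCore p G : Set G) ≤ pCore p G)
    (T : Sylow p G) {Q : Subgroup G} (hQn : (T : Subgroup G) ≤ Subgroup.normalizer (Q : Set G))
    (hC : (T : Subgroup G) ⊓ Subgroup.centralizer (Q : Set G) ≤ Q) :
    Subgroup.centralizer (Q : Set G) ≤ Q := by
  set C := Subgroup.centralizer (Q : Set G)
  have hTC : (T : Subgroup G) ≤ Subgroup.normalizer (C : Set G) := by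
    rw [Subgroup.le_normalizer_iff]
    intro t ht c hc q hq
    have hq' : t⁻¹ * q * t ∈ Q := by
      have := (Subgroup.le_normalizer_iff.mp hQn) t⁻¹ (inv_mem ht) q hq
      simpa using this
    calc q * (t * c * t⁻¹) = t * ((t⁻¹ * q * t) * c) * t⁻¹ := by group
      _ = t * (c * (t⁻¹ * q * t)) * t⁻¹ := by rw [hc _ hq']
      _ = _ := by group
  have hC1 : ∀ x ∈ C, (orderOf x).Coprime p → x = 1 := fun x hx hxp => by
    refine KGroups.CharP.eq_one_of_centralizer_pCore_le hG x hxp fun r hr => ?_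
    have h1 : r⁻¹ * (x * r * x⁻¹) ∈ C := by
      have := (Subgroup.le_normalizer_iff.mp hTC) r⁻¹ (inv_mem (Solvable.Cores.pCore_le_sylow T hr)) x hx
      rw [inv_inv] at this
      have := mul_mem this (inv_mem hx)
      simpa [mul_assoc] using this
    have h2 : r⁻¹ * (x * r * x⁻¹) ∈ pCore p G :=
      mul_mem (inv_mem hr) ((inferInstance : (pCore p G).Normal).conj_mem r hr _)
    refine (commute_of_stable (Solvable.Cores.isPGroup_pCore p) hxp h2 ?_).symm
    exact (hx _ (hC ⟨Solvable.Cores.pCore_le_sylow T h2, h1⟩)).symm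
  have hCp : IsPGroup p ↥C := fun u => by
    obtain ⟨k, m, hm, hord⟩ :=
      Nat.exists_eq_pow_mul_and_not_dvd (orderOf_pos u).ne' p (Fact.out : p.Prime).ne_one
    have hordm : (orderOf (u ^ (p ^ k))).Coprime p := by
      rw [orderOf_pow, hord, Nat.gcd_mul_right_left,
        Nat.mul_div_cancel_left _ (pow_pos (Fact.out : p.Prime).pos k)]
      exact ((Fact.out : p.Prime).coprime_iff_not_dvd.mpr hm).symm
    exact ⟨k, Subtype.ext (hC1 _ (u ^ (p ^ k)).2 (by rwa [Subgroup.orderOf_coe]))⟩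
  have hsup : IsPGroup p ↥((T : Subgroup G) ⊔ C) :=
    T.isPGroup'.to_sup_of_normal_right' hCp hTC
  have hCT : C ≤ (T : Subgroup G) := le_sup_right.trans (T.is_maximal' hsup le_sup_left).le
  exact fun x hx => hC ⟨hCT hx, hx⟩

theorem charP_of_ge (hG : Subgroup.centralizer (pCore p G : Set G) ≤ pCore p G)
    (T : Sylow p G) {Q : Subgroup G} (hQT : Q ≤ (T : Subgroup G))
    (hQn : (T : Subgroup G) ≤ Subgroup.normalizer (Q : Set G))
    (hC : (T : Subgroup G) ⊓ Subgroup.centralizer (Q : Set G) ≤ Q) (L : Subgroup G) (hQL : Q ≤ L) :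
    Subgroup.centralizer (pCore p ↥L : Set ↥L) ≤ pCore p ↥L := by
  have hQp : IsPGroup p ↥Q := T.isPGroup'.to_le hQT
  have hCQ := centralizer_le_of_sylow hG T hQn hC
  set U := pCore p G ⊓ L
  have hU : U ≤ (pCore p ↥L).map L.subtype := by
    refine le_map_pCore inf_le_right
      ((Solvable.Cores.isPGroup_pCore p).to_le inf_le_left) ?_
    rw [Subgroup.le_normalizer_iff]
    exact fun y hy z hz => Subgroup.mem_inf.mpr ⟨(inferInstance : (pCore p G).Normal).conj_mem z
      (Subgroup.mem_inf.mp hz).1 y, mul_mem (mul_mem hy (Subgroup.mem_inf.mp hz).2) (inv_mem hy)⟩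
  set C := (Subgroup.centralizer (pCore p ↥L : Set ↥L))
  -- commutators of `O_p(G)` with `Q` lie in `U`
  have hRQ : ∀ r ∈ pCore p G, ∀ q ∈ Q, r⁻¹ * (q * r * q⁻¹) ∈ U := fun r hr q hq => by
    refine Subgroup.mem_inf.mpr ⟨mul_mem (inv_mem hr) ((inferInstance : (pCore p G).Normal).conj_mem r hr q), hQL ?_⟩
    have h1 : r⁻¹ * q * r ∈ Q := by
      have := (Subgroup.le_normalizer_iff.mp hQn) r⁻¹ (inv_mem (Solvable.Cores.pCore_le_sylow T hr)) q hq
      simpa using this
    have := mul_mem h1 (inv_mem hq)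
    simpa [mul_assoc] using this
  -- commutators `[q, x]` act trivially on `R / U`
  have hY : ∀ q : ↥L, (q : G) ∈ Q → ∀ x ∈ C, ∀ r ∈ pCore p G,
      r⁻¹ * (((q * x * q⁻¹ * x⁻¹ : ↥L) : G) * r * ((q * x * q⁻¹ * x⁻¹ : ↥L) : G)⁻¹) ∈ U := by
    intro q hq x hx r hr
    have hxU : ∀ u ∈ U, (x : G) * u = u * (x : G) := fun u hu => by
      obtain ⟨z, hz, rfl⟩ := hU hu
      exact congrArg Subtype.val (hx z hz).symm
    have hxU' : ∀ u ∈ U, (x : G)⁻¹ * u * (x : G) = u := fun u hu => by
      rw [mul_assoc, ← hxU u hu]; group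
    set a := (q : G)
    set b := (x : G)
    have hcoe : ((q * x * q⁻¹ * x⁻¹ : ↥L) : G) = a * b * a⁻¹ * b⁻¹ := rfl
    rw [hcoe]
    -- follow `r` through `b⁻¹`, `a⁻¹`, `b`, `a`
    set r1 := b⁻¹ * r * b
    have hr1 : r1 ∈ pCore p G := by
      have := (inferInstance : (pCore p G).Normal).conj_mem r hr b⁻¹
      simpa [r1] using this
    obtain ⟨u, hu, hu'⟩ : ∃ u ∈ U, a⁻¹ * r1 * a = r1 * u := by
      refine ⟨r1⁻¹ * (a⁻¹ * r1 * a⁻¹⁻¹), hRQ r1 hr1 _ (inv_mem hq), ?_⟩
      rw [inv_inv]; group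
    have h3 : b * (r1 * u) * b⁻¹ = r * u := by
      calc b * (r1 * u) * b⁻¹ = (b * r1 * b⁻¹) * (b * u * b⁻¹) := by group
        _ = r * u := by rw [hxU u hu]; simp [r1, mul_assoc]
    have hru : r * u ∈ pCore p G := mul_mem hr hu.1
    have h4 : r⁻¹ * (a * (r * u) * a⁻¹) ∈ U := by
      have := mul_mem hu (hRQ (r * u) hru a hq)
      convert this using 1; group
    convert h4 using 1
    have : a * b * a⁻¹ * b⁻¹ * r * (a * b * a⁻¹ * b⁻¹)⁻¹ = a * (b * (a⁻¹ * r1 * a) * b⁻¹) * a⁻¹ := by
      simp only [r1]; group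
    rw [this, hu', h3]
  -- the subgroup generated by these commutators
  set Y : Subgroup ↥L := ⁅Q.subgroupOf L, C⁆ with hYdef
  have hYC : Y ≤ C := Subgroup.commutator_le_right _ _
  let S : Subgroup G :=
    { carrier := {y | ∀ r ∈ pCore p G, r⁻¹ * (y * r * y⁻¹) ∈ U} ∩ Subgroup.centralizer (U : Set G)
      one_mem' := ⟨fun r _ => by simp, one_mem _⟩
      mul_mem' := fun {a b} ha hb => ⟨fun r hr => by
        have hb' := hb.1 r hr
        have hr' : b * r * b⁻¹ ∈ pCore p G := (inferInstance : (pCore p G).Normal).conj_mem r hr b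
        have := mul_mem hb' (ha.1 _ hr')
        convert this using 1; group, mul_mem ha.2 hb.2⟩
      inv_mem' := fun {a} ha => ⟨fun r hr => by
        have hr' : a⁻¹ * r * a ∈ pCore p G := by
          simpa using (inferInstance : (pCore p G).Normal).conj_mem r hr a⁻¹
        have := inv_mem (ha.1 _ hr')
        convert this using 1; group, inv_mem ha.2⟩ }
  have hYS : Y ≤ S.subgroupOf L := by
    rw [hYdef, Subgroup.commutator_le]
    intro q hq x hx
    refine ⟨fun r hr => hY q hq x hx r hr, fun u hu => ?_⟩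
    have hmem : ⁅q, x⁆ ∈ C := hYC (Subgroup.commutator_mem_commutator hq hx)
    obtain ⟨z, hz, rfl⟩ := hU hu
    exact congrArg Subtype.val (hmem z hz)
  have hY1 : ∀ d ∈ Y, (orderOf d).Coprime p → d = 1 := fun d hd hdp => Subtype.ext <| by
    refine KGroups.CharP.eq_one_of_centralizer_pCore_le hG _ (by simpa using hdp) fun r hr => ?_
    have h1 : r⁻¹ * ((d : G) * r * (d : G)⁻¹) ∈ U := (hYS hd).1 r hr
    exact (commute_of_stable (Solvable.Cores.isPGroup_pCore p) (by simpa using hdp) h1.1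
      ((hYS hd).2 _ h1).symm).symm
  refine KGroups.CharP.isPGroup_centralizer_pCore fun d hd hdc => Subtype.ext ?_
  -- `Y` is a `p`-group normalised by `C`
  have hYp : IsPGroup p ↥Y := fun u => by
    obtain ⟨k, m, hm, hord⟩ :=
      Nat.exists_eq_pow_mul_and_not_dvd (orderOf_pos u).ne' p (Fact.out : p.Prime).ne_one
    have hordm : (orderOf (u ^ (p ^ k))).Coprime p := by
      rw [orderOf_pow, hord, Nat.gcd_mul_right_left,
        Nat.mul_div_cancel_left _ (pow_pos (Fact.out : p.Prime).pos k)]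
      exact ((Fact.out : p.Prime).coprime_iff_not_dvd.mpr hm).symm
    exact ⟨k, Subtype.ext (hY1 _ (u ^ (p ^ k)).2 (by rwa [Subgroup.orderOf_coe]))⟩
  have hYn : C ≤ Subgroup.normalizer (Y : Set ↥L) :=
    Subgroup.normalizer_commutator_ge_right _ _
  have hYO : ∀ y ∈ Y, ∃ k : ℕ, y ^ (p ^ k) = 1 ∧ Commute d y := fun y hy => by
    obtain ⟨k, hk⟩ := hYp ⟨y, hy⟩
    refine ⟨k, congrArg Subtype.val hk, ?_⟩
    -- `Y` lies in `O_p(C) ≤ O_p(L)`
    haveI hn : (Y.subgroupOf C).Normal :=
      (Subgroup.normal_subgroupOf_iff_le_normalizer hYC).mpr hYn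
    have h2 : Y ≤ (pCore p ↥C).map C.subtype := le_map_pCore hYC hYp hYn
    have h3 := h2.trans (Solvable.Cores.map_pCore_le p C) hy
    exact (hdc y h3).symm
  have hdQ : (d : G) ∈ Subgroup.centralizer (Q : Set G) := fun q hq => by
    have hc : ⁅(⟨q, hQL hq⟩ : ↥L), d⁆ ∈ Y :=
      Subgroup.commutator_mem_commutator (H₁ := Q.subgroupOf L) hq hdc
    obtain ⟨k, hk, hcomm⟩ := hYO _ hc
    set a : ↥L := ⟨q, hQL hq⟩
    have h1 : d * a * d⁻¹ = a * (a⁻¹ * d * a * d⁻¹) := by group
    have h2 : ⁅a⁻¹, d⁆ ∈ Y := Subgroup.commutator_mem_commutator (H₁ := Q.subgroupOf L) (inv_mem hq) hdc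
    obtain ⟨k2, hk2, hcomm2⟩ := hYO _ h2
    have h3 : a⁻¹ * d * a * d⁻¹ = ⁅a⁻¹, d⁆ := by simp [commutatorElement_def, mul_assoc]
    rw [h3] at h1
    have hcop : (orderOf d).Coprime (orderOf ⁅a⁻¹, d⁆) :=
      Nat.Coprime.coprime_dvd_right (orderOf_dvd_of_pow_eq_one hk2) (hd.pow_right k2)
    rw [OddOrder.Stabilize.eq_one_of_conj_eq_mul h1 hcomm2 hcop, mul_one] at h1
    have h4 : d * a = a * d := by
      calc d * a = d * a * d⁻¹ * d := by group
        _ = a * d := by rw [h1]
    exact (congrArg Subtype.val h4).symm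
  obtain ⟨k, hk⟩ := hQp ⟨_, hCQ hdQ⟩
  exact KGroups.CharP.eq_one_of_pow_coprime (by simpa using hd : (orderOf (d : G)).Coprime p)
    (pow_orderOf_eq_one _) (by simpa using congrArg Subtype.val hk)

end CfsgLib.LocalEvenB.CharP

namespace CfsgLib.LocalEvenB.CharP

open Cfsg

variable {G : Type*} [Group G] [Finite G] {p : ℕ} [Fact p.Prime]

theorem centralizer_pCore_le_of_generalizedFitting {H : Type*} [Group H] [Finite H]
    (h : generalizedFittingSubgroup H = pCore p H) :
    Subgroup.centralizer (pCore p H : Set H) ≤ pCore p H :=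
  h ▸ Components.centralizer_generalizedFitting_le

/-- If `B ≤ M` is a `p`-subgroup of a group `M` of characteristic `p` and `C(B) ≤ M`, then the
normaliser and the centraliser of `B` have characteristic `p`. -/
theorem charP_local {M B H : Subgroup G} (hB : IsPGroup p ↥B) (hBM : B ≤ M)
    (hM : Subgroup.centralizer (pCore p ↥M : Set ↥M) ≤ pCore p ↥M)
    (hCM : Subgroup.centralizer (B : Set G) ≤ M) (hCH : Subgroup.centralizer (B : Set G) ≤ H)
    (hHN : H ≤ Subgroup.normalizer (B : Set G))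
    (hcase : H ≤ Subgroup.centralizer (B : Set G) ∨ B ≤ H) :
    Subgroup.centralizer (pCore p ↥H : Set ↥H) ≤ pCore p ↥H := by
  refine KGroups.CharP.isPGroup_centralizer_pCore fun d hd hdc => Subtype.ext ?_
  have hfix : ∀ y ∈ (pCore p ↥H).map H.subtype, (d : G) * y = y * d := by
    rintro _ ⟨z, hz, rfl⟩
    exact congrArg Subtype.val (hdc z hz).symm
  have hdB : ∀ b ∈ B, (d : G) * b = b * d := by
    rcases hcase with hc | hc
    · exact fun b hb => (hc d.2 b hb).symm
    · exact fun b hb => hfix b (le_map_pCore hc hB hHN hb)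
  have hdM : (d : G) ∈ M := hCM fun b hb => (hdB b hb).symm
  set R := (pCore p ↥M).map M.subtype with hRdef
  have hR : IsPGroup p ↥R := (Solvable.Cores.isPGroup_pCore p).map _
  have hMR := le_normalizer_pCore (p := p) M
  have key := KGroups.CharP.commute_of_commute_fixed hR hB (hBM.trans hMR)
    (y := (d : G)) (by simpa using hd) hdB (hMR hdM) fun x hx hxB => ?_
  · have hd1 := KGroups.CharP.eq_one_of_centralizer_pCore_le hM ⟨d, hdM⟩
      (by rw [Subgroup.orderOf_mk]; simpa using hd)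
      fun x hx => Subtype.ext (key x ⟨x, hx, rfl⟩).symm
    exact (congrArg Subtype.val hd1 :)
  · refine hfix x ?_
    have hWC : R ⊓ Subgroup.centralizer (B : Set G) ≤ H := inf_le_right.trans hCH
    have h1 : R ⊓ Subgroup.centralizer (B : Set G) ≤
        (pCore p ↥(Subgroup.centralizer (B : Set G))).map
          (Subgroup.centralizer (B : Set G)).subtype :=
      le_map_pCore inf_le_right (hR.to_le inf_le_left) <| by
        rw [Subgroup.le_normalizer_iff]
        intro c hc w hw
        obtain ⟨hw1, hw2⟩ := Subgroup.mem_inf.mp hw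
        exact Subgroup.mem_inf.mpr ⟨(Subgroup.le_normalizer_iff.mp hMR) c (hCM hc) w hw1,
          mul_mem (mul_mem hc hw2) (inv_mem hc)⟩
    have hn : H ≤ Subgroup.normalizer
        (((pCore p ↥(Subgroup.centralizer (B : Set G))).map
          (Subgroup.centralizer (B : Set G)).subtype : Subgroup G) : Set G) := fun h hh =>
      KGroups.CharP.normalizer_le_normalizer_pCoreCentralizer B (hHN hh)
    refine le_map_pCore ((Subgroup.map_subtype_le _).trans hCH)
      ((Solvable.Cores.isPGroup_pCore p).map _) hn (h1 (Subgroup.mem_inf.mpr ⟨hx, fun b hb => hxB b hb⟩))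

end CfsgLib.LocalEvenB.CharP
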