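import Cfsg.Agent.Lib.LocalEvenB.CDMeasure
import Cfsg.Prelude.Def_PLocal
import Mathlib.GroupTheory.Nilpotent

/-!
Centrally large subgroups: products with abelian subgroups of largest order, minimal centrally large
subgroups, and the replacement giving one normalised by all of these.
-/

set_option autoImplicit false
set_option linter.unusedSectionVars false

namespace CfsgLib.LocalEvenB.CentrallyLarge

open CfsgLib.LocalEvenB.CDMeasure
open scoped Pointwise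

variable {G : Type*} [Group G] [Finite G]

local notation "ℭ" X:max => Subgroup.centralizer ((X : Subgroup G) : Set G)

theorem card_of_set_mul {A B : Subgroup G}
    (h : ((A ⊔ B : Subgroup G) : Set G) = (A : Set G) * (B : Set G)) :
    Nat.card ↥(A ⊔ B) * Nat.card ↥(A ⊓ B) = Nat.card A * Nat.card B := by
  refine le_antisymm ?_ (card_mul_card_le A B)
  have h1 := card_eq_inf_mul_relIndex A B
  have h2 := card_eq_inf_mul_relIndex A (A ⊔ B)
  rw [inf_eq_left.mpr le_sup_left] at h2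
  have h3 : A.relIndex (A ⊔ B) ≤ A.relIndex B := by
    refine Nat.card_le_card_of_surjective
      (Subgroup.quotientSubgroupOfEmbeddingOfLE A (le_sup_right : B ≤ A ⊔ B)) ?_
    intro q
    obtain ⟨⟨x, hx⟩, rfl⟩ := QuotientGroup.mk_surjective q
    have hx' : x⁻¹ ∈ (A : Set G) * (B : Set G) := h ▸ SetLike.mem_coe.mpr (inv_mem hx)
    obtain ⟨a, ha, b, hb, hab⟩ := Set.mem_mul.mp hx'
    refine ⟨QuotientGroup.mk ⟨b⁻¹, inv_mem hb⟩, ?_⟩
    rw [Subgroup.quotientSubgroupOfEmbeddingOfLE_apply_mk, QuotientGroup.eq, Subgroup.mem_subgroupOf]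
    have : x = b⁻¹ * a⁻¹ := by rw [← mul_inv_rev, hab, inv_inv]
    show (b⁻¹)⁻¹ * x ∈ A
    rw [this]; simpa using ha
  rw [h1, h2]
  calc Nat.card A * A.relIndex (A ⊔ B) * Nat.card ↥(A ⊓ B)
      ≤ Nat.card A * A.relIndex B * Nat.card ↥(A ⊓ B) := by gcongr
    _ = _ := by ring

theorem set_mul_of_normalizer {A B : Subgroup G} (h : B ≤ Subgroup.normalizer (A : Set G)) :
    ((A ⊔ B : Subgroup G) : Set G) = (A : Set G) * (B : Set G) :=
  Subgroup.coe_mul_of_right_le_normalizer_left A B h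

theorem abelian_le {A : Subgroup G} (hA : IsMulCommutative A) : A ≤ ℭ A :=
  Subgroup.le_centralizer_iff_isMulCommutative.mpr hA

theorem centralizer_maxAbelian {A : Subgroup G} (hA : A ∈ Cfsg.maxAbelianSubgroups G) : ℭ A = A := by
  refine le_antisymm ?_ (abelian_le hA.1)
  intro x hx
  have hle : A ⊔ Subgroup.zpowers x ≤ ℭ (A ⊔ Subgroup.zpowers x) := by
    have hxA : Subgroup.zpowers x ≤ ℭ A := Subgroup.zpowers_le.mpr hx
    rw [centralizer_sup]
    refine sup_le (le_inf (abelian_le hA.1) (le_centralizer_comm hxA)) (le_inf hxA ?_)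
    exact abelian_le inferInstance
  have := hA.2 _ (Subgroup.le_centralizer_iff_isMulCommutative.mp hle)
  rw [Subgroup.eq_of_le_of_card_ge (le_sup_left : A ≤ A ⊔ Subgroup.zpowers x) this]
  exact Subgroup.mem_sup_right (Subgroup.mem_zpowers x)

theorem exists_maxAbelian : ∃ A : Subgroup G, A ∈ Cfsg.maxAbelianSubgroups G := by
  obtain ⟨⟨A, hA⟩, hmax⟩ := @Finite.exists_max {A : Subgroup G // IsMulCommutative A} _ _
    ⟨⟨⊥, inferInstance⟩⟩ _ (fun A => Nat.card A.1)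
  exact ⟨A, hA, fun B hB => hmax ⟨B, hB⟩⟩

theorem le_join_of_maxAbelian {A : Subgroup G} (hA : A ∈ Cfsg.maxAbelianSubgroups G) :
    A ≤ Cfsg.thompsonSubgroupA G := le_sSup hA

theorem centralizer_join_le : ℭ (Cfsg.thompsonSubgroupA G) ≤ Cfsg.thompsonSubgroupA G := by
  obtain ⟨A, hA⟩ := exists_maxAbelian (G := G)
  calc ℭ (Cfsg.thompsonSubgroupA G) ≤ ℭ A :=
        Subgroup.centralizer_le (SetLike.coe_subset_coe.mpr (le_join_of_maxAbelian hA))
    _ = A := centralizer_maxAbelian hA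
    _ ≤ _ := le_join_of_maxAbelian hA

theorem inf_centralizer_join :
    Cfsg.thompsonSubgroupA G ⊓ ℭ (Cfsg.thompsonSubgroupA G) = ℭ (Cfsg.thompsonSubgroupA G) :=
  inf_eq_right.mpr centralizer_join_le

theorem cd_of_centralizer_le {Q : Subgroup G} (hQ : ℭ Q ≤ Q) : Q ⊓ ℭ Q = ℭ Q := inf_eq_right.mpr hQ

/-- Basic facts on the join of a centrally large subgroup with a largest abelian subgroup. -/
theorem join_maxAbelian {Q A : Subgroup G} (hQ : IsMaxCD Q) (hQc : ℭ Q ≤ Q)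
    (hA : A ∈ Cfsg.maxAbelianSubgroups G) :
    ((Q ⊔ A : Subgroup G) : Set G) = (Q : Set G) * (A : Set G) ∧ IsMaxCD (Q ⊔ A) ∧
      ℭ (Q ⊔ A) ≤ Q ⊔ A ∧
      Nat.card ↥((Q ⊓ A) ⊔ ℭ Q) = Nat.card A ∧ IsMulCommutative ↥((Q ⊓ A) ⊔ ℭ Q) := by
  have hcA := centralizer_maxAbelian hA
  set B := (Q ⊓ A) ⊔ ℭ Q with hB
  have hBab : IsMulCommutative B := by
    rw [← Subgroup.le_centralizer_iff_isMulCommutative, hB, centralizer_sup]
    have h1 : Q ≤ ℭ (ℭ Q) := le_centralizer_comm le_rfl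
    refine sup_le (le_inf ?_ (inf_le_left.trans h1)) (le_inf ?_ (hQc.trans h1))
    · exact inf_le_right.trans ((abelian_le hA.1).trans (Subgroup.centralizer_le inf_le_right))
    · exact Subgroup.centralizer_le inf_le_left
  have hb : Nat.card B ≤ Nat.card A := hA.2 B hBab
  have h1 : Nat.card ↥(Q ⊓ A) * Nat.card ↥(ℭ Q) ≤ Nat.card B * Nat.card ↥(ℭ Q ⊓ A) := by
    refine (card_mul_card_le (Q ⊓ A) (ℭ Q)).trans ?_
    refine Nat.mul_le_mul_left _ (Subgroup.card_le_of_le ?_)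
    exact le_inf inf_le_right (inf_le_left.trans inf_le_right)
  have h2 := card_mul_card_le Q A
  have hc : ℭ (Q ⊔ A) = ℭ Q ⊓ A := by rw [centralizer_sup, hcA]
  have h3 : Nat.card ↥(Q ⊔ A) * Nat.card ↥(ℭ Q ⊓ A) ≤ Nat.card Q * Nat.card ↥(ℭ Q) := by
    have h := hQ (Q ⊔ A)
    unfold cd at h
    rwa [hc] at h
  set q := Nat.card Q
  set a := Nat.card A
  set i := Nat.card ↥(Q ⊓ A)
  set z := Nat.card ↥(ℭ Q)
  set k := Nat.card ↥(ℭ Q ⊓ A)
  set u := Nat.card ↥(Q ⊔ A)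
  set b := Nat.card B
  have hq : 0 < q := Nat.card_pos
  have hi : 0 < i := Nat.card_pos
  have hk : 0 < k := Nat.card_pos
  have e1 : q * a * k ≤ u * i * k := Nat.mul_le_mul_right k h2
  have e2 : u * i * k ≤ q * z * i := by
    calc u * i * k = u * k * i := by ring
      _ ≤ q * z * i := Nat.mul_le_mul_right i h3
  have e3 : q * z * i ≤ q * b * k := by
    calc q * z * i = q * (i * z) := by ring
      _ ≤ q * (b * k) := Nat.mul_le_mul_left q h1
      _ = q * b * k := by ring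
  have e4 : q * b * k ≤ q * a * k := Nat.mul_le_mul_right k (Nat.mul_le_mul_left q hb)
  have f1 : q * a = u * i := Nat.eq_of_mul_eq_mul_right hk (le_antisymm e1 (e2.trans (e3.trans e4)))
  have f2 : u * k = q * z :=
    Nat.eq_of_mul_eq_mul_right hi (le_antisymm (Nat.mul_le_mul_right i h3)
      ((e3.trans (e4.trans e1)).trans (le_of_eq (by ring))))
  have f3 : b = a := by
    have : q * b * k = q * a * k := le_antisymm e4 ((e1.trans e2).trans e3)
    exact Nat.eq_of_mul_eq_mul_left hq (Nat.eq_of_mul_eq_mul_right hk this)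
  refine ⟨set_mul_of_card_eq Q A f1, hQ.of_le ?_, hc ▸ inf_le_right.trans le_sup_right, f3, hBab⟩
  unfold cd
  rw [hc]
  exact le_of_eq f2.symm

theorem centralizer_inf_of_join {Q A : Subgroup G} (hQ : IsMaxCD Q) (hQc : ℭ Q ≤ Q)
    (hA : A ∈ Cfsg.maxAbelianSubgroups G) :
    (Q ⊔ A) ⊓ ℭ (Q ⊓ A) = ℭ Q ⊔ A ∧
      ((ℭ Q ⊔ A : Subgroup G) : Set G) = (ℭ Q : Set G) * (A : Set G) := by
  obtain ⟨hset, -, -, hcard, hab⟩ := join_maxAbelian hQ hQc hA
  set B := (Q ⊓ A) ⊔ ℭ Q with hB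
  have hBmax : B ∈ Cfsg.maxAbelianSubgroups G := ⟨hab, fun X hX => hcard ▸ hA.2 X hX⟩
  have hcB := centralizer_maxAbelian hBmax
  have hle : ℭ Q ⊔ A ≤ (Q ⊔ A) ⊓ ℭ (Q ⊓ A) :=
    le_inf (sup_le (hQc.trans le_sup_left) le_sup_right)
      (sup_le (Subgroup.centralizer_le inf_le_left)
        ((abelian_le hA.1).trans (Subgroup.centralizer_le inf_le_right)))
  have hsub : (((Q ⊔ A) ⊓ ℭ (Q ⊓ A) : Subgroup G) : Set G) ⊆ (ℭ Q : Set G) * (A : Set G) := by
    intro x hx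
    obtain ⟨hx1, hx2⟩ := Subgroup.mem_inf.mp hx
    rw [← SetLike.mem_coe, hset] at hx1
    obtain ⟨q, hq, a, ha, rfl⟩ := Set.mem_mul.mp hx1
    have hqc : q ∈ ℭ (Q ⊓ A) := by
      have h := mul_mem hx2 (inv_mem ((Subgroup.centralizer_le inf_le_right) (abelian_le hA.1 ha)))
      simpa using h
    have hqB : q ∈ B := by
      rw [← hcB, hB, centralizer_sup]
      exact Subgroup.mem_inf.mpr ⟨hqc, le_centralizer_comm le_rfl hq⟩
    have hn : ℭ Q ≤ ℭ (Q ⊓ A) := Subgroup.centralizer_le inf_le_left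
    have hqB' : q ∈ ℭ Q ⊔ (Q ⊓ A) := by rwa [sup_comm]
    rw [← SetLike.mem_coe, set_mul_of_normalizer
      ((le_centralizer_comm hn).trans (Subgroup.centralizer_le_normalizer _))] at hqB'
    obtain ⟨z, hz, w, hw, rfl⟩ := Set.mem_mul.mp hqB'
    exact Set.mem_mul.mpr ⟨z, hz, w * a, mul_mem (Subgroup.mem_inf.mp hw).2 ha, by rw [mul_assoc]⟩
  refine ⟨le_antisymm ?_ hle, ?_⟩
  · intro x hx
    obtain ⟨z, hz, a, ha, rfl⟩ := Set.mem_mul.mp (hsub hx)
    exact mul_mem (Subgroup.mem_sup_left hz) (Subgroup.mem_sup_right ha)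
  · refine Set.Subset.antisymm ((SetLike.coe_subset_coe.mpr hle).trans hsub) ?_
    rintro _ ⟨z, hz, a, ha, rfl⟩
    exact mul_mem (Subgroup.mem_sup_left hz) (Subgroup.mem_sup_right ha)

theorem join_thompson {Q : Subgroup G} (hQ : IsMaxCD Q) (hQc : ℭ Q ≤ Q) :
    IsMaxCD (Q ⊔ Cfsg.thompsonSubgroupA G) ∧
      ℭ (ℭ (Cfsg.thompsonSubgroupA G)) ≤ Q ⊔ Cfsg.thompsonSubgroupA G := by
  obtain ⟨A₀, hA₀⟩ := exists_maxAbelian (G := G)
  have h : IsMaxCD (Q ⊔ Cfsg.thompsonSubgroupA G) := by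
    have hs : IsMaxCD (SupSet.sSup ((fun A => Q ⊔ A) '' Cfsg.maxAbelianSubgroups G)) :=
      IsMaxCD.sSup ⟨_, A₀, hA₀, rfl⟩ (by rintro _ ⟨A, hA, rfl⟩; exact (join_maxAbelian hQ hQc hA).2.1)
    have heq : SupSet.sSup ((fun A => Q ⊔ A) '' Cfsg.maxAbelianSubgroups G) =
        Q ⊔ Cfsg.thompsonSubgroupA G := by
      refine le_antisymm (sSup_le ?_) (sup_le ?_ (sSup_le fun A hA => ?_))
      · rintro _ ⟨A, hA, rfl⟩; exact sup_le_sup_left (le_join_of_maxAbelian hA) _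
      · exact le_trans le_sup_left (le_sSup ⟨A₀, hA₀, rfl⟩)
      · exact le_trans le_sup_right (le_sSup ⟨A, hA, rfl⟩)
    rwa [heq] at hs
  refine ⟨h, ?_⟩
  calc ℭ (ℭ (Cfsg.thompsonSubgroupA G)) ≤ ℭ (ℭ (Q ⊔ Cfsg.thompsonSubgroupA G)) :=
        Subgroup.centralizer_le (SetLike.coe_subset_coe.mpr
          (Subgroup.centralizer_le (SetLike.coe_subset_coe.mpr le_sup_right)))
    _ = _ := h.double_centralizer

/-- Minimal centrally large, in terms of the measure. -/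
def MCL (Q : Subgroup G) : Prop :=
  IsMaxCD Q ∧ ℭ Q ≤ Q ∧ ∀ R : Subgroup G, R ≤ Q → IsMaxCD R → ℭ R ≤ R → R = Q

theorem mcl_iff (Q : Subgroup G) : Cfsg.IsMinimalCentrallyLarge Q ↔ MCL Q := by
  unfold Cfsg.IsMinimalCentrallyLarge MCL
  simp only [isCentrallyLarge_iff, and_assoc, and_imp]

theorem exists_mcl_le {Q : Subgroup G} (hQ : IsMaxCD Q) (hQc : ℭ Q ≤ Q) : ∃ R ≤ Q, MCL R := by
  obtain ⟨R, ⟨hRQ, hR, hRc⟩, hmin⟩ := Set.Finite.exists_minimal
    (Set.toFinite {R : Subgroup G | R ≤ Q ∧ IsMaxCD R ∧ ℭ R ≤ R}) ⟨Q, le_rfl, hQ, hQc⟩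
  exact ⟨R, hRQ, hR, hRc, fun S hS h1 h2 => le_antisymm hS (hmin ⟨hS.trans hRQ, h1, h2⟩ hS)⟩

theorem exists_mcl : ∃ Q : Subgroup G, MCL Q := by
  obtain ⟨T, hT, -, hgt⟩ := exists_greatest_isMaxCD G
  obtain ⟨R, -, hR⟩ := exists_mcl_le hT (hgt _ hT.centralizer)
  exact ⟨R, hR⟩

theorem MCL.split {Q R : Subgroup G} (hQ : MCL Q) (hR : MCL R) : (Q ⊓ R) ⊔ ℭ Q = Q := by
  set X := (Q ⊓ R) ⊔ ℭ Q with hX
  refine hQ.2.2 X (sup_le inf_le_left hQ.2.1) ((hQ.1.inf hR.1).sup hQ.1.centralizer) ?_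
  intro x hx
  rw [hX, centralizer_sup, hQ.1.double_centralizer] at hx
  obtain ⟨hx1, hx2⟩ := Subgroup.mem_inf.mp hx
  rw [(hQ.1.product hR.1).2, ← SetLike.mem_coe, hQ.1.centralizer.set_mul hR.1.centralizer] at hx1
  obtain ⟨a, ha, b, hb, rfl⟩ := Set.mem_mul.mp hx1
  refine mul_mem (Subgroup.mem_sup_right ha) (Subgroup.mem_sup_left (Subgroup.mem_inf.mpr ⟨?_, hR.2.1 hb⟩))
  have := mul_mem (inv_mem (hQ.2.1 ha)) hx2
  simpa using this

theorem MCL.inf_centralizer {Q R : Subgroup G} (hQ : MCL Q) (hR : MCL R) :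
    Q ⊓ R ⊓ ℭ Q = Q ⊓ R ⊓ ℭ (Q ⊓ R) := by
  refine le_antisymm (le_inf inf_le_left (inf_le_right.trans (Subgroup.centralizer_le inf_le_left))) ?_
  intro x hx
  obtain ⟨hx1, hx2⟩ := Subgroup.mem_inf.mp hx
  refine Subgroup.mem_inf.mpr ⟨hx1, ?_⟩
  rw [← hQ.split hR, centralizer_sup]
  exact Subgroup.mem_inf.mpr ⟨hx2, le_centralizer_comm le_rfl (Subgroup.mem_inf.mp hx1).1⟩

theorem MCL.card_split {Q R : Subgroup G} (hQ : MCL Q) (hR : MCL R) :
    Nat.card Q * Nat.card ↥(Q ⊓ R ⊓ ℭ Q) = Nat.card ↥(Q ⊓ R) * Nat.card ↥(ℭ Q) := by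
  have h := card_of_set_mul (A := Q ⊓ R) (B := ℭ Q)
    (set_mul_of_normalizer ((Subgroup.centralizer_le inf_le_left : ℭ Q ≤ ℭ (Q ⊓ R)).trans
      (Subgroup.centralizer_le_normalizer _)))
  rwa [hQ.split hR] at h

theorem MCL.card_eq {Q R : Subgroup G} (hQ : MCL Q) (hR : MCL R) :
    Nat.card Q = Nat.card R ∧ Nat.card ↥(ℭ Q) = Nat.card ↥(ℭ R) := by
  have h1 := hQ.card_split hR
  have h2 := hR.card_split hQ
  rw [hQ.inf_centralizer hR] at h1
  rw [hR.inf_centralizer hQ, inf_comm R Q] at h2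
  have h3 : Nat.card Q * Nat.card ↥(ℭ Q) = Nat.card R * Nat.card ↥(ℭ R) := hQ.1.eq hR.1
  set q := Nat.card Q
  set r := Nat.card R
  set z := Nat.card ↥(ℭ Q)
  set w := Nat.card ↥(ℭ R)
  set i := Nat.card ↥(Q ⊓ R)
  set k := Nat.card ↥(Q ⊓ R ⊓ ℭ (Q ⊓ R))
  have hq : 0 < q := Nat.card_pos
  have hr : 0 < r := Nat.card_pos
  have hi : 0 < i := Nat.card_pos
  have hk : 0 < k := Nat.card_pos
  have e : (q * q) * k = (r * r) * k := by
    have a1 : q * q * k = i * (q * z) := by rw [mul_assoc, h1]; ring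
    have a2 : r * r * k = i * (r * w) := by rw [mul_assoc, h2]; ring
    rw [a1, a2, h3]
  have hqr : q = r := Nat.mul_self_inj.mp (Nat.eq_of_mul_eq_mul_right hk e)
  exact ⟨hqr, Nat.eq_of_mul_eq_mul_left hq (by rw [h3, hqr])⟩

theorem commutator_of_central_sup {Q X : Subgroup G} (hX : X ≤ Q) (h : X ⊔ ℭ Q = Q) : ⁅Q, Q⁆ = ⁅X, X⁆ := by
  refine le_antisymm ?_ (Subgroup.commutator_mono hX hX)
  rw [Subgroup.commutator_le]
  intro a ha b hb
  have hn : ℭ Q ≤ Subgroup.normalizer (X : Set G) :=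
    (Subgroup.centralizer_le hX).trans (Subgroup.centralizer_le_normalizer _)
  have ha' : a ∈ ((X ⊔ ℭ Q : Subgroup G) : Set G) := by rw [h]; exact ha
  have hb' : b ∈ ((X ⊔ ℭ Q : Subgroup G) : Set G) := by rw [h]; exact hb
  rw [set_mul_of_normalizer hn] at ha' hb'
  obtain ⟨x, hx, z, hz, rfl⟩ := Set.mem_mul.mp ha'
  obtain ⟨y, hy, w, hw, rfl⟩ := Set.mem_mul.mp hb'
  have hzc : ∀ t ∈ Q, z * t = t * z := fun t ht => (Subgroup.mem_centralizer_iff.mp hz t ht).symm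
  have hwc : ∀ t ∈ Q, w * t = t * w := fun t ht => (Subgroup.mem_centralizer_iff.mp hw t ht).symm
  have e : x * z * (y * w) * (x * z)⁻¹ * (y * w)⁻¹ = x * y * x⁻¹ * y⁻¹ := by
    have hyw : y * w ∈ Q := hb
    calc x * z * (y * w) * (x * z)⁻¹ * (y * w)⁻¹
        = x * (z * (y * w)) * z⁻¹ * x⁻¹ * w⁻¹ * y⁻¹ := by group
      _ = x * ((y * w) * z) * z⁻¹ * x⁻¹ * w⁻¹ * y⁻¹ := by rw [hzc _ hyw]
      _ = x * y * (w * x⁻¹) * w⁻¹ * y⁻¹ := by group
      _ = x * y * (x⁻¹ * w) * w⁻¹ * y⁻¹ := by rw [hwc _ (inv_mem (hX hx))]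
      _ = _ := by group
  rw [commutatorElement_def, e]
  exact Subgroup.commutator_mem_commutator hx hy

theorem MCL.commutator_eq {Q R : Subgroup G} (hQ : MCL Q) (hR : MCL R) : ⁅Q, Q⁆ = ⁅R, R⁆ := by
  rw [commutator_of_central_sup inf_le_left (hQ.split hR),
    commutator_of_central_sup inf_le_left (hR.split hQ), inf_comm]

theorem abelian_iff_commutator {Q : Subgroup G} : IsMulCommutative Q ↔ ⁅Q, Q⁆ = ⊥ := by
  rw [← Subgroup.le_centralizer_iff_isMulCommutative, Subgroup.commutator_eq_bot_iff_le_centralizer]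

theorem mcl_eq_maxAbelian {Q : Subgroup G} (hQ : MCL Q) (hab : IsMulCommutative Q) :
    (∀ A ∈ Cfsg.maxAbelianSubgroups G, IsMaxCD A ∧ MCL A) ∧
      ∀ X : Subgroup G, MCL X ↔ X ∈ Cfsg.maxAbelianSubgroups G := by
  have hcQ : ℭ Q = Q := le_antisymm hQ.2.1 (abelian_le hab)
  have hQmax : Q ∈ Cfsg.maxAbelianSubgroups G := by
    refine ⟨hab, fun B hB => ?_⟩
    have h1 : Nat.card B * Nat.card B ≤ cd B := Nat.mul_le_mul_left _ (Subgroup.card_le_of_le (abelian_le hB))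
    have h2 := h1.trans (hQ.1 B)
    unfold cd at h2
    rw [hcQ] at h2
    exact Nat.mul_self_le_mul_self_iff.mp h2
  have hall : ∀ A ∈ Cfsg.maxAbelianSubgroups G, IsMaxCD A ∧ MCL A := by
    intro A hA
    have hcA := centralizer_maxAbelian hA
    have hcd : IsMaxCD A := by
      refine hQ.1.of_le (le_of_eq ?_)
      unfold cd
      rw [hcA, hcQ, le_antisymm (hA.2 Q hab) (hQmax.2 A hA.1)]
    refine ⟨hcd, hcd, le_of_eq hcA, fun R hR _ hRc => le_antisymm hR ?_⟩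
    calc A = ℭ A := hcA.symm
      _ ≤ ℭ R := Subgroup.centralizer_le hR
      _ ≤ R := hRc
  refine ⟨hall, fun X => ⟨fun hX => ⟨?_, fun B hB => ?_⟩, fun hX => (hall X hX).2⟩⟩
  · rw [abelian_iff_commutator, hX.commutator_eq hQ, ← abelian_iff_commutator]; exact hab
  · rw [(hX.card_eq hQ).1]; exact hQmax.2 B hB

theorem map_centralizer (e : G ≃* G) (A : Subgroup G) :
    ℭ (A.map e.toMonoidHom) = (ℭ A).map e.toMonoidHom := by
  ext x
  simp only [Subgroup.mem_map_equiv, Subgroup.mem_centralizer_iff, SetLike.mem_coe]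
  constructor
  · intro h a ha
    have := h (e a) (by simpa using ha)
    apply e.injective
    simpa using this
  · intro h a ha
    apply e.symm.injective
    simpa using h _ ha

theorem MCL.map {Q : Subgroup G} (hQ : MCL Q) (e : G ≃* G) : MCL (Q.map e.toMonoidHom) := by
  refine ⟨hQ.1.map e, ?_, ?_⟩
  · rw [map_centralizer]; exact Subgroup.map_mono hQ.2.1
  · intro R hR h1 h2
    have hR' : R.map e.symm.toMonoidHom ≤ Q := by
      rintro _ ⟨x, hx, rfl⟩
      obtain ⟨y, hy, rfl⟩ := hR hx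
      simpa using hy
    have := hQ.2.2 _ hR' (h1.map e.symm) (by rw [map_centralizer]; exact Subgroup.map_mono h2)
    rw [← this, Subgroup.map_map]
    ext x; simp

/-- Targets: abelian subgroups permuting with every `C(Q)`, `Q` minimal centrally large. -/
def Target (A : Subgroup G) : Prop :=
  IsMulCommutative A ∧ ∀ Q : Subgroup G, MCL Q →
    ((ℭ Q ⊔ A : Subgroup G) : Set G) = (ℭ Q : Set G) * (A : Set G)

theorem target_maxAbelian {A : Subgroup G} (hA : A ∈ Cfsg.maxAbelianSubgroups G) : Target A :=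
  ⟨hA.1, fun _ hQ => (centralizer_inf_of_join hQ.1 hQ.2.1 hA).2⟩

theorem target_center {R : Subgroup G} (hR : MCL R) : Target (ℭ R) :=
  ⟨Subgroup.le_centralizer_iff_isMulCommutative.mp
      (hR.2.1.trans (le_centralizer_comm le_rfl)),
    fun _ hQ => hQ.1.centralizer.set_mul hR.1.centralizer⟩

/-- The replacement step: if `A` does not normalise `C(Q)`, some other minimal centrally large subgroup has a
centralizer meeting a term of the central series in a larger subgroup. -/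
theorem replace [Group.IsNilpotent G] {M : ℕ → Subgroup G} {n : ℕ} (hbot : M 0 = ⊥) (htop : M n = ⊤)
    (hM : ∀ i, ∀ x ∈ M (i + 1), ∀ g : G, g * x * g⁻¹ * x⁻¹ ∈ M i)
    {Q A : Subgroup G} (hQ : MCL Q) (hA : Target A)
    (hAn : ¬ A ≤ Subgroup.normalizer ((ℭ Q : Subgroup G) : Set G)) :
    ∃ Q' : Subgroup G, MCL Q' ∧ ∃ i, i ≤ n ∧ (∀ i' < i, ℭ Q ⊓ M i' ≤ ℭ Q' ⊓ M i') ∧
      ℭ Q ⊓ M i < ℭ Q' ⊓ M i := by
  classical
  set Z := ℭ Q with hZ
  have hset := hA.2 Q hQ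
  have hZab : Z ≤ ℭ Z := hQ.2.1.trans (le_centralizer_comm le_rfl)
  have hAab : A ≤ ℭ A := abelian_le hA.1
  set R := Z ⊔ A with hR
  set N := R ⊓ Subgroup.normalizer (Z : Set G) with hN
  -- an element of A normalising N but not Z
  obtain ⟨g, hgA, hgZ, hgN⟩ : ∃ g ∈ A, g ∉ Subgroup.normalizer (Z : Set G) ∧
      ∀ x ∈ N, g * x * g⁻¹ ∈ N := by
    have hlt : N < R := lt_of_le_of_ne inf_le_left fun h =>
      hAn ((le_sup_right : A ≤ R).trans (h.ge.trans inf_le_right))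
    have hne : N < R ⊓ Subgroup.normalizer (N : Set G) := by
      refine lt_of_le_of_ne (le_inf inf_le_left Subgroup.le_normalizer) ?_
      intro he
      have h1 : N.subgroupOf R < ⊤ := lt_top_iff_ne_top.mpr fun h => hlt.not_ge (Subgroup.subgroupOf_eq_top.mp h)
      have h2 := Group.normalizerCondition_of_isNilpotent (G := R) (N.subgroupOf R) h1
      obtain ⟨⟨x, hxR⟩, hx, hxN⟩ := SetLike.exists_of_lt h2
      apply hxN
      rw [Subgroup.mem_subgroupOf, he]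
      refine Subgroup.mem_inf.mpr ⟨hxR, ?_⟩
      rw [Subgroup.mem_normalizer_iff]
      intro y
      constructor
      · intro hy
        have := (Subgroup.mem_normalizer_iff.mp hx ⟨y, hlt.le hy⟩).mp (by rw [Subgroup.mem_subgroupOf]; exact hy)
        rw [Subgroup.mem_subgroupOf] at this; exact this
      · intro hy
        have hyR : y ∈ R := by
          have := mul_mem (mul_mem (inv_mem hxR) (hlt.le hy)) hxR
          simpa [mul_assoc] using this
        have := (Subgroup.mem_normalizer_iff.mp hx ⟨y, hyR⟩).mpr (by rw [Subgroup.mem_subgroupOf]; exact hy)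
        rw [Subgroup.mem_subgroupOf] at this; exact this
    obtain ⟨x, hx, hxN⟩ := SetLike.exists_of_lt hne
    obtain ⟨hxR, hxn⟩ := Subgroup.mem_inf.mp hx
    rw [← SetLike.mem_coe, hR, hset] at hxR
    obtain ⟨z, hz, a, ha, rfl⟩ := Set.mem_mul.mp hxR
    have hzN : z ∈ N := Subgroup.mem_inf.mpr ⟨Subgroup.mem_sup_left hz, Subgroup.le_normalizer hz⟩
    refine ⟨a, ha, fun h => hxN (mul_mem hzN (Subgroup.mem_inf.mpr ⟨Subgroup.mem_sup_right ha, h⟩)), ?_⟩
    intro y hy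
    have h1 := (Subgroup.mem_normalizer_iff.mp hxn y).mp hy
    have h2 := mul_mem (mul_mem (inv_mem hzN) h1) hzN
    simpa [mul_assoc] using h2
  set c := MulAut.conj g with hc
  set Qg := Q.map c.toMonoidHom with hQgdef
  set Zg := ℭ Qg with hZg
  have hQg : MCL Qg := hQ.map c
  have hZgmap : Zg = Z.map c.toMonoidHom := map_centralizer c Q
  have hmemZg : ∀ z ∈ Z, g * z * g⁻¹ ∈ Zg := fun z hz => hZgmap ▸ ⟨z, hz, rfl⟩
  have hZgN : Zg ≤ N := by
    rw [hZgmap]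
    rintro _ ⟨z, hz, rfl⟩
    exact hgN z (Subgroup.mem_inf.mpr ⟨Subgroup.mem_sup_left hz, Subgroup.le_normalizer hz⟩)
  set H := Z ⊔ Zg with hH
  set I := Z ⊓ Zg with hI
  set A0 := A ⊓ H with hA0
  have hHN : H ≤ N := sup_le (le_inf le_sup_left Subgroup.le_normalizer) hZgN
  have hHA : ((H : Subgroup G) : Set G) = (Z : Set G) * (A0 : Set G) := by
    refine Set.Subset.antisymm ?_ ?_
    · intro x hx
      have hxR : x ∈ ((Z ⊔ A : Subgroup G) : Set G) := (Subgroup.mem_inf.mp (hHN hx)).1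
      rw [hset] at hxR
      obtain ⟨z, hz, a, ha, rfl⟩ := Set.mem_mul.mp hxR
      refine Set.mem_mul.mpr ⟨z, hz, a, Subgroup.mem_inf.mpr ⟨ha, ?_⟩, rfl⟩
      have := mul_mem (inv_mem (Subgroup.mem_sup_left hz : z ∈ H)) hx
      simpa using this
    · rintro _ ⟨z, hz, a, ha, rfl⟩
      exact mul_mem (Subgroup.mem_sup_left hz) (Subgroup.mem_inf.mp ha).2
  have hgA0 : ∀ a ∈ A0, g * a * g⁻¹ = a := fun a ha => by
    rw [(Subgroup.mem_centralizer_iff.mp (hAab (Subgroup.mem_inf.mp ha).1) g hgA : g * a = a * g)]; group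
  have hgH : ∀ x ∈ H, g * x * g⁻¹ ∈ H := by
    intro x hx
    rw [← SetLike.mem_coe, hHA] at hx
    obtain ⟨z, hz, a, ha, rfl⟩ := Set.mem_mul.mp hx
    have e : g * (z * a) * g⁻¹ = (g * z * g⁻¹) * (g * a * g⁻¹) := by group
    rw [e, hgA0 a ha]
    exact mul_mem (Subgroup.mem_sup_right (hmemZg z hz)) (Subgroup.mem_inf.mp ha).2
  -- H meets Q in Z
  have hQH : ∀ x ∈ H, x ∈ Q → x ∈ Z := by
    intro x hx hxQ
    rw [← SetLike.mem_coe, hH, hQ.1.centralizer.set_mul hQg.1.centralizer] at hx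
    obtain ⟨z, hz, w, hw, rfl⟩ := Set.mem_mul.mp hx
    have hwQ : w ∈ Q := by
      have := mul_mem (inv_mem (hQ.2.1 hz)) hxQ
      simpa using this
    refine mul_mem hz ?_
    have hw' : w ∈ ℭ ((Q ⊓ Qg) ⊔ Z) := by
      rw [centralizer_sup, hQ.1.double_centralizer]
      exact Subgroup.mem_inf.mpr ⟨(Subgroup.centralizer_le inf_le_right) hw, hwQ⟩
    rwa [hQ.split hQg] at hw'
  have hQgH : ∀ x ∈ H, x ∈ Qg → x ∈ Zg := by
    intro x hx hxQ
    rw [← SetLike.mem_coe, hH, sup_comm, hQg.1.centralizer.set_mul hQ.1.centralizer] at hx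
    obtain ⟨z, hz, w, hw, rfl⟩ := Set.mem_mul.mp hx
    have hwQ : w ∈ Qg := by
      have := mul_mem (inv_mem (hQg.2.1 hz)) hxQ
      simpa using this
    refine mul_mem hz ?_
    have hw' : w ∈ ℭ ((Qg ⊓ Q) ⊔ Zg) := by
      rw [centralizer_sup, hQg.1.double_centralizer]
      exact Subgroup.mem_inf.mpr ⟨(Subgroup.centralizer_le inf_le_right) hw, hwQ⟩
    rwa [hQg.split hQ] at hw'
  have hIc : I ≤ ℭ H := by
    rw [hH, centralizer_sup]
    exact le_inf (inf_le_left.trans hZab) (inf_le_right.trans (hQg.2.1.trans (le_centralizer_comm le_rfl)))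
  have hcH : ∀ x ∈ H, x ∈ ℭ H → x ∈ I := by
    intro x hx hxc
    rw [hH, centralizer_sup, hQ.1.double_centralizer, hQg.1.double_centralizer] at hxc
    exact Subgroup.mem_inf.mpr ⟨hQH x hx (Subgroup.mem_inf.mp hxc).1, hQgH x hx (Subgroup.mem_inf.mp hxc).2⟩
  have hgI : ∀ x ∈ I, g * x * g⁻¹ ∈ I := by
    intro x hx
    have hxH : x ∈ H := Subgroup.mem_sup_left (Subgroup.mem_inf.mp hx).1
    refine hcH _ (hgH x hxH) ?_
    rw [Subgroup.mem_centralizer_iff]
    intro y hy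
    -- y = g y' g⁻¹ with y' in H
    let f : H → H := fun u => ⟨g * (u : G) * g⁻¹, hgH u u.2⟩
    have hf : Function.Injective f := fun u v h =>
      Subtype.ext (mul_left_cancel (mul_right_cancel (congrArg Subtype.val h :)))
    obtain ⟨y', hy'⟩ := Finite.injective_iff_surjective.mp hf ⟨y, hy⟩
    have hy'' : g * (y' : G) * g⁻¹ = y := congrArg Subtype.val hy'
    rw [← hy'']
    have := Subgroup.mem_centralizer_iff.mp (hIc hx) y' y'.2
    calc g * (y' : G) * g⁻¹ * (g * x * g⁻¹) = g * ((y' : G) * x) * g⁻¹ := by group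
      _ = g * (x * (y' : G)) * g⁻¹ := by rw [this]
      _ = g * x * g⁻¹ * (g * (y' : G) * g⁻¹) := by group
  have hgI' : ∀ x : G, g * x * g⁻¹ ∈ I → x ∈ I := by
    intro x hx
    let f : I → I := fun u => ⟨g * (u : G) * g⁻¹, hgI u u.2⟩
    have hf : Function.Injective f := fun u v h =>
      Subtype.ext (mul_left_cancel (mul_right_cancel (congrArg Subtype.val h :)))
    obtain ⟨y, hy⟩ := Finite.injective_iff_surjective.mp hf ⟨_, hx⟩
    rw [← mul_left_cancel (mul_right_cancel (congrArg Subtype.val hy :))]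
    exact y.2
  -- elements of H fixed by g modulo I
  have hfix : ∀ u ∈ H, g * u * g⁻¹ * u⁻¹ ∈ I → u ∈ I ⊔ A0 := by
    intro u hu hfu
    rw [← SetLike.mem_coe, hHA] at hu
    obtain ⟨z, hz, a, ha, rfl⟩ := Set.mem_mul.mp hu
    have e : g * (z * a) * g⁻¹ * (z * a)⁻¹ = g * z * g⁻¹ * z⁻¹ := by
      calc g * (z * a) * g⁻¹ * (z * a)⁻¹ = (g * z * g⁻¹) * (g * a * g⁻¹) * a⁻¹ * z⁻¹ := by group
        _ = _ := by rw [hgA0 a ha]; group
    rw [e] at hfu
    have h1 : g * z * g⁻¹ ∈ I := by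
      refine Subgroup.mem_inf.mpr ⟨?_, hmemZg z hz⟩
      have := mul_mem (Subgroup.mem_inf.mp hfu).1 hz
      simpa using this
    exact mul_mem (Subgroup.mem_sup_left (hgI' z h1)) (Subgroup.mem_sup_right ha)
  -- the new subgroup
  set Q' := (Q ⊓ Qg) ⊔ A0 with hQ'
  set Z' := I ⊔ A0 with hZ'
  have hQQg : Q ⊓ Qg ≤ ℭ H := by
    rw [hH, centralizer_sup]
    exact inf_le_inf (le_centralizer_comm le_rfl) (le_centralizer_comm le_rfl)
  have hA0H : A0 ≤ H := inf_le_right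
  have hA0A : A0 ≤ ℭ A0 := inf_le_left.trans (hAab.trans (Subgroup.centralizer_le inf_le_left))
  have hZ'c : Z' ≤ ℭ Q' := by
    rw [hQ', centralizer_sup, hZ']
    refine sup_le (le_inf ?_ (hIc.trans (Subgroup.centralizer_le hA0H))) (le_inf ?_ hA0A)
    · exact inf_le_left.trans (Subgroup.centralizer_le inf_le_left)
    · exact hA0H.trans (le_centralizer_comm hQQg)
  have hIQ : I ≤ Q ⊓ Qg := inf_le_inf hQ.2.1 hQg.2.1
  have hcards : Nat.card Q ≤ Nat.card Q' ∧ Nat.card Z ≤ Nat.card Z' := by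
    have c1 := (hQ.1.centralizer.product hQg.1.centralizer).1
    have c2 : Nat.card H * Nat.card ↥(Z ⊓ A0) = Nat.card Z * Nat.card A0 := by
      have hs : Z ⊔ A0 = H := le_antisymm (sup_le le_sup_left hA0H) (by
        intro x hx
        rw [← SetLike.mem_coe, hHA] at hx
        obtain ⟨z, hz, a, ha, rfl⟩ := Set.mem_mul.mp hx
        exact mul_mem (Subgroup.mem_sup_left hz) (Subgroup.mem_sup_right ha))
      have := card_of_set_mul (A := Z) (B := A0) (set_mul_of_normalizer (hA0H.trans (hHN.trans inf_le_right)))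
      rwa [hs] at this
    have c3 : Nat.card Zg = Nat.card Z := by
      rw [hZgmap, Subgroup.card_map_of_injective c.injective]
    have c4 := hQ.card_split hQg
    have c5 : Q ⊓ Qg ⊓ Z ≤ I := by
      intro x hx
      obtain ⟨hx1, hx2⟩ := Subgroup.mem_inf.mp hx
      exact Subgroup.mem_inf.mpr ⟨hx2, hQgH x (Subgroup.mem_sup_left hx2) (Subgroup.mem_inf.mp hx1).2⟩
    have c5' : Q ⊓ Qg ⊓ Z = I := le_antisymm c5 (le_inf hIQ inf_le_left)
    rw [← hZ, c5'] at c4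
    rw [← hZ, ← hZg, ← hH, ← hI, c3] at c1
    have c6 : (Q ⊓ Qg) ⊓ A0 ≤ Z ⊓ A0 := by
      intro x hx
      obtain ⟨hx1, hx2⟩ := Subgroup.mem_inf.mp hx
      exact Subgroup.mem_inf.mpr ⟨hQH x (hA0H hx2) (Subgroup.mem_inf.mp hx1).1, hx2⟩
    have c7 : Nat.card ↥(Q ⊓ Qg) * Nat.card A0 ≤ Nat.card Q' * Nat.card ↥(Z ⊓ A0) :=
      (card_mul_card_le _ _).trans (Nat.mul_le_mul_left _ (Subgroup.card_le_of_le c6))
    have c8 : Nat.card I * Nat.card A0 ≤ Nat.card Z' * Nat.card ↥(Z ⊓ A0) :=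
      (card_mul_card_le _ _).trans (Nat.mul_le_mul_left _ (Subgroup.card_le_of_le (inf_le_inf_right _ inf_le_left)))
    set q := Nat.card Q
    set z := Nat.card Z
    set h := Nat.card H
    set i := Nat.card I
    set a := Nat.card A0
    set k := Nat.card ↥(Z ⊓ A0)
    set j := Nat.card ↥(Q ⊓ Qg)
    have hzpos : 0 < z := Nat.card_pos
    have hkpos : 0 < k := Nat.card_pos
    have hhpos : 0 < h := Nat.card_pos
    have hia : i * a = z * k := by
      apply Nat.eq_of_mul_eq_mul_left (Nat.mul_pos hzpos hhpos)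
      calc z * h * (i * a) = (h * i) * (z * a) := by ring
        _ = (z * z) * (h * k) := by rw [← c1, ← c2]
        _ = z * h * (z * k) := by ring
    constructor
    · apply Nat.le_of_mul_le_mul_right _ (Nat.mul_pos hkpos hzpos)
      calc q * (k * z) = q * (i * a) := by rw [hia]; ring
        _ = (q * i) * a := by ring
        _ = (j * z) * a := by rw [c4]
        _ = (j * a) * z := by ring
        _ ≤ (Nat.card Q' * k) * z := Nat.mul_le_mul_right z c7
        _ = Nat.card Q' * (k * z) := by ring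
    · apply Nat.le_of_mul_le_mul_right _ hkpos
      rw [← hia]; exact c8
  have hmax : IsMaxCD Q' := hQ.1.of_le (Nat.mul_le_mul hcards.1 (hcards.2.trans (Subgroup.card_le_of_le hZ'c)))
  have hQ'eq := hQ.1.eq hmax
  have hcQ' : ℭ Q' = Z' := by
    refine (Subgroup.eq_of_le_of_card_ge hZ'c ?_).symm
    by_contra hlt
    have := Nat.mul_lt_mul_of_le_of_lt hcards.1 (hcards.2.trans_lt (not_le.mp hlt)) Nat.card_pos
    exact absurd hQ'eq (ne_of_lt this)
  have hmcl : MCL Q' := by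
    have hc' : ℭ Q' ≤ Q' := by
      rw [hcQ']; exact sup_le (hIQ.trans le_sup_left) le_sup_right
    obtain ⟨S, hS, hSmcl⟩ := exists_mcl_le hmax hc'
    have hle : Nat.card Q' ≤ Nat.card S := by
      rw [(hSmcl.card_eq hQ).1]
      by_contra hlt
      have := Nat.mul_lt_mul_of_lt_of_le (not_le.mp hlt)
        (hcards.2.trans (Subgroup.card_le_of_le hZ'c)) Nat.card_pos
      exact absurd hQ'eq (ne_of_lt this)
    exact (Subgroup.eq_of_le_of_card_ge hS hle) ▸ hSmcl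
  -- the first term of the series meeting H outside I
  have hex : ∃ i, ∃ x ∈ H, x ∈ M i ∧ x ∉ I := by
    have hne : ¬ H ≤ I := by
      intro h
      apply hgZ
      have h1 : ∀ z ∈ Z, g * z * g⁻¹ ∈ Z := fun z hz =>
        (Subgroup.mem_inf.mp (h (Subgroup.mem_sup_right (hmemZg z hz)))).1
      rw [Subgroup.mem_normalizer_iff_map_conj_eq]
      refine Subgroup.eq_of_le_of_card_ge ?_ (le_of_eq (Subgroup.card_map_of_injective c.injective).symm)
      rintro _ ⟨z, hz, rfl⟩; exact h1 z hz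
    obtain ⟨x, hx, hxI⟩ := SetLike.not_le_iff_exists.mp hne
    exact ⟨n, x, hx, htop ▸ Subgroup.mem_top x, hxI⟩
  set i := Nat.find hex with hi
  obtain ⟨x, hxH, hxM, hxI⟩ := Nat.find_spec hex
  have hin : i ≤ n := by
    obtain ⟨w, hw, -, hwI⟩ := Nat.find_spec hex
    exact Nat.find_min' hex ⟨w, hw, htop ▸ Subgroup.mem_top w, hwI⟩
  have hmin : ∀ i' < i, ∀ y ∈ H, y ∈ M i' → y ∈ I := by
    intro i' hi' y hy hyM
    by_contra hyI
    exact Nat.find_min hex hi' ⟨y, hy, hyM, hyI⟩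
  obtain ⟨j, hj⟩ : ∃ j, i = j + 1 := by
    refine Nat.exists_eq_succ_of_ne_zero fun h0 => ?_
    rw [← hi, h0, hbot, Subgroup.mem_bot] at hxM
    exact hxI (hxM ▸ one_mem I)
  rw [← hi, hj] at hxM
  have hstep : ∀ y ∈ H, y ∈ M (j + 1) → g * y * g⁻¹ * y⁻¹ ∈ I := fun y hy hyM =>
    hmin j (by omega) _ (mul_mem (hgH y hy) (inv_mem hy)) (hM j y hyM g)
  have hZM : ∀ z ∈ Z, z ∈ M (j + 1) → z ∈ I := by
    intro z hz hzM
    have h1 := hstep z (Subgroup.mem_sup_left hz) hzM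
    refine hgI' z (Subgroup.mem_inf.mpr ⟨?_, hmemZg z hz⟩)
    have := mul_mem (Subgroup.mem_inf.mp h1).1 hz
    simpa using this
  refine ⟨Q', hmcl, i, hin, fun i' hi' y hy => ?_, ?_⟩
  · obtain ⟨hy1, hy2⟩ := Subgroup.mem_inf.mp hy
    refine Subgroup.mem_inf.mpr ⟨?_, hy2⟩
    rw [hcQ']
    exact Subgroup.mem_sup_left (hmin i' hi' y (Subgroup.mem_sup_left hy1) hy2)
  · rw [hj, SetLike.lt_iff_le_and_exists]
    refine ⟨fun y hy => ?_, x, ?_, ?_⟩
    · obtain ⟨hy1, hy2⟩ := Subgroup.mem_inf.mp hy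
      refine Subgroup.mem_inf.mpr ⟨?_, hy2⟩
      rw [hcQ']
      exact Subgroup.mem_sup_left (hZM y hy1 hy2)
    · refine Subgroup.mem_inf.mpr ⟨?_, hxM⟩
      rw [hcQ']
      exact hfix x hxH (hstep x hxH hxM)
    · intro hx
      exact hxI (hZM x (Subgroup.mem_inf.mp hx).1 hxM)

theorem upperCentral_step (i : ℕ) (x : G) (hx : x ∈ Subgroup.upperCentralSeries G (i + 1)) (g : G) :
    g * x * g⁻¹ * x⁻¹ ∈ Subgroup.upperCentralSeries G i := by
  rw [Subgroup.mem_upperCentralSeries_succ_iff] at hx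
  have h := inv_mem (hx g)
  have e : (x * g * x⁻¹ * g⁻¹)⁻¹ = g * x * g⁻¹ * x⁻¹ := by group
  simp only [commutatorElement_def] at h
  rwa [e] at h

/-- Some minimal centrally large subgroup is normalised by every target. -/
theorem exists_normalized [Group.IsNilpotent G] :
    ∃ Q : Subgroup G, MCL Q ∧ ∀ A : Subgroup G, Target A →
      A ≤ Subgroup.normalizer ((ℭ Q : Subgroup G) : Set G) := by
  classical
  set n := Group.nilpotencyClass G with hn
  set M := fun i => Subgroup.upperCentralSeries G i with hMdef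
  let v : Subgroup G → Lex (Fin (n + 1) → ℕ) := fun Q => toLex fun i => Nat.card ↥(ℭ Q ⊓ M i)
  obtain ⟨Q₀, hQ₀⟩ := exists_mcl (G := G)
  obtain ⟨⟨Q, hQ⟩, hmax⟩ := @Finite.exists_max {Q : Subgroup G // MCL Q} _ _ ⟨⟨Q₀, hQ₀⟩⟩ _ (fun Q => v Q.1)
  refine ⟨Q, hQ, fun A hA => ?_⟩
  by_contra hAn
  obtain ⟨Q', hQ', i, hin, hlo, hhi⟩ := replace (M := M) (n := n)
    (Subgroup.upperCentralSeries_zero G) Subgroup.upperCentralSeries_nilpotencyClass
    (fun i x hx g => upperCentral_step i x hx g) hQ hA hAn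
  have hle := hmax ⟨Q', hQ'⟩
  revert hle
  rw [imp_false, not_le]
  -- find the first place where the vectors differ
  have hlt_card : Nat.card ↥(ℭ Q ⊓ M i) < Nat.card ↥(ℭ Q' ⊓ M i) := by
    refine lt_of_le_of_ne (Subgroup.card_le_of_le hhi.le) fun he => hhi.ne ?_
    exact Subgroup.eq_of_le_of_card_ge hhi.le (le_of_eq he.symm)
  have hex : ∃ k, k ≤ n ∧ Nat.card ↥(ℭ Q ⊓ M k) < Nat.card ↥(ℭ Q' ⊓ M k) := ⟨i, hin, hlt_card⟩
  obtain ⟨hkn, hk⟩ := Nat.find_spec hex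
  have hki : Nat.find hex ≤ i := Nat.find_min' hex ⟨hin, hlt_card⟩
  refine ⟨⟨Nat.find hex, by omega⟩, fun l hl => ?_, hk⟩
  have hl' : (l : ℕ) < Nat.find hex := hl
  have h1 : Nat.card ↥(ℭ Q ⊓ M l) ≤ Nat.card ↥(ℭ Q' ⊓ M l) :=
    Subgroup.card_le_of_le (hlo l (lt_of_lt_of_le hl' hki))
  exact le_antisymm h1 (not_lt.mp fun h => Nat.find_min hex hl' ⟨by omega, h⟩)

end CfsgLib.LocalEvenB.CentrallyLarge
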