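import Mathlib.GroupTheory.Index
import Mathlib.GroupTheory.Subgroup.Centralizer
import Mathlib.GroupTheory.Subgroup.Simple
import Mathlib.Algebra.Group.Subgroup.Pointwise
import Cfsg.Prelude.Def_BaumannBlocks

/-!
Chermak–Delgado measure `|R| * |C(R)|` and the counting inequality `|A| |B| ≤ |A ⊔ B| |A ⊓ B|`.
-/

set_option autoImplicit false
set_option linter.unusedSectionVars false

namespace CfsgLib.LocalEvenB.CDMeasure

open scoped Pointwise

variable {G : Type*} [Group G]

theorem card_eq_inf_mul_relIndex (A B : Subgroup G) :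
    Nat.card B = Nat.card ↥(A ⊓ B) * A.relIndex B := by
  rw [← Subgroup.inf_relIndex_right, ← Subgroup.card_mul_index ((A ⊓ B).subgroupOf B),
    Nat.card_congr (Subgroup.subgroupOfEquivOfLe inf_le_right).toEquiv]
  rfl

theorem card_mul_card_le [Finite G] (A B : Subgroup G) :
    Nat.card A * Nat.card B ≤ Nat.card ↥(A ⊔ B) * Nat.card ↥(A ⊓ B) := by
  have h1 := card_eq_inf_mul_relIndex A B
  have h2 := card_eq_inf_mul_relIndex A (A ⊔ B)
  rw [inf_eq_left.mpr le_sup_left] at h2
  have h3 : A.relIndex B ≤ A.relIndex (A ⊔ B) :=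
    Subgroup.relIndex_le_of_le_right le_sup_right Subgroup.index_ne_zero_of_finite
  rw [h1, h2]
  calc Nat.card A * (Nat.card ↥(A ⊓ B) * A.relIndex B)
      ≤ Nat.card A * (Nat.card ↥(A ⊓ B) * A.relIndex (A ⊔ B)) := by gcongr
    _ = _ := by ring

theorem set_mul_of_card_eq [Finite G] (A B : Subgroup G)
    (h : Nat.card A * Nat.card B = Nat.card ↥(A ⊔ B) * Nat.card ↥(A ⊓ B)) :
    ((A ⊔ B : Subgroup G) : Set G) = (A : Set G) * (B : Set G) := by
  have h1 := card_eq_inf_mul_relIndex A B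
  have h2 := card_eq_inf_mul_relIndex A (A ⊔ B)
  rw [inf_eq_left.mpr le_sup_left] at h2
  rw [h1, h2] at h
  have h3 : A.relIndex B = A.relIndex (A ⊔ B) := by
    have hpos : 0 < Nat.card A * Nat.card ↥(A ⊓ B) := Nat.mul_pos Nat.card_pos Nat.card_pos
    exact Nat.eq_of_mul_eq_mul_left hpos (by linarith)
  have hbij : Function.Bijective
      (Subgroup.quotientSubgroupOfEmbeddingOfLE A (le_sup_right : B ≤ A ⊔ B)) :=
    (Nat.bijective_iff_injective_and_card _).mpr ⟨Function.Embedding.injective _, h3⟩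
  apply Set.Subset.antisymm
  · intro x hx
    obtain ⟨q, hq⟩ := hbij.2 (QuotientGroup.mk ⟨x⁻¹, inv_mem (SetLike.mem_coe.mp hx)⟩)
    obtain ⟨b, rfl⟩ := QuotientGroup.mk_surjective q
    rw [Subgroup.quotientSubgroupOfEmbeddingOfLE_apply_mk, QuotientGroup.eq] at hq
    have hA : (b : G)⁻¹ * x⁻¹ ∈ A := by simpa [Subgroup.mem_subgroupOf] using hq
    refine Set.mem_mul.mpr ⟨((b : G)⁻¹ * x⁻¹)⁻¹, inv_mem hA, (b : G)⁻¹, inv_mem b.2, ?_⟩
    group
  · rintro _ ⟨a, ha, b, hb, rfl⟩
    exact mul_mem (Subgroup.mem_sup_left ha) (Subgroup.mem_sup_right hb)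

theorem le_centralizer_comm {A B : Subgroup G} (h : A ≤ Subgroup.centralizer (B : Set G)) :
    B ≤ Subgroup.centralizer (A : Set G) := fun _ hb _ ha => (h ha _ hb).symm

theorem centralizer_sup (A B : Subgroup G) :
    Subgroup.centralizer ((A ⊔ B : Subgroup G) : Set G) =
      Subgroup.centralizer (A : Set G) ⊓ Subgroup.centralizer (B : Set G) := by
  apply le_antisymm
  · exact le_inf (Subgroup.centralizer_le (SetLike.coe_subset_coe.mpr le_sup_left))
      (Subgroup.centralizer_le (SetLike.coe_subset_coe.mpr le_sup_right))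
  · intro x hx
    have h : A ⊔ B ≤ Subgroup.centralizer ({x} : Set G) := by
      refine sup_le ?_ ?_ <;> intro a ha <;> rw [Subgroup.mem_centralizer_singleton_iff]
      · exact hx.1 a ha
      · exact hx.2 a ha
    intro y hy
    exact Subgroup.mem_centralizer_singleton_iff.mp (h hy)

theorem centralizer_sup_le_centralizer_inf (A B : Subgroup G) :
    Subgroup.centralizer (A : Set G) ⊔ Subgroup.centralizer (B : Set G) ≤
      Subgroup.centralizer ((A ⊓ B : Subgroup G) : Set G) :=
  sup_le (Subgroup.centralizer_le inf_le_left) (Subgroup.centralizer_le inf_le_right)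

/-- the measure `|A| * |C(A)|` -/
noncomputable def cd (A : Subgroup G) : ℕ :=
  Nat.card A * Nat.card ↥(Subgroup.centralizer (A : Set G))

variable [Finite G]

theorem cd_pos (A : Subgroup G) : 0 < cd A := Nat.mul_pos Nat.card_pos Nat.card_pos

theorem cd_mul_le (A B : Subgroup G) : cd A * cd B ≤ cd (A ⊔ B) * cd (A ⊓ B) := by
  have h1 := card_mul_card_le A B
  have h2 := card_mul_card_le (Subgroup.centralizer (A : Set G)) (Subgroup.centralizer (B : Set G))
  rw [← centralizer_sup] at h2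
  have h3 : Nat.card ↥(Subgroup.centralizer (A : Set G) ⊔ Subgroup.centralizer (B : Set G)) ≤
      Nat.card ↥(Subgroup.centralizer ((A ⊓ B : Subgroup G) : Set G)) :=
    Subgroup.card_le_of_le (centralizer_sup_le_centralizer_inf A B)
  unfold cd
  calc (Nat.card A * Nat.card ↥(Subgroup.centralizer (A : Set G))) *
        (Nat.card B * Nat.card ↥(Subgroup.centralizer (B : Set G)))
      = (Nat.card A * Nat.card B) * (Nat.card ↥(Subgroup.centralizer (A : Set G)) *
          Nat.card ↥(Subgroup.centralizer (B : Set G))) := by ring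
    _ ≤ (Nat.card ↥(A ⊔ B) * Nat.card ↥(A ⊓ B)) *
        (Nat.card ↥(Subgroup.centralizer (A : Set G) ⊔ Subgroup.centralizer (B : Set G)) *
          Nat.card ↥(Subgroup.centralizer ((A ⊔ B : Subgroup G) : Set G))) := Nat.mul_le_mul h1 h2
    _ ≤ (Nat.card ↥(A ⊔ B) * Nat.card ↥(A ⊓ B)) *
        (Nat.card ↥(Subgroup.centralizer ((A ⊓ B : Subgroup G) : Set G)) *
          Nat.card ↥(Subgroup.centralizer ((A ⊔ B : Subgroup G) : Set G))) := by gcongr
    _ = _ := by ring

theorem cd_centralizer_ge (A : Subgroup G) : cd A ≤ cd (Subgroup.centralizer (A : Set G)) := by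
  unfold cd
  rw [mul_comm (Nat.card A)]
  exact Nat.mul_le_mul_left _ (Subgroup.card_le_of_le (le_centralizer_comm le_rfl))

/-- `A` attains the maximum measure. -/
def IsMaxCD (A : Subgroup G) : Prop := ∀ R : Subgroup G, cd R ≤ cd A

variable (G) in
theorem exists_isMaxCD : ∃ A : Subgroup G, IsMaxCD A := Finite.exists_max cd

theorem IsMaxCD.eq {A B : Subgroup G} (hA : IsMaxCD A) (hB : IsMaxCD B) : cd A = cd B :=
  le_antisymm (hB A) (hA B)

theorem IsMaxCD.of_le {A B : Subgroup G} (hA : IsMaxCD A) (h : cd A ≤ cd B) : IsMaxCD B :=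
  fun R => (hA R).trans h

theorem IsMaxCD.centralizer {A : Subgroup G} (hA : IsMaxCD A) :
    IsMaxCD (Subgroup.centralizer (A : Set G)) := hA.of_le (cd_centralizer_ge A)

theorem IsMaxCD.double_centralizer {A : Subgroup G} (hA : IsMaxCD A) :
    Subgroup.centralizer ((Subgroup.centralizer (A : Set G) : Subgroup G) : Set G) = A := by
  have h := hA.eq hA.centralizer
  unfold cd at h
  rw [mul_comm] at h
  exact (Subgroup.eq_of_le_of_card_ge (le_centralizer_comm le_rfl)
    (le_of_eq (Nat.eq_of_mul_eq_mul_left Nat.card_pos h).symm)).symm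

theorem IsMaxCD.sup_inf {A B : Subgroup G} (hA : IsMaxCD A) (hB : IsMaxCD B) :
    IsMaxCD (A ⊔ B) ∧ IsMaxCD (A ⊓ B) := by
  have h := cd_mul_le A B
  rw [← hA.eq hB] at h
  constructor
  · refine hA.of_le (Nat.le_of_mul_le_mul_right ?_ (cd_pos A))
    exact h.trans (Nat.mul_le_mul_left _ (hA _))
  · refine hA.of_le (Nat.le_of_mul_le_mul_left ?_ (cd_pos A))
    exact h.trans (Nat.mul_le_mul_right _ (hA _))

theorem IsMaxCD.sup {A B : Subgroup G} (hA : IsMaxCD A) (hB : IsMaxCD B) : IsMaxCD (A ⊔ B) :=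
  (hA.sup_inf hB).1

theorem IsMaxCD.inf {A B : Subgroup G} (hA : IsMaxCD A) (hB : IsMaxCD B) : IsMaxCD (A ⊓ B) :=
  (hA.sup_inf hB).2

theorem IsMaxCD.product {A B : Subgroup G} (hA : IsMaxCD A) (hB : IsMaxCD B) :
    Nat.card A * Nat.card B = Nat.card ↥(A ⊔ B) * Nat.card ↥(A ⊓ B) ∧
    Subgroup.centralizer ((A ⊓ B : Subgroup G) : Set G) =
      Subgroup.centralizer (A : Set G) ⊔ Subgroup.centralizer (B : Set G) := by
  have h1 := card_mul_card_le A B
  have h2 := card_mul_card_le (Subgroup.centralizer (A : Set G)) (Subgroup.centralizer (B : Set G))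
  rw [← centralizer_sup] at h2
  have hle := centralizer_sup_le_centralizer_inf A B
  have h3 : Nat.card ↥(Subgroup.centralizer (A : Set G) ⊔ Subgroup.centralizer (B : Set G)) ≤
      Nat.card ↥(Subgroup.centralizer ((A ⊓ B : Subgroup G) : Set G)) := Subgroup.card_le_of_le hle
  have heq : cd A * cd B = cd (A ⊔ B) * cd (A ⊓ B) := by
    rw [hA.eq (hA.sup hB), hB.eq (hA.inf hB)]
  unfold cd at heq
  have heq' : (Nat.card A * Nat.card B) * (Nat.card ↥(Subgroup.centralizer (A : Set G)) *
      Nat.card ↥(Subgroup.centralizer (B : Set G))) = (Nat.card ↥(A ⊔ B) * Nat.card ↥(A ⊓ B)) *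
      (Nat.card ↥(Subgroup.centralizer ((A ⊓ B : Subgroup G) : Set G)) *
        Nat.card ↥(Subgroup.centralizer ((A ⊔ B : Subgroup G) : Set G))) := by linarith
  have h23 : Nat.card ↥(Subgroup.centralizer (A : Set G)) *
      Nat.card ↥(Subgroup.centralizer (B : Set G)) ≤
      Nat.card ↥(Subgroup.centralizer ((A ⊓ B : Subgroup G) : Set G)) *
        Nat.card ↥(Subgroup.centralizer ((A ⊔ B : Subgroup G) : Set G)) :=
    h2.trans (Nat.mul_le_mul_right _ h3)
  have e1 : Nat.card A * Nat.card B = Nat.card ↥(A ⊔ B) * Nat.card ↥(A ⊓ B) := by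
    refine le_antisymm h1 ?_
    by_contra hlt
    have := Nat.mul_lt_mul_of_lt_of_le (not_le.mp hlt) h23
      (Nat.mul_pos Nat.card_pos Nat.card_pos)
    omega
  refine ⟨e1, ?_⟩
  rw [e1] at heq'
  have e2 := Nat.eq_of_mul_eq_mul_left (Nat.mul_pos Nat.card_pos Nat.card_pos) heq'
  refine (Subgroup.eq_of_le_of_card_ge hle ?_).symm
  refine Nat.le_of_mul_le_mul_right ?_
    (Nat.card_pos : 0 < Nat.card ↥(Subgroup.centralizer ((A ⊔ B : Subgroup G) : Set G)))
  omega

theorem IsMaxCD.set_mul {A B : Subgroup G} (hA : IsMaxCD A) (hB : IsMaxCD B) :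
    ((A ⊔ B : Subgroup G) : Set G) = (A : Set G) * (B : Set G) :=
  set_mul_of_card_eq A B (hA.product hB).1

omit [Finite G] in
theorem cd_map (e : G ≃* G) (A : Subgroup G) : cd (A.map e.toMonoidHom) = cd A := by
  have hc : Subgroup.centralizer ((A.map e.toMonoidHom : Subgroup G) : Set G) =
      (Subgroup.centralizer (A : Set G)).map e.toMonoidHom := by
    ext x
    simp only [Subgroup.mem_map_equiv, Subgroup.mem_centralizer_iff, SetLike.mem_coe]
    constructor
    · intro h a ha
      have := h (e a) (by simpa using ha)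
      apply e.injective
      simpa using this
    · intro h a ha
      apply e.symm.injective
      simpa using h _ ha
  rw [cd, cd, hc, Subgroup.card_map_of_injective e.injective,
    Subgroup.card_map_of_injective e.injective]

theorem IsMaxCD.map {A : Subgroup G} (hA : IsMaxCD A) (e : G ≃* G) :
    IsMaxCD (A.map e.toMonoidHom) := hA.of_le (cd_map e A).ge

variable (G) in
theorem exists_greatest_isMaxCD :
    ∃ T : Subgroup G, IsMaxCD T ∧ T.Normal ∧ ∀ A : Subgroup G, IsMaxCD A → A ≤ T := by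
  obtain ⟨⟨T, hT⟩, hmax⟩ := @Finite.exists_max {A : Subgroup G // IsMaxCD A} _ _
    ⟨⟨_, (exists_isMaxCD G).choose_spec⟩⟩ _ (fun A => Nat.card A.1)
  have hle : ∀ A : Subgroup G, IsMaxCD A → A ≤ T := fun A hA => by
    have := hmax ⟨T ⊔ A, hT.sup hA⟩
    exact sup_eq_left.mp (Subgroup.eq_of_le_of_card_ge le_sup_left this).symm
  refine ⟨T, hT, ⟨fun t ht g => ?_⟩, hle⟩
  exact hle _ (hT.map (MulAut.conj g)) ⟨t, ht, rfl⟩

theorem centralizer_le_self_of_join {A : Subgroup G} (hA : IsMaxCD A) :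
    IsMaxCD (A ⊔ Subgroup.centralizer (A : Set G)) ∧
      Subgroup.centralizer ((A ⊔ Subgroup.centralizer (A : Set G) : Subgroup G) : Set G) ≤
        A ⊔ Subgroup.centralizer (A : Set G) :=
  ⟨hA.sup hA.centralizer, (Subgroup.centralizer_le (SetLike.coe_subset_coe.mpr le_sup_left)).trans le_sup_right⟩

theorem card_center_eq (R : Subgroup G) :
    Nat.card ↥(Subgroup.center ↥R) = Nat.card ↥(R ⊓ Subgroup.centralizer (R : Set G)) := by
  have : Subgroup.center ↥R = (R ⊓ Subgroup.centralizer (R : Set G)).subgroupOf R := by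
    ext x
    simp only [Subgroup.mem_center_iff, Subgroup.mem_subgroupOf, Subgroup.mem_inf, SetLike.coe_mem,
      true_and, Subgroup.mem_centralizer_iff, SetLike.mem_coe]
    exact ⟨fun h y hy => congrArg Subtype.val (h ⟨y, hy⟩), fun h y => Subtype.ext (h y y.2)⟩
  rw [this, Nat.card_congr (Subgroup.subgroupOfEquivOfLe inf_le_left).toEquiv]

theorem isMaxCD_iff (A : Subgroup G) : IsMaxCD A ↔ Cfsg.IsCentralizerLarge A := by
  have hb : BddAbove {k : ℕ | ∃ R : Subgroup G, cd R = k} := (Set.finite_range cd).bddAbove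
  unfold Cfsg.IsCentralizerLarge Cfsg.maxCentralizerProduct
  constructor
  · intro h
    exact le_antisymm (le_csSup hb ⟨A, rfl⟩) (csSup_le ⟨_, A, rfl⟩ (by rintro _ ⟨R, rfl⟩; exact h R))
  · intro h R
    exact (le_csSup hb ⟨R, rfl⟩).trans h.ge

theorem isCentrallyLarge_iff (A : Subgroup G) :
    Cfsg.IsCentrallyLarge A ↔ IsMaxCD A ∧ Subgroup.centralizer (A : Set G) ≤ A := by
  obtain ⟨T, hT, -, hgt⟩ := exists_greatest_isMaxCD G
  have hTc : Subgroup.centralizer (T : Set G) ≤ T := hgt _ hT.centralizer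
  have hle : ∀ R : Subgroup G, Nat.card R * Nat.card ↥(Subgroup.center ↥R) ≤ cd R := fun R => by
    rw [card_center_eq]
    exact Nat.mul_le_mul_left _ (Subgroup.card_le_of_le inf_le_right)
  have heq : ∀ R : Subgroup G, Subgroup.centralizer (R : Set G) ≤ R →
      Nat.card R * Nat.card ↥(Subgroup.center ↥R) = cd R := fun R hR => by
    rw [card_center_eq, inf_eq_right.mpr hR]; rfl
  have hmax : Cfsg.maxCentralProduct G = cd T := by
    unfold Cfsg.maxCentralProduct
    have hb : BddAbove {k : ℕ | ∃ R : Subgroup G, Nat.card R * Nat.card ↥(Subgroup.center ↥R) = k} :=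
      ⟨cd T, by rintro _ ⟨R, rfl⟩; exact (hle R).trans (hT R)⟩
    exact le_antisymm (csSup_le ⟨_, T, rfl⟩ (by rintro _ ⟨R, rfl⟩; exact (hle R).trans (hT R)))
      (le_csSup hb ⟨T, heq T hTc⟩)
  unfold Cfsg.IsCentrallyLarge
  rw [hmax]
  constructor
  · intro h
    have h' : IsMaxCD A := hT.of_le (h ▸ hle A)
    refine ⟨h', ?_⟩
    rw [hT.eq h'] at h
    unfold cd at h
    rw [card_center_eq] at h
    have := Nat.eq_of_mul_eq_mul_left Nat.card_pos h
    exact inf_eq_right.mp (Subgroup.eq_of_le_of_card_ge inf_le_right this.ge)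
  · rintro ⟨h1, h2⟩
    rw [heq A h2]; exact h1.eq hT

theorem IsMaxCD.sSup {s : Set (Subgroup G)} (hs : s.Nonempty) (h : ∀ A ∈ s, IsMaxCD A) :
    IsMaxCD (SupSet.sSup s) := by
  classical
  have hfin : s.Finite := Set.toFinite s
  obtain ⟨a, ha⟩ := hs
  have key : ∀ t : Finset (Subgroup G), ↑t ⊆ s → IsMaxCD (a ⊔ t.sup id) := by
    intro t
    induction t using Finset.induction_on with
    | empty => intro _; simpa using h a ha
    | insert b t _ ih =>
      intro hb
      simp only [Finset.coe_insert, Set.insert_subset_iff] at hb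
      rw [Finset.sup_insert, id_eq, sup_left_comm]
      exact (h b hb.1).sup (ih hb.2)
  have := key hfin.toFinset (by simp)
  have hsup : a ⊔ hfin.toFinset.sup id = SupSet.sSup s := by
    rw [Finset.sup_id_eq_sSup, hfin.coe_toFinset]
    exact sup_eq_right.mpr (le_sSup ha)
  rwa [hsup] at this

/-- In a non-abelian simple group a proper nontrivial subgroup has measure below `|G|`. -/
theorem cd_lt_card_of_simple [IsSimpleGroup G] (hG : ¬ IsMulCommutative G) (A : Subgroup G)
    (hA1 : A ≠ ⊥) (hA2 : A ≠ ⊤) : cd A < Nat.card G := by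
  by_contra hcon
  rw [not_lt] at hcon
  have hZ : Subgroup.center G = ⊥ := by
    refine (Subgroup.center G).normal_of_characteristic.eq_bot_or_eq_top.resolve_right fun hz => hG ?_
    exact ⟨⟨fun a b => Subgroup.mem_center_iff.mp (hz.symm ▸ Subgroup.mem_top b) a⟩⟩
  have hctop : Subgroup.centralizer ((⊤ : Subgroup G) : Set G) = ⊥ := by
    rw [Subgroup.coe_top, Subgroup.centralizer_univ, hZ]
  have hcdtop : cd (⊤ : Subgroup G) = Nat.card G := by
    rw [cd, hctop, Subgroup.card_bot, mul_one, Subgroup.card_top]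
  have hcdbot : cd (⊥ : Subgroup G) = Nat.card G := by
    rw [cd, Subgroup.card_bot, one_mul]
    have : Subgroup.centralizer ((⊥ : Subgroup G) : Set G) = ⊤ := by
      ext x; simp [Subgroup.mem_centralizer_iff]
    rw [this, Subgroup.card_top]
  have hmaxA : IsMaxCD A := by
    obtain ⟨T, hT, hTn, -⟩ := exists_greatest_isMaxCD G
    refine hT.of_le ?_
    rcases hTn.eq_bot_or_eq_top with h | h <;> subst h <;> omega
  obtain ⟨⟨M, hM, hAM, hMt⟩, hmax⟩ := @Finite.exists_max
    {M : Subgroup G // IsMaxCD M ∧ A ≤ M ∧ M ≠ ⊤} _ _ ⟨⟨A, hmaxA, le_rfl, hA2⟩⟩ _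
    (fun M => Nat.card M.1)
  have hMn : M.Normal := by
    refine ⟨fun m hm g => ?_⟩
    by_cases htop : M ⊔ M.map (MulAut.conj g).toMonoidHom = ⊤
    · exfalso
      have hprod := hM.set_mul (hM.map (MulAut.conj g))
      rw [htop] at hprod
      have hmem : g⁻¹ ∈ (M : Set G) * (M.map (MulAut.conj g).toMonoidHom : Set G) := by
        rw [← hprod]; exact Subgroup.mem_top _
      obtain ⟨a, ha, b, hb, hab⟩ := Set.mem_mul.mp hmem
      obtain ⟨c, hc, rfl⟩ := Subgroup.mem_map.mp hb
      change a * (g * c * g⁻¹) = g⁻¹ at hab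
      have hg : g ∈ M := by
        have hh : g = a⁻¹ * c⁻¹ := by
          have h' : a * g * c = 1 := by
            calc a * g * c = a * (g * c * g⁻¹) * g := by group
              _ = 1 := by rw [hab]; group
          calc g = a⁻¹ * (a * g * c) * c⁻¹ := by group
            _ = _ := by rw [h']; group
        exact hh ▸ mul_mem (inv_mem ha) (inv_mem hc)
      apply hMt
      have hsame : M.map (MulAut.conj g).toMonoidHom ≤ M := by
        rintro _ ⟨x, hx, rfl⟩
        exact mul_mem (mul_mem hg hx) (inv_mem hg)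
      rw [← htop, sup_eq_left.mpr hsame]
    · have hle := hmax ⟨M ⊔ M.map (MulAut.conj g).toMonoidHom, hM.sup (hM.map _),
        hAM.trans le_sup_left, htop⟩
      have : M.map (MulAut.conj g).toMonoidHom ≤ M :=
        sup_eq_left.mp (Subgroup.eq_of_le_of_card_ge le_sup_left hle).symm
      exact this ⟨m, hm, rfl⟩
  rcases hMn.eq_bot_or_eq_top with h | h
  · exact hA1 (le_bot_iff.mp (h ▸ hAM))
  · exact hMt h

end CfsgLib.LocalEvenB.CDMeasure
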