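import Cfsg.Agent.Lib.LocalEvenB.ZJControl
import Cfsg.Agent.Lib.Fusion.QdSections
import Cfsg.Agent.S3836
import Cfsg.Prelude.Def_PLocal

/-!
The forms of `Z (J D)` used in the statements, and the hypotheses giving stability.
-/

set_option autoImplicit false
set_option linter.style.haveILetI false
set_option linter.unusedSectionVars false

namespace CfsgLib.LocalEvenB.ZJClosedStatements

open CfsgLib.Fusion.ZJGeneral CfsgLib.KGroups.Functor CfsgLib.LocalEven.SylowIn CfsgLib.LocalEvenB.ZJClosed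
  CfsgLib.LocalEvenB.ZJControl
open scoped commutatorElement

universe u

variable {G : Type u} [Group G] [Finite G] {m p : ℕ} [Fact p.Prime]

/-- A common exponent divisible by `p`. -/
noncomputable def expo (S : Sylow p G) : ℕ := p * Nat.card (S : Subgroup G)

theorem dvd_expo (S : Sylow p G) : p ∣ expo S := Dvd.intro _ rfl

theorem odd_expo (hp : p ≠ 2) (S : Sylow p G) : Odd (expo S) :=
  ((Fact.out : p.Prime).odd_of_ne_two hp).mul (CfsgLib.Fusion.ZJBridge.odd_card_sylow hp S)

theorem centerThompsonAOf_eq (S : Sylow p G) {D : Subgroup G} (hD : D ≤ (S : Subgroup G)) :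
    Cfsg.centerThompsonAOf D = Z (expo S) D :=
  CfsgLib.Fusion.ZJBridge.centerThompsonAOf_eq_Z fun u hu => by
    rw [expo, mul_comm, pow_mul, CfsgLib.Fusion.ZJBridge.sylow_pow_card S u (hD hu), one_pow]

theorem omegaOne_centerThompsonOf_eq (D : Subgroup G) :
    Cfsg.omegaOne p (Cfsg.centerThompsonOf p D) = Z p D := by
  refine le_antisymm ((Subgroup.closure_le _).mpr ?_) fun x hx =>
    Subgroup.subset_closure ⟨CfsgLib.Fusion.ZJBridge.Z_le_centerThompsonOf D hx, hx.2.2⟩
  rintro x ⟨⟨h1, h2⟩, h3⟩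
  rw [CfsgLib.Fusion.ZJBridge.thompsonOf_eq_J] at h1 h2
  exact ⟨h1, h2, h3⟩

/-- Stability in the normalizer form gives stability on normal `p`-subgroups. -/
theorem isPStableOn_of_normalizerPStable (hst : Cfsg.IsNormalizerPStable p G) (P : Subgroup G) [P.Normal]
    (hP : IsPGroup p P) : Cfsg.IsPStableOn p P := by
  intro a hq
  set N := Subgroup.normalizer (P : Set G) with hN
  set C := Subgroup.centralizer (P : Set G) with hC
  have hNt : N = ⊤ := by rw [hN, Subgroup.normalizer_eq_top]
  have ha : a ∈ N := hNt ▸ Subgroup.mem_top a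
  have h := hst P hP a ha hq
  let φ : N →* G ⧸ C := (QuotientGroup.mk' C).comp N.subtype
  have hk : C.subgroupOf N ≤ φ.ker := fun c hc => (QuotientGroup.eq_one_iff _).mpr hc
  let g := QuotientGroup.lift _ φ hk
  have hg : Function.Surjective g := fun z => by
    obtain ⟨w, rfl⟩ := QuotientGroup.mk'_surjective C z
    exact ⟨QuotientGroup.mk (⟨w, hNt ▸ Subgroup.mem_top w⟩ : N), rfl⟩
  haveI : (Cfsg.pCore p (N ⧸ C.subgroupOf N)).Normal := CfsgLib.LocalEven.SylowIn.pCore_normal _ p
  haveI := Subgroup.Normal.map (inferInstance : (Cfsg.pCore p (N ⧸ C.subgroupOf N)).Normal) g hg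
  exact Solvable.Cores.le_pCore ((Solvable.Cores.isPGroup_pCore p).map g) (Subgroup.mem_map_of_mem g h)

/-- The normalizer form gives `p`-stability. -/
theorem isPStable_of_normalizerPStable (hp : p ≠ 2) (hst : Cfsg.IsNormalizerPStable p G)
    (hne : Cfsg.pCore p G ≠ ⊥) : Cfsg.IsPStable p G := by
  refine ⟨(Fact.out : p.Prime).odd_of_ne_two hp, hne, fun A P _ hP hAP _ _ hq => ?_⟩
  rintro _ ⟨w, hw, rfl⟩
  refine hst P hP (w : G) w.2 ?_
  exact le_bot_iff.mp ((Subgroup.commutator_mono (Subgroup.commutator_mono le_rfl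
    (Subgroup.zpowers_le.mpr (show (w : G) ∈ A from hw)))
    (Subgroup.zpowers_le.mpr (show (w : G) ∈ A from hw))).trans hq.le)

/-- Constrained stable normalizers give control. -/
theorem ctrl_of_constrained_locals (hp : p ≠ 2) (hm : Odd m) (hpm : p ∣ m) (S : Sylow p G) {D : Subgroup G}
    (hD : Cfsg.IsStronglyClosed D (S : Subgroup G)) (hst : Cfsg.IsNormalizerPStable p G)
    (hc : ∀ U : Subgroup G, U ≤ (S : Subgroup G) → U ≠ ⊥ →
      Cfsg.IsPConstrained p ↥(Subgroup.normalizer (U : Set G))) :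
    Ctrl m (S : Subgroup G) D := by
  refine ctrl_of_locals S hD hpm fun T hTS hT hE => ?_
  set H := Subgroup.normalizer (T : Set G) with hH
  have hP := hE.isSylowIn
  refine ctrlIn_of_subgroup hP ?_
  set R := hP.toSylow with hR
  set D' := D.subgroupOf H with hD'
  have hcl : Cfsg.IsStronglyClosed D' (R : Subgroup H) := closed_subgroupOf hP rfl hD
  have hstH : Cfsg.IsNormalizerPStable p H := Cfsg.Agent.S3836.result hst H
  have hne : Cfsg.pCore p H ≠ ⊥ := by
    intro e
    haveI : (T.subgroupOf H).Normal :=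
      Subgroup.normal_subgroupOf_iff_le_normalizer Subgroup.le_normalizer |>.mpr le_rfl
    have hTp : IsPGroup p (T.subgroupOf H) :=
      (isPGroup_of_le S hTS).comap_of_injective H.subtype H.subtype_injective
    have h1 : T.subgroupOf H ≤ Cfsg.pCore p H := Solvable.Cores.le_pCore hTp
    rw [e, le_bot_iff, Subgroup.subgroupOf_eq_bot, disjoint_iff, inf_eq_left.mpr Subgroup.le_normalizer] at h1
    exact hT h1
  have hs := isPStable_of_normalizerPStable hp hstH hne
  set N := Cfsg.pPrimeCore p H with hN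
  have hNn : N.Normal := Solvable.Cores.pPrimeCore_normal p
  have hNc : (Nat.card N).Coprime p := Solvable.Cores.coprime_card_pPrimeCore p
  have hbot : Cfsg.pPrimeCore p (H ⧸ N) = ⊥ := CfsgLib.Components.pPrimeCore_quotient_eq_bot
  have hcq := (CfsgLib.Components.centralizer_pCore_le_iff_layer hbot).mpr
    (CfsgLib.Components.pLayer_eq_bot_iff.mp (CfsgLib.Components.isPConstrained_iff.mp (hc T hTS hT)))
  have hπs := QuotientGroup.mk'_surjective N
  have hclq := closed_quotient R hcl (QuotientGroup.mk' N) hπs (Or.inl (by rwa [QuotientGroup.ker_mk']))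
  refine ctrl_of_quotient R hcl (QuotientGroup.mk' N) hπs (by rwa [QuotientGroup.ker_mk'])
    (CfsgLib.Fusion.ZJConstrained.Z_map_quotient hNc (R.2.to_le hcl.1)) ?_
  exact ctrl_of_normal (Z_normal hp hm hcq
    (fun B _ hB => CfsgLib.Fusion.ZJConstrained.isPStableOn_quotient hs B hB) (R.mapSurjective hπs) hclq)

/-- Groups without a section `Qd(p)`. -/
theorem ctrl_of_qdFree (hp : p ≠ 2) (hm : Odd m) (hpm : p ∣ m) (h : ¬ Cfsg.Involves ↥(Cfsg.qd p) G)
    (S : Sylow p G) {D : Subgroup G} (hD : Cfsg.IsStronglyClosed D (S : Subgroup G)) :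
    Ctrl m (S : Subgroup G) D := by
  refine ctrl_sec hp hm hpm (fun X _ _ hX B _ hB => ?_) G (sec_self G) S D hD
  refine CfsgLib.Fusion.QdSections.isPStableOn_of_qdFree hp (fun hq => h ?_) B hB
  obtain ⟨K, f, hf⟩ := hX
  exact CfsgLib.Fusion.QdSections.hasQdSection_iff.mp ((hq.of_surjective f hf).of_subgroup K)

end CfsgLib.LocalEvenB.ZJClosedStatements
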