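import Cfsg.Agent.Lib.LocalEvenB.FourFixedClassify
import Cfsg.Agent.Lib.Involution.U34Sylow
import Cfsg.Agent.Lib.Classical.SLOrders

/-!
# The two non-abelian groups: Sylow 2-subgroups of `L₃(4)` and `U₃(4)`
-/

set_option autoImplicit false

namespace CfsgLib.LocalEvenB.FourFixed

/-- Adjoining an element with square inside at most doubles the order. -/
theorem card_sup_le_two {G : Type*} [Group G] [Finite G] (K : Subgroup G) {g : G}
    (hn : ∀ k ∈ K, g * k * g⁻¹ ∈ K) (hg : g * g ∈ K) :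
    Nat.card ↥(K ⊔ Subgroup.zpowers g) ≤ 2 * Nat.card K := by
  classical
  have hswap : ∀ k ∈ K, k * g = g * (g⁻¹ * k * g) ∧ g⁻¹ * k * g ∈ K := by
    intro k hk
    refine ⟨by group, ?_⟩
    have : g⁻¹ * k * g = (g * g)⁻¹ * (g * k * g⁻¹) * (g * g) := by group
    rw [this]; exact mul_mem (mul_mem (inv_mem hg) (hn k hk)) hg
  let S : Set G := (K : Set G) ∪ (fun k => g * k) '' (K : Set G)
  have hmul : ∀ a ∈ S, ∀ b ∈ S, a * b ∈ S := by
    rintro a (ha | ⟨k, hk, rfl⟩) b (hb | ⟨l, hl, rfl⟩)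
    · exact Or.inl (mul_mem ha hb)
    · obtain ⟨e, he⟩ := hswap a ha
      exact Or.inr ⟨g⁻¹ * a * g * l, mul_mem he hl, by dsimp only; rw [← mul_assoc a, e]; group⟩
    · exact Or.inr ⟨k * b, mul_mem hk hb, by dsimp only; group⟩
    · obtain ⟨e, he⟩ := hswap k hk
      refine Or.inl ?_
      have : g * k * (g * l) = g * g * (g⁻¹ * k * g * l) := by
        rw [mul_assoc g k, ← mul_assoc k, e]; group
      dsimp only
      rw [this]; exact mul_mem hg (mul_mem he hl)
  have hle : ((K ⊔ Subgroup.zpowers g : Subgroup G) : Set G) ⊆ S := by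
    intro x hx
    rw [SetLike.mem_coe, ← Subgroup.mem_toSubmonoid] at hx
    have heq : K ⊔ Subgroup.zpowers g = Subgroup.closure ((K : Set G) ∪ {g}) := by
      rw [Subgroup.closure_union, Subgroup.closure_eq, Subgroup.zpowers_eq_closure]
    rw [heq, Subgroup.closure_toSubmonoid_of_finite] at hx
    induction hx using Submonoid.closure_induction with
    | mem y hy =>
      rcases hy with hy | hy
      · exact Or.inl hy
      · exact Or.inr ⟨1, one_mem K, by simp [Set.mem_singleton_iff.1 hy]⟩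
    | one => exact Or.inl (one_mem K)
    | mul a b _ _ ha hb => exact hmul a ha b hb
  calc Nat.card ↥(K ⊔ Subgroup.zpowers g) ≤ S.ncard := by
        rw [← SetLike.coe_sort_coe, Nat.card_coe_set_eq]
        exact Set.ncard_le_ncard hle (Set.toFinite _)
    _ ≤ (K : Set G).ncard + ((fun k => g * k) '' (K : Set G)).ncard := Set.ncard_union_le _ _
    _ ≤ (K : Set G).ncard + (K : Set G).ncard :=
        Nat.add_le_add_left (Set.ncard_image_le (Set.toFinite _)) _
    _ = 2 * Nat.card K := by rw [← Nat.card_coe_set_eq]; simp only [SetLike.coe_sort_coe]; omega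

theorem Rel.card_closure_le {G : Type*} [Group G] [Finite G] {b : Bool} {x y d e z₁ z₂ : G}
    (r : Rel b x y d e z₁ z₂) :
    Nat.card ↥(Subgroup.closure ({x, y, d, e, z₁, z₂} : Set G)) ≤ 64 := by
  obtain ⟨c12, c1d, c1e, c1x, c1y⟩ := r.z₁_comm
  obtain ⟨c2d, c2e, c2x, c2y⟩ := r.z₂_comm
  have step : ∀ (K : Subgroup G) (gens : Set G) (g : G), K = Subgroup.closure gens →
      (∀ k ∈ gens, g * k * g⁻¹ ∈ K) → g * g ∈ K →
      Nat.card ↥(Subgroup.closure (insert g gens)) ≤ 2 * Nat.card K := by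
    intro K gens g hK hn hg
    have e : Subgroup.closure (insert g gens) = K ⊔ Subgroup.zpowers g := by
      rw [Set.insert_eq, Subgroup.closure_union, hK, Subgroup.zpowers_eq_closure, sup_comm]
    rw [e]
    refine card_sup_le_two K (fun k hk => ?_) hg
    have : K ≤ K.comap (MulAut.conj g).toMonoidHom := by
      conv_lhs => rw [hK]
      rw [Subgroup.closure_le]
      exact fun k hk => hn k hk
    exact this hk
  have conj1 : ∀ {g k : G}, g * k = k * g → g * k * g⁻¹ = k := fun {g k} h => by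
    rw [h, mul_inv_cancel_right]
  have conj2 : ∀ {g k c : G}, k * g = g * k * c → g * c = c * g → g * k * g⁻¹ = k * c⁻¹ := by
    intro g k c h hc
    have : g * k = k * g * c⁻¹ := by rw [h]; group
    rw [this]
    have hc' : g * c⁻¹ = c⁻¹ * g := (Commute.inv_right (show Commute g c from hc)).eq
    rw [mul_assoc k g, hc']
    group
  set K1 := Subgroup.closure ({z₂} : Set G)
  set K2 := Subgroup.closure ({z₁, z₂} : Set G)
  set K3 := Subgroup.closure ({e, z₁, z₂} : Set G)
  set K4 := Subgroup.closure ({d, e, z₁, z₂} : Set G)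
  set K5 := Subgroup.closure ({y, d, e, z₁, z₂} : Set G)
  have k1 : Nat.card K1 ≤ 2 := by
    simp only [K1, ← Subgroup.zpowers_eq_closure, Nat.card_zpowers]
    exact orderOf_le_of_pow_eq_one two_pos (by rw [pow_two]; exact r.z₂_sq)
  have k2 : Nat.card K2 ≤ 4 := by
    refine (step K1 {z₂} z₁ rfl ?_ (r.z₁_sq ▸ one_mem _)).trans (by omega)
    rintro k rfl
    rw [conj1 c12]; exact Subgroup.subset_closure rfl
  have m2 : z₁ ∈ K2 ∧ z₂ ∈ K2 :=
    ⟨Subgroup.subset_closure (by simp), Subgroup.subset_closure (by simp)⟩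
  have k3 : Nat.card K3 ≤ 8 := by
    refine (step K2 {z₁, z₂} e rfl ?_ (r.e_sq ▸ m2.2)).trans (by omega)
    rintro k (rfl | rfl)
    · rw [conj1 c1e.symm]; exact m2.1
    · rw [conj1 c2e.symm]; exact m2.2
  have m3 : e ∈ K3 ∧ z₁ ∈ K3 ∧ z₂ ∈ K3 :=
    ⟨Subgroup.subset_closure (by simp), Subgroup.subset_closure (by simp),
      Subgroup.subset_closure (by simp)⟩
  have k4 : Nat.card K4 ≤ 16 := by
    refine (step K3 {e, z₁, z₂} d rfl ?_ (r.d_sq ▸ m3.2.1)).trans (by omega)
    rintro k (rfl | rfl | rfl)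
    · rw [conj1 r.de]; exact m3.1
    · rw [conj1 c1d.symm]; exact m3.2.1
    · rw [conj1 c2d.symm]; exact m3.2.2
  have m4 : d ∈ K4 ∧ e ∈ K4 ∧ z₁ ∈ K4 ∧ z₂ ∈ K4 :=
    ⟨Subgroup.subset_closure (by simp), Subgroup.subset_closure (by simp),
      Subgroup.subset_closure (by simp), Subgroup.subset_closure (by simp)⟩
  have cyz : y * (z₁ * z₂) = z₁ * z₂ * y := by
    rw [← mul_assoc, ← c1y, mul_assoc, ← c2y, mul_assoc]
  have cxz : x * (z₁ * z₂) = z₁ * z₂ * x := by
    rw [← mul_assoc, ← c1x, mul_assoc, ← c2x, mul_assoc]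
  have k5 : Nat.card K5 ≤ 32 := by
    refine (step K4 {d, e, z₁, z₂} y rfl ?_ ?_).trans (by omega)
    · rintro k (rfl | rfl | rfl | rfl)
      · rw [conj2 r.dy cyz]; exact mul_mem m4.1 (inv_mem (mul_mem m4.2.2.1 m4.2.2.2))
      · rw [conj2 r.ey c2y.symm]; exact mul_mem m4.2.1 (inv_mem m4.2.2.2)
      · rw [conj1 c1y.symm]; exact m4.2.2.1
      · rw [conj1 c2y.symm]; exact m4.2.2.2
    · rw [r.y_sq]
      split_ifs
      exacts [mul_mem m4.2.2.1 m4.2.2.2, one_mem _]
  have m5 : y ∈ K5 ∧ d ∈ K5 ∧ e ∈ K5 ∧ z₁ ∈ K5 ∧ z₂ ∈ K5 :=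
    ⟨Subgroup.subset_closure (by simp), Subgroup.subset_closure (by simp),
      Subgroup.subset_closure (by simp), Subgroup.subset_closure (by simp),
      Subgroup.subset_closure (by simp)⟩
  refine (step K5 {y, d, e, z₁, z₂} x rfl ?_ ?_).trans (by omega)
  · rintro k (rfl | rfl | rfl | rfl | rfl)
    · rw [conj1 r.xy]; exact m5.1
    · rw [conj2 r.dx c1x.symm]; exact mul_mem m5.2.1 (inv_mem m5.2.2.2.1)
    · rw [conj2 r.ex cxz]; exact mul_mem m5.2.2.1 (inv_mem (mul_mem m5.2.2.2.1 m5.2.2.2.2))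
    · rw [conj1 c1x.symm]; exact m5.2.2.2.1
    · rw [conj1 c2x.symm]; exact m5.2.2.2.2
  · rw [r.x_sq]
    split_ifs
    exacts [m5.2.2.2.2, one_mem _]

/-- Two groups of order 64 with generators satisfying the same relations are isomorphic. -/
theorem Rel.mulEquiv {G G' : Type*} [Group G] [Group G'] [Finite G] [Finite G'] {b : Bool}
    {x y d e z₁ z₂ : G} {x' y' d' e' z₁' z₂' : G'} (r : Rel b x y d e z₁ z₂)
    (r' : Rel b x' y' d' e' z₁' z₂') (hG : Nat.card G = 64) (hG' : 64 ≤ Nat.card G')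
    (hgen : Subgroup.closure {x, y, d, e, z₁, z₂} = ⊤)
    (hgen' : Subgroup.closure {x', y', d', e', z₁', z₂'} = ⊤) : Nonempty (G ≃* G') := by
  have R : Rel b ((x, x') : G × G') (y, y') (d, d') (e, e') (z₁, z₁') (z₂, z₂') :=
    { z₁_sq := Prod.ext r.z₁_sq r'.z₁_sq
      z₂_sq := Prod.ext r.z₂_sq r'.z₂_sq
      z₁_comm := ⟨Prod.ext r.z₁_comm.1 r'.z₁_comm.1, Prod.ext r.z₁_comm.2.1 r'.z₁_comm.2.1,
        Prod.ext r.z₁_comm.2.2.1 r'.z₁_comm.2.2.1, Prod.ext r.z₁_comm.2.2.2.1 r'.z₁_comm.2.2.2.1,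
        Prod.ext r.z₁_comm.2.2.2.2 r'.z₁_comm.2.2.2.2⟩
      z₂_comm := ⟨Prod.ext r.z₂_comm.1 r'.z₂_comm.1, Prod.ext r.z₂_comm.2.1 r'.z₂_comm.2.1,
        Prod.ext r.z₂_comm.2.2.1 r'.z₂_comm.2.2.1, Prod.ext r.z₂_comm.2.2.2 r'.z₂_comm.2.2.2⟩
      d_sq := Prod.ext r.d_sq r'.d_sq
      e_sq := Prod.ext r.e_sq r'.e_sq
      x_sq := by
        refine Prod.ext (r.x_sq.trans ?_) (r'.x_sq.trans ?_) <;> split_ifs <;> rfl
      y_sq := by
        refine Prod.ext (r.y_sq.trans ?_) (r'.y_sq.trans ?_) <;> split_ifs <;> rfl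
      de := Prod.ext r.de r'.de
      dx := Prod.ext r.dx r'.dx
      dy := Prod.ext r.dy r'.dy
      ex := Prod.ext r.ex r'.ex
      ey := Prod.ext r.ey r'.ey
      xy := Prod.ext r.xy r'.xy }
  set H := Subgroup.closure
    ({(x, x'), (y, y'), (d, d'), (e, e'), (z₁, z₁'), (z₂, z₂')} : Set (G × G'))
  have hH : Nat.card H ≤ 64 := R.card_closure_le
  let p₁ : ↥H →* G := (MonoidHom.fst G G').comp H.subtype
  let p₂ : ↥H →* G' := (MonoidHom.snd G G').comp H.subtype
  have s₁ : Function.Surjective p₁ := by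
    rw [← MonoidHom.range_eq_top, MonoidHom.range_comp, Subgroup.range_subtype,
      MonoidHom.map_closure, ← hgen]
    congr 1
    simp [Set.image_insert_eq]
  have s₂ : Function.Surjective p₂ := by
    rw [← MonoidHom.range_eq_top, MonoidHom.range_comp, Subgroup.range_subtype,
      MonoidHom.map_closure, ← hgen']
    congr 1
    simp [Set.image_insert_eq]
  have c₁ : Nat.card H = Nat.card G :=
    le_antisymm (hH.trans hG.ge) (Nat.card_le_card_of_surjective p₁ s₁)
  have c₂ : Nat.card H = Nat.card G' :=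
    le_antisymm (hH.trans hG') (Nat.card_le_card_of_surjective p₂ s₂)
  exact ⟨(MulEquiv.ofBijective p₁ ((Nat.bijective_iff_surjective_and_card p₁).2 ⟨s₁, c₁⟩)).symm.trans
    (MulEquiv.ofBijective p₂ ((Nat.bijective_iff_surjective_and_card p₂).2 ⟨s₂, c₂⟩))⟩

section field

variable {F : Type*} [Field F] [Fintype F]

theorem exists_omega (hF : Fintype.card F = 4) :
    (2 : F) = 0 ∧ ∃ w : F, w * w + w + 1 = 0 ∧ ∀ a : F, a = 0 ∨ a = 1 ∨ a = w ∨ a = w + 1 := by
  classical
  have h2 : (2 : F) = 0 := by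
    have h : (Fintype.card F : F) = 0 := Nat.cast_card_eq_zero F
    rw [hF] at h
    exact pow_eq_zero_iff (n := 2) (by norm_num) |>.1 (show (2 : F) ^ 2 = 0 by rw [← h]; norm_num)
  obtain ⟨w, hw0, hw1⟩ : ∃ w : F, w ≠ 0 ∧ w ≠ 1 := by
    by_contra hne
    have : (Finset.univ : Finset F) ⊆ {0, 1} := fun a _ => by
      by_contra ha
      simp only [Finset.mem_insert, Finset.mem_singleton, not_or] at ha
      exact hne ⟨a, ha⟩
    have := (Finset.card_le_card this).trans (Finset.card_le_two)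
    rw [Finset.card_univ, hF] at this
    omega
  have h4 : ∀ a : F, a ^ 4 = a := fun a => by
    have := FiniteField.pow_card a
    rwa [hF] at this
  have hw : w * w + w + 1 = 0 := by
    have : w * (w - 1) * (w * w + w + 1) = 0 := by linear_combination h4 w
    exact (mul_eq_zero.1 this).resolve_left (mul_ne_zero hw0 (sub_ne_zero.2 hw1))
  refine ⟨h2, w, hw, fun a => ?_⟩
  have : a * (a - 1) * (a - w) * (a - (w + 1)) = 0 := by
    linear_combination (norm := (ring_nf; simp [h2])) h4 a + (a ^ 2 - a) * hw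
  simp only [mul_eq_zero, sub_eq_zero, or_assoc] at this
  exact this

end field

/-- The unitriangular element of `SL₃`. -/
def uni {F : Type*} [Field F] (a b c : F) : Matrix.SpecialLinearGroup (Fin 3) F :=
  ⟨!![1, a, c; 0, 1, b; 0, 0, 1], by simp [Matrix.det_fin_three]⟩

theorem uni_mul {F : Type*} [Field F] (a b c a' b' c' : F) :
    uni a b c * uni a' b' c' = uni (a + a') (b + b') (c + c' + a * b') := by
  refine Matrix.SpecialLinearGroup.ext _ _ fun i j => ?_
  rw [Matrix.SpecialLinearGroup.coe_mul]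
  fin_cases i <;> fin_cases j <;> simp [uni, Matrix.mul_apply, Fin.sum_univ_three] <;> ring

theorem uni_inj {F : Type*} [Field F] {a b c a' b' c' : F} (h : uni a b c = uni a' b' c') :
    a = a' ∧ b = b' ∧ c = c' :=
  ⟨by simpa [uni] using congrArg (fun M : Matrix.SpecialLinearGroup (Fin 3) F => M.1 0 1) h,
    by simpa [uni] using congrArg (fun M : Matrix.SpecialLinearGroup (Fin 3) F => M.1 1 2) h,
    by simpa [uni] using congrArg (fun M : Matrix.SpecialLinearGroup (Fin 3) F => M.1 0 2) h⟩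

theorem uni_zero {F : Type*} [Field F] : uni (0 : F) 0 0 = 1 := by
  refine Subtype.ext (Matrix.ext fun i j => ?_)
  fin_cases i <;> fin_cases j <;> simp [uni, Matrix.SpecialLinearGroup.coe_one]

/-- The Sylow 2-subgroup of `L₃(4)` satisfies the split relations. -/
theorem psl_model {F : Type*} [Field F] [Fintype F] (hF : Fintype.card F = 4)
    (P : Sylow 2 (Matrix.ProjectiveSpecialLinearGroup (Fin 3) F)) :
    Nat.card P = 64 ∧ ∃ x y d e z₁ z₂ : ↥(P : Subgroup (Matrix.ProjectiveSpecialLinearGroup (Fin 3) F)),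
      Rel false x y d e z₁ z₂ ∧ Subgroup.closure {x, y, d, e, z₁, z₂} = ⊤ := by
  classical
  have : Fact (Nat.Prime 2) := ⟨Nat.prime_two⟩
  obtain ⟨h2, w, hw, hall⟩ := exists_omega hF
  set X : Matrix.SpecialLinearGroup (Fin 3) F := uni 1 0 0
  set Y : Matrix.SpecialLinearGroup (Fin 3) F := uni w 0 0
  set D : Matrix.SpecialLinearGroup (Fin 3) F := uni 1 1 0
  set E : Matrix.SpecialLinearGroup (Fin 3) F := uni w w 0
  set Z₁ : Matrix.SpecialLinearGroup (Fin 3) F := uni 0 0 1
  set Z₂ : Matrix.SpecialLinearGroup (Fin 3) F := uni 0 0 (w + 1)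
  have r : Rel false X Y D E Z₁ Z₂ := by
    refine ⟨?_, ?_, ⟨?_, ?_, ?_, ?_, ?_⟩, ⟨?_, ?_, ?_, ?_⟩, ?_, ?_, ?_, ?_, ?_, ?_, ?_, ?_, ?_, ?_⟩ <;>
      simp only [X, Y, D, E, Z₁, Z₂, uni_mul, Bool.false_eq_true, if_false, ← uni_zero (F := F)] <;>
      congr 1 <;> grind
  set K := Subgroup.closure ({X, Y, D, E, Z₁, Z₂} : Set (Matrix.SpecialLinearGroup (Fin 3) F))
  have hK : Nat.card K ≤ 64 := r.card_closure_le
  have mem : ∀ g ∈ ({X, Y, D, E, Z₁, Z₂} : Set (Matrix.SpecialLinearGroup (Fin 3) F)), g ∈ K := fun g hg => Subgroup.subset_closure hg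
  have hadd : ∀ (f : F → Matrix.SpecialLinearGroup (Fin 3) F), (∀ a a' : F, f a * f a' = f (a + a')) → f 0 = 1 →
      f 1 ∈ K → f w ∈ K → ∀ a, f a ∈ K := by
    intro f hf h0 h1 hw' a
    rcases hall a with rfl | rfl | rfl | rfl
    · rw [h0]; exact one_mem K
    · exact h1
    · exact hw'
    · rw [← hf]; exact mul_mem hw' h1
  have hA : ∀ a : F, uni a 0 0 ∈ K :=
    hadd (fun a => uni a 0 0) (fun a a' => by simp [uni_mul]) uni_zero (mem _ (by simp [X]))
      (mem _ (by simp [Y]))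
  have hC : ∀ c : F, uni 0 0 c ∈ K :=
    hadd (fun c => uni 0 0 c) (fun a a' => by simp [uni_mul]) uni_zero (mem _ (by simp [Z₁])) (by
      have : uni (0 : F) 0 w = uni 0 0 (w + 1) * uni 0 0 1 := by
        rw [uni_mul]; congr 1 <;> grind
      rw [this]; exact mul_mem (mem _ (by simp [Z₂])) (mem _ (by simp [Z₁])))
  have hB : ∀ b : F, uni 0 b 0 ∈ K :=
    hadd (fun b => uni 0 b 0) (fun a a' => by simp [uni_mul]) uni_zero (by
      have : uni (0 : F) 1 0 = uni 1 0 0 * uni 1 1 0 * uni 0 0 1 := by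
        rw [uni_mul, uni_mul]; congr 1 <;> grind
      rw [this]
      exact mul_mem (mul_mem (hA 1) (mem _ (by simp [D]))) (hC 1)) (by
      have : uni (0 : F) w 0 = uni w 0 0 * uni w w 0 * uni 0 0 (w * w) := by
        rw [uni_mul, uni_mul]; congr 1 <;> grind
      rw [this]
      exact mul_mem (mul_mem (hA w) (mem _ (by simp [E]))) (hC _))
  have hall' : ∀ a b c : F, uni a b c ∈ K := by
    intro a b c
    have : uni a b c = uni a 0 0 * uni 0 b 0 * uni 0 0 (c - a * b) := by
      rw [uni_mul, uni_mul]; congr 1 <;> ring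
    rw [this]
    exact mul_mem (mul_mem (hA a) (hB b)) (hC _)
  have hK64 : Nat.card K = 64 := by
    refine le_antisymm hK ?_
    have := Nat.card_le_card_of_injective
      (fun t : F × F × F => (⟨uni t.1 t.2.1 t.2.2, hall' _ _ _⟩ : K))
      (fun s t e => by
        obtain ⟨e1, e2, e3⟩ := uni_inj (congrArg Subtype.val e)
        exact Prod.ext e1 (Prod.ext e2 e3))
    simpa [Nat.card_prod, Nat.card_eq_fintype_card, hF] using this
  let π : Matrix.SpecialLinearGroup (Fin 3) F →* Matrix.ProjectiveSpecialLinearGroup (Fin 3) F :=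
    QuotientGroup.mk' (Subgroup.center (Matrix.SpecialLinearGroup (Fin 3) F))
  have hinj : Function.Injective (π.comp K.subtype) := by
    rw [← MonoidHom.ker_eq_bot_iff, eq_bot_iff]
    intro g hg
    have hg' : (g : Matrix.SpecialLinearGroup (Fin 3) F) ∈ Subgroup.center (Matrix.SpecialLinearGroup (Fin 3) F) := (QuotientGroup.eq_one_iff _).1 hg
    have h1 : orderOf g ∣ 64 := hK64 ▸ orderOf_dvd_natCard g
    have h3 : orderOf g ∣ 3 := by
      rw [← Subgroup.orderOf_coe, ← Subgroup.orderOf_mk _ hg']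
      have := orderOf_dvd_natCard (⟨(g : Matrix.SpecialLinearGroup (Fin 3) F), hg'⟩ : Subgroup.center (Matrix.SpecialLinearGroup (Fin 3) F))
      rwa [CfsgLib.Classical.card_center_sl 3 (by norm_num), hF] at this
    rw [Subgroup.mem_bot, ← orderOf_eq_one_iff]
    exact Nat.eq_one_of_dvd_coprimes (by norm_num) h1 h3
  have hH : Nat.card (π.comp K.subtype).range = 2 ^ 6 := by
    rw [← Nat.card_congr (MonoidHom.ofInjective hinj).toEquiv, hK64]; norm_num
  have hG : Nat.card (Matrix.ProjectiveSpecialLinearGroup (Fin 3) F) = 2 ^ 6 * 315 := by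
    have h := CfsgLib.Classical.card_psl_mul (F := F) rfl 3 (by norm_num)
    have hsl := CfsgLib.Classical.card_sl_mul (F := F) rfl 3 (by norm_num)
    rw [hF, show Nat.gcd 3 (4 - 1) = 3 from rfl] at h
    simp only [hF, Fin.prod_univ_three, Fin.val_zero, Fin.val_one, Fin.val_two] at hsl
    norm_num1 at hsl ⊢
    omega
  obtain ⟨f, hf, hP⟩ :=
    CfsgLib.Involution.SylowTwoType.exists_hom_into_sylow (m := 315) (by decide) hG hH P
  have hb : Function.Bijective (f.comp (MonoidHom.ofInjective hinj).toMonoidHom) := by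
    refine (Nat.bijective_iff_injective_and_card _).2 ⟨hf.comp (MonoidHom.ofInjective hinj).injective, ?_⟩
    rw [hK64, hP]; norm_num
  refine ⟨by rw [hP]; norm_num, ?_⟩
  let φ := f.comp (MonoidHom.ofInjective hinj).toMonoidHom
  refine ⟨φ ⟨X, mem _ (by simp)⟩, φ ⟨Y, mem _ (by simp)⟩, φ ⟨D, mem _ (by simp)⟩,
    φ ⟨E, mem _ (by simp)⟩, φ ⟨Z₁, mem _ (by simp)⟩, φ ⟨Z₂, mem _ (by simp)⟩, ?_, ?_⟩
  · obtain ⟨a1, a2, ⟨b1, b2, b3, b4, b5⟩, ⟨c1, c2, c3, c4⟩, d1, d2, d3, d4, d5, d6, d7, d8, d9, d10⟩ := r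
    refine ⟨?_, ?_, ⟨?_, ?_, ?_, ?_, ?_⟩, ⟨?_, ?_, ?_, ?_⟩, ?_, ?_, ?_, ?_, ?_, ?_, ?_, ?_, ?_, ?_⟩ <;>
      simp only [← map_mul, MulMemClass.mk_mul_mk, Bool.false_eq_true, if_false, ← map_one φ] <;>
      refine congrArg φ (Subtype.ext ?_) <;> assumption
  · rw [eq_top_iff]
    rintro g -
    obtain ⟨⟨k, hk⟩, rfl⟩ := hb.2 g
    induction hk using Subgroup.closure_induction with
    | mem t ht =>
      refine Subgroup.subset_closure ?_
      simp only [Set.mem_insert_iff, Set.mem_singleton_iff] at ht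
      rcases ht with rfl | rfl | rfl | rfl | rfl | rfl <;> simp [φ]
    | one => exact (map_one φ).symm ▸ one_mem _
    | mul a c ha hc iha ihc =>
      rw [show (⟨a * c, _⟩ : K) = ⟨a, ha⟩ * ⟨c, hc⟩ from rfl, map_mul]; exact mul_mem iha ihc
    | inv a ha iha =>
      rw [show (⟨a⁻¹, _⟩ : K) = ⟨a, ha⟩⁻¹ from rfl, map_inv]; exact inv_mem iha

open CfsgLib.Involution.U34Sylow in
/-- The Sylow 2-subgroup of `U₃(4)` satisfies the twisted relations. -/
theorem psu_model {F : Type*} [Field F] [Fintype F] (hF : Fintype.card F = 16)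
    (P : Sylow 2 (Cfsg.PSU 3 F 4)) :
    Nat.card P = 64 ∧ ∃ x y d e z₁ z₂ : ↥(P : Subgroup (Cfsg.PSU 3 F 4)),
      Rel true x y d e z₁ z₂ ∧ Subgroup.closure {x, y, d, e, z₁, z₂} = ⊤ := by
  classical
  have : Fact (Fintype.card F = 16) := ⟨hF⟩
  have : Fact (∃ σ : F →+* F, (∀ x, σ x = x ^ 4) ∧ CfsgLib.Classical.IsConjugation σ) :=
    ⟨CfsgLib.Classical.exists_frob (q := 4) (by rw [hF]; norm_num)⟩
  have h2 : (2 : F) = 0 := two0
  -- a root of `X⁴ + X + 1`
  obtain ⟨r, hr⟩ : ∃ r : F, r ^ 4 + r + 1 = 0 := by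
    by_contra hne
    simp only [not_exists] at hne
    let q : Polynomial F := Polynomial.X ^ 12 + Polynomial.X ^ 9 + Polynomial.X ^ 8 +
      Polynomial.X ^ 6 + Polynomial.X ^ 4 + Polynomial.X ^ 3 + Polynomial.X ^ 2 + Polynomial.X
    have hdeg : q.natDegree = 12 := by simp only [q]; compute_degree!
    have hroot : ∀ a : F, q.IsRoot a := by
      intro a
      have e : (a ^ 4 + a + 1) * q.eval a = 0 := by
        simp only [q, Polynomial.eval_add, Polynomial.eval_pow, Polynomial.eval_X]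
        linear_combination (norm := (ring_nf; simp [h2])) pow16 a
      exact (mul_eq_zero.1 e).resolve_left (hne a)
    have hq0 : q ≠ 0 := fun e => by rw [e, Polynomial.natDegree_zero] at hdeg; omega
    have := Polynomial.card_roots' q
    have hle : (Finset.univ : Finset F).card ≤ q.roots.toFinset.card :=
      Finset.card_le_card fun a _ => Multiset.mem_toFinset.2 ((Polynomial.mem_roots hq0).2 (hroot a))
    have := hle.trans (Multiset.toFinset_card_le _)
    rw [Finset.card_univ, hF] at this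
    omega
  set w : F := r ^ 2 + r with hwdef
  have hw : w * w + w + 1 = 0 := by rw [hwdef]; grind
  set X : Heis F := ⟨r ^ 2, r * w ^ 2, by rw [hwdef]; grind⟩
  set Y : Heis F := ⟨w * r ^ 2, r * w, by rw [hwdef]; grind⟩
  set D : Heis F := ⟨1, r, by grind⟩
  set E : Heis F := ⟨w, r * w ^ 2, by rw [hwdef]; grind⟩
  set Z₁ : Heis F := ⟨0, 1, by grind⟩
  set Z₂ : Heis F := ⟨0, w ^ 2, by rw [hwdef]; grind⟩
  have : Finite (Heis F) := Nat.finite_of_card_ne_zero (by rw [card_heis]; norm_num)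
  have rel : Rel true X Y D E Z₁ Z₂ := by
    refine ⟨?_, ?_, ⟨?_, ?_, ?_, ?_, ?_⟩, ⟨?_, ?_, ?_, ?_⟩, ?_, ?_, ?_, ?_, ?_, ?_, ?_, ?_, ?_, ?_⟩ <;>
      refine Heis.ext ?_ ?_ <;>
      simp only [X, Y, D, E, Z₁, Z₂, mul_c, mul_b, one_c, one_b, if_true] <;>
      grind
  set K := Subgroup.closure ({X, Y, D, E, Z₁, Z₂} : Set (Heis F))
  have mem : ∀ g ∈ ({X, Y, D, E, Z₁, Z₂} : Set (Heis F)), g ∈ K := fun g hg =>
    Subgroup.subset_closure hg
  have hKtop : K = ⊤ := by
    rw [eq_top_iff]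
    intro g _
    -- first the `c` coordinate
    have w0 : w ≠ 0 := fun e => by rw [e] at hw; simp at hw
    have key : ∀ i j k l : Bool, (if i then (1 : F) else 0) + (if j then w else 0) +
        ((if k then (1 : F) else 0) + (if l then w else 0)) * r ^ 2 = 0 →
        i = false ∧ j = false ∧ k = false ∧ l = false := by
      intro i j k l
      cases i <;> cases j <;> cases k <;> cases l <;> simp <;> grind
    let elt : Bool × Bool × Bool × Bool → Heis F := fun t =>
      (if t.1 then D else 1) * (if t.2.1 then E else 1) *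
        ((if t.2.2.1 then X else 1) * (if t.2.2.2 then Y else 1))
    have helt : ∀ t, elt t ∈ K := by
      intro t
      refine mul_mem (mul_mem ?_ ?_) (mul_mem ?_ ?_) <;> split_ifs <;>
        first | exact one_mem K | exact mem _ (by simp)
    have hc : ∀ t, (elt t).c = (if t.1 then (1 : F) else 0) + (if t.2.1 then w else 0) +
        ((if t.2.2.1 then (1 : F) else 0) + (if t.2.2.2 then w else 0)) * r ^ 2 := by
      rintro ⟨i, j, k, l⟩
      cases i <;> cases j <;> cases k <;> cases l <;>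
        simp [elt, X, Y, D, E, mul_c, one_c] <;> ring
    have hinj : Function.Injective fun t => (elt t).c := by
      intro s t e
      simp only [hc] at e
      obtain ⟨i, j, k, l⟩ := s
      obtain ⟨i', j', k', l'⟩ := t
      have hx : ∀ (i i' : Bool) (a : F),
          (if (i ^^ i') then a else 0) = (if i then a else 0) + (if i' then a else 0) := by
        intro i i' a; cases i <;> cases i' <;> simp [add_self]
      have := key (i ^^ i') (j ^^ j') (k ^^ k') (l ^^ l') (by
        rw [hx, hx, hx, hx]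
        calc _ = ((if i then (1 : F) else 0) + (if j then w else 0) +
              ((if k then (1 : F) else 0) + (if l then w else 0)) * r ^ 2) +
              ((if i' then (1 : F) else 0) + (if j' then w else 0) +
              ((if k' then (1 : F) else 0) + (if l' then w else 0)) * r ^ 2) := by ring
          _ = 0 := by rw [e]; exact add_self _)
      obtain ⟨e1, e2, e3, e4⟩ := this
      simp only [bne_eq_false_iff_eq] at e1 e2 e3 e4
      subst e1 e2 e3 e4
      rfl
    obtain ⟨t, ht⟩ := ((Fintype.bijective_iff_injective_and_card _).2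
      ⟨hinj, by rw [hF]; decide⟩).2 g.c
    have hz : ((elt t)⁻¹ * g).c = 0 := by
      rw [mul_c, inv_c, show (elt t).c = g.c from ht]
      exact add_self _
    set u := (elt t)⁻¹ * g with hu
    have hb := u.hb
    rw [hz] at hb
    have hb' : u.b = 0 ∨ u.b = 1 ∨ u.b = w ^ 2 ∨ u.b = w := by
      have : u.b * (u.b - 1) * (u.b - w ^ 2) * (u.b - w) = 0 := by grind
      simp only [mul_eq_zero, sub_eq_zero, or_assoc] at this
      exact this
    have humem : u ∈ K := by
      rcases hb' with q | q | q | q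
      · rw [show u = 1 from Heis.ext (hz.trans one_c.symm) (q.trans one_b.symm)]; exact one_mem K
      · rw [show u = Z₁ from Heis.ext hz q]; exact mem _ (by simp)
      · rw [show u = Z₂ from Heis.ext hz q]; exact mem _ (by simp)
      · rw [show u = Z₁ * Z₂ from Heis.ext (hz.trans (by simp [Z₁, Z₂, mul_c]))
          (q.trans (by simp only [Z₁, Z₂, mul_b]; grind))]
        exact mul_mem (mem _ (by simp)) (mem _ (by simp))
    have := mul_mem (helt t) humem
    rwa [hu, mul_inv_cancel_left] at this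
  obtain ⟨φ⟩ := sylow_equiv P
  refine ⟨by rw [← Nat.card_congr φ.toEquiv, card_heis], φ X, φ Y, φ D, φ E, φ Z₁, φ Z₂, ?_, ?_⟩
  · obtain ⟨a1, a2, ⟨b1, b2, b3, b4, b5⟩, ⟨c1, c2, c3, c4⟩, d1, d2, d3, d4, d5, d6, d7, d8, d9, d10⟩ := rel
    refine ⟨?_, ?_, ⟨?_, ?_, ?_, ?_, ?_⟩, ⟨?_, ?_, ?_, ?_⟩, ?_, ?_, ?_, ?_, ?_, ?_, ?_, ?_, ?_, ?_⟩ <;>
      simp only [← map_mul, if_true, ← map_one φ] <;> refine congrArg φ ?_ <;>
      assumption
  · have := congrArg (Subgroup.map φ.toMonoidHom) hKtop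
    rw [MonoidHom.map_closure, Subgroup.map_top_of_surjective _ φ.surjective] at this
    simpa [Set.image_insert_eq] using this

end CfsgLib.LocalEvenB.FourFixed
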