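import Cfsg.Agent.S3020
import Cfsg.Agent.S3021
import Cfsg.Agent.Lib.Involution.ZStar.Main
import Mathlib.GroupTheory.Perm.Sign

/-!
# Extremely closed abelian 2-subgroups

An extremely closed abelian 2-subgroup is normal modulo the odd core.  The proof compares, for
every element `g`, the conjugation by `g` on the involutions of `H` with the one induced by
`N(H)`: this "twist" is trivial on the subgroup generated by the centralizers of hyperplanes.
-/

set_option autoImplicit false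
set_option linter.unusedSectionVars false

namespace CfsgLib.LocalEvenB.ExtremelyClosed

open Subgroup
open CfsgLib.Involution

universe u

/-- The odd core of a subgroup, as a subgroup of the ambient group. -/
def oc {G : Type u} [Group G] (L : Subgroup G) : Subgroup G :=
  (Cfsg.oddCore L).map L.subtype

section OddCores

variable {G : Type u} [Group G] [Finite G] {L : Subgroup G}

omit [Finite G] in
theorem oc_le : oc L ≤ L := map_subtype_le _

theorem oc_odd : Odd (Nat.card (oc L)) := by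
  rw [oc, card_map_of_injective L.subtype_injective]
  exact ZStar.odd_card_oddCore

theorem odd_orderOf {R : Subgroup G} (hR : Odd (Nat.card R)) {x : G} (hx : x ∈ R) :
    Odd (orderOf x) :=
  hR.of_dvd_nat (R.orderOf_dvd_natCard hx)

theorem oc_conj {x y : G} (hx : x ∈ L) (hy : y ∈ oc L) : x * y * x⁻¹ ∈ oc L := by
  obtain ⟨z, hz, rfl⟩ := hy
  exact ⟨⟨x, hx⟩ * z * ⟨x, hx⟩⁻¹, ZStar.oddCore_normal.conj_mem z hz _, rfl⟩

theorem le_oc {R : Subgroup G} (hRL : R ≤ L) (hodd : Odd (Nat.card R))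
    (hn : ∀ x ∈ L, ∀ y ∈ R, x * y * x⁻¹ ∈ R) : R ≤ oc L := by
  have hnor : (R.subgroupOf L).Normal :=
    ⟨fun y hy x => hn x x.2 y hy⟩
  have hle := ZStar.le_oddCore hnor
    (by rwa [Nat.card_congr (subgroupOfEquivOfLe hRL).toEquiv])
  exact fun y hy => ⟨⟨y, hRL hy⟩, hle hy, rfl⟩

theorem oc_normalized {m : G} (hm : ∀ y ∈ L, m * y * m⁻¹ ∈ L) :
    ∀ y ∈ oc L, m * y * m⁻¹ ∈ oc L := by
  have hsurj : ∀ x ∈ L, m⁻¹ * x * m ∈ L := by
    intro x hx
    have hle : L.map (MulAut.conj m).toMonoidHom ≤ L := by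
      rintro _ ⟨y, hy, rfl⟩; exact hm y hy
    obtain ⟨y, hy, hyx⟩ := (eq_of_le_of_card_ge hle
      (by rw [card_map_of_injective (MulAut.conj m).injective])).ge hx
    rw [← hyx]
    simpa [mul_assoc] using hy
  intro y hy
  refine le_oc (R := (oc L).map (MulAut.conj m).toMonoidHom) ?_ ?_ ?_ ⟨y, hy, rfl⟩
  · rintro _ ⟨w, hw, rfl⟩; exact hm w (oc_le hw)
  · rw [card_map_of_injective (MulAut.conj m).injective]; exact oc_odd
  · rintro x hx _ ⟨w, hw, rfl⟩
    exact ⟨m⁻¹ * x * m * w * (m⁻¹ * x * m)⁻¹, oc_conj (hsurj x hx) hw, by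
      simp [mul_assoc]⟩

omit [Finite G] in
/-- An involution times an element of odd order normalized by it has even order. -/
theorem eq_one_of_odd {R : Subgroup G} {h o : G} (hh : h * h = 1)
    (hn : ∀ y ∈ R, h * y * h⁻¹ ∈ R) (hR : h ∈ R → h = 1) (ho : o ∈ R)
    (hodd : Odd (orderOf (h * o))) : h = 1 := by
  have key : ∀ m : ℕ, (h ^ m)⁻¹ * (h * o) ^ m ∈ R := by
    intro m
    induction m with
    | zero => simp
    | succ m ih =>
      have hinv : h⁻¹ = h := inv_eq_of_mul_eq_one_left hh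
      rw [show (h ^ (m + 1))⁻¹ * (h * o) ^ (m + 1) =
        h⁻¹ * ((h ^ m)⁻¹ * (h * o) ^ m) * h⁻¹⁻¹ * o by
          rw [pow_succ h m, pow_succ (h * o) m, mul_inv_rev, inv_inv]
          group]
      refine mul_mem ?_ ho
      rw [hinv]
      exact hn _ ih
  obtain ⟨k, hk⟩ := hodd
  have h1 := key (orderOf (h * o))
  rw [pow_orderOf_eq_one, mul_one, hk, pow_succ, pow_mul, pow_two, hh, one_pow, one_mul,
    inv_mem_iff] at h1
  exact hR h1

end OddCores

section Split

variable {G : Type u} [Group G]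

theorem half (s : G) (hs : Odd (orderOf s)) : s ^ ((orderOf s + 1) / 2) * s ^ ((orderOf s + 1) / 2) = s := by
  obtain ⟨k, hk⟩ := hs
  rw [← pow_add, show (orderOf s + 1) / 2 + (orderOf s + 1) / 2 = orderOf s + 1 by omega,
    pow_succ, pow_orderOf_eq_one, one_mul]

theorem eq_one_of_inverted {y d : G} (hy : Odd (orderOf y)) (hd : Odd (orderOf d))
    (h : y * d * y⁻¹ = d⁻¹) : d = 1 := by
  have key : ∀ m : ℕ, y ^ m * d * (y ^ m)⁻¹ = if Even m then d else d⁻¹ := by
    intro m
    induction m with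
    | zero => simp
    | succ m ih =>
      rw [pow_succ', show y * y ^ m * d * (y * y ^ m)⁻¹ = y * (y ^ m * d * (y ^ m)⁻¹) * y⁻¹ by group,
        ih]
      by_cases hm : Even m
      · rw [if_pos hm, h, if_neg (fun hh => Nat.even_add_one.1 hh hm)]
      · rw [if_neg hm, if_pos (Nat.even_add_one.2 hm),
          show y * d⁻¹ * y⁻¹ = (y * d * y⁻¹)⁻¹ by group, h, inv_inv]
  have h1 := key (orderOf y)
  rw [pow_orderOf_eq_one, inv_one, one_mul, mul_one, if_neg (Nat.not_even_iff_odd.2 hy)] at h1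
  have h2 : d ^ 2 = 1 := by rw [pow_two]; nth_rw 2 [h1]; exact mul_inv_cancel d
  exact orderOf_eq_one_iff.1 (Nat.Coprime.eq_one_of_dvd hd.coprime_two_right (orderOf_dvd_of_pow_eq_one h2))

variable [Finite G]

/-- Decomposition of an odd order group relative to an involution normalizing it. -/
theorem exists_inv_split {R : Subgroup G} (hR : Odd (Nat.card R)) {a : G} (ha : a * a = 1)
    (hn : ∀ y ∈ R, a * y * a ∈ R) {q : G} (hq : q ∈ R) :
    ∃ c ∈ R, ∃ y ∈ R, a * c * a = c ∧ a * y * a = y⁻¹ ∧ q = c * y := by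
  set s := q⁻¹ * (a * q * a) with hs
  have hsR : s ∈ R := mul_mem (inv_mem hq) (hn q hq)
  have haa : ∀ x : G, a * (a * x * a) * a = x := fun x => by
    calc a * (a * x * a) * a = (a * a) * x * (a * a) := by group
      _ = x := by rw [ha, one_mul, mul_one]
  have hmap : ∀ x y : G, a * (x * y) * a = (a * x * a) * (a * y * a) := fun x y => by
    calc a * (x * y) * a = a * x * (a * a) * y * a := by rw [ha]; group
      _ = _ := by group
  have hinv : ∀ x : G, a * x⁻¹ * a = (a * x * a)⁻¹ := fun x => by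
    rw [mul_inv_rev, mul_inv_rev, inv_eq_of_mul_eq_one_left ha, ← mul_assoc]
  have hsa : a * s * a = s⁻¹ := by
    rw [hs, hmap, haa, hinv]; group
  set r := s ^ ((orderOf s + 1) / 2) with hr
  have hrr : r * r = s := half s (odd_orderOf hR hsR)
  have hra : a * r * a = r⁻¹ := by
    have key : ∀ m : ℕ, a * s ^ m * a = (s ^ m)⁻¹ := by
      intro m
      induction m with
      | zero => simp [ha]
      | succ m ih => rw [pow_succ, hmap, ih, hsa, ← mul_inv_rev, ← pow_succ', pow_succ]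
    exact key _
  refine ⟨q * r, mul_mem hq (pow_mem hsR _), r⁻¹, inv_mem (pow_mem hsR _), ?_, ?_, by group⟩
  · rw [hmap, hra, show a * q * a = q * s by rw [hs]; group, ← hrr]
    group
  · rw [hinv, hra]

theorem inv_split_unique {R : Subgroup G} (hR : Odd (Nat.card R)) {a c c' y y' : G}
    (hcR : c ∈ R) (hcR' : c' ∈ R) (hyR : y ∈ R) (hyR' : y' ∈ R) (ha : a * a = 1)
    (hc : a * c * a = c) (hc' : a * c' * a = c') (hy : a * y * a = y⁻¹) (hy' : a * y' * a = y'⁻¹)
    (he : c * y = c' * y') : c = c' := by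
  set d := c'⁻¹ * c with hd
  have hdR : d ∈ R := mul_mem (inv_mem hcR') hcR
  have hy'e : y' = d * y := by rw [hd, mul_assoc, he]; group
  have hda : a * d * a = d := by
    calc a * d * a = (a * c' * a)⁻¹ * (a * c * a) := by
          rw [hd, mul_inv_rev, mul_inv_rev, inv_eq_of_mul_eq_one_left ha]
          calc a * (c'⁻¹ * c) * a = a * c'⁻¹ * (a * a) * c * a := by rw [ha]; group
            _ = _ := by group
      _ = d := by rw [hc, hc']
  have hkey : y * d * y⁻¹ = d⁻¹ := by
    have h1 : a * y' * a = d * y⁻¹ := by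
      rw [hy'e]
      calc a * (d * y) * a = a * d * (a * a) * y * a := by rw [ha]; group
        _ = (a * d * a) * (a * y * a) := by group
        _ = d * y⁻¹ := by rw [hda, hy]
    rw [hy', hy'e, mul_inv_rev] at h1
    calc y * d * y⁻¹ = y * (d * y⁻¹) := by group
      _ = y * (y⁻¹ * d⁻¹) := by rw [h1]
      _ = d⁻¹ := by group
  have := eq_one_of_inverted (odd_orderOf hR hyR) (odd_orderOf hR hdR) hkey
  rw [hd, inv_mul_eq_one] at this
  exact this.symm

/-- An odd order group normalized by a four group is the product of the three centralizers, in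
any order. -/
theorem four_split {R : Subgroup G} (hR : Odd (Nat.card R)) {a b : G} (ha : a * a = 1)
    (hb : b * b = 1) (hab : a * b = b * a) (hna : ∀ y ∈ R, a * y * a ∈ R)
    (hnb : ∀ y ∈ R, b * y * b ∈ R) {o : G} (ho : o ∈ R) :
    ∃ c ∈ R, ∃ u ∈ R, ∃ w ∈ R, Commute c a ∧ Commute u b ∧ Commute w (a * b) ∧
      o = c * u * w := by
  obtain ⟨k, hk⟩ : ∃ k, k = a * b := ⟨_, rfl⟩
  rw [← hk]
  have hkk : k * k = 1 := by
    rw [hk]
    calc a * b * (a * b) = a * (b * a) * b := by group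
      _ = (a * a) * (b * b) := by rw [← hab]; group
      _ = 1 := by rw [ha, hb, one_mul]
  have hK : ∀ x : G, k * x * k = a * (b * x * b) * a := fun x => by
    calc k * x * k = a * b * x * (a * b) := by rw [hk]
      _ = a * b * x * (b * a) := by rw [hab]
      _ = _ := by group
  have hcom : ∀ x : G, a * (b * x * b) * a = b * (a * x * a) * b := fun x => by
    calc a * (b * x * b) * a = (a * b) * x * (b * a) := by group
      _ = (b * a) * x * (a * b) := by rw [hab]
      _ = _ := by group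
  have hnk : ∀ y ∈ R, k * y * k ∈ R := fun y hy => by rw [hK]; exact hna _ (hnb y hy)
  have hinvol : ∀ {i : G}, i * i = 1 → ∀ x : G, i * (i * x * i) * i = x := fun {i} hi x => by
    calc i * (i * x * i) * i = (i * i) * x * (i * i) := by group
      _ = x := by rw [hi, one_mul, mul_one]
  have hmul : ∀ {i : G}, i * i = 1 → ∀ x y : G, i * (x * y) * i = (i * x * i) * (i * y * i) :=
    fun {i} hi x y => by
      calc i * (x * y) * i = i * x * (i * i) * y * i := by rw [hi]; group
        _ = _ := by group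
  have hinv : ∀ {i : G}, i * i = 1 → ∀ x : G, i * x⁻¹ * i = (i * x * i)⁻¹ := fun {i} hi x => by
    rw [mul_inv_rev, mul_inv_rev, inv_eq_of_mul_eq_one_left hi, ← mul_assoc]
  set q := (k * o * k) * o⁻¹ with hq
  have hqR : q ∈ R := mul_mem (hnk o ho) (inv_mem ho)
  have hqk : k * q * k = q⁻¹ := by
    rw [hq, hmul hkk, hinvol hkk, hinv hkk]; group
  obtain ⟨e', heR, y, hyR, hea, hya, hqe⟩ := exists_inv_split hR ha hna hqR
  have hbe : b * e' * b = e'⁻¹ := by
    have h1 : (k * e' * k) * (k * y * k) = e'⁻¹ * (e' * y⁻¹ * e'⁻¹) := by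
      rw [← hmul hkk, ← hqe, hqk, hqe]; group
    have h2 : k * e' * k = b * e' * b := by rw [hK, hcom, hea]
    have h3 : a * (k * y * k) * a = (k * y * k)⁻¹ := by
      rw [hK, hinvol ha, hcom, hya, hinv hb, inv_inv]
    rw [← h2]
    refine inv_split_unique hR (hnk _ heR) (inv_mem heR) (hnk _ hyR)
      (mul_mem (mul_mem heR (inv_mem hyR)) (inv_mem heR)) ha ?_ ?_ h3 ?_ h1
    · rw [h2, hcom, hea]
    · rw [hinv ha, hea]
    · rw [hmul ha, hmul ha, hinv ha, hinv ha, hya, hea]; group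
  set e := e'⁻¹ with he
  have heb : b * e * b = e⁻¹ := by rw [he, hinv hb, hbe]
  have hea' : a * e * a = e := by rw [he, hinv ha, hea]
  set r := e ^ ((orderOf e + 1) / 2) with hr
  have hrR : r ∈ R := pow_mem (inv_mem heR) _
  have hrr : r * r = e := half e (odd_orderOf hR (inv_mem heR))
  have hpow : ∀ {i x z : G}, i * i = 1 → i * x * i = z → ∀ m : ℕ, i * x ^ m * i = z ^ m :=
    fun {i x z} hi hxz m => by
      induction m with
      | zero => simp [hi]
      | succ m ih => rw [pow_succ, hmul hi, ih, hxz, pow_succ]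
  have hra : a * r * a = r := hpow ha hea' _
  have hrb : b * r * b = r⁻¹ := by rw [hr, hpow hb heb, inv_pow]
  have hrk : k * r⁻¹ * k = r := by rw [hinv hkk, hK, hrb, hinv ha, hra, inv_inv]
  set p := r⁻¹ * y * r with hp
  have hpR : p ∈ R := mul_mem (mul_mem (inv_mem hrR) hyR) hrR
  have hpa : a * p * a = p⁻¹ := by rw [hp, hmul ha, hmul ha, hinv ha, hra, hya]; group
  have hpb : b * p * b = p := by
    have hbq : b * q * b = y * e := by
      calc b * q * b = a * (k * q * k) * a := by rw [hK, hinvol ha]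
        _ = a * (y⁻¹ * e) * a := by rw [hqk, hqe, he]; group
        _ = y * e := by rw [hmul ha, hinv ha, hya, inv_inv, hea']
    have hy_eq : y = e * q := by rw [he, hqe]; group
    have hby : b * y * b = e⁻¹ * (y * e) := by
      conv_lhs => rw [hy_eq]
      rw [hmul hb, heb, hbq]
    rw [hp, hmul hb, hmul hb, hinv hb, hrb, inv_inv, hby, ← hrr]
    group
  set h := p ^ ((orderOf p + 1) / 2) with hh
  have hhR : h ∈ R := pow_mem hpR _
  have hhh : h * h = p := half p (odd_orderOf hR hpR)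
  have hha : a * h * a = h⁻¹ := by rw [hh, hpow ha hpa, inv_pow]
  have hhb : b * h * b = h := hpow hb hpb _
  have hfix : ∀ {i x : G}, i * i = 1 → i * x * i = x → Commute x i := fun {i x} hi hx => by
    calc x * i = i * x * i * i := by rw [hx]
      _ = i * x * (i * i) := by group
      _ = i * x := by rw [hi, mul_one]
  refine ⟨r, hrR, h⁻¹, inv_mem hhR, h * r⁻¹ * o, mul_mem (mul_mem hhR (inv_mem hrR)) ho,
    hfix ha hra, hfix hb (by rw [hinv hb, hhb]), hfix hkk ?_, by group⟩
  have hko : k * o * k = q * o := by rw [hq]; group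
  have hkh : k * h * k = h⁻¹ := by rw [hK, hhb, hha]
  rw [hmul hkk, hmul hkk, hkh, hrk, hko, hqe]
  calc h⁻¹ * r * (e' * y * o) = h⁻¹ * (r * e' * r) * (r⁻¹ * y * r) * (r⁻¹ * o) := by group
    _ = h⁻¹ * (h * h) * (r⁻¹ * o) := by
      rw [← hp, ← hhh, show e' = (r * r)⁻¹ by rw [hrr, he, inv_inv]]
      group
    _ = h * r⁻¹ * o := by group

end Split

section Setting

variable {G : Type u} [Group G]

/-- The hypothesis: an extremely closed abelian 2-subgroup. -/
structure Hyp (H : Subgroup G) : Prop where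
  two : IsPGroup 2 H
  ab : IsMulCommutative H
  closed : Cfsg.IsExtremelyClosed H

/-- A minimal configuration. -/
structure Min (H : Subgroup G) : Prop extends Hyp H where
  ne : normalizer (H : Set G) ≠ ⊤
  odd_bot : ∀ R : Subgroup G, R.Normal → Odd (Nat.card R) → R = ⊥
  loc : ∀ L : Subgroup G, L ≠ ⊤ → H ≤ L → ∀ x ∈ L,
    ∃ n ∈ normalizer (H : Set G), ∃ o ∈ oc L, n ∈ L ∧ x = n * o
  noncentral : ∀ v ∈ H, v * v = 1 → v ≠ 1 → ∃ g, g * v ≠ v * g

/-- An element of `H` squaring to the identity. -/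
def Inv (H : Subgroup G) (e : G) : Prop := e ∈ H ∧ e * e = 1

/-- The twist induced by `g` fixes `e`. -/
def Fix (g e : G) : Prop := Odd (orderOf (e * (g * e * g⁻¹)))

/-- The twist induced by `g` is trivial. -/
def Triv (H : Subgroup G) (g : G) : Prop := ∀ e, Inv H e → Fix g e

/-- A hyperplane of the involutions of `H`. -/
def IsHyp (H F : Subgroup G) : Prop :=
  (∀ f ∈ F, Inv H f) ∧ (∃ e, Inv H e ∧ e ∉ F) ∧
    ∀ x y, Inv H x → Inv H y → x ∉ F → y ∉ F → x * y ∈ F

/-- The generators: elements centralizing a hyperplane with trivial twist. -/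
def Gen (H F : Subgroup G) (x : G) : Prop :=
  IsHyp H F ∧ (∀ f ∈ F, Commute x f) ∧ Triv H x

variable {H : Subgroup G}

theorem commute_H (hH : Hyp H) {x y : G} (hx : x ∈ H) (hy : y ∈ H) : Commute x y :=
  congrArg Subtype.val (hH.ab.is_comm.comm (⟨x, hx⟩ : H) ⟨y, hy⟩)

theorem Inv.mul (hH : Hyp H) {x y : G} (hx : Inv H x) (hy : Inv H y) : Inv H (x * y) :=
  ⟨mul_mem hx.1 hy.1, by
    calc x * y * (x * y) = x * (y * x) * y := by group
      _ = (x * x) * (y * y) := by rw [(commute_H hH hy.1 hx.1).eq]; group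
      _ = 1 := by rw [hx.2, hy.2, one_mul]⟩

theorem Inv.conj {x : G} (hx : Inv H x) {n : G} (hn : n ∈ normalizer (H : Set G)) :
    Inv H (n * x * n⁻¹) :=
  ⟨(mem_normalizer_iff.1 hn x).1 hx.1, by
    calc n * x * n⁻¹ * (n * x * n⁻¹) = n * (x * x) * n⁻¹ := by group
      _ = 1 := by rw [hx.2]; group⟩

theorem Inv.inv {x : G} (hx : Inv H x) : x⁻¹ = x := inv_eq_of_mul_eq_one_left hx.2

theorem conj_inv {x : G} (hx : Inv H x) (y : G) : x * y * x⁻¹ = x * y * x := by rw [hx.inv]

variable [Finite G]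

theorem orderOf_conj' (g x : G) : orderOf (g * x * g⁻¹) = orderOf x := Dihedral.orderOf_conj g x

theorem fix_one {e : G} (hx : Inv H e) : Fix (1 : G) e := by
  simp [Fix, hx.2]

theorem fix_mul_right {g c e : G} (h : Commute c e) : Fix (g * c) e ↔ Fix g e := by
  rw [Fix, Fix, show g * c * e * (g * c)⁻¹ = g * (c * e * c⁻¹) * g⁻¹ by group,
    show c * e * c⁻¹ = e by rw [h.eq, mul_inv_cancel_right]]

theorem fix_mul_left {g c e : G} (h : Commute c e) : Fix (c * g) e ↔ Fix g e := by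
  rw [Fix, Fix, ← orderOf_conj' c (e * (g * e * g⁻¹))]
  rw [show c * (e * (g * e * g⁻¹)) * c⁻¹ = (c * e * c⁻¹) * (c * g * e * (c * g)⁻¹) by group,
    show c * e * c⁻¹ = e by rw [h.eq, mul_inv_cancel_right]]

theorem triv_inv {g : G} (h : Triv H g) : Triv H g⁻¹ := by
  intro e he
  have h1 := h e he
  rw [Fix, ← orderOf_inv] at h1
  rw [Fix, ← orderOf_conj' g]
  rwa [show g * (e * (g⁻¹ * e * g⁻¹⁻¹)) * g⁻¹ = (e⁻¹ * (g * e⁻¹ * g⁻¹))⁻¹ by group, he.inv,
    orderOf_inv, ← orderOf_inv]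

theorem fix_iff (hH : Hyp H) {R : Subgroup G} (hR : Odd (Nat.card R))
    (hn : ∀ v, Inv H v → ∀ y ∈ R, v * y * v⁻¹ ∈ R) {o n : G} (ho : o ∈ R)
    (hnN : n ∈ normalizer (H : Set G)) {e : G} (he : Inv H e) :
    Fix (o * n) e ↔ Commute n e := by
  set e' := n * e * n⁻¹ with he'
  have hee : Inv H e' := he.conj hnN
  set h := e * e' with hh
  have hhI : Inv H h := he.mul hH hee
  set o' := e'⁻¹ * o * e'⁻¹⁻¹ * o⁻¹ with ho'
  have ho'R : o' ∈ R := mul_mem (by rw [hee.inv]; exact hn e' hee o ho) (inv_mem ho)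
  have heq : e * (o * n * e * (o * n)⁻¹) = h * o' := by
    rw [hh, ho', inv_inv]
    calc e * (o * n * e * (o * n)⁻¹) = e * (o * e' * o⁻¹) := by rw [he']; group
      _ = e * e' * (e'⁻¹ * o * e' * o⁻¹) := by group
  rw [Fix, heq]
  constructor
  · intro hodd
    have h1 := eq_one_of_odd hhI.2 (hn h hhI)
      (fun hR' => orderOf_eq_one_iff.1 (Nat.Coprime.eq_one_of_dvd (odd_orderOf hR hR').coprime_two_right
        (orderOf_dvd_of_pow_eq_one (by rw [pow_two, hhI.2])))) ho'R hodd
    rw [hh, mul_eq_one_iff_eq_inv, hee.inv] at h1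
    exact (mul_inv_eq_iff_eq_mul.1 h1.symm)
  · intro hc
    have h1 : e' = e := by rw [he', hc.eq, mul_inv_cancel_right]
    rw [hh, h1, he.2, one_mul]
    exact odd_orderOf hR ho'R

theorem fix_normalizer_iff (hH : Hyp H) {n e : G} (hn : n ∈ normalizer (H : Set G))
    (he : Inv H e) : Fix n e ↔ Commute n e := by
  have h := fix_iff hH (R := ⊥) (by simp) (fun v _ y hy => by simp [mem_bot.1 hy]) (one_mem _) hn he
  rwa [one_mul] at h

theorem triv_of_mem_odd (hH : Hyp H) {R : Subgroup G} (hR : Odd (Nat.card R))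
    (hn : ∀ v, Inv H v → ∀ y ∈ R, v * y * v⁻¹ ∈ R) {o : G} (ho : o ∈ R) : Triv H o := by
  intro e he
  have h := fix_iff hH hR hn ho (one_mem _) he
  rw [mul_one] at h
  exact h.2 (Commute.one_left e)

/-- The join of `H` with a conjugate. -/
def pair (H : Subgroup G) (g : G) : Subgroup G := H ⊔ H.map (MulAut.conj g).toMonoidHom

theorem pair_normalized (g : G) : ∀ v, Inv H v → ∀ y ∈ oc (pair H g), v * y * v⁻¹ ∈ oc (pair H g) :=
  fun _ hv _ hy => oc_conj (mem_sup_left hv.1) hy

theorem inf_normalizer_eq_one (hH : Hyp H) (g : G) {x : G} (hx : x ∈ oc (pair H g))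
    (hn : x ∈ normalizer (H : Set G)) : x = 1 := by
  have hxH : x ∈ H := (hH.closed g).le ⟨oc_le hx, hn⟩
  haveI : Fact (Nat.Prime 2) := ⟨Nat.prime_two⟩
  obtain ⟨k, hk⟩ := hH.two ⟨x, hxH⟩
  have hd : orderOf x ∣ 2 ^ k := orderOf_dvd_of_pow_eq_one (congrArg Subtype.val hk)
  exact orderOf_eq_one_iff.1 (Nat.Coprime.eq_one_of_dvd
    (Nat.Coprime.pow_right k (odd_orderOf oc_odd hx).coprime_two_right) hd)

theorem decomp (hH : Hyp H) (g : G) :
    ∃ o ∈ oc (pair H g), ∃ n ∈ normalizer (H : Set G), g = o * n := by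
  haveI : Fact (Nat.Prime 2) := ⟨Nat.prime_two⟩
  obtain ⟨h1, -⟩ := Cfsg.Agent.S3020.result H hH.two hH.ab hH.closed g (pair H g) rfl
  set T := pair H g with hT
  have hsup : H ⊔ oc T = T := h1
  set O := Cfsg.oddCore ↥T
  haveI : O.Normal := ZStar.oddCore_normal
  have hHT : H ≤ T := le_sup_left
  have hgT : H.map (MulAut.conj g).toMonoidHom ≤ T := le_sup_right
  set H' := H.subgroupOf T with hH'
  have htop : H' ⊔ O = ⊤ := by
    apply map_injective T.subtype_injective
    rw [Subgroup.map_sup, map_subgroupOf_eq_of_le hHT, ← MonoidHom.range_eq_map, range_subtype]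
    exact hsup
  have hp : IsPGroup 2 H' := hH.two.of_equiv (subgroupOfEquivOfLe hHT).symm
  have hidx : ¬ 2 ∣ H'.index := by
    intro hd
    have hrel : O.index ∣ Nat.card H' := by
      rw [← relIndex_top_right, ← htop, relIndex_sup_right]
      exact Dvd.intro_left _ (O.subgroupOf H').card_mul_index
    have hdvd : H'.index ∣ Nat.card O := by
      obtain ⟨m, hm⟩ := hrel
      have e1 := H'.card_mul_index
      rw [← O.card_mul_index, hm, mul_assoc, mul_comm (Nat.card O)] at e1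
      exact Dvd.intro_left m (Nat.eq_of_mul_eq_mul_left
        (Nat.pos_of_ne_zero O.index_ne_zero_of_finite) e1)
    exact (Nat.not_even_iff_odd.2 (ZStar.odd_card_oddCore (G := ↥T)))
      (even_iff_two_dvd.2 (hd.trans hdvd))
  obtain ⟨Q, hQ⟩ : ∃ Q : Sylow 2 ↥T, (Q : Subgroup ↥T) = (H.map (MulAut.conj g).toMonoidHom).subgroupOf T := by
    refine ⟨((hH.two.map _).of_equiv (subgroupOfEquivOfLe hgT).symm).toSylow ?_, rfl⟩
    intro hd
    refine hidx ?_
    have e1 := ((H.map (MulAut.conj g).toMonoidHom).subgroupOf T).card_mul_index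
    have e2 := H'.card_mul_index
    rw [Nat.card_congr (subgroupOfEquivOfLe hgT).toEquiv,
      card_map_of_injective (MulAut.conj g).injective] at e1
    rw [Nat.card_congr (subgroupOfEquivOfLe hHT).toEquiv, ← e1] at e2
    rwa [Nat.eq_of_mul_eq_mul_left Nat.card_pos e2]
  obtain ⟨t, ht⟩ := MulAction.exists_smul_eq ↥T (hp.toSylow hidx) Q
  have hmem : t ∈ O ⊔ H' := by rw [sup_comm, htop]; trivial
  obtain ⟨o, ho, h, hh, rfl⟩ := mem_sup_of_normal_left.1 hmem
  refine ⟨(o : G), ⟨o, ho, rfl⟩, (o : G)⁻¹ * g, ?_, by group⟩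
  have hmap : ∀ x ∈ H, g⁻¹ * ((o : G) * x * (o : G)⁻¹) * g ∈ H := by
    intro x hx
    have hx' : (o * h) * ((h⁻¹ * ⟨x, hHT hx⟩ * h : ↥T)) * (o * h)⁻¹ ∈ (Q : Subgroup ↥T) := by
      rw [← ht, Sylow.coe_subgroup_smul]
      refine ⟨h⁻¹ * ⟨x, hHT hx⟩ * h, ?_, rfl⟩
      exact mul_mem (mul_mem (inv_mem hh) (mem_subgroupOf.2 hx)) hh
    rw [show (o * h) * (h⁻¹ * ⟨x, hHT hx⟩ * h : ↥T) * (o * h)⁻¹ = o * ⟨x, hHT hx⟩ * o⁻¹ by group,
      hQ, mem_subgroupOf] at hx'
    obtain ⟨y, hy, hyx⟩ := hx'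
    have hyx' : g * y * g⁻¹ = (o : G) * x * (o : G)⁻¹ := hyx
    rw [← hyx']
    simpa [mul_assoc] using hy
  rw [← inv_mem_iff]
  rw [mem_normalizer_iff_map_conj_eq]
  refine eq_of_le_of_card_ge ?_ (by rw [card_map_of_injective (MulAut.conj _).injective])
  rintro _ ⟨x, hx, rfl⟩
  simpa [mul_assoc] using hmap x hx

theorem fix_mul (hH : Hyp H) {g e f : G} (he : Inv H e) (hf : Inv H f) (h1 : Fix g e)
    (h2 : Fix g f) : Fix g (e * f) := by
  obtain ⟨o, ho, n, hn, rfl⟩ := decomp hH g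
  rw [fix_iff hH oc_odd (pair_normalized _) ho hn he] at h1
  rw [fix_iff hH oc_odd (pair_normalized _) ho hn hf] at h2
  rw [fix_iff hH oc_odd (pair_normalized _) ho hn (he.mul hH hf)]
  exact h1.mul_right h2

omit [Finite G] in
theorem mul_mem_hyp_iff (hH : Hyp H) {F : Subgroup G} (hF : IsHyp H F) {x y : G} (hx : Inv H x)
    (hy : Inv H y) : x * y ∈ F ↔ (x ∈ F ↔ y ∈ F) := by
  by_cases h1 : x ∈ F
  · simp [h1, mul_mem_cancel_left h1]
  by_cases h2 : y ∈ F
  · simp [h1, h2, mul_mem_cancel_right h2]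
  simp [h1, h2, hF.2.2 x y hx hy h1 h2]

omit [Finite G] in
theorem exists_notMem_of_ne {F F' : Subgroup G} (hF : IsHyp H F) (hF' : IsHyp H F')
    (hne : F ≠ F') : ∃ a ∈ F, a ∉ F' := by
  by_contra h
  push Not at h
  obtain ⟨x, hx, hxF⟩ := SetLike.exists_of_lt (lt_of_le_of_ne h hne)
  obtain ⟨e, he, heF'⟩ := hF'.2.1
  have heF : e ∉ F := fun he' => heF' (h e he')
  have h1 := hF.2.2 x e (hF'.1 x hx) he hxF heF
  exact heF' ((mul_mem_cancel_left hx).1 (h (x * e) h1))

theorem triv_of_two_hyp (hH : Hyp H) {F F' : Subgroup G} (hF : IsHyp H F) (hF' : IsHyp H F')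
    (hne : F ≠ F') {g : G} (h1 : ∀ f ∈ F, Fix g f) (h2 : ∀ f ∈ F', Fix g f) : Triv H g := by
  obtain ⟨a, ha, haF⟩ := exists_notMem_of_ne hF' hF hne.symm
  intro e he
  by_cases heF : e ∈ F
  · exact h1 e heF
  have h3 : e * a ∈ F := hF.2.2 e a he (hF'.1 a ha) heF haF
  rw [show e = e * a * a by rw [mul_assoc, (hF'.1 a ha).2, mul_one]]
  exact fix_mul hH (he.mul hH (hF'.1 a ha)) (hF'.1 a ha) (h1 _ h3) (h2 a ha)

variable (hM : Min H)

include hM in
omit [Finite G] in
theorem le_centralizer {B : Subgroup G} (hB : ∀ f ∈ B, Inv H f) :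
    H ≤ centralizer (B : Set G) := fun _ hx =>
  mem_centralizer_iff.2 fun f hf => (commute_H hM.toHyp (hB f hf).1 hx).eq

include hM in
omit [Finite G] in
theorem centralizer_ne_top {B : Subgroup G} (hB : ∀ f ∈ B, Inv H f) (hB1 : B ≠ ⊥) :
    centralizer (B : Set G) ≠ ⊤ := by
  obtain ⟨f, hf, hf1⟩ := (Subgroup.bot_or_exists_ne_one B).resolve_left hB1
  obtain ⟨g, hg⟩ := hM.noncentral f (hB f hf).1 (hB f hf).2 hf1
  intro htop
  have hgm : g ∈ centralizer (B : Set G) := htop ▸ mem_top g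
  exact hg (mem_centralizer_iff.1 hgm f hf).symm

include hM in
theorem local_form {B : Subgroup G} (hB : ∀ f ∈ B, Inv H f) (hB1 : B ≠ ⊥) {x : G}
    (hx : ∀ f ∈ B, Commute x f) (hxt : Triv H x) :
    ∃ c, (∀ e, Inv H e → Commute c e) ∧ c ∈ centralizer (B : Set G) ∧ Triv H c ∧
      ∃ o ∈ oc (centralizer (B : Set G)), x = c * o := by
  set L := centralizer (B : Set G)
  have hxL : x ∈ L := mem_centralizer_iff.2 fun f hf => (hx f hf).eq.symm
  obtain ⟨n, hn, o, ho, hnL, rfl⟩ := hM.loc L (centralizer_ne_top hM hB hB1) (le_centralizer hM hB) x hxL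
  have hno : n * o * n⁻¹ ∈ oc L := oc_conj hnL ho
  have hc : ∀ e, Inv H e → Commute n e := by
    intro e he
    refine (fix_iff hM.toHyp oc_odd (fun v hv y hy => oc_conj (le_centralizer hM hB hv.1) hy) hno hn he).1 ?_
    rw [show n * o * n⁻¹ * n = n * o by group]
    exact hxt e he
  exact ⟨n, hc, hnL, fun e he => (fix_normalizer_iff hM.toHyp hn he).2 (hc e he), o, ho, rfl⟩

include hM in
theorem exists_moving {v : G} (hv : Inv H v) (hv1 : v ≠ 1) :
    ∃ n ∈ normalizer (H : Set G), ¬ Commute n v := by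
  by_contra hno
  push Not at hno
  have hv2 : orderOf v = 2 := orderOf_eq_prime (by rw [pow_two, hv.2]) hv1
  have hiso : Cfsg.IsIsolatedInvolution v := by
    refine ⟨hv2, fun g hg => ?_⟩
    obtain ⟨o, ho, n, hn, rfl⟩ := decomp hM.toHyp g
    have hodd : Fix (o * n) v :=
      (fix_iff hM.toHyp oc_odd (pair_normalized _) ho hn hv).2 (hno n hn)
    have hsq : (v * (o * n * v * (o * n)⁻¹)) ^ 2 = 1 := by
      rw [hg.mul_pow, pow_two, pow_two, hv.2, one_mul]
      calc (o * n * v * (o * n)⁻¹) * (o * n * v * (o * n)⁻¹) = o * n * (v * v) * (o * n)⁻¹ := by group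
        _ = 1 := by rw [hv.2]; group
    have h1 := orderOf_eq_one_iff.1 (Nat.Coprime.eq_one_of_dvd hodd.coprime_two_right
      (orderOf_dvd_of_pow_eq_one hsq))
    rw [mul_eq_one_iff_inv_eq, hv.inv] at h1
    exact h1.symm
  obtain ⟨g, hg⟩ := hM.noncentral v hv.1 hv.2 hv1
  refine hg ?_
  have := hM.odd_bot (Cfsg.oddCore G) ZStar.oddCore_normal ZStar.odd_card_oddCore
  have h1 := ZStar.comm_mem_oddCore hiso g
  rw [this, mem_bot] at h1
  calc g * v = (v * g * v⁻¹ * g⁻¹) * (g * v) := by rw [h1, one_mul]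
    _ = v * g := by group

include hM in
theorem hyp_ne_bot {F : Subgroup G} (hF : IsHyp H F) : F ≠ ⊥ := by
  intro hbot
  obtain ⟨e, he, heF⟩ := hF.2.1
  have he1 : e ≠ 1 := fun h => heF (h ▸ one_mem F)
  obtain ⟨n, hn, hne⟩ := exists_moving hM he he1
  refine hne ?_
  have h1 := hF.2.2 (n * e * n⁻¹) e (he.conj hn) he
    (fun h => he1 (by rw [hbot, mem_bot, conj_eq_one_iff] at h; exact h)) heF
  rw [hbot, mem_bot, mul_eq_one_iff_eq_inv, he.inv] at h1
  exact mul_inv_eq_iff_eq_mul.1 h1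

include hM in
/-- A proper normal subgroup cannot contain `H`. -/
theorem eq_top_of_normal {L : Subgroup G} (hL : L.Normal) (hHL : H ≤ L) : L = ⊤ := by
  by_contra hne
  have hocn : (oc L).Normal :=
    ⟨fun y hy g => oc_normalized (fun x hx => hL.conj_mem x hx g) y hy⟩
  have hbot := hM.odd_bot _ hocn oc_odd
  have hLN : L ≤ normalizer (H : Set G) := by
    intro x hx
    obtain ⟨n, hn, o, ho, -, rfl⟩ := hM.loc L hne hHL x hx
    rw [hbot, mem_bot] at ho
    rw [ho, mul_one]
    exact hn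
  refine hM.ne (eq_top_iff.2 fun g _ => ?_)
  rw [mem_normalizer_iff_map_conj_eq]
  refine eq_of_le_of_card_ge ?_ (by rw [card_map_of_injective (MulAut.conj g).injective])
  rintro _ ⟨x, hx, rfl⟩
  exact (hM.closed g).le ⟨mem_sup_right ⟨x, hx, rfl⟩, hLN (hL.conj_mem x (hHL hx) g)⟩

include hM in
/-- If only three involutions lie in `H`, an element of the normalizer fixing one of them fixes
all: otherwise a transfer produces a subgroup of index two. -/
theorem stab_trivial {a b : G} (ha : Inv H a) (hb : Inv H b) (ha1 : a ≠ 1)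
    (hfour : ∀ e, Inv H e → e = 1 ∨ e = a ∨ e = b ∨ e = a * b) {n : G}
    (hn : n ∈ normalizer (H : Set G)) (hna : Commute n a) : ∀ e, Inv H e → Commute n e := by
  classical
  by_contra hno
  set N := normalizer (H : Set G) with hN
  have hfix : ¬ Commute n b := by
    intro hnb
    refine hno fun e he => ?_
    rcases hfour e he with rfl | rfl | rfl | rfl
    exacts [Commute.one_right n, hna, hnb, hna.mul_right hnb]
  have hna' : n * a * n⁻¹ = a := by rw [hna.eq, mul_inv_cancel_right]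
  have hnb' : n * b * n⁻¹ = a * b := by
    rcases hfour _ (hb.conj hn) with h | h | h | h
    · rw [conj_eq_one_iff] at h
      exact absurd (h ▸ Commute.one_right n) hfix
    · exact absurd (by rw [mul_left_cancel (mul_right_cancel (h.trans hna'.symm))]; exact hna) hfix
    · exact absurd (mul_inv_eq_iff_eq_mul.1 h) hfix
    · exact h
  let E := {e : G // Inv H e}
  haveI : Fintype E := Fintype.ofFinite E
  let f : N →* Equiv.Perm E :=
    { toFun := fun m =>
        { toFun := fun e => ⟨(m : G) * e * (m : G)⁻¹, e.2.conj m.2⟩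
          invFun := fun e => ⟨(m : G)⁻¹ * e * (m : G)⁻¹⁻¹, e.2.conj (inv_mem m.2)⟩
          left_inv := fun e => Subtype.ext (by simp [mul_assoc])
          right_inv := fun e => Subtype.ext (by simp [mul_assoc]) }
      map_one' := Equiv.ext fun e => Subtype.ext (by simp)
      map_mul' := fun m m' => Equiv.ext fun e => Subtype.ext (by simp [mul_assoc]) }
  let χ : N →* ℤˣ := Equiv.Perm.sign.comp f
  have hswap : f ⟨n, hn⟩ = Equiv.swap ⟨b, hb⟩ ⟨a * b, ha.mul hM.toHyp hb⟩ := by
    have hnab : n * (a * b) * n⁻¹ = b := by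
      calc n * (a * b) * n⁻¹ = (n * a * n⁻¹) * (n * b * n⁻¹) := by group
        _ = b := by rw [hna', hnb', ← mul_assoc, ha.2, one_mul]
    refine Equiv.ext fun e => ?_
    rcases eq_or_ne e ⟨b, hb⟩ with rfl | h1
    · rw [Equiv.swap_apply_left]; exact Subtype.ext hnb'
    rcases eq_or_ne e ⟨a * b, ha.mul hM.toHyp hb⟩ with rfl | h2
    · rw [Equiv.swap_apply_right]; exact Subtype.ext hnab
    rw [Equiv.swap_apply_of_ne_of_ne h1 h2]
    refine Subtype.ext ?_
    change n * (e : G) * n⁻¹ = e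
    rcases hfour e e.2 with h | h | h | h
    · rw [h]; group
    · rw [h, hna']
    · exact absurd (Subtype.ext h) h1
    · exact absurd (Subtype.ext h) h2
  have hχn : χ ⟨n, hn⟩ = -1 := by
    change Equiv.Perm.sign (f ⟨n, hn⟩) = -1
    rw [hswap]
    exact Equiv.Perm.sign_swap fun h => ha1 (mul_eq_right.1 (congrArg Subtype.val h).symm)
  have hχH : ∀ h (hh : h ∈ N), h ∈ H → χ ⟨h, hh⟩ = 1 := by
    intro h hh hhH
    have : f ⟨h, hh⟩ = 1 := Equiv.ext fun e => Subtype.ext
      (show h * (e : G) * h⁻¹ = e by rw [(commute_H hM.toHyp hhH e.2.1).eq, mul_inv_cancel_right])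
    change Equiv.Perm.sign (f ⟨h, hh⟩) = 1
    rw [this, map_one]
  have hctrl : ∀ (m x : G) (hm : m ∈ N) (hmx : x⁻¹ * m * x ∈ N),
      χ ⟨x⁻¹ * m * x, hmx⟩ = χ ⟨m, hm⟩ := by
    intro m x hm hmx
    obtain ⟨o, ho, n1, hn1, hx⟩ := decomp hM.toHyp x
    have hT : ∀ y ∈ pair H x, m * y * m⁻¹ ∈ pair H x := by
      have hle : pair H x ≤ (pair H x).comap (MulAut.conj m).toMonoidHom := by
        refine sup_le (fun y hy => ?_) ?_
        · exact mem_sup_left ((mem_normalizer_iff.1 hm y).1 hy)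
        · rintro _ ⟨y, hy, rfl⟩
          refine mem_sup_right ⟨_, (mem_normalizer_iff.1 hmx y).1 hy, ?_⟩
          simp [mul_assoc]
      exact fun y hy => hle hy
    have hom : o⁻¹ * m * o ∈ N := by
      have := mul_mem (mul_mem hn1 hmx) (inv_mem hn1)
      rwa [show n1 * (x⁻¹ * m * x) * n1⁻¹ = o⁻¹ * m * o by rw [hx]; group] at this
    have hcomm : m⁻¹ * (o⁻¹ * m * o) = 1 := by
      refine inf_normalizer_eq_one hM.toHyp x ?_ (mul_mem (inv_mem hm) hom)
      have h1 : m⁻¹ * o⁻¹ * m⁻¹⁻¹ ∈ oc (pair H x) := by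
        refine oc_normalized (L := pair H x) (m := m⁻¹) (fun y hy => ?_) _ (inv_mem ho)
        have hle : (pair H x).map (MulAut.conj m).toMonoidHom ≤ pair H x := by
          rintro _ ⟨w, hw, rfl⟩; exact hT w hw
        obtain ⟨w, hw, hwy⟩ := (eq_of_le_of_card_ge hle
          (by rw [card_map_of_injective (MulAut.conj m).injective])).ge hy
        rw [← hwy]
        simpa [mul_assoc] using hw
      rw [show m⁻¹ * (o⁻¹ * m * o) = m⁻¹ * o⁻¹ * m⁻¹⁻¹ * o by group]
      exact mul_mem h1 ho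
    have hxm : (⟨x⁻¹ * m * x, hmx⟩ : N) = (⟨n1, hn1⟩ : N)⁻¹ * ⟨m, hm⟩ * ⟨n1, hn1⟩ := by
      refine Subtype.ext ?_
      change x⁻¹ * m * x = n1⁻¹ * m * n1
      rw [inv_mul_eq_one] at hcomm
      conv_rhs => rw [hcomm]
      rw [hx]; group
    rw [hxm, map_mul, map_mul, map_inv, mul_right_comm, inv_mul_cancel, one_mul]
  haveI := Fintype.ofFinite G
  have hτ : ∀ m (hm : m ∈ N), MonoidHom.transfer χ m = χ ⟨m, hm⟩ ^ N.index := by
    intro m hm
    haveI : Fintype (Quotient (MulAction.orbitRel (zpowers m) (G ⧸ N))) := Fintype.ofFinite _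
    rw [MonoidHom.transfer_eq_prod_quotient_orbitRel_zpowers_quot,
      index_eq_sum_minimalPeriod N m, ← Finset.prod_pow_eq_pow_sum]
    refine Finset.prod_congr rfl fun q _ => ?_
    have hmem := QuotientGroup.out_conj_pow_minimalPeriod_mem N m q.out
    change χ ⟨_, hmem⟩ = _
    rw [hctrl _ _ (pow_mem hm _) hmem, ← map_pow]
    rfl
  have hidx : Odd N.index := by
    haveI : Fact (Nat.Prime 2) := ⟨Nat.prime_two⟩
    obtain ⟨S, hS⟩ := hM.two.exists_le_sylow
    have hSN := ((Cfsg.Agent.S3021.result H hM.two hM.closed).2 S hS).1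
    exact Nat.not_even_iff_odd.1 fun hev =>
      S.not_dvd_index ((even_iff_two_dvd.1 hev).trans (index_dvd_of_le hSN))
  have htn : MonoidHom.transfer χ n = -1 := by
    rw [hτ n hn, hχn, hidx.neg_one_pow]
  have hle : H ≤ (MonoidHom.transfer χ).ker := fun h hh => by
    rw [MonoidHom.mem_ker, hτ h (le_normalizer hh), hχH h _ hh, one_pow]
  have htop := eq_top_of_normal hM (MonoidHom.normal_ker _) hle
  have : n ∈ (MonoidHom.transfer χ).ker := htop ▸ mem_top n
  rw [MonoidHom.mem_ker, htn] at this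
  exact absurd this (by decide)

include hM in
theorem gen_mul {F : Subgroup G} {x y : G} (hx : Gen H F x) (hy : Gen H F y) :
    Gen H F (x * y) := by
  have hF := hx.1
  have hFI := hF.1
  have hF1 := hyp_ne_bot hM hF
  refine ⟨hF, fun f hf => (hx.2.1 f hf).mul_left (hy.2.1 f hf), ?_⟩
  obtain ⟨c, hc, -, -, o, ho, rfl⟩ := local_form hM hFI hF1 hx.2.1 hx.2.2
  obtain ⟨c', hc', hc'L, -, o', ho', rfl⟩ := local_form hM hFI hF1 hy.2.1 hy.2.2
  have hmem : c'⁻¹ * o * c'⁻¹⁻¹ * o' ∈ oc (centralizer (F : Set G)) :=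
    mul_mem (oc_conj (inv_mem hc'L) ho) ho'
  intro e he
  rw [show c * o * (c' * o') = c * (c' * (c'⁻¹ * o * c'⁻¹⁻¹ * o')) by group,
    fix_mul_left (hc e he), fix_mul_left (hc' e he)]
  exact triv_of_mem_odd hM.toHyp oc_odd
    (fun v hv w hw => oc_conj (le_centralizer hM hFI hv.1) hw) hmem e he

include hM in
theorem gen_of_mem_oc {B F : Subgroup G} (hB : ∀ f ∈ B, Inv H f) (hF : IsHyp H F) {x : G}
    (hx : x ∈ oc (centralizer (B : Set G))) (hgen : ∀ f ∈ F, Commute x f) : Gen H F x :=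
  ⟨hF, hgen, triv_of_mem_odd hM.toHyp oc_odd
    (fun v hv w hw => oc_conj (le_centralizer hM hB hv.1) hw) hx⟩

include hM in
omit [Finite G] in
/-- A hyperplane is generated by a subgroup of index two and any further element. -/
theorem commute_of_parts {B : Subgroup G} {x a f : G} (ha : Inv H a) (hfa : f * a ∈ B ∨ f ∈ B)
    (hxB : ∀ v ∈ B, Commute x v) (hxa : Commute x a) : Commute x f := by
  rcases hfa with h | h
  · rw [show f = f * a * a by rw [mul_assoc, ha.2, mul_one]]
    exact (hxB _ h).mul_right hxa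
  · exact hxB f h

omit [Finite G] in
/-- The words in the generators. -/
def Good (H : Subgroup G) (l : List (Subgroup G × G)) : Prop := ∀ p ∈ l, Gen H p.1 p.2

/-- The value of a word. -/
def value (l : List (Subgroup G × G)) : G := (l.map Prod.snd).prod

include hM in
theorem triv_ends {p q : Subgroup G × G} {mid : List (Subgroup G × G)} (hne : p.1 ≠ q.1)
    (hp : Gen H p.1 p.2) (hq : Gen H q.1 q.2) (h1 : Triv H (value (mid ++ [q])))
    (h2 : Triv H (value (p :: mid))) : Triv H (value (p :: mid ++ [q])) := by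
  refine triv_of_two_hyp hM.toHyp hp.1 hq.1 hne (fun f hf => ?_) fun f hf => ?_
  · rw [show value (p :: mid ++ [q]) = p.2 * value (mid ++ [q]) by simp [value],
      fix_mul_left (hp.2.1 f hf)]
    exact h1 f (hp.1.1 f hf)
  · rw [show value (p :: mid ++ [q]) = value (p :: mid) * q.2 by simp [value, mul_assoc],
      fix_mul_right (hq.2.1 f hf)]
    exact h2 f (hq.1.1 f hf)

include hM in
theorem triv_value : ∀ (k : ℕ) (l : List (Subgroup G × G)), l.length = k → Good H l →
    Triv H (value l) := by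
  intro k
  induction k using Nat.strong_induction_on with
  | _ k IH =>
    intro l hlen hgood
    rcases l with _ | ⟨p, l⟩
    · exact fun e he => by simpa [value] using fix_one he
    have hp := hgood p (List.mem_cons_self ..)
    rcases List.eq_nil_or_concat l with rfl | ⟨mid, q, rfl⟩
    · simpa [value] using hp.2.2
    simp only [List.concat_eq_append] at *
    simp only [List.length_cons, List.length_append, List.length_nil] at hlen
    have hq := hgood q (by simp)
    have hmid : ∀ r ∈ mid, Gen H r.1 r.2 := fun r hr => hgood r (by simp [hr])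
    have hsuf : Triv H (value (mid ++ [q])) :=
      IH (mid.length + 1) (by omega) (mid ++ [q]) (by simp) fun r hr => hgood r (List.mem_cons_of_mem _ hr)
    by_cases hne : p.1 ≠ q.1
    · refine triv_ends hM hne hp hq hsuf (IH (mid.length + 1) (by omega) _ (by simp) ?_)
      intro r hr
      rcases List.mem_cons.1 hr with rfl | h
      exacts [hp, hmid r h]
    push Not at hne
    rcases mid with _ | ⟨s, rest⟩
    · have := gen_mul hM hp (hne ▸ hq : Gen H p.1 q.2)
      simpa [value] using this.2.2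
    simp only [List.length_cons] at hlen
    have hs := hmid s (List.mem_cons_self ..)
    have hrest : ∀ r ∈ rest, Gen H r.1 r.2 := fun r hr => hmid r (List.mem_cons_of_mem _ hr)
    by_cases hps : p.1 = s.1
    · have hmerge : Gen H p.1 (p.2 * s.2) := gen_mul hM hp (hps ▸ hs)
      have := IH (rest.length + 2) (by omega) ((p.1, p.2 * s.2) :: (rest ++ [q])) (by simp) (by
        intro r hr
        rcases List.mem_cons.1 hr with rfl | h
        · exact hmerge
        rcases List.mem_append.1 h with h | h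
        · exact hrest r h
        · rw [List.mem_singleton.1 h]; exact hq)
      simpa [value, mul_assoc] using this
    obtain ⟨F, x⟩ := p
    obtain ⟨F2, x2⟩ := s
    simp only at hp hs hne hps
    set w := value ((F, x) :: ((F2, x2) :: rest) ++ [q]) with hw
    have hwF : ∀ f ∈ F, Fix w f := fun f hf => by
      rw [hw, show value ((F, x) :: ((F2, x2) :: rest) ++ [q]) =
        x * value ((F2, x2) :: rest ++ [q]) by simp [value], fix_mul_left (hp.2.1 f hf)]
      exact hsuf f (hp.1.1 f hf)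
    obtain ⟨a, haF, haF2⟩ := exists_notMem_of_ne hp.1 hs.1 hps
    obtain ⟨b, hbF2, hbF⟩ := exists_notMem_of_ne hs.1 hp.1 (Ne.symm hps)
    have haI := hp.1.1 a haF
    have hbI := hs.1.1 b hbF2
    set B := F ⊓ F2 with hB
    by_cases hB1 : B = ⊥
    · have ha1 : a ≠ 1 := fun h => haF2 (h ▸ one_mem F2)
      have hfour : ∀ e, Inv H e → e = 1 ∨ e = a ∨ e = b ∨ e = a * b := by
        have hin : ∀ e ∈ F, e = 1 ∨ e = a := by
          intro e heF
          by_cases he2 : e ∈ F2
          · left; exact mem_bot.1 (hB1 ▸ (⟨heF, he2⟩ : e ∈ F ⊓ F2))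
          · right
            have h2 := hs.1.2.2 e a (hp.1.1 e heF) haI he2 haF2
            have h3 : e * a = 1 := mem_bot.1 (hB1 ▸ (⟨mul_mem heF haF, h2⟩ : e * a ∈ F ⊓ F2))
            rwa [mul_eq_one_iff_eq_inv, haI.inv] at h3
        intro e he
        by_cases heF : e ∈ F
        · rcases hin e heF with h | h
          exacts [Or.inl h, Or.inr (Or.inl h)]
        · have hdiv : e = e * b * b := by rw [mul_assoc, hbI.2, mul_one]
          rcases hin _ (hp.1.2.2 e b he hbI heF hbF) with h | h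
          · right; right; left; rw [hdiv, h, one_mul]
          · right; right; right; rw [hdiv, h]
      intro e he
      obtain ⟨o, ho, n, hn, hdec⟩ := decomp hM.toHyp w
      change Fix w e
      have hna := hwF a haF
      rw [hdec, fix_iff hM.toHyp oc_odd (pair_normalized _) (hdec ▸ ho) hn haI] at hna
      rw [hdec, fix_iff hM.toHyp oc_odd (pair_normalized _) (hdec ▸ ho) hn he]
      exact stab_trivial hM haI hbI ha1 hfour hn hna e he
    have hBI : ∀ f ∈ B, Inv H f := fun f hf => hp.1.1 f hf.1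
    have hxx : ∀ f ∈ B, Commute (x * x2) f := fun f hf =>
      (hp.2.1 f hf.1).mul_left (hs.2.1 f hf.2)
    have hxxt : Triv H (x * x2) := by
      refine triv_of_two_hyp hM.toHyp hp.1 hs.1 hps (fun f hf => ?_) fun f hf => ?_
      · rw [fix_mul_left (hp.2.1 f hf)]; exact hs.2.2 f (hp.1.1 f hf)
      · rw [fix_mul_right (hs.2.1 f hf)]; exact hp.2.2 f (hs.1.1 f hf)
    obtain ⟨c, hc, hcL, hct, o, ho, hxo⟩ := local_form hM hBI hB1 hxx hxxt
    set O := oc (centralizer (B : Set G))
    have hOn : ∀ v, Inv H v → ∀ y ∈ O, v * y * v ∈ O := fun v hv y hy => by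
      rw [← conj_inv hv]; exact oc_conj (le_centralizer hM hBI hv.1) hy
    have habI : Inv H (a * b) := haI.mul hM.toHyp hbI
    have hcab : b * (a * b) = a := by
      rw [(commute_H hM.toHyp haI.1 hbI.1).eq, ← mul_assoc, hbI.2, one_mul]
    obtain ⟨y2, hy2, y', hy', y1, hy1, hy2b, hy'ab, hy1a, hoeq⟩ :=
      four_split (R := O) oc_odd hbI.2 habI.2 (commute_H hM.toHyp hbI.1 habI.1).eq
        (hOn b hbI) (hOn _ habI) ho
    rw [hcab] at hy1a
    have hOB : ∀ y ∈ O, ∀ v ∈ B, Commute y v := fun y hy v hv =>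
      (mem_centralizer_iff.1 (oc_le hy) v hv).symm
    have hg1 : Gen H F y1 := gen_of_mem_oc hM hBI hp.1 hy1 fun f hf =>
      commute_of_parts hM haI (by
        by_cases h2 : f ∈ F2
        · exact Or.inr ⟨hf, h2⟩
        · exact Or.inl ⟨mul_mem hf haF, hs.1.2.2 f a (hp.1.1 f hf) haI h2 haF2⟩)
        (hOB y1 hy1) hy1a
    have hg2 : Gen H F2 (c * y2) := by
      have hcomm2 : ∀ f ∈ F2, Commute y2 f := fun f hf =>
        commute_of_parts hM hbI (by
          by_cases h2 : f ∈ F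
          · exact Or.inr ⟨h2, hf⟩
          · exact Or.inl ⟨hp.1.2.2 f b (hs.1.1 f hf) hbI h2 hbF, mul_mem hf hbF2⟩)
          (hOB y2 hy2) hy2b
      refine ⟨hs.1, fun f hf => (hc f (hs.1.1 f hf)).mul_left (hcomm2 f hf), fun e he => ?_⟩
      rw [fix_mul_left (hc e he)]
      exact (gen_of_mem_oc hM hBI hs.1 hy2 hcomm2).2.2 e he
    let F' : Subgroup G :=
      { carrier := {v | Inv H v ∧ (v ∈ F ↔ v ∈ F2)}
        one_mem' := ⟨⟨one_mem H, mul_one 1⟩, by simp⟩
        mul_mem' := fun {u v} hu hv => ⟨hu.1.mul hM.toHyp hv.1, by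
          rw [mul_mem_hyp_iff hM.toHyp hp.1 hu.1 hv.1, mul_mem_hyp_iff hM.toHyp hs.1 hu.1 hv.1,
            hu.2, hv.2]⟩
        inv_mem' := fun {u} hu => by
          have h : u⁻¹ = u := hu.1.inv
          show Inv H u⁻¹ ∧ (u⁻¹ ∈ F ↔ u⁻¹ ∈ F2)
          rw [h]; exact hu }
    have haF' : a ∉ F' := fun h => haF2 (h.2.1 haF)
    have hF'hyp : IsHyp H F' := by
      refine ⟨fun v hv => hv.1, ⟨a, haI, haF'⟩, fun u v hu hv hu' hv' => ?_⟩
      refine ⟨hu.mul hM.toHyp hv, ?_⟩
      rw [mul_mem_hyp_iff hM.toHyp hp.1 hu hv, mul_mem_hyp_iff hM.toHyp hs.1 hu hv]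
      have h1 : ¬ (u ∈ F ↔ u ∈ F2) := fun h => hu' ⟨hu, h⟩
      have h2 : ¬ (v ∈ F ↔ v ∈ F2) := fun h => hv' ⟨hv, h⟩
      tauto
    have hg' : Gen H F' y' := gen_of_mem_oc hM hBI hF'hyp hy' fun f hf =>
      commute_of_parts hM habI (by
        by_cases h2 : f ∈ F
        · exact Or.inr ⟨h2, hf.2.1 h2⟩
        · have h2' : f ∉ F2 := fun h => h2 (hf.2.2 h)
          refine Or.inl ⟨?_, ?_⟩
          · show f * (a * b) ∈ F
            rw [mul_mem_hyp_iff hM.toHyp hp.1 hf.1 habI, mul_mem_hyp_iff hM.toHyp hp.1 haI hbI]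
            tauto
          · show f * (a * b) ∈ F2
            rw [mul_mem_hyp_iff hM.toHyp hs.1 hf.1 habI, mul_mem_hyp_iff hM.toHyp hs.1 haI hbI]
            tauto)
        (hOB y' hy') hy'ab
    have hr : Triv H (value ((F', y') :: ((F, y1) :: rest) ++ [q])) := by
      refine triv_ends hM (show F' ≠ q.1 from fun h => haF' (by rw [h, ← hne]; exact haF)) hg' hq
        (IH (rest.length + 2) (by omega) _ (by simp) ?_)
        (IH (rest.length + 2) (by omega) _ (by simp) ?_)
      · intro r hr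
        rcases List.mem_append.1 hr with h | h
        · rcases List.mem_cons.1 h with rfl | h
          exacts [hg1, hrest r h]
        · rw [List.mem_singleton.1 h]; exact hq
      · intro r hr
        rcases List.mem_cons.1 hr with rfl | h
        · exact hg'
        rcases List.mem_cons.1 h with rfl | h
        exacts [hg1, hrest r h]
    have hweq : w = c * y2 * value ((F', y') :: ((F, y1) :: rest) ++ [q]) := by
      rw [hw]
      simp only [value, List.cons_append, List.map_cons, List.prod_cons]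
      rw [← mul_assoc x, hxo, hoeq]
      group
    refine triv_of_two_hyp hM.toHyp hp.1 hs.1 hps hwF fun f hf => ?_
    show Fix w f
    rw [hweq, fix_mul_left (hg2.2.1 f hf)]
    exact hr f (hs.1.1 f hf)

/-- The subgroup generated by the generators. -/
def gamma (H : Subgroup G) : Subgroup G := closure {x | ∃ F, Gen H F x}

omit [Finite G] in
theorem exists_word [Finite G] {x : G} (hx : x ∈ gamma H) : ∃ l, Good H l ∧ value l = x := by
  induction hx using closure_induction with
  | mem x hx =>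
    obtain ⟨F, hF⟩ := hx
    exact ⟨[(F, x)], by simpa [Good] using hF, by simp [value]⟩
  | one => exact ⟨[], by simp [Good], by simp [value]⟩
  | mul x y _ _ hx hy =>
    obtain ⟨l, hl, rfl⟩ := hx
    obtain ⟨m, hm, rfl⟩ := hy
    exact ⟨l ++ m, fun r hr => (List.mem_append.1 hr).elim (hl r) (hm r), by simp [value]⟩
  | inv x _ hx =>
    obtain ⟨l, hl, rfl⟩ := hx
    refine ⟨(l.map fun p => (p.1, p.2⁻¹)).reverse, fun r hr => ?_, ?_⟩
    · rw [List.mem_reverse, List.mem_map] at hr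
      obtain ⟨p, hp, rfl⟩ := hr
      exact ⟨(hl p hp).1, fun f hf => ((hl p hp).2.1 f hf).inv_left, triv_inv (hl p hp).2.2⟩
    · simp [value, List.prod_inv_reverse, List.map_reverse, List.map_map, Function.comp_def]

include hM in
theorem mem_gamma_of_commute {R : Subgroup G} (hR : Odd (Nat.card R))
    (hn : ∀ v, Inv H v → ∀ y ∈ R, v * y * v⁻¹ ∈ R) : ∀ (k : ℕ) (B : Subgroup G),
    Nat.card G - Nat.card B = k → (∀ f ∈ B, Inv H f) → (∃ a, Inv H a ∧ a ∉ B) →
    ∀ x ∈ R, (∀ f ∈ B, Commute x f) → x ∈ gamma H := by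
  intro k
  induction k using Nat.strong_induction_on with
  | _ k IH =>
    intro B hk hB ⟨a, ha, haB⟩ x hxR hxB
    by_cases hhyp : IsHyp H B
    · exact subset_closure ⟨B, hhyp, hxB, triv_of_mem_odd hM.toHyp hR hn hxR⟩
    obtain ⟨u, v, hu, hv, huB, hvB, huv⟩ :
        ∃ u v, Inv H u ∧ Inv H v ∧ u ∉ B ∧ v ∉ B ∧ u * v ∉ B := by
      by_contra h
      push Not at h
      exact hhyp ⟨hB, ⟨a, ha, haB⟩, fun u v hu hv h1 h2 => h u v hu hv h1 h2⟩
    set R' := R ⊓ centralizer (B : Set G)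
    have hR'odd : Odd (Nat.card R') := hR.of_dvd_nat (card_dvd_of_le inf_le_left)
    have hR'n : ∀ w, Inv H w → ∀ y ∈ R', w * y * w ∈ R' := by
      intro w hw y hy
      rw [← conj_inv hw]
      exact mem_inf.2 ⟨hn w hw y hy.1, mul_mem (mul_mem (le_centralizer hM hB hw.1) (mem_inf.1 hy).2)
        (inv_mem (le_centralizer hM hB hw.1))⟩
    obtain ⟨c, hcR, d, hd, w, hw, hcu, hdv, hwuv, rfl⟩ :=
      four_split hR'odd hu.2 hv.2 (commute_H hM.toHyp hu.1 hv.1).eq (hR'n u hu) (hR'n v hv)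
        (show x ∈ R' from ⟨hxR, mem_centralizer_iff.2 fun f hf => (hxB f hf).eq.symm⟩)
    have step : ∀ i, Inv H i → i ∉ B → ∀ j, Inv H j → j ∉ B → j * i ∉ B →
        ∀ y ∈ R', Commute y i → y ∈ gamma H := by
      intro i hi hiB j hj hjB hji y hy hyi
      let Bi : Subgroup G :=
        { carrier := {f | Inv H f ∧ (f ∈ B ∨ f * i ∈ B)}
          one_mem' := ⟨⟨one_mem H, mul_one 1⟩, Or.inl (one_mem B)⟩
          mul_mem' := fun {f g} hf hg => ⟨hf.1.mul hM.toHyp hg.1, by
            have hfg : f * i * g = f * g * i := by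
              rw [mul_assoc, (commute_H hM.toHyp hi.1 hg.1.1).eq, ← mul_assoc]
            rcases hf.2 with h1 | h1 <;> rcases hg.2 with h2 | h2
            · exact Or.inl (mul_mem h1 h2)
            · exact Or.inr (by rw [mul_assoc]; exact mul_mem h1 h2)
            · exact Or.inr (hfg ▸ mul_mem h1 h2)
            · refine Or.inl ?_
              have := mul_mem h1 h2
              rwa [show f * i * (g * i) = f * i * g * i by group, hfg, mul_assoc, hi.2, mul_one] at this⟩
          inv_mem' := fun {f} hf => by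
            have h : f⁻¹ = f := hf.1.inv
            show Inv H f⁻¹ ∧ (f⁻¹ ∈ B ∨ f⁻¹ * i ∈ B)
            rw [h]; exact hf }
      have hlt : B < Bi := by
        refine lt_of_le_of_ne (fun f hf => ⟨hB f hf, Or.inl hf⟩) fun h => hiB ?_
        rw [h]
        exact ⟨hi, Or.inr (by rw [hi.2]; exact one_mem B)⟩
      have hcard : Nat.card B < Nat.card Bi := by
        refine lt_of_le_of_ne (card_le_of_le hlt.le) fun h => hlt.ne ?_
        exact eq_of_le_of_card_ge hlt.le h.ge
      refine IH _ ?_ Bi rfl (fun f hf => hf.1)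
        ⟨j, hj, fun h => h.2.elim hjB hji⟩ y hy.1 fun f hf =>
          commute_of_parts hM hi hf.2.symm (fun v hv' => (mem_centralizer_iff.1 hy.2 v hv').symm) hyi
      have := Bi.card_le_card_group
      omega
    have hvu : v * u ∉ B := by rwa [(commute_H hM.toHyp hv.1 hu.1).eq]
    refine mul_mem (mul_mem ?_ ?_) ?_
    · exact step u hu huB v hv hvB hvu c hcR hcu
    · exact step v hv hvB u hu huB huv d hd hdv
    · refine step (u * v) (hu.mul hM.toHyp hv) huv u hu huB ?_ w hw hwuv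
      rwa [← mul_assoc, hu.2, one_mul]

include hM in
theorem absurd_min : False := by
  haveI : Fact (Nat.Prime 2) := ⟨Nat.prime_two⟩
  set N := normalizer (H : Set G) with hN
  have hH1 : H ≠ ⊥ := by
    rintro rfl
    exact hM.ne (normalizer_eq_top_iff.2 inferInstance)
  have heven : 2 ∣ Nat.card H := by
    obtain ⟨k, hk⟩ := IsPGroup.iff_card.1 hM.two
    rcases k with _ | k
    · rw [pow_zero] at hk; exact absurd (eq_bot_of_card_eq H hk) hH1
    · exact hk ▸ dvd_pow_self 2 k.succ_ne_zero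
  obtain ⟨v, hv⟩ := exists_prime_orderOf_dvd_card' (G := H) 2 heven
  rw [← Subgroup.orderOf_coe] at hv
  have hvI : Inv H v := ⟨v.2, by rw [← pow_two, ← hv, pow_orderOf_eq_one]⟩
  have hv1 : (v : G) ≠ 1 := fun h => by rw [h, orderOf_one] at hv; omega
  have hgG : ∀ g : G, ∃ o ∈ gamma H, ∃ n ∈ N, g = o * n := by
    intro g
    obtain ⟨o, ho, n, hn, rfl⟩ := decomp hM.toHyp g
    exact ⟨o, mem_gamma_of_commute hM oc_odd (pair_normalized _) _ ⊥ rfl
      (fun f hf => by rw [mem_bot.1 hf]; exact ⟨one_mem H, mul_one 1⟩)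
      ⟨v, hvI, by simpa using hv1⟩ o ho (fun f hf => by rw [mem_bot.1 hf]; exact Commute.one_right o),
      n, hn, rfl⟩
  have hNΓ : ∀ n ∈ N, ∀ x ∈ gamma H, n * x * n⁻¹ ∈ gamma H := by
    intro n hn x hx
    have hle : gamma H ≤ (gamma H).comap (MulAut.conj n).toMonoidHom := by
      refine (closure_le _).2 ?_
      rintro y ⟨F, hF, hyF, hyt⟩
      refine subset_closure ⟨F.map (MulAut.conj n).toMonoidHom, ⟨?_, ?_, ?_⟩, ?_, ?_⟩
      · rintro _ ⟨f, hf, rfl⟩; exact (hF.1 f hf).conj hn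
      · obtain ⟨e, he, heF⟩ := hF.2.1
        refine ⟨n * e * n⁻¹, he.conj hn, ?_⟩
        rintro ⟨f, hf, hfe⟩
        exact heF ((MulAut.conj n).injective (show MulAut.conj n f = MulAut.conj n e from hfe) ▸ hf)
      · intro u w hu hw huF hwF
        have key : ∀ t, t ∈ F.map (MulAut.conj n).toMonoidHom ↔ n⁻¹ * t * n ∈ F := fun t => by
          constructor
          · rintro ⟨f, hf, rfl⟩; simpa [mul_assoc] using hf
          · exact fun h => ⟨_, h, by simp [mul_assoc]⟩
        rw [key] at huF hwF ⊢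
        have hconj : ∀ {t}, Inv H t → Inv H (n⁻¹ * t * n) := fun {t} ht => by
          simpa using ht.conj (inv_mem hn)
        have h := hF.2.2 _ _ (hconj hu) (hconj hw) huF hwF
        rwa [show n⁻¹ * u * n * (n⁻¹ * w * n) = n⁻¹ * (u * w) * n by group] at h
      · rintro _ ⟨f, hf, rfl⟩; exact (hyF f hf).map (MulAut.conj n).toMonoidHom
      · intro e he
        have h := hyt _ (by simpa using he.conj (inv_mem hn) : Inv H (n⁻¹ * e * n))
        rw [Fix, ← orderOf_conj' n] at h
        rw [Fix]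
        convert h using 2
        simp [mul_assoc]
    exact hle hx
  haveI hΓn : (gamma H).Normal := ⟨fun x hx g => by
    obtain ⟨o, ho, n, hn, rfl⟩ := hgG g
    rw [show o * n * x * (o * n)⁻¹ = o * (n * x * n⁻¹) * o⁻¹ by group]
    exact mul_mem (mul_mem ho (hNΓ n hn x hx)) (inv_mem ho)⟩
  let CN : Subgroup G := N ⊓ centralizer {e | Inv H e}
  have hHCN : H ≤ CN := fun x hx =>
    ⟨le_normalizer hx, mem_centralizer_iff.2 fun e he => (commute_H hM.toHyp he.1 hx).eq⟩
  have hnormal : (gamma H ⊔ CN).Normal := ⟨fun x hx g => by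
    obtain ⟨o, ho, n, hn, rfl⟩ := hgG g
    obtain ⟨γ, hγ, c, hc, rfl⟩ := mem_sup_of_normal_left.1 hx
    rw [show o * n * (γ * c) * (o * n)⁻¹ = o * (n * γ * n⁻¹) * (n * c * n⁻¹) * o⁻¹ by group]
    refine mul_mem (mul_mem (mul_mem (mem_sup_left ho) (mem_sup_left (hNΓ n hn γ hγ)))
      (mem_sup_right (mem_inf.2 ⟨mul_mem (mul_mem hn (mem_inf.1 hc).1) (inv_mem hn),
        mem_centralizer_iff.2 fun e he => ?_⟩)))
      (inv_mem (mem_sup_left ho))
    have h := mem_centralizer_iff.1 hc.2 (n⁻¹ * e * n) (by simpa using he.conj (inv_mem hn))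
    calc e * (n * c * n⁻¹) = n * ((n⁻¹ * e * n) * c) * n⁻¹ := by group
      _ = n * (c * (n⁻¹ * e * n)) * n⁻¹ := by rw [h]
      _ = n * c * n⁻¹ * e := by group⟩
  have htop := eq_top_of_normal hM hnormal (hHCN.trans le_sup_right)
  obtain ⟨n, hn, hnv⟩ := exists_moving hM hvI hv1
  have hmem : n ∈ gamma H ⊔ CN := htop ▸ mem_top n
  obtain ⟨γ, hγ, c, hc, rfl⟩ := mem_sup_of_normal_left.1 hmem
  refine hnv (Commute.mul_left ?_ (mem_centralizer_iff.1 hc.2 v hvI).symm)
  have hγN : γ ∈ N := by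
    have := mul_mem hn (inv_mem hc.1)
    rwa [mul_inv_cancel_right] at this
  obtain ⟨l, hl, rfl⟩ := exists_word hγ
  exact (fix_normalizer_iff hM.toHyp hγN hvI).1 (triv_value hM l.length l rfl hl v hvI)

end Setting

section Induction

variable {G : Type u} [Group G] [Finite G] {H : Subgroup G}

/-- An element normalizing the image of `H` decomposes over `H ⊔ Q`. -/
theorem decomp_quotient (hH : Hyp H) (Q : Subgroup G) [Q.Normal] {k : G}
    (hk : QuotientGroup.mk' Q k ∈ normalizer ((H.map (QuotientGroup.mk' Q) : Subgroup (G ⧸ Q)) : Set (G ⧸ Q))) :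
    ∃ o ∈ oc (pair H k), o ∈ H ⊔ Q ∧ ∃ n ∈ normalizer (H : Set G), k = o * n := by
  obtain ⟨o, ho, n, hn, hkn⟩ := decomp hH k
  refine ⟨o, ho, ?_, n, hn, hkn⟩
  have hle : pair H k ≤ H ⊔ Q := by
    refine sup_le le_sup_left ?_
    rintro _ ⟨x, hx, rfl⟩
    have h1 := (mem_normalizer_iff.1 hk _).1 ⟨x, hx, rfl⟩
    rw [← map_inv, ← map_mul, ← map_mul] at h1
    have h2 : k * x * k⁻¹ ∈ (H.map (QuotientGroup.mk' Q)).comap (QuotientGroup.mk' Q) := h1
    rwa [comap_map_eq, QuotientGroup.ker_mk'] at h2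
  exact hle (oc_le ho)

theorem hyp_quotient (hH : Hyp H) (Q : Subgroup G) [Q.Normal] :
    Hyp (H.map (QuotientGroup.mk' Q)) := by
  set π := QuotientGroup.mk' Q
  refine ⟨hH.two.map π, ⟨⟨fun x y => ?_⟩⟩, fun gb => ?_⟩
  · obtain ⟨_, a, ha, rfl⟩ := x
    obtain ⟨_, b, hb, rfl⟩ := y
    refine Subtype.ext ?_
    change π a * π b = π b * π a
    rw [← map_mul, ← map_mul, (commute_H hH ha hb).eq]
  refine le_antisymm ?_ (le_inf le_sup_left le_normalizer)
  obtain ⟨g, rfl⟩ := QuotientGroup.mk'_surjective Q gb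
  have hpair : H.map π ⊔ (H.map π).map (MulAut.conj (π g)).toMonoidHom = (pair H g).map π := by
    rw [pair, Subgroup.map_sup, map_map, map_map]
    congr 2
  intro xb hxb
  rw [hpair] at hxb
  obtain ⟨⟨k, hk, rfl⟩, hkN⟩ := hxb
  obtain ⟨o, ho, hoQ, n, hn, rfl⟩ := decomp_quotient hH Q hkN
  have hle : pair H (o * n) ≤ pair H g := by
    refine sup_le le_sup_left ?_
    rintro _ ⟨x, hx, rfl⟩
    exact mul_mem (mul_mem hk (mem_sup_left hx)) (inv_mem hk)
  have hnH : n ∈ H := by
    refine (hH.closed g).le ⟨?_, hn⟩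
    have := mul_mem (inv_mem (hle (oc_le ho))) hk
    rwa [inv_mul_cancel_left] at this
  have hmem : o * n ∈ H ⊔ Q := mul_mem hoQ (mem_sup_left hnH)
  have : π (o * n) ∈ (H ⊔ Q).map π := ⟨_, hmem, rfl⟩
  rwa [Subgroup.map_sup, show Q.map π = ⊥ from QuotientGroup.map_mk'_self Q, sup_bot_eq] at this

theorem hyp_subgroupOf (hH : Hyp H) {L : Subgroup G} (hL : H ≤ L) : Hyp (H.subgroupOf L) := by
  refine ⟨hH.two.of_equiv (subgroupOfEquivOfLe hL).symm,
    ⟨⟨fun x y => Subtype.ext (Subtype.ext (commute_H hH x.2 y.2).eq)⟩⟩, fun g => ?_⟩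
  refine le_antisymm ?_ (le_inf le_sup_left le_normalizer)
  rintro x ⟨hx1, hx2⟩
  refine (hH.closed (g : G)).le ⟨?_, ?_⟩
  · have hle : (H.subgroupOf L ⊔ (H.subgroupOf L).map (MulAut.conj g).toMonoidHom).map L.subtype ≤
        pair H (g : G) := by
      rw [Subgroup.map_sup]
      refine sup_le ?_ ?_
      · rintro _ ⟨y, hy, rfl⟩; exact mem_sup_left hy
      · rintro _ ⟨_, ⟨y, hy, rfl⟩, rfl⟩; exact mem_sup_right ⟨y, hy, rfl⟩
    exact hle ⟨x, hx1, rfl⟩
  · refine mem_normalizer_iff.2 fun y => ⟨fun hy => (mem_normalizer_iff.1 hx2 ⟨y, hL hy⟩).1 hy,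
      fun hy => ?_⟩
    have hyL : y ∈ L := by
      have := mul_mem (mul_mem (inv_mem x.2) (hL hy)) x.2
      simpa [mul_assoc] using this
    exact (mem_normalizer_iff.1 hx2 ⟨y, hyL⟩).2 hy

end Induction

theorem main_aux : ∀ (n : ℕ) (G : Type u) [Group G] [Finite G], Nat.card G = n →
    ∀ H : Subgroup G, Hyp H → normalizer (H : Set G) ⊔ Cfsg.oddCore G = ⊤ := by
  intro n
  induction n using Nat.strong_induction_on with
  | _ n IH =>
    intro G _ _ hG H hH
    haveI hOn : (Cfsg.oddCore G).Normal := ZStar.oddCore_normal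
    by_cases hO : Cfsg.oddCore G = ⊥
    swap
    · set O := Cfsg.oddCore G
      have hlt : Nat.card (G ⧸ O) < n := by
        have h1 := card_eq_card_quotient_mul_card_subgroup O
        have h2 : 1 < Nat.card O := by
          haveI := (Subgroup.nontrivial_iff_ne_bot O).2 hO
          exact Finite.one_lt_card
        have h3 : 0 < Nat.card (G ⧸ O) := Nat.card_pos
        calc Nat.card (G ⧸ O) = Nat.card (G ⧸ O) * 1 := (mul_one _).symm
          _ < Nat.card (G ⧸ O) * Nat.card O := Nat.mul_lt_mul_of_pos_left h2 h3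
          _ = n := by rw [← h1, hG]
      have hN := IH _ hlt (G ⧸ O) rfl _ (hyp_quotient hH O)
      rw [ZStar.oddCore_quotient, sup_bot_eq] at hN
      refine eq_top_iff.2 fun g _ => ?_
      obtain ⟨o, -, ho, m, hm, rfl⟩ := decomp_quotient hH O (k := g) (hN ▸ mem_top _)
      exact mul_mem (sup_le_sup_right le_normalizer O ho) (mem_sup_left hm)
    rw [hO, sup_bot_eq]
    by_contra hne
    by_cases hcen : ∃ v ∈ H, v * v = 1 ∧ v ≠ 1 ∧ ∀ g, g * v = v * g
    · obtain ⟨v, hvH, hv2, hv1, hvc⟩ := hcen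
      have hvo : orderOf v = 2 := orderOf_eq_prime (by rw [pow_two, hv2]) hv1
      have hzc : v ∈ center G := Subgroup.mem_center_iff.2 hvc
      haveI hZ : (zpowers v).Normal :=
        ⟨fun x hx g => by
          rwa [Subgroup.mem_center_iff.1 (zpowers_le.2 hzc hx) g, mul_inv_cancel_right]⟩
      have hlt : Nat.card (G ⧸ zpowers v) < n := by
        have h1 := card_eq_card_quotient_mul_card_subgroup (zpowers v)
        rw [Nat.card_zpowers, hvo, hG] at h1
        have h3 : 0 < Nat.card (G ⧸ zpowers v) := Nat.card_pos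
        omega
      have hN := IH _ hlt (G ⧸ zpowers v) rfl _ (hyp_quotient hH (zpowers v))
      have hbot : Cfsg.oddCore (G ⧸ zpowers v) = ⊥ := ZStar.oddCore_quotient_central hO hvo hzc
      rw [hbot, sup_bot_eq] at hN
      refine hne (eq_top_iff.2 fun g _ => ?_)
      obtain ⟨o, -, ho, m, hm, rfl⟩ :=
        decomp_quotient hH (zpowers v) (k := g) (hN ▸ mem_top _)
      rw [sup_eq_left.2 (zpowers_le.2 hvH)] at ho
      exact mul_mem (le_normalizer ho) hm
    refine absurd_min (H := H) ⟨hH, hne, fun R hR hodd => ?_, fun L hL hHL x hx => ?_, fun v hv hv2 hv1 => ?_⟩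
    · exact le_bot_iff.1 (hO ▸ ZStar.le_oddCore hR hodd)
    · have hlt : Nat.card L < n := hG ▸ lt_of_le_of_ne L.card_le_card_group
        fun h => hL (eq_top_of_card_eq L h)
      have hN := IH _ hlt L rfl _ (hyp_subgroupOf hH hHL)
      haveI : (Cfsg.oddCore L).Normal := ZStar.oddCore_normal
      have hx' : (⟨x, hx⟩ : L) ∈ normalizer ((H.subgroupOf L : Subgroup L) : Set L) ⊔ Cfsg.oddCore L :=
        hN ▸ mem_top _
      obtain ⟨m, hm, o, ho, hmo⟩ := mem_sup_of_normal_right.1 hx'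
      refine ⟨m, ?_, o, ⟨o, ho, rfl⟩, m.2, (congrArg Subtype.val hmo).symm⟩
      refine mem_normalizer_iff.2 fun y => ⟨fun hy => (mem_normalizer_iff.1 hm ⟨y, hHL hy⟩).1 hy,
        fun hy => ?_⟩
      have hyL : y ∈ L := by
        have := mul_mem (mul_mem (inv_mem m.2) (hHL hy)) m.2
        simpa [mul_assoc] using this
      exact (mem_normalizer_iff.1 hm ⟨y, hyL⟩).2 hy
    · by_contra hc
      push Not at hc
      exact hcen ⟨v, hv, hv2, hv1, hc⟩

/-- An extremely closed abelian 2-subgroup is normal modulo the odd core. -/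
theorem main {G : Type u} [Group G] [Finite G] (H : Subgroup G) (h2 : IsPGroup 2 H)
    (hab : IsMulCommutative H) (hcl : Cfsg.IsExtremelyClosed H) :
    normalizer (H : Set G) ⊔ Cfsg.oddCore G = ⊤ :=
  main_aux _ G rfl H ⟨h2, hab, hcl⟩

end CfsgLib.LocalEvenB.ExtremelyClosed
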