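import Cfsg.Prelude.Def_SylowChains
import Cfsg.Agent.Lib.LocalEven.StronglyEmbedded

/-!
The Sylow intersection graph and strongly `p`-embedded subgroups (classical form).
-/

set_option autoImplicit false
set_option linter.unusedSectionVars false

namespace CfsgLib.LocalEvenB.SylowGraph

open Cfsg CfsgLib.LocalEven.StronglyEmbedded
open scoped Pointwise

variable {G : Type*} [Group G] [Finite G] {p : ℕ} [Fact p.Prime]

def Adj (P Q : Sylow p G) : Prop := P ≠ Q ∧ (P : Subgroup G) ⊓ (Q : Subgroup G) ≠ ⊥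

abbrev Conn (P Q : Sylow p G) : Prop := Relation.ReflTransGen Adj P Q

theorem smul_ne_bot {g : G} {P Q : Sylow p G} (h : (P : Subgroup G) ⊓ (Q : Subgroup G) ≠ ⊥) :
    ((g • P : Sylow p G) : Subgroup G) ⊓ ((g • Q : Sylow p G) : Subgroup G) ≠ ⊥ := by
  rw [Sylow.smul_def, Sylow.smul_def, Sylow.pointwise_smul_def, Sylow.pointwise_smul_def,
    ← Subgroup.smul_inf]
  intro e
  exact h (by simpa using congrArg (fun X => (MulAut.conj g)⁻¹ • X) e)

theorem Conn.smul {P Q : Sylow p G} (h : Conn P Q) (g : G) : Conn (g • P) (g • Q) := by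
  induction h with
  | refl => exact Relation.ReflTransGen.refl
  | tail _ hbc ih => exact ih.tail ⟨fun e => hbc.1 (smul_left_cancel g e), smul_ne_bot hbc.2⟩

theorem exists_chain {P Q : Sylow p G} (h : Conn P Q) :
    ∃ (n : ℕ) (c : Fin (n + 1) → Sylow p G), c 0 = P ∧ c (Fin.last n) = Q ∧
      ∀ i : Fin n, Adj (c i.castSucc) (c i.succ) := by
  induction h with
  | refl => exact ⟨0, fun _ => P, rfl, rfl, fun i => i.elim0⟩
  | @tail b c _ hbc ih =>
    obtain ⟨n, d, h0, hl, hstep⟩ := ih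
    refine ⟨n + 1, Fin.snoc d c, ?_, Fin.snoc_last _ _, fun i => ?_⟩
    · rw [← Fin.castSucc_zero, Fin.snoc_castSucc, h0]
    · refine Fin.lastCases ?_ (fun j => ?_) i
      · rw [Fin.snoc_castSucc, Fin.succ_last, Fin.snoc_last, hl]; exact hbc
      · rw [Fin.snoc_castSucc, Fin.succ_castSucc, Fin.snoc_castSucc]; exact hstep j

theorem connected_iff : IsSylowChainConnected p G ↔ ∀ P Q : Sylow p G, Conn P Q := by
  constructor
  · intro h P Q
    obtain ⟨n, c, h0, hl, -, hstep⟩ := h P Q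
    have : ∀ i : Fin (n + 1), Conn P (c i) := by
      intro i
      induction i using Fin.induction with
      | zero => rw [h0]
      | succ i ih => exact ih.tail (hstep i)
    exact hl ▸ this _
  · intro h P Q
    by_cases hPQ : (P : Subgroup G) ⊓ (Q : Subgroup G) = ⊥
    · obtain ⟨n, c, h0, hl, hstep⟩ := exists_chain (h P Q)
      exact ⟨n, c, h0, hl, fun i => hPQ ▸ bot_le, hstep⟩
    · rcases eq_or_ne P Q with rfl | hne
      · exact ⟨0, fun _ => P, rfl, rfl, fun _ => inf_le_left, fun i => i.elim0⟩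
      · refine ⟨1, ![P, Q], rfl, rfl, fun i => ?_, fun i => ?_⟩
        · fin_cases i
          · exact inf_le_left
          · exact inf_le_right
        · fin_cases i
          exact ⟨hne, hPQ⟩

theorem exists_spe_of_disconnected (h : ¬ IsSylowChainConnected p G) :
    ∃ H : Subgroup G, H ≠ ⊤ ∧ p ∣ Nat.card H ∧
      ∀ g : G, g ∉ H → ¬ p ∣ Nat.card ↥(H ⊓ H.map (MulAut.conj g).toMonoidHom) := by
  rw [connected_iff] at h
  push_neg at h
  obtain ⟨S, T, hST⟩ := h
  let M : Submonoid G :=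
    { carrier := {g | Conn S (g • S)}
      one_mem' := by show Conn S ((1 : G) • S); rw [one_smul]
      mul_mem' := fun {a b} ha hb => by
        show Conn S ((a * b) • S)
        rw [mul_smul]
        exact Relation.ReflTransGen.trans ha (Conn.smul hb a) }
  let H : Subgroup G :=
    { M with
      inv_mem' := fun {a} ha => by
        rw [← zpow_neg_one]
        obtain ⟨n, hn⟩ : ∃ n : ℕ, a ^ (n : ℤ) = a ^ (-1 : ℤ) := by
          refine ⟨orderOf a - 1, ?_⟩
          rw [zpow_natCast, zpow_neg_one, eq_inv_iff_mul_eq_one, ← pow_succ,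
            Nat.sub_add_cancel (orderOf_pos a), pow_orderOf_eq_one]
        rw [← hn, zpow_natCast]
        exact pow_mem (show a ∈ M from ha) n }
  have hmem : ∀ g : G, g ∈ H ↔ Conn S (g • S) := fun _ => Iff.rfl
  have hSH : (S : Subgroup G) ≤ H := fun s hs => by
    rw [hmem, Sylow.smul_eq_iff_mem_normalizer.mpr (Subgroup.le_normalizer hs)]
  have hne : (S : Subgroup G) ≠ ⊥ := fun hb => by
    refine hST ?_
    obtain ⟨g, rfl⟩ := MulAction.exists_smul_eq G S T
    have hgn : g ∈ Subgroup.normalizer ((S : Subgroup G) : Set G) := by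
      rw [hb, Subgroup.normalizer_eq_top]; exact Subgroup.mem_top g
    rw [Sylow.smul_eq_iff_mem_normalizer.mpr hgn]
  obtain ⟨x0, hx0, hx0p⟩ := exists_order_p S.2 hne
  refine ⟨H, fun htop => ?_, hx0p ▸ Subgroup.orderOf_dvd_natCard _ (hSH hx0), fun g hg hdv => hg ?_⟩
  · obtain ⟨g, rfl⟩ := MulAction.exists_smul_eq G S T
    exact hST ((hmem g).mp (htop ▸ Subgroup.mem_top g))
  have claim : ∀ y ∈ H, orderOf y = p → ∀ P : Sylow p G, y ∈ (P : Subgroup G) → Conn S P := by
    intro y hy hyp P hyP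
    obtain ⟨U, hU⟩ := ((isPGroup_zpowers' hyp).of_equiv
      (Subgroup.subgroupOfEquivOfLe (Subgroup.zpowers_le.mpr hy)).symm).exists_le_sylow
    obtain ⟨k, rfl⟩ := MulAction.exists_smul_eq H (S.subtype hSH) U
    rw [Sylow.smul_subtype hSH] at hU
    have hyk : y ∈ (((k : G) • S : Sylow p G) : Subgroup G) :=
      Subgroup.mem_subgroupOf.mp (hU (x := ⟨y, hy⟩) (Subgroup.mem_zpowers y))
    refine Relation.ReflTransGen.trans (show Conn S ((k : G) • S) from k.2) ?_
    rcases eq_or_ne ((k : G) • S) P with e | e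
    · rw [e]
    · exact Relation.ReflTransGen.single ⟨e, fun hb => ne_one_of_order_p hyp
        (Subgroup.mem_bot.mp (hb ▸ Subgroup.mem_inf.mpr ⟨hyk, hyP⟩))⟩
  obtain ⟨x, hxp⟩ := exists_prime_orderOf_dvd_card'
    (G := ↥(H ⊓ H.map (MulAut.conj g).toMonoidHom)) p hdv
  obtain ⟨z, hz, hzx⟩ := x.2.2
  have hzp : orderOf z = p := by
    rw [← hxp, ← Subgroup.orderOf_coe x, ← hzx]
    exact (MulEquiv.orderOf_eq (MulAut.conj g) z).symm
  obtain ⟨P, hP⟩ := (isPGroup_zpowers' hzp).exists_le_sylow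
  have h1 := claim z hz hzp P (hP (Subgroup.mem_zpowers z))
  have h2 : Conn S (g • P) := by
    refine claim x x.2.1 (by rw [Subgroup.orderOf_coe, hxp]) _ ?_
    rw [← hzx]
    exact ⟨z, hP (Subgroup.mem_zpowers z), rfl⟩
  have hsymm : ∀ a b : Sylow p G, Adj a b → Adj b a := fun a b hab =>
    ⟨hab.1.symm, by rw [inf_comm]; exact hab.2⟩
  rw [hmem]
  exact Relation.ReflTransGen.trans h2
    (by
      haveI : Std.Symm (Adj (p := p) (G := G)) := ⟨hsymm⟩
      exact Std.Symm.symm _ _ (Conn.smul h1 g))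

theorem disconnected_of_spe {H : Subgroup G} (hH : H ≠ ⊤) (hdvd : p ∣ Nat.card H)
    (hse : ∀ g : G, g ∉ H → ¬ p ∣ Nat.card ↥(H ⊓ H.map (MulAut.conj g).toMonoidHom)) :
    ¬ IsSylowChainConnected p G := by
  rw [connected_iff]
  intro hconn
  have hs := (spe_iff_classical hH hdvd).mpr hse
  obtain ⟨T, hT, hne, -⟩ := spe_basic hs
  obtain ⟨g, hg⟩ : ∃ g, g ∉ H := by
    by_contra hc
    push_neg at hc
    exact hH (eq_top_iff.mpr fun g _ => hc g)
  have hall : ∀ P : Sylow p G, Conn T P → (P : Subgroup G) ≤ H := by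
    intro P hP
    induction hP with
    | refl => exact hT
    | @tail b c _ hbc ih =>
      refine pgroup_le (fun A hA hAp hA1 => spe_normalizer_le hs hA hAp hA1) c.2 fun hb => hbc.2 ?_
      rw [inf_comm]
      exact eq_bot_mono (inf_le_inf le_rfl ih) hb
  obtain ⟨y, hy, hyp⟩ := exists_order_p T.2 hne
  refine hg (spe_move hs (hT hy) hyp (hall (g • T) (hconn _ _) ?_))
  exact ⟨y, hy, rfl⟩

end CfsgLib.LocalEvenB.SylowGraph
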