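import Cfsg.Prelude.Def_SylowChains
import Cfsg.Agent.Lib.Components.Goldschmidt
import Cfsg.Agent.Lib.LocalEvenB.SylowGraph
import Cfsg.Agent.Lib.Coprime.Generation
import Cfsg.Agent.Lib.Solvable.FrattiniFitting

/-!
The strong form of the Alperin–Goldschmidt fusion theorem.
-/

set_option autoImplicit false
set_option linter.style.haveILetI false
set_option linter.unusedSectionVars false

namespace CfsgLib.LocalEvenB.StrongFusion

open Cfsg Subgroup CfsgLib.Solvable CfsgLib.Fusion.Alperin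
open CfsgLib.LocalEven.StronglyEmbedded
open scoped commutatorElement Pointwise

variable {G : Type*} [Group G] [Finite G] {p : ℕ} [Fact p.Prime]

/-! ### Groups with disconnected Sylow graph -/

theorem exists_bound_of_disconnected (h : ¬ IsSylowChainConnected p G) (T : Sylow p G) :
    ∃ M : Subgroup G, M ≠ ⊤ ∧
      ∀ A : Subgroup G, A ≤ (T : Subgroup G) → A ≠ ⊥ → normalizer (A : Set G) ≤ M := by
  obtain ⟨H, hH, hdvd, hse⟩ := SylowGraph.exists_spe_of_disconnected h
  have hs := (spe_iff_classical hH hdvd).mpr hse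
  obtain ⟨T0, hT0, -, -⟩ := spe_basic hs
  obtain ⟨g, rfl⟩ := MulAction.exists_smul_eq G T0 T
  refine ⟨rconj g⁻¹ H, fun htop => hH (eq_top_of_card_eq H ?_), fun A hA hA1 => ?_⟩
  · rw [← card_rconj g⁻¹ H, htop, card_top]
  · have hgA : rconj g A ≤ (T0 : Subgroup G) := by
      intro a ha
      rw [mem_rconj] at ha
      obtain ⟨t, ht, hta⟩ := hA ha
      have : t = a := by
        have h1 : g * t * g⁻¹ = g * a * g⁻¹ := hta
        exact mul_left_cancel (mul_right_cancel h1)
      exact this ▸ ht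
    have hgA1 : rconj g A ≠ ⊥ := fun hb => hA1 (by
      have := card_rconj g A
      rw [hb, card_bot] at this
      exact eq_bot_of_card_eq _ this.symm)
    have hle := spe_normalizer_le hs (hgA.trans hT0) (T0.2.to_le hgA) hgA1
    rw [← rconj_normalizer] at hle
    intro a ha
    rw [mem_rconj]
    refine hle ?_
    rw [mem_rconj]
    simpa [mul_assoc] using ha

theorem closure_eq_top_of_connected (h : IsSylowChainConnected p G) (T : Sylow p G)
    (hne : (T : Subgroup G) ≠ ⊥) :
    closure (⋃ A ∈ {A : Subgroup G | A ≤ (T : Subgroup G) ∧ A ≠ ⊥},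
      (normalizer (A : Set G) : Set G)) = ⊤ := by
  set M := closure (⋃ A ∈ {A : Subgroup G | A ≤ (T : Subgroup G) ∧ A ≠ ⊥},
    (normalizer (A : Set G) : Set G))
  by_contra hM
  have hs : IsStronglyPEmbedded p M := spe_of_normalizer_le hM hne fun A hA hA1 n hn =>
    subset_closure (Set.mem_biUnion (show A ∈ {A : Subgroup G | A ≤ (T : Subgroup G) ∧ A ≠ ⊥}
      from ⟨hA, hA1⟩) hn)
  exact SylowGraph.disconnected_of_spe hM (spe_dvd hs) ((spe_iff_classical hM (spe_dvd hs)).mp hs) h

theorem sylow_inf_normal_ne_bot (T : Sylow p G) (A : Subgroup G) [A.Normal]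
    (hA : p ∣ Nat.card A) : (T : Subgroup G) ⊓ A ≠ ⊥ := by
  intro hb
  have h := Fusion.Basic.not_dvd_relIndex_of_normal T A
  rw [hb, relIndex_bot_left] at h
  exact h hA

theorem frattini_factor (T : Sylow p G) (A : Subgroup G) [A.Normal] (x : G) :
    ∃ a ∈ A, ∃ n ∈ normalizer (((T : Subgroup G) ⊓ A : Subgroup G) : Set G), x = a * n := by
  let S : Sylow p A := Fusion.Basic.sylowSubgroupOf (inf_le_right : (T : Subgroup G) ⊓ A ≤ A)
    (T.2.to_le inf_le_left) (Fusion.Basic.not_dvd_relIndex_of_normal T A)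
  have h : normalizer (((S : Subgroup A).map A.subtype : Subgroup G) : Set G) ⊔ A = ⊤ :=
    Sylow.normalizer_sup_eq_top S
  rw [Fusion.Basic.map_sylowSubgroupOf] at h
  have hx : x ∈ ((A : Set G) *
      (normalizer (((T : Subgroup G) ⊓ A : Subgroup G) : Set G) : Set G) : Set G) := by
    rw [← normal_mul, sup_comm, h]; trivial
  obtain ⟨a, ha, n, hn, e⟩ := hx
  exact ⟨a, ha, n, hn, e.symm⟩

theorem exists_central_order_p (T : Sylow p G) (A : Subgroup G) [A.Normal]
    (hA : p ∣ Nat.card A) :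
    ∃ a ∈ A, a ∈ (T : Subgroup G) ∧ orderOf a = p ∧ ∀ t ∈ (T : Subgroup G), a * t = t * a := by
  haveI := T.2.isNilpotent
  set Z := A.subgroupOf (T : Subgroup G) ⊓ center (T : Subgroup G)
  have hne : Z ≠ ⊥ := FrattiniFitting.inf_center_ne_bot _ fun h => sylow_inf_normal_ne_bot T A hA
    (eq_bot_iff.mpr fun z hz => by
      have : (⟨z, hz.1⟩ : (T : Subgroup G)) ∈ A.subgroupOf (T : Subgroup G) := hz.2
      rw [h, mem_bot] at this
      exact congrArg Subtype.val this)
  obtain ⟨a, ha, hao⟩ := exists_order_p (T.2.to_subgroup Z) hne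
  exact ⟨a, ha.1, a.2, by rwa [Subgroup.orderOf_coe],
    fun t ht => (congrArg Subtype.val (mem_center_iff.mp ha.2 ⟨t, ht⟩)).symm⟩

theorem exists_smallest_normal (h : ¬ IsSylowChainConnected p G) (T : Sylow p G)
    (hne : (T : Subgroup G) ≠ ⊥) :
    ∃ X : Subgroup G, X.Normal ∧ p ∣ Nat.card X ∧
      ∀ Y : Subgroup G, Y.Normal → p ∣ Nat.card Y → X ≤ Y := by
  obtain ⟨M, hM, hMN⟩ := exists_bound_of_disconnected h T
  obtain ⟨x0, -, hx0⟩ := exists_order_p T.2 hne
  obtain ⟨X, ⟨hXn, hXp⟩, hXmin⟩ := (Set.toFinite {X : Subgroup G | X.Normal ∧ p ∣ Nat.card X}).exists_minimal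
    ⟨⊤, inferInstance, by rw [card_top]; exact hx0 ▸ orderOf_dvd_natCard x0⟩
  refine ⟨X, hXn, hXp, fun Y hYn hYp => ?_⟩
  by_cases hXY : p ∣ Nat.card (X ⊓ Y : Subgroup G)
  · exact (hXmin ⟨normal_inf_normal X Y, hXY⟩ inf_le_left).trans inf_le_right
  exfalso
  obtain ⟨a0, ha0X, ha0T, ha0, hca⟩ := exists_central_order_p T X hXp
  obtain ⟨b0, hb0Y, hb0T, hb0, -⟩ := exists_central_order_p T Y hYp
  have hnb : b0 ∉ zpowers a0 := fun hb => hXY (hb0 ▸ orderOf_dvd_natCard
    (X ⊓ Y : Subgroup G) (⟨zpowers_le.mpr ha0X hb, hb0Y⟩ : b0 ∈ X ⊓ Y))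
  set C := X ⊓ Y
  haveI : C.Normal := normal_inf_normal X Y
  set V := closure ({a0, b0} : Set G)
  haveI hVc : IsMulCommutative V := isMulCommutative_closure (by
    rintro u (rfl | rfl) v (rfl | rfl) <;> first | rfl | exact hca _ hb0T | exact (hca _ hb0T).symm)
  have hVT : V ≤ (T : Subgroup G) := (closure_le _).mpr (by rintro u (rfl | rfl) <;> assumption)
  have hnc : ¬ IsCyclic V := by
    intro hcyc
    have hVp : ∀ v ∈ V, v ^ p = 1 := by
      intro v hv
      induction hv using closure_induction with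
      | mem w hw => rcases hw with rfl | rfl
                    · exact ha0 ▸ pow_orderOf_eq_one _
                    · exact hb0 ▸ pow_orderOf_eq_one _
      | one => exact one_pow p
      | mul w w' hw hw' h1 h2 =>
        rw [(show Commute w w' from congrArg Subtype.val (hVc.is_comm.comm (⟨w, hw⟩ : V) ⟨w', hw'⟩)).mul_pow,
          h1, h2, one_mul]
      | inv w _ h1 => rw [inv_pow, h1, inv_one]
    obtain ⟨g, hg⟩ := IsCyclic.exists_ofOrder_eq_natCard (α := V)
    have hle : Nat.card V ≤ p := hg ▸ Nat.le_of_dvd (Fact.out : p.Prime).pos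
      (orderOf_dvd_iff_pow_eq_one.mpr (Subtype.ext (by simpa using hVp g g.2)))
    have heq : zpowers a0 = V := eq_of_le_of_card_ge (zpowers_le.mpr (subset_closure (Or.inl rfl)))
      (by rwa [Nat.card_zpowers, ha0])
    exact hnb (heq ▸ subset_closure (Or.inr rfl))
  have hcop : (Nat.card V).Coprime (Nat.card C) := by
    obtain ⟨k, hk⟩ := IsPGroup.iff_card.mp (T.2.to_le hVT)
    rw [hk]
    exact ((Fact.out : p.Prime).coprime_iff_not_dvd.mpr hXY).pow_left k
  have hVn : V ≤ normalizer (C : Set G) := (normalizer_eq_top C).symm ▸ le_top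
  have hcentral : ∀ v ∈ (T : Subgroup G), v ≠ 1 → centralizer ({v} : Set G) ≤ M := fun v hv hv1 => by
    refine le_trans ?_ (hMN (zpowers v) (zpowers_le.mpr hv) (zpowers_ne_bot.mpr hv1))
    intro n hn
    refine centralizer_le_normalizer _ (mem_centralizer_iff.mpr ?_)
    rintro w ⟨j, rfl⟩
    exact ((show Commute n v from mem_centralizer_singleton_iff.mp hn).symm.zpow_left j).eq
  have hCM : C ≤ M := by
    rw [← Coprime.iSup_centralizer_singleton hnc hVn hcop]
    exact iSup₂_le fun v hv => inf_le_right.trans (hcentral v (hVT hv.1) hv.2)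
  have hXM : X ≤ M := by
    intro a ha
    have hb1 : b0 ≠ 1 := ne_one_of_order_p hb0
    obtain ⟨n, hn, hna⟩ := Coprime.exists_mul_mem_centralizer (A := zpowers b0) (N := C) (k := a)
      ((normalizer_eq_top C).symm ▸ le_top)
      (by rw [Nat.card_zpowers, hb0]; exact (Fact.out : p.Prime).coprime_iff_not_dvd.mpr hXY)
      (Or.inl (Coprime.isSolvable_zpowers b0))
      (fun b hb => by
        have hbY : b ∈ Y := zpowers_le.mpr hb0Y hb
        rw [commutatorElement_def]
        refine mem_inf.mpr ⟨mul_mem (hXn.conj_mem a ha b) (inv_mem ha), ?_⟩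
        rw [mul_assoc, mul_assoc]
        refine mul_mem hbY ?_
        rw [← mul_assoc]
        exact hYn.conj_mem _ (inv_mem hbY) a)
    have hna' : n * a ∈ M := hcentral b0 hb0T hb1
      (centralizer_le (Set.singleton_subset_iff.mpr (mem_zpowers b0)) hna)
    simpa using mul_mem (inv_mem (hCM hn)) hna'
  refine hM (eq_top_iff.mpr fun x _ => ?_)
  obtain ⟨a, ha, n, hn, rfl⟩ := frattini_factor T X x
  exact mul_mem (hXM ha) (hMN _ inf_le_left (sylow_inf_normal_ne_bot T X hXp) hn)

/-! ### The decomposition -/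

/-- The conditions on one step. -/
def Step (P : Sylow p G) (H : Subgroup G) (x : G) : Prop :=
  H ≤ (P : Subgroup G) ∧
  ¬ p ∣ ((P : Subgroup G) ⊓ normalizer (H : Set G)).relIndex (normalizer (H : Set G)) ∧
  (P : Subgroup G) ⊓ centralizer (H : Set G) ≤ H ∧
  (pPrimePCore p ↥(normalizer (H : Set G))).map (normalizer (H : Set G)).subtype =
    H ⊔ centralizer (H : Set G) ∧
  ¬ IsSylowChainConnected p (↥(normalizer (H : Set G)) ⧸ H.subgroupOf (normalizer (H : Set G))) ∧
  ∃ X : Subgroup G, (H ≤ X ∧ X ≤ normalizer (H : Set G) ∧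
    (X.subgroupOf (normalizer (H : Set G))).Normal ∧ p ∣ H.relIndex X ∧
    ∀ Y : Subgroup G, H ≤ Y → Y ≤ normalizer (H : Set G) →
      (Y.subgroupOf (normalizer (H : Set G))).Normal → p ∣ H.relIndex Y → X ≤ Y) ∧
    x ∈ (pResidual p ↥X).map X.subtype

/-- Right conjugate of a set. -/
def rc (g : G) (A : Set G) : Set G := (fun a => g⁻¹ * a * g) '' A

theorem rc_one (A : Set G) : rc 1 A = A := by simp [rc]

theorem rc_mul (x y : G) (A : Set G) : rc (x * y) A = rc y (rc x A) := image_mul x y A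

theorem rc_centralizer {c : G} {A : Set G} (hc : c ∈ centralizer A) : rc c A = A := by
  refine (Set.image_congr fun a ha => ?_).trans (Set.image_id A)
  rw [mul_assoc, mem_centralizer_iff.mp hc a ha, inv_mul_cancel_left, id]

theorem ncard_rc (g : G) (A : Set G) : (rc g A).ncard = A.ncard :=
  Set.ncard_image_of_injective _ fun a b e => by simpa using e

/-- A valid list of steps. -/
def Valid (P : Sylow p G) : Set G → List (Subgroup G × G) → Prop
  | _, [] => True
  | A, (H, x) :: L => Step P H x ∧ A ⊆ (H : Set G) ∧ Valid P (rc x A) L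

/-- The product of the steps. -/
def val (L : List (Subgroup G × G)) : G := (L.map Prod.snd).prod

theorem Valid.mono {P : Sylow p G} : ∀ {L : List (Subgroup G × G)} {A B : Set G},
    Valid P A L → B ⊆ A → Valid P B L
  | [], _, _, _, _ => trivial
  | _ :: _, _, _, ⟨h1, h2, h3⟩, h => ⟨h1, h.trans h2, h3.mono (Set.image_mono h)⟩

theorem Valid.append {P : Sylow p G} : ∀ {L L' : List (Subgroup G × G)} {A : Set G},
    Valid P A L → Valid P (rc (val L) A) L' → Valid P A (L ++ L')
  | [], _, A, _, h => by simpa [val, rc] using h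
  | (_, x) :: L, _, A, ⟨h1, h2, h3⟩, h => by
    refine ⟨h1, h2, h3.append ?_⟩
    rw [← rc_mul]
    simpa [val] using h

/-- `g = c · (steps) · y`. -/
def DecP (P : Sylow p G) (A : Set G) (g : G) : Prop :=
  ∃ (L : List (Subgroup G × G)) (c y : G), Valid P A L ∧ c ∈ centralizer A ∧
    y ∈ normalizer ((P : Subgroup G) : Set G) ∧ g = c * val L * y

theorem DecP.mono {P : Sylow p G} {A B : Set G} {g : G} (h : DecP P A g) (hBA : B ⊆ A) :
    DecP P B g := by
  obtain ⟨L, c, y, h1, h2, h3, h4⟩ := h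
  exact ⟨L, c, y, h1.mono hBA, centralizer_le hBA h2, h3, h4⟩

theorem DecP.mul {P : Sylow p G} {A : Set G} {g h : G} (hg : DecP P A g)
    (hh : ∀ y ∈ normalizer ((P : Subgroup G) : Set G), DecP P (rc y⁻¹ (rc g A)) (y * h * y⁻¹)) :
    DecP P A (g * h) := by
  obtain ⟨L, c, y, h1, h2, h3, rfl⟩ := hg
  have hh' := hh y h3
  rw [← rc_mul, mul_inv_cancel_right, rc_mul, rc_centralizer h2] at hh'
  obtain ⟨L', c', y', h4, h5, h6, h7⟩ := hh'
  refine ⟨L ++ L', c * (val L * c' * (val L)⁻¹), y' * y, h1.append h4,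
    mul_mem h2 (mem_centralizer_iff.mpr fun a ha => ?_), mul_mem h6 h3, ?_⟩
  · have h : (val L)⁻¹ * a * val L * c' = c' * ((val L)⁻¹ * a * val L) :=
      mem_centralizer_iff.mp h5 _ ⟨a, ha, rfl⟩
    calc a * (val L * c' * (val L)⁻¹) = val L * ((val L)⁻¹ * a * val L * c') * (val L)⁻¹ := by group
      _ = val L * (c' * ((val L)⁻¹ * a * val L)) * (val L)⁻¹ := by rw [h]
      _ = val L * c' * (val L)⁻¹ * a := by group
  · have hv : val (L ++ L') = val L * val L' := by simp [val]
    rw [hv, show c * val L * y * h = c * val L * (y * h * y⁻¹) * y by group, h7]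
    group

/-- What is to be proved for a subgroup with a Sylow normaliser. -/
def Claim (P : Sylow p G) (D : Subgroup G) : Prop :=
  D ≤ (P : Subgroup G) →
    ¬ p ∣ ((P : Subgroup G) ⊓ normalizer (D : Set G)).relIndex (normalizer (D : Set G)) →
      ∀ x ∈ normalizer (D : Set G), DecP P (D : Set G) x

theorem dec_of_chain {P : Sylow p G} (k : ℕ) (hk : ∀ D : Subgroup G, k ≤ Nat.card D → Claim P D)
    {A : Set G} {w : G} (h : Chain P A w) : k ≤ A.ncard →
      ∀ y ∈ normalizer ((P : Subgroup G) : Set G), DecP P (rc y⁻¹ A) (y * w * y⁻¹) := by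
  induction h with
  | nil A _ =>
    intro _ y _
    exact ⟨[], 1, 1, trivial, one_mem _, one_mem _, by simp [val]⟩
  | cons A Q x g ht hx hA _ ih =>
    intro hkA y hy
    set D := (P : Subgroup G) ⊓ (Q : Subgroup G)
    have hPy : rconj y⁻¹ (P : Subgroup G) = P := rconj_eq_self_of_mem (inv_mem hy)
    have hD'P : rconj y⁻¹ D ≤ (P : Subgroup G) := (rconj_mono inf_le_left).trans hPy.le
    have h1 : k ≤ Nat.card (rconj y⁻¹ D) := by
      rw [card_rconj]
      refine hkA.trans ?_
      rw [← SetLike.coe_sort_coe, Nat.card_coe_set_eq]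
      exact Set.ncard_le_ncard hA (Set.toFinite _)
    have hsyl : ¬ p ∣ ((P : Subgroup G) ⊓ normalizer (rconj y⁻¹ D : Set G)).relIndex
        (normalizer (rconj y⁻¹ D : Set G)) := by
      have := ht.1
      rwa [← rconj_normalizer, ← hPy, ← rconj_inf, relIndex_rconj]
    have hxn : y * x * y⁻¹ ∈ normalizer (rconj y⁻¹ D : Set G) := by
      rw [← rconj_normalizer, mem_rconj]
      simpa [mul_assoc] using hx
    have hd := (hk _ h1 hD'P hsyl _ hxn).mono (B := rc y⁻¹ A) (by
      rw [coe_rconj]; exact Set.image_mono hA)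
    rw [show y * (x * g) * y⁻¹ = y * x * y⁻¹ * (y * g * y⁻¹) by group]
    refine hd.mul fun y' hy' => ?_
    have := ih (by rw [← rc, ncard_rc]; exact hkA) (y' * y) (mul_mem hy' hy)
    rw [← rc, ← rc_mul] at this
    rw [← rc_mul, ← rc_mul, show y⁻¹ * (y * x * y⁻¹ * y'⁻¹) = x * (y' * y)⁻¹ by group,
      show y' * (y * g * y⁻¹) * y'⁻¹ = y' * y * g * (y' * y)⁻¹ by group]
    exact this

theorem claim_step (P : Sylow p G) (D : Subgroup G)
    (ih : ∀ E : Subgroup G, Nat.card D < Nat.card E → Claim P E) : Claim P D := by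
  intro hDP hsyl x hx
  have up : ∀ E : Subgroup G, E ≤ (P : Subgroup G) → Nat.card D < Nat.card E →
      ∀ u ∈ normalizer (E : Set G), DecP P (E : Set G) u := by
    intro E hEP hlt u hu
    have hE : (fun a => u⁻¹ * a * u) '' (E : Set G) ⊆ (P : Set G) := by
      rintro _ ⟨a, ha, rfl⟩
      exact hEP ((mem_normalizer_iff''.mp hu a).mp ha)
    have := dec_of_chain (Nat.card D + 1) (fun D' h => ih D' h) (chain_of_conj P E u hEP hE)
      (by rw [← Nat.card_coe_set_eq, SetLike.coe_sort_coe]; exact hlt) 1 (one_mem _)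
    simpa [rc_one] using this
  by_cases hgood : Components.Goldschmidt.Good P D
  swap
  · obtain ⟨E, k, y, hDE, hEP, hlt, hy, hk, rfl⟩ :=
      (Components.Goldschmidt.good_or_up P D hDP hsyl hx).resolve_left hgood
    obtain ⟨L, c, z, h1, h2, h3, rfl⟩ := (up E hEP hlt y hy).mono hDE
    exact ⟨L, k * c, z, h1, mul_mem hk h2, h3, by group⟩
  set N := normalizer (D : Set G) with hN
  have hDN : D ≤ N := Subgroup.le_normalizer
  obtain ⟨-, hCK, ⟨-, hDK, hOD, -, hsup⟩, -⟩ := hgood
  set O := (pPrimeCore p ↥N).map N.subtype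
  have hKeq : (pPrimePCore p ↥N).map N.subtype = D ⊔ centralizer (D : Set G) := by
    refine le_antisymm ?_ (sup_le hDK hCK)
    rw [← hsup]
    exact sup_le (fun o ho => mem_sup_right (mem_centralizer_iff.mpr fun d hd => (hOD o ho d hd).symm))
      le_sup_left
  have hCP : (P : Subgroup G) ⊓ centralizer (D : Set G) ≤ D := by
    rintro z ⟨hzP, hzC⟩
    have hz : z ∈ O ⊔ D := hsup.symm ▸ hCK hzC
    obtain ⟨o, ho, d, hd, rfl⟩ :=
      Components.exists_mul_of_mem_sup (fun u hu => centralizer_le_normalizer _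
        (mem_centralizer_iff.mpr fun d hd => (hOD u hu d hd).symm : u ∈ centralizer (D : Set G))) hz
    have ho' : o ∈ (P : Subgroup G) ⊓ O := ⟨(mul_mem_cancel_right (hDP hd)).mp hzP, ho⟩
    rw [Components.inf_eq_bot_of_pGroup_coprime P.2 (by
      rw [card_map_of_injective N.subtype_injective]; exact Cores.coprime_card_pPrimeCore p),
      mem_bot] at ho'
    rw [ho', one_mul]; exact hd
  by_cases hDeq : (P : Subgroup G) ≤ D
  · obtain rfl : D = P := le_antisymm hDP hDeq
    exact ⟨[], 1, x, trivial, one_mem _, hx, by simp [val]⟩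
  set D' := D.subgroupOf N with hD'
  haveI : D'.Normal := (normal_subgroupOf_iff_le_normalizer hDN).mpr le_rfl
  set q := QuotientGroup.mk' D'
  have hker : D' = (⊥ : Subgroup (N ⧸ D')).comap q := by
    rw [MonoidHom.comap_bot, QuotientGroup.ker_mk']
  set PN : Sylow p N := Fusion.Basic.sylowSubgroupOf (inf_le_right : (P : Subgroup G) ⊓ N ≤ N)
    (P.2.to_le inf_le_left) hsyl with hPNdef
  have hPN : ∀ z : N, z ∈ (PN : Subgroup N) ↔ (z : G) ∈ (P : Subgroup G) := fun z =>
    ⟨fun h => h.1, fun h => ⟨h, z.2⟩⟩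
  have hD'PN : D' ≤ (PN : Subgroup N) := fun z hz => (hPN z).mpr (hDP hz)
  set Tb : Sylow p (N ⧸ D') := PN.mapSurjective (QuotientGroup.mk'_surjective D')
  have hTb : (Tb : Subgroup (N ⧸ D')) = (PN : Subgroup N).map q := Sylow.coe_mapSurjective _ _
  -- a nontrivial subgroup of `Tb` gives a larger subgroup
  have lift : ∀ Ab : Subgroup (N ⧸ D'), Ab ≤ (Tb : Subgroup (N ⧸ D')) → Ab ≠ ⊥ →
      ∃ E : Subgroup G, E ≤ (P : Subgroup G) ∧ D ≤ E ∧ Nat.card D < Nat.card E ∧
        ∀ n : N, q n ∈ normalizer (Ab : Set (N ⧸ D')) → (n : G) ∈ normalizer (E : Set G) := by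
    intro Ab hAb hAb1
    refine ⟨(Ab.comap q).map N.subtype, ?_, ?_, ?_, fun n hn => ?_⟩
    · rintro _ ⟨z, hz, rfl⟩
      refine (hPN z).mp ?_
      have := (comap_mono hAb hz : z ∈ (Tb : Subgroup (N ⧸ D')).comap q)
      rwa [hTb, comap_map_eq, QuotientGroup.ker_mk', sup_eq_left.mpr hD'PN] at this
    · intro d hd
      refine ⟨⟨d, hDN hd⟩, ?_, rfl⟩
      exact (hker.le.trans (comap_mono bot_le)) (show (⟨d, hDN hd⟩ : N) ∈ D' from hd)
    · rw [card_map_of_injective N.subtype_injective, ← Nat.card_congr (subgroupOfEquivOfLe hDN).toEquiv]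
      by_contra hle
      have h1 : D' ≤ Ab.comap q := hker.le.trans (comap_mono bot_le)
      have h2 := eq_of_le_of_card_ge h1 (not_lt.mp hle)
      exact hAb1 (comap_injective (QuotientGroup.mk'_surjective D') (h2.symm.trans hker))
    · refine le_normalizer_map N.subtype ⟨n, ?_, rfl⟩
      refine (le_normalizer_comap q) ?_
      exact hn
  have hTb1 : (Tb : Subgroup (N ⧸ D')) ≠ ⊥ := by
    intro hb
    have h1 := exists_gt_of_lt_sylow P (lt_of_le_of_ne hDP fun h => hDeq h.ge)
    refine h1.not_ge fun z hz => ?_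
    have : q ⟨z, hz.2⟩ ∈ (Tb : Subgroup (N ⧸ D')) :=
      hTb ▸ mem_map_of_mem q ((hPN ⟨z, hz.2⟩).mpr hz.1)
    rw [hb, mem_bot] at this
    exact (QuotientGroup.eq_one_iff (⟨z, hz.2⟩ : N)).mp this
  by_cases hconn : IsSylowChainConnected p (N ⧸ D')
  · -- connected: generated by normalisers of larger subgroups
    let R : Submonoid N :=
      { carrier := {n | ∀ y ∈ normalizer ((P : Subgroup G) : Set G),
          DecP P (rc y⁻¹ (D : Set G)) (y * (n : G) * y⁻¹)}
        one_mem' := fun y _ => ⟨[], 1, 1, trivial, one_mem _, one_mem _, by simp [val]⟩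
        mul_mem' := fun {a b} ha hb y hy => by
          rw [Subgroup.coe_mul, show y * ((a : G) * b) * y⁻¹ = y * (a : G) * y⁻¹ * (y * (b : G) * y⁻¹) by group]
          refine (ha y hy).mul fun y' hy' => ?_
          have := hb (y' * y) (mul_mem hy' hy)
          rw [← rc_mul, ← rc_mul]
          have hfix : rc (a : G) (D : Set G) = (D : Set G) := by
            rw [rc, ← coe_rconj, rconj_eq_self_of_mem a.2]
          rw [← hfix, ← rc_mul] at this
          rw [show y⁻¹ * (y * (a : G) * y⁻¹ * y'⁻¹) = (a : G) * (y' * y)⁻¹ by group,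
            show y' * (y * (b : G) * y⁻¹) * y'⁻¹ = y' * y * (b : G) * (y' * y)⁻¹ by group]
          exact this }
    let R' : Subgroup N :=
      { R with
        inv_mem' := fun {a} ha => by
          have : a⁻¹ = a ^ (orderOf a - 1) := by
            rw [inv_eq_iff_mul_eq_one, ← pow_succ', Nat.sub_add_cancel (orderOf_pos a),
              pow_orderOf_eq_one]
          rw [this]
          exact pow_mem (show a ∈ R from ha) _ }
    have hgen : ∀ n : N, (∃ Ab : Subgroup (N ⧸ D'), (Ab ≤ (Tb : Subgroup (N ⧸ D')) ∧ Ab ≠ ⊥) ∧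
        q n ∈ normalizer (Ab : Set (N ⧸ D'))) → n ∈ R' := by
      rintro n ⟨Ab, ⟨hAb, hAb1⟩, hn⟩ y hy
      obtain ⟨E, hEP, hDE, hlt, hnE⟩ := lift Ab hAb hAb1
      have hPy : rconj y⁻¹ (P : Subgroup G) = P := rconj_eq_self_of_mem (inv_mem hy)
      refine (up (rconj y⁻¹ E) ((rconj_mono hEP).trans hPy.le) (by rwa [card_rconj]) _ ?_).mono ?_
      · rw [← rconj_normalizer, mem_rconj]
        simpa [mul_assoc] using hnE n hn
      · rw [coe_rconj]; exact Set.image_mono hDE
    have hRtop : R'.map q = ⊤ := by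
      rw [eq_top_iff, ← closure_eq_top_of_connected hconn Tb hTb1, closure_le]
      intro z hz
      simp only [Set.mem_iUnion] at hz
      obtain ⟨Ab, hAb, hzA⟩ := hz
      obtain ⟨n, rfl⟩ := QuotientGroup.mk'_surjective D' z
      exact ⟨n, hgen n ⟨Ab, hAb, hzA⟩, rfl⟩
    have hDR : D' ≤ R' := fun d hd => hgen d ⟨Tb, ⟨le_rfl, hTb1⟩, by
      rw [show q d = 1 from (QuotientGroup.eq_one_iff d).mpr hd]; exact one_mem _⟩
    have hxR : (⟨x, hx⟩ : N) ∈ R' := by
      have : (⟨x, hx⟩ : N) ∈ (R'.map q).comap q := by rw [hRtop]; exact mem_top _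
      rwa [comap_map_eq, QuotientGroup.ker_mk', sup_eq_left.mpr hDR] at this
    have := hxR 1 (one_mem _)
    simpa [rc_one] using this
  · obtain ⟨Xb, hXbn, hXbp, hXbmin⟩ := exists_smallest_normal hconn Tb hTb1
    set XN := Xb.comap q with hXN
    haveI : XN.Normal := hXbn.comap q
    set X := XN.map N.subtype with hX
    have hXsub : X.subgroupOf N = XN := comap_map_eq_self_of_injective N.subtype_injective XN
    have hrel : ∀ W : Subgroup N, D.relIndex (W.map N.subtype) = Nat.card (W.map q) := fun W => by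
      rw [← relIndex_comap]
      show D'.relIndex W = _
      conv_lhs => rw [hker]
      rw [relIndex_comap, relIndex_bot_left]
    obtain ⟨a, ha, n, hn, hxe⟩ := frattini_factor Tb Xb (q ⟨x, hx⟩)
    obtain ⟨z, rfl⟩ := QuotientGroup.mk'_surjective D' a
    set m : N := z⁻¹ * ⟨x, hx⟩ with hm
    have hmn : q m = n := by rw [map_mul, map_inv, hxe, inv_mul_cancel_left]
    let SX : Sylow p XN := Fusion.Basic.sylowSubgroupOf (inf_le_right : (PN : Subgroup N) ⊓ XN ≤ XN)
      (PN.2.to_le inf_le_left) (Fusion.Basic.not_dvd_relIndex_of_normal PN XN)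
    obtain ⟨o, ho, s, hs, hzos⟩ := Fusion.Basic.exists_eq_pResidual_mul SX ⟨z, ha⟩
    have hs' : (s : N) ∈ (PN : Subgroup N) ⊓ XN := hs
    have hzos' : (z : N) = (o : N) * s := congrArg Subtype.val hzos
    let f : XN →* X := (N.subtype.comp XN.subtype).codRestrict X fun u => mem_map_of_mem _ u.2
    have hoX : ((o : N) : G) ∈ (pResidual p ↥X).map X.subtype :=
      ⟨f o, Fusion.Basic.map_pResidual_le f (mem_map_of_mem f ho), rfl⟩
    have hstep : Step P D ((o : N) : G) := by
      refine ⟨hDP, hsyl, hCP, hKeq, hconn, X, ⟨fun d hd => ⟨⟨d, hDN hd⟩, ?_, rfl⟩, map_subtype_le _,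
        hXsub.symm ▸ inferInstance, ?_, ?_⟩, hoX⟩
      · exact (hker.le.trans (comap_mono bot_le) : D' ≤ XN) hd
      · rw [hX, hrel, hXN, map_comap_eq_self_of_surjective (QuotientGroup.mk'_surjective D')]
        exact hXbp
      · intro Y hDY hYN hYn hYp
        have hY : (Y.subgroupOf N).map N.subtype = Y := map_subgroupOf_eq_of_le hYN
        rw [← hY, hrel] at hYp
        have hle := hXbmin _ (hYn.map q (QuotientGroup.mk'_surjective D')) hYp
        rw [hX, ← hY]
        refine map_mono (le_trans (comap_mono hle) ?_)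
        rw [comap_map_eq, QuotientGroup.ker_mk']
        exact sup_le le_rfl fun d hd => hDY hd
    obtain ⟨E, hEP, hDE, hlt, hnE⟩ := lift ((Tb : Subgroup (N ⧸ D')) ⊓ Xb) inf_le_left
      (haveI := hXbn; sylow_inf_normal_ne_bot Tb Xb hXbp)
    have hw : (((s : N) * m : N) : G) ∈ normalizer (E : Set G) := by
      refine hnE _ ?_
      rw [map_mul, hmn]
      refine mul_mem (Subgroup.le_normalizer ?_) hn
      exact ⟨hTb ▸ mem_map_of_mem q hs'.1, hs'.2⟩
    obtain ⟨L, c, y, h1, h2, h3, h4⟩ := (up E hEP hlt _ hw).mono hDE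
    have hxo : x = ((o : N) : G) * (((s : N) * m : N) : G) := by
      have : (⟨x, hx⟩ : N) = (o : N) * ((s : N) * m) := by
        rw [← mul_assoc, ← hzos', hm, mul_inv_cancel_left]
      exact congrArg Subtype.val this
    have hoN : ((o : N) : G) ∈ N := (o : N).2
    have hfix : rc ((o : N) : G) (D : Set G) = (D : Set G) := by
      rw [rc, ← coe_rconj, rconj_eq_self_of_mem hoN]
    refine ⟨(D, ((o : N) : G)) :: L, ((o : N) : G) * c * ((o : N) : G)⁻¹, y,
      ⟨hstep, subset_rfl, by rw [hfix]; exact h1⟩, mem_centralizer_iff.mpr fun d hd => ?_, h3, ?_⟩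
    · have hd' : ((o : N) : G)⁻¹ * d * ((o : N) : G) ∈ D := (mem_normalizer_iff''.mp hoN d).mp hd
      have := mem_centralizer_iff.mp h2 _ hd'
      calc d * (((o : N) : G) * c * ((o : N) : G)⁻¹)
          = ((o : N) : G) * (((o : N) : G)⁻¹ * d * ((o : N) : G) * c) * ((o : N) : G)⁻¹ := by group
        _ = ((o : N) : G) * (c * (((o : N) : G)⁻¹ * d * ((o : N) : G))) * ((o : N) : G)⁻¹ := by rw [this]
        _ = _ := by group
    · rw [hxo, h4]
      simp [val, mul_assoc]

theorem claim (P : Sylow p G) : ∀ D : Subgroup G, Claim P D := by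
  suffices ∀ (k : ℕ) (D : Subgroup G), Nat.card G - Nat.card D = k → Claim P D from
    fun D => this _ D rfl
  intro k
  induction k using Nat.strong_induction_on with
  | _ k ih =>
    intro D hD
    refine claim_step P D fun E hE => ih _ ?_ E rfl
    have := card_le_card_group E
    omega

theorem valid_spec {P : Sylow p G} : ∀ {L : List (Subgroup G × G)} {A : Set G}, Valid P A L →
    ∀ i : Fin L.length, Step P (L[i]).1 (L[i]).2 ∧
      rc (val (L.take i)) A ⊆ ((L[i]).1 : Set G)
  | [], _, _, i => i.elim0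
  | (D, x) :: L, A, ⟨h1, h2, _⟩, ⟨0, _⟩ => by
    refine ⟨h1, ?_⟩
    simpa [val, rc] using h2
  | (D, x) :: L, A, ⟨h1, h2, h3⟩, ⟨i + 1, hi⟩ => by
    obtain ⟨e1, e2⟩ := valid_spec h3 ⟨i, Nat.lt_of_succ_lt_succ hi⟩
    refine ⟨e1, ?_⟩
    rw [← rc_mul] at e2
    simpa [val, rc] using e2

/-- The strong form of the fusion theorem. -/
theorem exists_decomposition (P : Sylow p G) (A : Set G) (hA : A ⊆ (P : Set G)) (g : G)
    (hAg : (fun a => g⁻¹ * a * g) '' A ⊆ (P : Set G)) :
    ∃ (n : ℕ) (H X : Fin n → Subgroup G) (x : Fin n → G) (c y : G),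
      c ∈ centralizer A ∧ y ∈ normalizer ((P : Subgroup G) : Set G) ∧
      g = c * (List.ofFn x).prod * y ∧
      ∀ i : Fin n,
        H i ≤ (P : Subgroup G) ∧
        ¬ p ∣ ((P : Subgroup G) ⊓ normalizer (H i : Set G)).relIndex (normalizer (H i : Set G)) ∧
        (P : Subgroup G) ⊓ centralizer (H i : Set G) ≤ H i ∧
        (pPrimePCore p ↥(normalizer (H i : Set G))).map (normalizer (H i : Set G)).subtype =
          H i ⊔ centralizer (H i : Set G) ∧
        ¬ IsSylowChainConnected p
            (↥(normalizer (H i : Set G)) ⧸ (H i).subgroupOf (normalizer (H i : Set G))) ∧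
        (H i ≤ X i ∧ X i ≤ normalizer (H i : Set G) ∧
          ((X i).subgroupOf (normalizer (H i : Set G))).Normal ∧ p ∣ (H i).relIndex (X i) ∧
          ∀ Y : Subgroup G, H i ≤ Y → Y ≤ normalizer (H i : Set G) →
            (Y.subgroupOf (normalizer (H i : Set G))).Normal → p ∣ (H i).relIndex Y → X i ≤ Y) ∧
        x i ∈ (pResidual p ↥(X i)).map (X i).subtype ∧
        (fun a => (((List.ofFn x).take i.val).prod)⁻¹ * a * ((List.ofFn x).take i.val).prod) '' A ⊆
          (H i : Set G) := by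
  have hd := dec_of_chain 0 (fun D _ => claim P D) (chain_of_conj P A g hA hAg) (Nat.zero_le _) 1
    (one_mem _)
  rw [inv_one, rc_one, one_mul, mul_one] at hd
  obtain ⟨L, c, y, hv, hc, hy, hg⟩ := hd
  have hsp := valid_spec hv
  have hofn : List.ofFn (fun i : Fin L.length => (L[i]).2) = L.map Prod.snd :=
    List.ext_getElem (by simp) fun i h h' => by simp
  choose X hX hxX using fun i => (hsp i).1.2.2.2.2.2
  refine ⟨L.length, fun i => (L[i]).1, X, fun i => (L[i]).2, c, y, hc, hy, by rw [hofn]; exact hg,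
    fun i => ?_⟩
  obtain ⟨h1, h2, h3, h4, h5, -⟩ := (hsp i).1
  refine ⟨h1, h2, h3, h4, h5, hX i, hxX i, ?_⟩
  rw [hofn, ← List.map_take]
  exact (hsp i).2

end CfsgLib.LocalEvenB.StrongFusion
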