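import Cfsg.Agent.Lib.Fusion.SubnormalJoin
import Cfsg.Agent.Lib.Fusion.Thompson
import Cfsg.Agent.Lib.Coprime.Sylow
import Cfsg.Agent.Lib.Solvable.Basic

/-!
Wielandt: for subnormal subgroups `A`, `B` and a Sylow subgroup `S`, the intersection of `S`
with `A ⊔ B` is the join of `A ⊓ S` and `B ⊓ S`.
-/

set_option autoImplicit false

namespace CfsgLib.LocalEvenB.SubnormalSylow

open Subgroup

universe u

/-- The order of `S ⊓ H` for a Sylow subgroup `S` and a subnormal subgroup `H`. -/
theorem card_inf_sylow {G : Type u} [Group G] [Finite G] {p : ℕ} [Fact p.Prime] (S : Sylow p G)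
    {H : Subgroup G} (hH : H.IsSubnormal) :
    Nat.card ↥((S : Subgroup G) ⊓ H) = p ^ (Nat.card H).factorization p := by
  induction hH with
  | top =>
    rw [inf_top_eq, Subgroup.card_top]
    exact S.card_eq_multiplicity
  | step H K hle _ hn ih =>
    obtain ⟨P, hP⟩ := CfsgLib.Coprime.exists_sylow_map_eq (inf_le_right : (S : Subgroup G) ⊓ K ≤ K) ih
    haveI := hn
    have h1 := CfsgLib.Coprime.card_sylow_inf_normal P (H.subgroupOf K)
    have e : ((P : Subgroup K) ⊓ H.subgroupOf K).map K.subtype = (S : Subgroup G) ⊓ H := by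
      rw [map_inf _ _ _ K.subtype_injective, hP, subgroupOf_map_subtype, inf_eq_left.2 hle,
        inf_assoc, inf_eq_right.2 hle]
    rw [← e, CfsgLib.Coprime.card_map_subtype, h1, Nat.card_congr (subgroupOfEquivOfLe hle).toEquiv]

/-- Two subnormal subgroups normalising each other. -/
theorem inf_le_sup {G : Type u} [Group G] [Finite G] {p : ℕ} [Fact p.Prime] (S : Sylow p G)
    {X Y : Subgroup G} (hX : X.IsSubnormal) (hY : Y.IsSubnormal)
    (hYX : Y ≤ normalizer (X : Set G)) :
    (S : Subgroup G) ⊓ (X ⊔ Y) ≤ ((S : Subgroup G) ⊓ X) ⊔ ((S : Subgroup G) ⊓ Y) := by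
  have hp := (Fact.out : p.Prime)
  have hn : (S : Subgroup G) ⊓ Y ≤ normalizer (((S : Subgroup G) ⊓ X : Subgroup G) : Set G) := by
    intro g hg
    rw [mem_normalizer_iff]
    intro x
    have hgX := mem_normalizer_iff.1 (hYX hg.2) x
    simp only [mem_inf]
    rw [← hgX, (S : Subgroup G).mul_mem_cancel_right (inv_mem hg.1),
      (S : Subgroup G).mul_mem_cancel_left hg.1]
  have h1 := CfsgLib.Fusion.Thompson.card_sup_mul_card_inf hn
  have h2 := CfsgLib.Fusion.Thompson.card_sup_mul_card_inf hYX
  have e : ((S : Subgroup G) ⊓ X) ⊓ ((S : Subgroup G) ⊓ Y) = (S : Subgroup G) ⊓ (X ⊓ Y) := by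
    ext x; simp only [mem_inf]; tauto
  rw [e, card_inf_sylow S (hX.inf hY), card_inf_sylow S hX, card_inf_sylow S hY] at h1
  have hv := congrArg (fun n => n.factorization p) h2
  simp only [Nat.factorization_mul Nat.card_pos.ne' Nat.card_pos.ne', Finsupp.coe_add,
    Pi.add_apply] at hv
  rw [← pow_add, ← hv, pow_add] at h1
  have hle : ((S : Subgroup G) ⊓ X) ⊔ ((S : Subgroup G) ⊓ Y) ≤ (S : Subgroup G) ⊓ (X ⊔ Y) :=
    sup_le (inf_le_inf_left _ le_sup_left) (inf_le_inf_left _ le_sup_right)
  refine (eq_of_le_of_card_ge hle ?_).ge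
  rw [card_inf_sylow S (CfsgLib.Fusion.SubnormalJoin.sup_isSubnormal hX hY)]
  exact (Nat.eq_of_mul_eq_mul_right (pow_pos hp.pos _) h1).ge

theorem card_map_mul {G H : Type*} [Group G] [Group H] (f : G →* H) (X : Subgroup G) :
    Nat.card ↥(X.map f) * Nat.card ↥(f.ker ⊓ X) = Nat.card X := by
  have h := Subgroup.card_eq_card_quotient_mul_card_subgroup (f.ker.subgroupOf X)
  have e1 : (f.comp X.subtype).ker = f.ker.subgroupOf X := by
    ext x; simp [Subgroup.mem_subgroupOf, MonoidHom.mem_ker]
  have e2 : (f.comp X.subtype).range = X.map f := by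
    rw [MonoidHom.range_eq_map, ← map_map, ← MonoidHom.range_eq_map, range_subtype]
  have h3 := Nat.card_congr (QuotientGroup.quotientKerEquivRange (f.comp X.subtype)).toEquiv
  rw [e2] at h3
  have h5 := Subgroup.card_eq_card_quotient_mul_card_subgroup (f.comp X.subtype).ker
  rw [h3, e1] at h5
  rw [h5]
  congr 1
  rw [← Nat.card_congr (subgroupOfEquivOfLe (inf_le_right : f.ker ⊓ X ≤ X)).toEquiv,
    inf_subgroupOf_right]

/-- The image of `S ⊓ A` in a quotient, for subnormal `A`. -/
theorem map_inf_sylow {G H : Type u} [Group G] [Group H] [Finite G] [Finite H] {p : ℕ}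
    [Fact p.Prime] (f : G →* H) (hf : Function.Surjective f) (S : Sylow p G) {A : Subgroup G}
    (hA : A.IsSubnormal) :
    (S : Subgroup G).map f ⊓ A.map f = ((S : Subgroup G) ⊓ A).map f := by
  have hp := (Fact.out : p.Prime)
  have h1 := card_map_mul f A
  have h2 := card_map_mul f ((S : Subgroup G) ⊓ A)
  rw [card_inf_sylow S hA, show f.ker ⊓ ((S : Subgroup G) ⊓ A) = (S : Subgroup G) ⊓ (f.ker ⊓ A) by
    rw [inf_left_comm], card_inf_sylow S ((f.normal_ker.isSubnormal).inf hA)] at h2
  have hv := congrArg (fun n => n.factorization p) h1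
  simp only [Nat.factorization_mul Nat.card_pos.ne' Nat.card_pos.ne', Finsupp.coe_add,
    Pi.add_apply] at hv
  rw [← hv, pow_add] at h2
  refine (eq_of_le_of_card_ge (map_inf_le _ _ f) ?_).symm
  have h3 := card_inf_sylow (S.mapSurjective hf) (hA.map hf)
  rw [Sylow.coe_mapSurjective] at h3
  rw [h3]
  exact (Nat.eq_of_mul_eq_mul_right (pow_pos hp.pos _) h2).ge

/-- A minimal normal subgroup normalises every subnormal subgroup. -/
theorem minimal_le_normalizer_aux (n : ℕ) : ∀ (G : Type u) [Group G] [Finite G], Nat.card G ≤ n →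
    ∀ N A : Subgroup G, N.Normal → (∀ K : Subgroup G, K.Normal → K ≤ N → K = ⊥ ∨ K = N) →
      A.IsSubnormal → N ≤ normalizer (A : Set G) := by
  induction n with
  | zero =>
    intro G _ _ hc
    exact absurd (Nat.le_zero.1 hc) Nat.card_pos.ne'
  | succ n ih =>
    intro G _ _ hc N A hN hmin hA
    by_cases hAtop : A = ⊤
    · intro x _; rw [hAtop, mem_normalizer_iff]; simp
    obtain ⟨M, hM, hAM, hMlt⟩ := (hA.lt_normal).resolve_left hAtop
    rcases hmin (N ⊓ M) inferInstance inf_le_left with h | h
    · intro x hx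
      have hcomm : ∀ a ∈ A, x * a * x⁻¹ = a := by
        intro a ha
        have := commutator_le_inf N M (commutator_mem_commutator hx (hAM ha))
        rw [h, mem_bot, commutatorElement_def] at this
        exact mul_inv_eq_one.1 this
      rw [mem_normalizer_iff]
      intro a
      refine ⟨fun ha => (hcomm a ha).symm ▸ ha, fun ha => ?_⟩
      have := hcomm _ ha
      have e : x * a * x⁻¹ = a := by
        have h2 : x * (x * a * x⁻¹) * x⁻¹ = x * (a) * x⁻¹ := this
        simpa using h2
      exact e ▸ ha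
    have hNM : N ≤ M := inf_eq_left.1 h
    by_cases hN0 : N = ⊥
    · rw [hN0]; exact bot_le
    have hcM : Nat.card M ≤ n := by
      rcases Nat.lt_or_ge (Nat.card M) (Nat.card G) with h | h
      · omega
      · exact absurd (eq_top_of_card_eq M (le_antisymm (card_le_card_group M) h)) hMlt.ne
    haveI := hN
    obtain ⟨N0, hN0n, hN01, hN0N, hN0min⟩ :=
      CfsgLib.Solvable.Basic.exists_minimal_normal_le (H := N.subgroupOf M)
        (fun e => hN0 (le_bot_iff.1 fun x hx => by
          have : (⟨x, hNM hx⟩ : M) ∈ N.subgroupOf M := hx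
          rw [e, mem_bot] at this
          simpa using congrArg Subtype.val this))
    set D : Subgroup G := N0.map M.subtype with hD
    have hDN : D ≤ N := by
      rintro _ ⟨x, hx, rfl⟩; exact hN0N hx
    have hcl : normalClosure (D : Set G) = N := by
      refine (hmin _ normalClosure_normal (normalClosure_le_normal hDN)).resolve_left ?_
      intro e
      refine hN01 ((map_eq_bot_iff_of_injective _ M.subtype_injective).1 ?_)
      exact le_bot_iff.1 (e ▸ le_normalClosure)
    have key : ∀ g : G, D.map (MulAut.conj g).toMonoidHom ≤ normalizer (A : Set G) := by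
      intro g
      set A' : Subgroup G := A.map (MulAut.conj g⁻¹).toMonoidHom with hA'
      have hA'M : A' ≤ M := by
        rintro _ ⟨a, ha, rfl⟩
        exact hM.conj_mem a (hAM ha) g⁻¹
      have h1 := ih M hcM N0 (A'.subgroupOf M) hN0n hN0min
        (hA.map (MulAut.conj g⁻¹).surjective).subgroupOf
      rintro _ ⟨_, ⟨d, hd, rfl⟩, rfl⟩
      have h2 := mem_normalizer_iff.1 (h1 hd)
      rw [mem_normalizer_iff]
      intro a
      have key : ∀ z : G, z ∈ A' ↔ g * z * g⁻¹ ∈ A := by
        intro z
        constructor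
        · rintro ⟨a, ha, rfl⟩; simpa [mul_assoc] using ha
        · intro hz; exact ⟨_, hz, by simp [mul_assoc]⟩
      simp only [MulEquiv.coe_toMonoidHom, MulAut.conj_apply, coe_subtype]
      by_cases haM : a ∈ M
      · have h3 := h2 ⟨g⁻¹ * a * g, by simpa using hM.conj_mem a haM g⁻¹⟩
        simp only [mem_subgroupOf, key, coe_mul, coe_inv] at h3
        simpa [mul_assoc] using h3
      · refine iff_of_false (fun h => haM (hAM h)) (fun h => haM ?_)
        have h4 := hM.conj_mem _ (hAM h) (g * (d : G) * g⁻¹)⁻¹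
        simpa [mul_assoc] using h4
    rw [← hcl]
    refine (closure_le _).2 fun x hx => ?_
    obtain ⟨d, hd, hdx⟩ := Group.mem_conjugatesOfSet_iff.1 hx
    obtain ⟨g, hg⟩ := isConj_iff.1 hdx
    exact key g ⟨d, hd, hg⟩

theorem minimal_le_normalizer {G : Type u} [Group G] [Finite G] {N A : Subgroup G} (hN : N.Normal)
    (hmin : ∀ K : Subgroup G, K.Normal → K ≤ N → K = ⊥ ∨ K = N) (hA : A.IsSubnormal) :
    N ≤ normalizer (A : Set G) :=
  minimal_le_normalizer_aux (Nat.card G) G le_rfl N A hN hmin hA

/-- A central element of the derived subgroup lies in any supplement `T` in `S` of `zpowers n`. -/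
theorem mem_of_central {G : Type u} [Group G] [Finite G] {p : ℕ} [Fact p.Prime] (S : Sylow p G)
    (T : Subgroup G) (hTS : T ≤ (S : Subgroup G)) {N : Subgroup G} (hNZ : N ≤ center G)
    (hST : (S : Subgroup G) ≤ T ⊔ N) (hNS : N ≤ (S : Subgroup G)) (hN' : N ≤ commutator G) :
    N ≤ T := by
  classical
  set T' : Subgroup (S : Subgroup G) := T.subgroupOf S with hT'
  haveI : T'.Normal := by
    refine (normal_subgroupOf_iff_le_normalizer hTS).2 (hST.trans (sup_le le_normalizer ?_))
    exact hNZ.trans (center_le_normalizer _)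
  have hcomm : ∀ a b : (S : Subgroup G) ⧸ T', a * b = b * a := by
    intro a b
    induction a using QuotientGroup.induction_on with | _ s => ?_
    induction b using QuotientGroup.induction_on with | _ t => ?_
    have hs : (s : G) ∈ T ⊔ N := hST s.2
    haveI : N.Normal := ⟨fun n hn g => by
      rw [mem_center_iff.1 (hNZ hn) g, mul_inv_cancel_right]; exact hn⟩
    rw [← SetLike.mem_coe, mul_normal] at hs
    obtain ⟨x, hx, y, hy, hxy⟩ := hs
    have hq : (QuotientGroup.mk s : (S : Subgroup G) ⧸ T') = QuotientGroup.mk ⟨y, hNS hy⟩ := by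
      rw [QuotientGroup.eq, hT', mem_subgroupOf]
      have : ((s⁻¹ * ⟨y, hNS hy⟩ : (S : Subgroup G)) : G) = x⁻¹ := by
        have hc := mem_center_iff.1 (hNZ hy) x
        simp only [coe_mul, coe_inv, ← hxy, hc, mul_inv_rev]
        group
      rw [this]; exact inv_mem hx
    have hc : (⟨y, hNS hy⟩ : (S : Subgroup G)) * t = t * ⟨y, hNS hy⟩ :=
      Subtype.ext (mem_center_iff.1 (hNZ hy) t).symm
    rw [hq, ← QuotientGroup.mk_mul, ← QuotientGroup.mk_mul, hc]
  letI : CommGroup ((S : Subgroup G) ⧸ T') :=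
    { (inferInstance : Group ((S : Subgroup G) ⧸ T')) with mul_comm := hcomm }
  intro n hn
  have hV : MonoidHom.transfer (QuotientGroup.mk' T') n = 1 :=
    Abelianization.commutator_subset_ker _ (hN' hn)
  have key : ∀ (k : ℕ) (g₀ : G), g₀⁻¹ * n ^ k * g₀ ∈ (S : Subgroup G) →
      g₀⁻¹ * n ^ k * g₀ = n ^ k := by
    intro k g₀ _
    rw [mul_assoc, ← mem_center_iff.1 (hNZ (pow_mem hn k)) g₀, inv_mul_cancel_left]
  rw [MonoidHom.transfer_eq_pow _ _ key, QuotientGroup.mk'_apply, QuotientGroup.eq_one_iff,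
    hT', mem_subgroupOf] at hV
  obtain ⟨k, hk⟩ := S.isPGroup' ⟨n, hNS hn⟩
  have hk' : orderOf n ∣ p ^ k := orderOf_dvd_of_pow_eq_one (congrArg Subtype.val hk)
  have hcop : Nat.Coprime (S : Subgroup G).index (orderOf n) :=
    Nat.Coprime.coprime_dvd_right hk'
      (Nat.Coprime.pow_right _ (((Fact.out : p.Prime).coprime_iff_not_dvd.2 S.not_dvd_index).symm))
  obtain ⟨m, hm⟩ := exists_pow_eq_self_of_coprime hcop
  rw [← hm]
  exact pow_mem hV m

/-- Main induction. -/
theorem sylow_le_aux (m : ℕ) : ∀ (G : Type u) [Group G] [Finite G], Nat.card G ≤ m →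
    ∀ (p : ℕ) [Fact p.Prime] (S : Sylow p G) (A B : Subgroup G), A.IsSubnormal → B.IsSubnormal →
      A ⊔ B = ⊤ → (S : Subgroup G) ≤ ((S : Subgroup G) ⊓ A) ⊔ ((S : Subgroup G) ⊓ B) := by
  induction m with
  | zero =>
    intro G _ _ hc
    exact absurd (Nat.le_zero.1 hc) Nat.card_pos.ne'
  | succ m ih =>
    intro G _ _ hc p _ S A B hA hB hAB
    by_cases hab : commutator G = ⊥
    · have hcen : (B : Subgroup G) ≤ normalizer (A : Set G) := by
        intro b _
        rw [mem_normalizer_iff]
        intro a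
        have : b * a = a * b := by
          have := commutator_mem_commutator (mem_top b) (mem_top a)
          rw [← commutator_def, hab, mem_bot, commutatorElement_eq_one_iff_mul_comm] at this
          exact this
        rw [this, mul_inv_cancel_right]
      have := inf_le_sup S hA hB hcen
      rwa [hAB, inf_top_eq] at this
    obtain ⟨N, hNn, hN1, hN', hmin⟩ :=
      CfsgLib.Solvable.Basic.exists_minimal_normal_le (H := commutator G) hab
    haveI := hNn
    set T := ((S : Subgroup G) ⊓ A) ⊔ ((S : Subgroup G) ⊓ B) with hT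
    set f := QuotientGroup.mk' N
    have hf : Function.Surjective f := QuotientGroup.mk'_surjective N
    have hcard : Nat.card (G ⧸ N) ≤ m := by
      have h2 : 1 < Nat.card N := Finite.one_lt_card_iff_nontrivial.2
        ((Subgroup.nontrivial_iff_ne_bot N).2 hN1)
      have h3 := Subgroup.card_eq_card_quotient_mul_card_subgroup N
      nlinarith [Nat.card_pos (α := G ⧸ N)]
    have hq := ih (G ⧸ N) hcard p (S.mapSurjective hf) (A.map f) (B.map f) (hA.map hf) (hB.map hf)
      (by rw [← Subgroup.map_sup, hAB, map_top_of_surjective f hf])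
    rw [Sylow.coe_mapSurjective, map_inf_sylow f hf S hA, map_inf_sylow f hf S hB, ← Subgroup.map_sup,
      map_le_iff_le_comap, comap_map_eq, QuotientGroup.ker_mk'] at hq
    -- `S ⊓ N ≤ T`
    have hnA := minimal_le_normalizer hNn hmin hA
    have hnB := minimal_le_normalizer hNn hmin hB
    have hSN : (S : Subgroup G) ⊓ N ≤ T := by
      set W := (N ⊓ A) ⊔ (N ⊓ B) with hW
      have hWn : W.Normal := by
        have step : ∀ X : Subgroup G, N ≤ normalizer (X : Set G) → N ⊓ X ≤ W → ∀ g ∈ X, ∀ n ∈ W,
            g * n * g⁻¹ ∈ W := by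
          intro X hX hXW g hg n hn
          have hnN : n ∈ N := sup_le (a := N ⊓ A) (b := N ⊓ B) inf_le_left inf_le_left hn
          have e : g * n * g⁻¹ = (g * (n * g⁻¹ * n⁻¹)) * n := by group
          rw [e]
          refine mul_mem (hXW (mem_inf.2 ⟨?_, ?_⟩)) hn
          · have : g * (n * g⁻¹ * n⁻¹) = g * n * g⁻¹ * n⁻¹ := by group
            rw [this]; exact mul_mem (hNn.conj_mem n hnN g) (inv_mem hnN)
          · exact mul_mem hg ((mem_normalizer_iff.1 (hX hnN) _).1 (inv_mem hg))
        have hnorm : ∀ X : Subgroup G, N ≤ normalizer (X : Set G) → N ⊓ X ≤ W →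
            X ≤ normalizer (W : Set G) := by
          intro X hX hXW g hg
          rw [mem_normalizer_iff]
          refine fun n => ⟨step X hX hXW g hg n, fun h => ?_⟩
          have := step X hX hXW g⁻¹ (inv_mem hg) _ h
          simpa [mul_assoc] using this
        rw [← normalizer_eq_top_iff, eq_top_iff, ← hAB]
        exact sup_le (hnorm A hnA le_sup_left) (hnorm B hnB le_sup_right)
      rcases hmin W hWn (sup_le inf_le_left inf_le_left) with h | h
      · have hA0 : N ⊓ A = ⊥ := le_bot_iff.1 (h ▸ le_sup_left)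
        have hB0 : N ⊓ B = ⊥ := le_bot_iff.1 (h ▸ le_sup_right)
        have hNZ : N ≤ center G := by
          have aux : ∀ X : Subgroup G, N ⊓ X = ⊥ → N ≤ normalizer (X : Set G) →
              X ≤ centralizer (N : Set G) := by
            intro X hX0 hX g hg
            rw [mem_centralizer_iff]
            intro n hn
            have h1 : n * g * n⁻¹ * g⁻¹ ∈ N ⊓ X := by
              refine mem_inf.2 ⟨?_, mul_mem ((mem_normalizer_iff.1 (hX hn) g).1 hg) (inv_mem hg)⟩
              have : n * g * n⁻¹ * g⁻¹ = n * (g * n⁻¹ * g⁻¹) := by group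
              rw [this]; exact mul_mem hn (hNn.conj_mem _ (inv_mem hn) g)
            rw [hX0, mem_bot] at h1
            calc n * g = (n * g * n⁻¹ * g⁻¹) * (g * n) := by group
              _ = g * n := by rw [h1, one_mul]
          intro n hn
          rw [mem_center_iff]
          intro g
          have hg : g ∈ A ⊔ B := hAB ▸ mem_top g
          exact (mem_centralizer_iff.1
            ((sup_le (aux A hA0 hnA) (aux B hB0 hnB)) hg) n hn).symm
        by_cases hNS : N ≤ (S : Subgroup G)
        · rw [inf_eq_right.2 hNS]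
          exact mem_of_central S T (sup_le inf_le_left inf_le_left) hNZ hq hNS hN'
        · have : ((S : Subgroup G) ⊓ N).Normal := ⟨fun n hn g => by
            rw [mem_center_iff.1 (hNZ hn.2) g, mul_inv_cancel_right]; exact hn⟩
          rcases hmin _ this inf_le_right with h0 | h0
          · rw [h0]; exact bot_le
          · exact absurd (h0 ▸ inf_le_left) hNS
      · calc (S : Subgroup G) ⊓ N = (S : Subgroup G) ⊓ W := by rw [h]
          _ ≤ ((S : Subgroup G) ⊓ (N ⊓ A)) ⊔ ((S : Subgroup G) ⊓ (N ⊓ B)) :=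
            inf_le_sup S (hNn.isSubnormal.inf hA) (hNn.isSubnormal.inf hB) (by
              intro g hg
              rw [mem_normalizer_iff]
              intro x
              have h1 := mem_normalizer_iff.1 (hnA hg.1) x
              simp only [mem_inf]
              exact and_congr ⟨fun hx => hNn.conj_mem x hx g, fun hx => by
                simpa [mul_assoc] using hNn.conj_mem _ hx g⁻¹⟩ h1)
          _ ≤ T := sup_le_sup (inf_le_inf_left _ inf_le_right) (inf_le_inf_left _ inf_le_right)
    intro s hs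
    have hs' : s ∈ T ⊔ N := hq hs
    rw [← SetLike.mem_coe, mul_normal] at hs'
    obtain ⟨t, ht, n, hn, rfl⟩ := hs'
    refine mul_mem ht (hSN (mem_inf.2 ⟨?_, hn⟩))
    have := mul_mem (inv_mem (sup_le (a := (S : Subgroup G) ⊓ A) (b := (S : Subgroup G) ⊓ B)
      inf_le_left inf_le_left ht)) hs
    rwa [inv_mul_cancel_left] at this

/-- Wielandt: the Sylow subgroup of a join of subnormal subgroups. -/
theorem sup_inf_sylow {G : Type u} [Group G] [Finite G] {p : ℕ} [Fact p.Prime] (S : Sylow p G)
    {A B : Subgroup G} (hA : A.IsSubnormal) (hB : B.IsSubnormal) :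
    (A ⊔ B) ⊓ (S : Subgroup G) = (A ⊓ (S : Subgroup G)) ⊔ (B ⊓ (S : Subgroup G)) := by
  refine le_antisymm ?_ (sup_le (inf_le_inf_right _ le_sup_left) (inf_le_inf_right _ le_sup_right))
  set J := A ⊔ B with hJ
  obtain ⟨P, hP⟩ := CfsgLib.Coprime.exists_sylow_map_eq
    (inf_le_right : (S : Subgroup G) ⊓ J ≤ J)
    (card_inf_sylow S (CfsgLib.Fusion.SubnormalJoin.sup_isSubnormal hA hB))
  have h := sylow_le_aux (Nat.card J) J le_rfl p P (A.subgroupOf J) (B.subgroupOf J)
    hA.subgroupOf hB.subgroupOf (by rw [← subgroupOf_sup le_sup_left le_sup_right, subgroupOf_self])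
  have h' := map_mono (f := J.subtype) h
  rw [hP, Subgroup.map_sup, map_inf _ _ _ J.subtype_injective, map_inf _ _ _ J.subtype_injective, hP,
    subgroupOf_map_subtype, subgroupOf_map_subtype, inf_eq_left.2 (le_sup_left : A ≤ J),
    inf_eq_left.2 (le_sup_right : B ≤ J)] at h'
  rw [inf_comm]
  refine h'.trans (sup_le_sup ?_ ?_)
  · exact le_inf inf_le_right (inf_le_left.trans inf_le_left)
  · exact le_inf inf_le_right (inf_le_left.trans inf_le_left)

end CfsgLib.LocalEvenB.SubnormalSylow
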