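import Cfsg.Agent.Lib.FrobRealize.Theorem
import Mathlib.GroupTheory.SchurZassenhaus
import Mathlib.GroupTheory.Sylow

/-!
An element `x` of a Sylow `p`-subgroup `S` which is its only conjugate in `S` and which centralizes
every subgroup of order prime to `p` that it normalizes is central.
-/

set_option autoImplicit false
set_option linter.style.haveILetI false

namespace CfsgLib.LocalEvenB.WeaklyClosedCentral

universe u

open Subgroup
open scoped Pointwise

/-- The hypothesis, stated without a chosen Sylow subgroup. -/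
structure Hyp {G : Type u} [Group G] (p : ℕ) (x : G) : Prop where
  pel : IsPGroup p (zpowers x)
  uniq : ∀ P : Subgroup G, IsPGroup p P → x ∈ P → ∀ g : G, g * x * g⁻¹ ∈ P → g * x * g⁻¹ = x
  cent : ∀ H : Subgroup G, (Nat.card H).Coprime p → (∀ h ∈ H, x * h * x⁻¹ ∈ H) →
    ∀ h ∈ H, x * h = h * x

theorem hyp_subgroup {G : Type u} [Group G] {p : ℕ} {x : G} (h : Hyp p x) (H : Subgroup G)
    (hx : x ∈ H) : Hyp p (⟨x, hx⟩ : H) where
  pel := (h.pel.comap_of_injective H.subtype H.subtype_injective).to_le
    (zpowers_le.2 (mem_comap.2 (mem_zpowers x)))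
  uniq P hP hxP g hg := by
    refine Subtype.ext (h.uniq (P.map H.subtype) (hP.map _) ⟨⟨x, hx⟩, hxP, rfl⟩ (g : G) ?_)
    exact ⟨_, hg, rfl⟩
  cent K hK hinv k hk := by
    refine Subtype.ext (h.cent (K.map H.subtype) ?_ ?_ (k : G) ⟨k, hk, rfl⟩)
    · rwa [Nat.card_congr (equivMapOfInjective K H.subtype H.subtype_injective).toEquiv.symm]
    · rintro _ ⟨y, hy, rfl⟩
      exact ⟨_, hinv y hy, rfl⟩

theorem central_aux (p : ℕ) [hp : Fact p.Prime] : ∀ (K : ℕ) (G : Type u) [Group G] [Finite G],
    Nat.card G ≤ K → ∀ x : G, Hyp p x → x ∈ center G := by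
  intro K
  induction K with
  | zero => intro G _ _ hc; exact absurd hc (not_le.2 Nat.card_pos)
  | succ K ih =>
    intro G _ _ hc x h
    by_contra hxZ
    set C := centralizer ({x} : Set G) with hC
    have hxC : x ∈ C := mem_centralizer_singleton_iff.2 rfl
    have hle : ∀ H : Subgroup G, H ≠ ⊤ → x ∈ H → H ≤ C := by
      intro H hH hxH y hy
      have hlt : Nat.card H < Nat.card G := by
        refine lt_of_le_of_ne (card_le_card_group H) fun e => hH ?_
        exact eq_top_of_card_eq H e
      have hz := mem_center_iff.1 (ih H (by omega) ⟨x, hxH⟩ (hyp_subgroup h H hxH)) ⟨y, hy⟩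
      exact mem_centralizer_singleton_iff.2 (congrArg Subtype.val hz)
    have hCtop : C ≠ ⊤ := fun e => hxZ <| mem_center_iff.2 fun g =>
      mem_centralizer_singleton_iff.1 ((e ▸ mem_top g : g ∈ C))
    -- distinct conjugates do not commute
    have hcomm : ∀ g : G, g * x * g⁻¹ ∈ C → g ∈ C := by
      intro g hg
      have hP : IsPGroup p ↥(zpowers x ⊔ zpowers (g * x * g⁻¹)) := by
        refine IsPGroup.to_sup_of_normal_right' h.pel ?_ ?_
        · have := h.pel.map (MulAut.conj g).toMonoidHom
          rwa [MonoidHom.map_zpowers] at this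
        · refine zpowers_le.2 (mem_normalizer_iff.2 fun y => ?_)
          have hc : ∀ y ∈ zpowers (g * x * g⁻¹), x * y = y * x := by
            rintro _ ⟨k, rfl⟩
            exact ((show Commute x (g * x * g⁻¹) from
              (mem_centralizer_singleton_iff.1 hg).symm).zpow_right k).eq
          constructor
          · intro hy; rw [hc y hy, mul_inv_cancel_right]; exact hy
          · intro hy
            have h1 := hc _ hy
            have : x * y * x⁻¹ = y := by
              rw [mul_assoc, mul_assoc] at h1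
              simpa [mul_assoc] using h1
            rwa [this] at hy
      have := h.uniq _ hP (mem_sup_left (mem_zpowers x)) g (mem_sup_right (mem_zpowers _))
      exact mem_centralizer_singleton_iff.2 (mul_inv_eq_iff_eq_mul.1 this)
    -- intersections of conjugates are central
    have hTI : ∀ g : G, g ∉ C → ∀ c ∈ C, g⁻¹ * c * g ∈ C → c ∈ center G := by
      intro g hg c hcC hcg
      by_contra hcZ
      have hne : centralizer ({c} : Set G) ≠ ⊤ := fun e => hcZ <| mem_center_iff.2 fun y =>
        mem_centralizer_singleton_iff.1 ((e ▸ mem_top y : y ∈ centralizer ({c} : Set G)))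
      have hxc : x ∈ centralizer ({c} : Set G) := mem_centralizer_singleton_iff.2
        (mem_centralizer_singleton_iff.1 hcC).symm
      refine hg (hcomm g (hle _ hne hxc (mem_centralizer_singleton_iff.2 ?_)))
      have h2 := mem_centralizer_singleton_iff.1 hcg
      calc g * x * g⁻¹ * c = g * (x * (g⁻¹ * c * g)) * g⁻¹ := by group
        _ = g * (g⁻¹ * c * g * x) * g⁻¹ := by rw [h2]
        _ = c * (g * x * g⁻¹) := by group
    -- a Sylow subgroup lies in `C`
    obtain ⟨S, hS⟩ := h.pel.exists_le_sylow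
    have hxS : x ∈ S := hS (mem_zpowers x)
    have hSC : (S : Subgroup G) ≤ C := by
      intro s hs
      have := h.uniq S S.isPGroup' hxS s (mul_mem (mul_mem hs hxS) (inv_mem hs))
      exact mem_centralizer_singleton_iff.2 (mul_inv_eq_iff_eq_mul.1 this)
    have hidx : ¬ p ∣ C.index := fun hd => S.not_dvd_index (hd.trans (index_dvd_of_le hSC))
    -- the Frobenius quotient
    set Z := center G with hZdef
    have hZC : Z ≤ C := fun z hz => mem_centralizer_singleton_iff.2 (mem_center_iff.1 hz x).symm
    set f := QuotientGroup.mk' Z with hf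
    have hsurj : Function.Surjective f := QuotientGroup.mk'_surjective Z
    have hcm : (C.map f).comap f = C := by
      rw [comap_map_eq, hf, QuotientGroup.ker_mk', sup_eq_left.2 hZC]
    have hmemC : ∀ y : G, f y ∈ C.map f ↔ y ∈ C := fun y => by rw [← mem_comap, hcm]
    have hFC : Cfsg.IsFrobeniusComplement (C.map f) := by
      refine ⟨fun e => hxZ ?_, fun e => hCtop ?_, fun q hq => ?_⟩
      · have hfx : f x ∈ C.map f := mem_map_of_mem f hxC
        rw [e, mem_bot] at hfx
        exact (QuotientGroup.eq_one_iff x).1 hfx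
      · rw [← hcm, e, comap_top]
      · obtain ⟨g, rfl⟩ := hsurj q
        rw [eq_bot_iff]
        intro y hy
        obtain ⟨hy1, hy2⟩ := mem_inf.1 hy
        obtain ⟨c, hcC, rfl⟩ := mem_map.1 hy1
        rw [CfsgLib.FrobRealize.Kernel.mem_conj_smul, ← map_inv, ← map_mul, ← map_mul, hmemC] at hy2
        rw [mem_bot]
        exact (QuotientGroup.eq_one_iff c).2 (hTI g (fun hgC => hq ((hmemC g).2 hgC)) c hcC hy2)
    obtain ⟨N, -, hNn, hNc⟩ := CfsgLib.FrobRealize.exists_normal_kernel hFC
    set M := N.comap f with hM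
    haveI hMn : M.Normal := hNn.comap f
    have hZM : Z ≤ M := fun z hz => by
      rw [hM, mem_comap, show f z = 1 from (QuotientGroup.eq_one_iff z).2 hz]; exact one_mem _
    have hMC : M ⊓ C = Z := by
      refine le_antisymm (fun y hy => ?_) (le_inf hZM hZC)
      have h1 : f y ∈ N ⊓ C.map f := mem_inf.2 ⟨(mem_inf.1 hy).1, mem_map_of_mem f (mem_inf.1 hy).2⟩
      rw [disjoint_iff.1 hNc.disjoint, mem_bot] at h1
      exact (QuotientGroup.eq_one_iff y).1 h1
    have hMidx : M.index = Nat.card (C.map f) := by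
      rw [hM, index_comap_of_surjective N hsurj]; exact hNc.symm.index_eq_card
    have hNcard : Nat.card N = C.index := by
      rw [← hNc.index_eq_card, ← index_comap_of_surjective _ hsurj, hcm]
    -- the part of `M` of order prime to `p`
    haveI : M.Normal := hMn
    obtain ⟨P⟩ : Nonempty (Sylow p M) := inferInstance
    have hPZ : ∀ y : M, y ∈ (P : Subgroup M) → (y : G) ∈ Z := by
      intro y hy
      obtain ⟨a, ha⟩ := IsPGroup.iff_orderOf.1 P.isPGroup' ⟨y, hy⟩
      rw [orderOf_mk] at ha
      have h1 : orderOf (f y) ∣ p ^ a := by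
        refine (orderOf_map_dvd f _).trans ?_
        rw [← ha, orderOf_coe]
      have h2 : orderOf (f y) ∣ Nat.card N := orderOf_dvd_natCard N (show f y ∈ N from y.2)
      have h3 : orderOf (f y) = 1 := Nat.dvd_one.1 <| by
        have := Nat.dvd_gcd h1 h2
        rwa [Nat.Coprime.gcd_eq_one] at this
        exact ((hp.out.coprime_iff_not_dvd.2 (hNcard ▸ hidx))).pow_left a
      exact (QuotientGroup.eq_one_iff (y : G)).1 (orderOf_eq_one_iff.1 h3)
    have hPn : (P : Subgroup M).Normal := ⟨fun y hy m => by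
      have : (m * y * m⁻¹ : M) = y := Subtype.ext (by
        simp only [Subgroup.coe_mul, Subgroup.coe_inv]
        rw [(mem_center_iff.1 (hPZ y hy) m), mul_inv_cancel_right])
      rwa [this]⟩
    obtain ⟨H0, hH0⟩ := exists_right_complement'_of_coprime P.card_coprime_index
    have hH0card : (Nat.card H0).Coprime p := by
      rw [← hH0.symm.index_eq_card]
      exact (hp.out.coprime_iff_not_dvd.2 P.not_dvd_index).symm
    have hH0n : H0.Normal := ⟨fun k hk m => by
      have hm : m ∈ ((P : Subgroup M) : Set M) * (H0 : Set M) := by rw [hH0.mul_eq]; trivial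
      obtain ⟨z, hz, k', hk', rfl⟩ := hm
      have hzc : ∀ w : M, z * w * z⁻¹ = w := fun w => Subtype.ext (by
        simp only [Subgroup.coe_mul, Subgroup.coe_inv]
        rw [← (mem_center_iff.1 (hPZ z hz) w), mul_inv_cancel_right])
      rw [show z * k' * k * (z * k')⁻¹ = z * (k' * k * k'⁻¹) * z⁻¹ by group, hzc]
      exact mul_mem (mul_mem hk' hk) (inv_mem hk')⟩
    have hinv : ∀ k ∈ H0.map M.subtype, x * k * x⁻¹ ∈ H0.map M.subtype := by
      rintro _ ⟨k, hk, rfl⟩
      refine ⟨⟨x * k * x⁻¹, hMn.conj_mem _ k.2 x⟩, ?_, rfl⟩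
      set k2 : M := ⟨x * k * x⁻¹, hMn.conj_mem _ k.2 x⟩ with hk2
      show k2 ∈ H0
      rw [← QuotientGroup.eq_one_iff (N := H0), ← orderOf_eq_one_iff, ← Nat.dvd_one]
      have h1 : orderOf (QuotientGroup.mk k2 : M ⧸ H0) ∣ H0.index := by
        rw [index_eq_card]; exact orderOf_dvd_natCard _
      have h2 : orderOf (QuotientGroup.mk k2 : M ⧸ H0) ∣ Nat.card H0 := by
        refine (orderOf_map_dvd (QuotientGroup.mk' H0) k2).trans ?_
        refine dvd_trans (dvd_of_eq ?_) (orderOf_dvd_natCard H0 hk)
        rw [← orderOf_coe k2, ← orderOf_coe k]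
        exact (MulAut.conj x).orderOf_eq (k : G)
      have := Nat.dvd_gcd h1 h2
      rwa [Nat.Coprime.gcd_eq_one] at this
      rw [hH0.index_eq_card]
      obtain ⟨a, ha⟩ := P.isPGroup'.exists_card_eq
      rw [ha]; exact (hH0card.symm).pow_left a
    have hHC := h.cent (H0.map M.subtype)
      (by rwa [Nat.card_congr (equivMapOfInjective H0 M.subtype M.subtype_injective).toEquiv.symm]) hinv
    have hMleC : M ≤ C := by
      intro y hy
      have hm : (⟨y, hy⟩ : M) ∈ ((P : Subgroup M) : Set M) * (H0 : Set M) := by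
        rw [hH0.mul_eq]; trivial
      obtain ⟨z, hz, k, hk, hzk⟩ := hm
      have : y = (z : G) * k := (congrArg Subtype.val hzk).symm
      rw [this]
      exact mul_mem (hZC (hPZ z hz)) (mem_centralizer_singleton_iff.2 (hHC _ ⟨k, hk, rfl⟩).symm)
    -- contradiction
    have hMZ : M = Z := by rw [← hMC, inf_eq_left.2 hMleC]
    have hN1 : N = ⊥ := by
      rw [← map_comap_eq_self_of_surjective hsurj N, ← hM, hMZ, hf, QuotientGroup.map_mk'_self]
    refine hCtop ?_
    rw [← index_eq_one, ← hNcard, hN1, card_bot]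

/-- An element of a Sylow subgroup equal to all its conjugates there and centralizing all the
subgroups of order prime to `p` it normalizes is central. -/
theorem mem_center {G : Type u} [Group G] [Finite G] {p : ℕ} [Fact p.Prime] (S : Sylow p G) (x : G)
    (hx : x ∈ S) (hU : ∀ g : G, g⁻¹ * x * g ∈ S → g⁻¹ * x * g = x)
    (hb : ∀ H : Subgroup G, (Nat.card H).Coprime p → (∀ h ∈ H, x * h * x⁻¹ ∈ H) →
      ∀ h ∈ H, x * h = h * x) : x ∈ center G := by
  refine central_aux p _ G le_rfl x ⟨S.isPGroup'.to_le (zpowers_le.2 hx), fun P hP hxP g hg => ?_, hb⟩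
  obtain ⟨T, hT⟩ := hP.exists_le_sylow
  obtain ⟨k, rfl⟩ := MulAction.exists_smul_eq G S T
  have e : ∀ y : G, y ∈ (k • S : Sylow p G) → k⁻¹ * y * k ∈ S := fun y hy => by
    have : y ∈ MulAut.conj k • (S : Subgroup G) := hy
    rwa [CfsgLib.FrobRealize.Kernel.mem_conj_smul] at this
  have h1 : k⁻¹ * x * k = x := hU k (e x (hT hxP))
  have h2 : k⁻¹ * (g * x * g⁻¹) * k = x := by
    have := hU (g⁻¹ * k) (by
      have := e _ (hT hg)
      simpa [mul_assoc] using this)
    simpa [mul_assoc] using this
  calc g * x * g⁻¹ = k * (k⁻¹ * (g * x * g⁻¹) * k) * k⁻¹ := by group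
    _ = k * (k⁻¹ * x * k) * k⁻¹ := by rw [h2, h1]
    _ = x := by group

end CfsgLib.LocalEvenB.WeaklyClosedCentral
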