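import Cfsg.Agent.Lib.KnownC.AnHall.Alt

/-!
# Alternating groups whose Sylow 3-subgroups lie in a unique maximal subgroup
-/

set_option autoImplicit false
set_option linter.unusedSectionVars false
set_option linter.style.haveILetI false

namespace CfsgLib.LocalEvenB.AltThreeMinimal

open Equiv Cfsg.Agent.KnownC.AnHall

variable {α : Type*} [Fintype α] [DecidableEq α]

/-- The three-cycle `a → b → c`. -/
def cyc (a b c : α) : Perm α := swap a b * swap b c

theorem cyc_left {a b c : α} (hab : a ≠ b) (hac : a ≠ c) : cyc a b c a = b := by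
  rw [cyc, Perm.mul_apply, swap_apply_of_ne_of_ne hab hac, swap_apply_left]

theorem cyc_mid {a b c : α} (hac : a ≠ c) (hbc : b ≠ c) : cyc a b c b = c := by
  rw [cyc, Perm.mul_apply, swap_apply_left, swap_apply_of_ne_of_ne hac.symm hbc.symm]

theorem cyc_off {a b c z : α} (ha : z ≠ a) (hb : z ≠ b) (hc : z ≠ c) : cyc a b c z = z := by
  rw [cyc, Perm.mul_apply, swap_apply_of_ne_of_ne hb hc, swap_apply_of_ne_of_ne ha hb]

theorem cyc_three {a b c : α} (hab : a ≠ b) (hac : a ≠ c) (hbc : b ≠ c) : (cyc a b c).IsThreeCycle := by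
  rw [cyc, swap_comm a b]
  exact Perm.isThreeCycle_swap_mul_swap_same hab.symm hbc hac

theorem exists_ne₂ (h : 3 ≤ Fintype.card α) (a b : α) : ∃ z, z ≠ a ∧ z ≠ b := by
  obtain ⟨z, -, hz⟩ := Finset.exists_mem_notMem_of_card_lt_card
    (s := ({a, b} : Finset α)) (t := Finset.univ) (by
      rw [Finset.card_univ]; exact lt_of_le_of_lt Finset.card_le_two h)
  simp only [Finset.mem_insert, Finset.mem_singleton, not_or] at hz
  exact ⟨z, hz⟩

variable (T M : Subgroup (alternatingGroup α))

/-- `M` absorbs every proper subgroup containing `T`. -/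
def Absorbs : Prop := ∀ K : Subgroup (alternatingGroup α), T ≤ K → K ≠ ⊤ → K ≤ M

/-- `T` in `Perm α`. -/
def TP : Subgroup (Perm α) := T.map (alternatingGroup α).subtype

/-- `M` in `Perm α`. -/
def MP : Subgroup (Perm α) := M.map (alternatingGroup α).subtype

variable {T M}

theorem absorb (h : Absorbs T M) {K : Subgroup (Perm α)} (hTK : TP T ≤ K) {g : Perm α}
    (hg : g.IsThreeCycle) (hgK : g ∉ K) {x : Perm α} (hx : x ∈ K) (hxA : x ∈ alternatingGroup α) :
    x ∈ MP M := by
  refine ⟨⟨x, hxA⟩, h (K.subgroupOf (alternatingGroup α)) (fun t ht => hTK ⟨t, ht, rfl⟩) ?_ hx, rfl⟩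
  intro e
  have : (⟨g, hg.mem_alternatingGroup⟩ : alternatingGroup α) ∈ K.subgroupOf (alternatingGroup α) := by
    rw [e]; exact Subgroup.mem_top _
  exact hgK this

theorem not_total (hne : M ≠ ⊤) : ¬ ∀ x y, (threeRel (MP M)).r x y := by
  intro h
  apply hne
  rw [eq_top_iff]
  intro m _
  have hm : (m : Perm α) ∈ MP M := by
    have hle : alternatingGroup α ≤ MP M := by
      rw [← Perm.closure_three_cycles_eq_alternating, Subgroup.closure_le]
      intro σ (hσ : σ.IsThreeCycle)
      obtain ⟨u, hu, -⟩ := hσ.isCycle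
      exact three_mem_of_class _ hσ hu (h _ _) (h _ _)
    exact hle m.2
  obtain ⟨m', hm', he⟩ := hm
  rwa [← Subtype.ext he]

/-- two points of a `T`-stable set, or of its complement, are related -/
theorem rel_of_stable (h : Absorbs T M) {P : α → Prop} (hP : ∀ g ∈ TP T, ∀ z, P (g z) ↔ P z)
    {u v : α} (hu : P u) (hv : ¬ P v) (hn : 3 ≤ Fintype.card α) {x y z : α} (hxy : x ≠ y)
    (hxz : x ≠ z) (hyz : y ≠ z) (hxP : P x ↔ P y) (hyP : P y ↔ P z) :
    (threeRel (MP M)).r x y := by
  let K : Subgroup (Perm α) :=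
    { carrier := {g | ∀ z, P (g z) ↔ P z}
      mul_mem' := fun {a b} ha hb z => (ha (b z)).trans (hb z)
      one_mem' := fun z => Iff.rfl
      inv_mem' := fun {a} ha z => by
        have := ha (a⁻¹ z)
        rw [show a (a⁻¹ z) = z from a.apply_symm_apply z] at this
        exact this.symm }
  have huv : u ≠ v := fun e => hv (e ▸ hu)
  obtain ⟨w, hwu, hwv⟩ := exists_ne₂ hn u v
  have hg : cyc u v w ∉ K := fun hg => hv (by
    have := hg u
    rw [cyc_left huv hwu.symm] at this
    exact this.mpr hu)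
  have hc : cyc x y z ∈ K := by
    intro t
    by_cases h1 : t = x
    · rw [h1, cyc_left hxy hxz]; exact hxP.symm
    by_cases h2 : t = y
    · rw [h2, cyc_mid hxz hyz]; exact hyP.symm
    by_cases h3 : t = z
    · subst h3
      have : cyc x y t t = x := by
        rw [cyc, Perm.mul_apply, swap_apply_right, swap_apply_right]
      rw [this]; exact hxP.trans hyP
    · rw [cyc_off h1 h2 h3]
  refine Or.inr ⟨cyc x y z, ?_, cyc_three hxy hxz hyz, cyc_left hxy hxz⟩
  exact absorb h (K := K) (fun g hg => hP g hg) (cyc_three huv hwu.symm hwv.symm) hg hc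
    (cyc_three hxy hxz hyz).mem_alternatingGroup

/-- the orbit relation -/
def orb (T : Subgroup (alternatingGroup α)) (x z : α) : Prop := ∃ g ∈ TP T, g x = z

theorem orb_refl (x : α) : orb T x x := ⟨1, one_mem _, rfl⟩

theorem orb_symm {x z : α} (h : orb T x z) : orb T z x := by
  obtain ⟨g, hg, rfl⟩ := h
  exact ⟨g⁻¹, inv_mem hg, g.symm_apply_apply x⟩

theorem orb_trans {x y z : α} (h : orb T x y) (h' : orb T y z) : orb T x z := by
  obtain ⟨g, hg, rfl⟩ := h
  obtain ⟨g', hg', rfl⟩ := h'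
  exact ⟨g' * g, mul_mem hg' hg, rfl⟩

theorem orb_stable (x : α) : ∀ g ∈ TP T, ∀ z, orb T x (g z) ↔ orb T x z := fun g hg z =>
  ⟨fun h => orb_trans h (orb_symm ⟨g, hg, rfl⟩), fun h => orb_trans h ⟨g, hg, rfl⟩⟩

/-- size of an orbit -/
noncomputable def size (T : Subgroup (alternatingGroup α)) (x : α) : ℕ :=
  Nat.card {z // orb T x z}

theorem size_pos (x : α) : 0 < size T x := by
  haveI : Nonempty {z // orb T x z} := ⟨⟨x, orb_refl x⟩⟩
  exact Nat.card_pos

theorem size_eq_pow (hT : IsPGroup 3 T) (x : α) : ∃ a : ℕ, size T x = 3 ^ a := by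
  haveI : Fact (Nat.Prime 3) := ⟨Nat.prime_three⟩
  have hTP : IsPGroup 3 (TP T) := hT.map _
  obtain ⟨a, ha⟩ := hTP.card_orbit x
  refine ⟨a, ?_⟩
  rw [size, ← ha]
  exact Nat.card_congr (Equiv.subtypeEquivRight fun z =>
    ⟨fun ⟨g, hg, he⟩ => ⟨⟨g, hg⟩, he⟩, fun ⟨⟨g, hg⟩, he⟩ => ⟨g, hg, he⟩⟩)

theorem exists_third {x y : α} (h : 3 ≤ size T x) : ∃ z, orb T x z ∧ z ≠ x ∧ z ≠ y := by
  classical
  by_contra hcon
  push Not at hcon
  have h1 : (Finset.univ.filter fun z => orb T x z) ⊆ {x, y} := fun z hz => by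
    simp only [Finset.mem_filter, Finset.mem_univ, true_and] at hz
    simp only [Finset.mem_insert, Finset.mem_singleton]
    by_cases e : z = x
    · exact Or.inl e
    · exact Or.inr (hcon z hz e)
  have h2 := (Finset.card_le_card h1).trans Finset.card_le_two
  rw [← Fintype.card_subtype, ← Nat.card_eq_fintype_card] at h2
  change size T x ≤ 2 at h2
  omega

/-- at most two orbits -/
theorem orbits_le_two (h : Absorbs T M) (hne : M ≠ ⊤) (hT : IsPGroup 3 T) (hn : 5 ≤ Fintype.card α)
    (x₀ y₀ : α) (hxy₀ : ¬ orb T x₀ y₀) (z : α) : orb T x₀ z ∨ orb T y₀ z := by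
  by_contra hz
  push Not at hz
  apply not_total hne
  -- three distinct orbits
  have third : ∀ x y : α, ∃ w, ¬ orb T x w ∧ ¬ orb T y w := by
    intro x y
    by_contra hcon
    push Not at hcon
    have h1 := hcon x₀
    have h2 := hcon y₀
    have h3 := hcon z
    by_cases e1 : orb T x x₀
    · by_cases e2 : orb T x y₀
      · exact hxy₀ (orb_trans (orb_symm e1) e2)
      · by_cases e3 : orb T x z
        · exact hz.1 (orb_trans (orb_symm e1) e3)
        · exact hz.2 (orb_trans (orb_symm (h2 e2)) (h3 e3))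
    · by_cases e2 : orb T x y₀
      · by_cases e3 : orb T x z
        · exact hz.2 (orb_trans (orb_symm e2) e3)
        · exact hz.1 (orb_trans (orb_symm (h1 e1)) (h3 e3))
      · exact hxy₀ (orb_trans (orb_symm (h1 e1)) (h2 e2))
  have hrel : ∀ x y u w, ¬ orb T u x → ¬ orb T u y → x ≠ y → w ≠ x → w ≠ y → ¬ orb T u w →
      (threeRel (MP M)).r x y := fun x y u w hux huy hxy hwx hwy huw =>
    rel_of_stable h (P := orb T u) (orb_stable u) (orb_refl u) hux (by omega) hxy hwx.symm hwy.symm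
      ⟨fun e => absurd e hux, fun e => absurd e huy⟩ ⟨fun e => absurd e huy, fun e => absurd e huw⟩
  intro x y
  by_cases hxy : x = y
  · subst hxy; exact (threeRel (MP M)).refl' x
  obtain ⟨u, hu1, hu2⟩ := third x y
  have hux : ¬ orb T u x := fun e => hu1 (orb_symm e)
  have huy : ¬ orb T u y := fun e => hu2 (orb_symm e)
  by_cases hbig : ∃ w, w ≠ x ∧ w ≠ y ∧ ¬ orb T u w
  · obtain ⟨w, hwx, hwy, huw⟩ := hbig
    exact hrel x y u w hux huy hxy hwx hwy huw
  push Not at hbig
  -- the orbit of `u` is everything else, and large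
  have hxy' : ¬ orb T x y := by
    intro e
    obtain ⟨a, ha⟩ := size_eq_pow hT x
    have hs : 3 ≤ size T x := by
      rcases Nat.eq_zero_or_pos a with rfl | ha0
      · exfalso
        rw [pow_zero, size, Nat.card_eq_one_iff_unique] at ha
        exact hxy (congrArg Subtype.val (ha.1.elim ⟨x, orb_refl x⟩ ⟨y, e⟩))
      · rw [ha]; calc 3 = 3 ^ 1 := (pow_one 3).symm
          _ ≤ 3 ^ a := Nat.pow_le_pow_right (by norm_num) ha0
    obtain ⟨w, hw, hwx, hwy⟩ := exists_third (y := y) hs
    exact hux (orb_trans (hbig w hwx hwy) (orb_symm hw))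
  obtain ⟨v, hvx, hvy⟩ := exists_ne₂ (by omega : 3 ≤ Fintype.card α) x y
  have huv := hbig v hvx hvy
  obtain ⟨w, hw⟩ : ∃ w, w ∉ ({x, y, v} : Finset α) := by
    by_contra hcon
    push Not at hcon
    have := Finset.card_le_card (s := Finset.univ) fun t _ => hcon t
    rw [Finset.card_univ] at this
    have := this.trans Finset.card_le_three
    omega
  simp only [Finset.mem_insert, Finset.mem_singleton, not_or] at hw
  have hvx' : ¬ orb T x v := fun e => hux (orb_trans huv (orb_symm e))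
  have hwx' : ¬ orb T x w := fun e => hux (orb_trans (hbig w hw.1 hw.2.1) (orb_symm e))
  have hvy' : ¬ orb T y v := fun e => huy (orb_trans huv (orb_symm e))
  have hwy' : ¬ orb T y w := fun e => huy (orb_trans (hbig w hw.1 hw.2.1) (orb_symm e))
  have r1 : (threeRel (MP M)).r x v :=
    hrel x v y w (fun e => hxy' (orb_symm e)) hvy' hvx.symm hw.1 hw.2.2 hwy'
  have r2 : (threeRel (MP M)).r y v :=
    hrel y v x w hxy' hvx' hvy.symm hw.2.1 hw.2.2 hwx'
  exact (threeRel (MP M)).trans' r1 ((threeRel (MP M)).symm' r2)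

/-- a `T`-orbit carries a `T`-invariant fixed-point-free element of order three -/
theorem exists_orbit_element (hT : IsPGroup 3 T) {x : α} (hx : 3 ≤ size T x) :
    ∃ ζ : Perm α, ζ ^ 3 = 1 ∧ (∀ g ∈ TP T, g * ζ = ζ * g) ∧ (∀ z, ¬ orb T x z → ζ z = z) ∧
      ∀ z, orb T x z → ζ z ≠ z := by
  classical
  haveI : Fact (Nat.Prime 3) := ⟨Nat.prime_three⟩
  let f : TP T →* Perm {z // orb T x z} :=
    MonoidHom.mk' (fun g => (g : Perm α).subtypePerm fun z => orb_stable x g g.2 z)
      fun a b => Equiv.ext fun z => Subtype.ext rfl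
  have hR : IsPGroup 3 f.range :=
    (hT.map (alternatingGroup α).subtype).of_surjective f.rangeRestrict f.rangeRestrict_surjective
  obtain ⟨z₁, hz₁, hz₁x, -⟩ := exists_third (y := x) hx
  obtain ⟨g₁, hg₁, hg₁e⟩ := id hz₁
  haveI : Nontrivial f.range := ⟨⟨⟨f ⟨g₁, hg₁⟩, ⟨_, rfl⟩⟩, 1, fun e => hz₁x (by
    have := congrArg (fun p : Perm {z // orb T x z} => ((p ⟨x, orb_refl x⟩ : {z // orb T x z}) : α))
      (congrArg Subtype.val e)
    exact hg₁e.symm.trans this)⟩⟩
  haveI : Nontrivial (Subgroup.center f.range) := hR.center_nontrivial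
  obtain ⟨k, hk0, hk⟩ := (hR.to_subgroup (Subgroup.center f.range)).nontrivial_iff_card.mp inferInstance
  obtain ⟨c, hc⟩ := exists_prime_orderOf_dvd_card' (G := Subgroup.center f.range) 3
    (by rw [hk]; exact dvd_pow_self 3 hk0.ne')
  set c' : Perm {z // orb T x z} := ((c : f.range) : Perm {z // orb T x z}) with hc'
  have hc3 : c' ^ 3 = 1 := by
    have := congrArg (fun u : Subgroup.center f.range => ((u : f.range) : Perm {z // orb T x z}))
      (hc ▸ pow_orderOf_eq_one c)
    simpa [hc'] using this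
  have hcne : c' ≠ 1 := fun e => by
    have : c = 1 := Subtype.ext (Subtype.ext e)
    rw [this, orderOf_one] at hc
    exact absurd hc (by norm_num)
  have hcomm : ∀ g : TP T, f g * c' = c' * f g := fun g =>
    congrArg Subtype.val (Subgroup.mem_center_iff.mp c.2 ⟨f g, ⟨g, rfl⟩⟩)
  refine ⟨Perm.ofSubtype c', by rw [← map_pow, hc3, map_one], fun g hg => ?_,
    fun z hz => Perm.ofSubtype_apply_of_not_mem c' hz, fun z hz => ?_⟩
  · refine Equiv.ext fun z => ?_
    simp only [Perm.mul_apply]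
    by_cases hz : orb T x z
    · rw [Perm.ofSubtype_apply_of_mem c' hz, Perm.ofSubtype_apply_of_mem c' ((orb_stable x g hg z).mpr hz)]
      exact congrArg Subtype.val (Equiv.congr_fun (hcomm ⟨g, hg⟩) ⟨z, hz⟩)
    · rw [Perm.ofSubtype_apply_of_not_mem c' hz,
        Perm.ofSubtype_apply_of_not_mem c' fun e => hz ((orb_stable x g hg z).mp e)]
  · intro e
    rw [Perm.ofSubtype_apply_of_mem c' hz] at e
    apply hcne
    refine Equiv.ext fun w => ?_
    obtain ⟨g, hg, hge⟩ := orb_trans (orb_symm hz) w.2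
    have h1 := Equiv.congr_fun (hcomm ⟨g, hg⟩) ⟨z, hz⟩
    have h2 : c' ⟨z, hz⟩ = ⟨z, hz⟩ := Subtype.ext e
    have h3 : f ⟨g, hg⟩ ⟨z, hz⟩ = w := Subtype.ext hge
    rw [Perm.mul_apply, Perm.mul_apply, h2, h3] at h1
    exact h1.symm

/-- block of `a` -/
def blk (ζ : Perm α) (a : α) : Finset α := {a, ζ a, ζ (ζ a)}

/-- With a fixed-point-free `T`-invariant element of order three and more than nine points, no class
of `M` meets two blocks. -/
theorem no_two_blocks (h : Absorbs T M) (hne : M ≠ ⊤) (hn : 10 ≤ Fintype.card α) {ζ : Perm α}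
    (h3 : ∀ z, ζ (ζ (ζ z)) = z) (hfree : ∀ z, ζ z ≠ z) (hcomm : ∀ g ∈ TP T, g * ζ = ζ * g)
    {x u : α} (hu : u ∉ blk ζ x) : ¬ (threeRel (MP M)).r x u := by
  intro hxu
  apply not_total hne
  have hsym : ∀ {a b : α}, b ∈ blk ζ a → a ∈ blk ζ b := by
    intro a b hb
    simp only [blk, Finset.mem_insert, Finset.mem_singleton] at hb ⊢
    rcases hb with rfl | rfl | rfl
    · exact Or.inl rfl
    · exact Or.inr (Or.inr (h3 a).symm)
    · exact Or.inr (Or.inl (h3 a).symm)
  have hstep : ∀ {a b : α}, b ∈ blk ζ a → ζ b ∈ blk ζ a := by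
    intro a b hb
    simp only [blk, Finset.mem_insert, Finset.mem_singleton] at hb ⊢
    rcases hb with rfl | rfl | rfl
    · exact Or.inr (Or.inl rfl)
    · exact Or.inr (Or.inr rfl)
    · exact Or.inl (h3 a)
  have hmem : ∀ {a b c : α}, c ∈ blk ζ b → b ∈ blk ζ a → c ∈ blk ζ a := by
    intro a b c hc hb
    simp only [blk, Finset.mem_insert, Finset.mem_singleton] at hc
    rcases hc with rfl | rfl | rfl
    exacts [hb, hstep hb, hstep (hstep hb)]
  have hlin : ∀ a, ∀ g : Perm α, g * ζ = ζ * g → g (ζ a) = ζ (g a) := fun a g hg => Equiv.congr_fun hg a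
  let K : Subgroup (Perm α) := Subgroup.centralizer {ζ}
  have hTK : TP T ≤ K := fun g hg => Subgroup.mem_centralizer_singleton_iff.mpr (hcomm g hg)
  have hg : cyc x (ζ x) u ∉ K := by
    intro hg
    have h1 : x ≠ ζ x := (hfree x).symm
    have h2 : x ≠ u := fun e => hu (by simp [blk, e])
    have h4 : ζ x ≠ u := fun e => hu (by simp [blk, e])
    have h5 := hlin x _ (Subgroup.mem_centralizer_singleton_iff.mp hg)
    rw [cyc_mid h2 h4, cyc_left h1 h2] at h5
    exact hu (by simp [blk, h5])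
  -- cycling three blocks
  have move : ∀ a b c e : α, b ∉ blk ζ a → c ∉ blk ζ a → c ∉ blk ζ b → e ∉ blk ζ a → e ∉ blk ζ b →
      e ∉ blk ζ c → (threeRel (MP M)).r a e → (threeRel (MP M)).r b e := by
    intro a b c e hba hca hcb hea heb hec hae
    set η := cyc a b c * cyc (ζ a) (ζ b) (ζ c) * cyc (ζ (ζ a)) (ζ (ζ b)) (ζ (ζ c)) with hη
    have ne1 : ∀ {p q : α}, q ∉ blk ζ p → p ≠ q ∧ p ≠ ζ q ∧ p ≠ ζ (ζ q) := by
      intro p q hq
      refine ⟨?_, ?_, ?_⟩ <;> intro e <;> exact hq (hsym (by simp [blk, e]))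
    have nb : ∀ {p q : α}, q ∉ blk ζ p → ζ q ∉ blk ζ (ζ p) := by
      intro p q hq hc
      apply hq
      have := hstep (hstep (hmem hc (show ζ p ∈ blk ζ p by simp [blk])))
      rwa [h3] at this
    have d1 := ne1 hba; have d2 := ne1 hca; have d3 := ne1 hcb
    have e1 := ne1 (nb hba); have e2 := ne1 (nb hca); have e3 := ne1 (nb hcb)
    have f1 := ne1 (nb (nb hba)); have f2 := ne1 (nb (nb hca)); have f3 := ne1 (nb (nb hcb))
    have hd : ∀ (p q r : α), q ∉ blk ζ p → r ∉ blk ζ p → r ∉ blk ζ q →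
        Perm.Disjoint (cyc p q r) (cyc (ζ p) (ζ q) (ζ r)) := by
      intro p q r hqp hrp hrq z
      have u1 := ne1 hqp; have u2 := ne1 hrp; have u3 := ne1 hrq
      have v1 := ne1 (fun h => hqp (hsym h)); have v2 := ne1 (fun h => hrp (hsym h))
      have v3 := ne1 (fun h => hrq (hsym h))
      by_cases hz : z = p ∨ z = q ∨ z = r
      · refine Or.inr (cyc_off ?_ ?_ ?_) <;> rcases hz with rfl | rfl | rfl
        exacts [(hfree z).symm, v1.2.1, v2.2.1, u1.2.1, (hfree z).symm, v3.2.1, u2.2.1, u3.2.1,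
          (hfree z).symm]
      · push Not at hz
        exact Or.inl (cyc_off hz.1 hz.2.1 hz.2.2)
    have hconj : ∀ p q r, ζ * cyc p q r * ζ⁻¹ = cyc (ζ p) (ζ q) (ζ r) := by
      intro p q r
      rw [cyc, cyc, swap_apply_apply, swap_apply_apply]; group
    have k1 := hd a b c hba hca hcb
    have k2 := hd _ _ _ (nb hba) (nb hca) (nb hcb)
    have k3 := hd _ _ _ (nb (nb hba)) (nb (nb hca)) (nb (nb hcb))
    rw [h3, h3, h3] at k3
    have hηK : η ∈ K := by
      rw [Subgroup.mem_centralizer_singleton_iff]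
      have : ζ * η * ζ⁻¹ = η := by
        calc ζ * η * ζ⁻¹ = (ζ * cyc a b c * ζ⁻¹) * (ζ * cyc (ζ a) (ζ b) (ζ c) * ζ⁻¹) *
              (ζ * cyc (ζ (ζ a)) (ζ (ζ b)) (ζ (ζ c)) * ζ⁻¹) := by rw [hη]; group
          _ = cyc (ζ a) (ζ b) (ζ c) * cyc (ζ (ζ a)) (ζ (ζ b)) (ζ (ζ c)) * cyc a b c := by
              rw [hconj, hconj, hconj, h3, h3, h3]
          _ = η := by
              rw [hη, mul_assoc, k3.commute.eq, ← mul_assoc, ← k1.commute.eq]
      calc η * ζ = (ζ * η * ζ⁻¹) * ζ := by rw [this]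
        _ = ζ * η := by group
    have hηM : η ∈ MP M := by
      refine absorb h hTK (cyc_three (hfree x).symm (fun e => hu (by simp [blk, e]))
        (fun e => hu (by simp [blk, e]))) hg hηK ?_
      exact mul_mem (mul_mem (cyc_three d1.1 d2.1 d3.1).mem_alternatingGroup
        (cyc_three e1.1 e2.1 e3.1).mem_alternatingGroup) (cyc_three f1.1 f2.1 f3.1).mem_alternatingGroup
    have hηa : η a = b := by
      simp only [hη, Perm.mul_apply]
      rw [cyc_off ?_ d1.2.2 d2.2.2, cyc_off (hfree a).symm d1.2.1 d2.2.1, cyc_left d1.1 d2.1]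
      intro e'
      exact hfree a (by conv_rhs => rw [← h3 a, ← e'])
    have hηe : η e = e := by
      have n1 := ne1 (fun h' => hea (hsym h')); have n2 := ne1 (fun h' => heb (hsym h'))
      have n3 := ne1 (fun h' => hec (hsym h'))
      simp only [hη, Perm.mul_apply]
      rw [cyc_off n1.2.2 n2.2.2 n3.2.2, cyc_off n1.2.1 n2.2.1 n3.2.1, cyc_off n1.1 n2.1 n3.1]
    have := (Cfsg.Agent.KnownC.AnHall.le_stabN_threeRel (MP M) hηM a e).mpr hae
    rwa [hηa, hηe] at this
  have hfour : ∀ a b c : α, ∃ d, d ∉ blk ζ a ∧ d ∉ blk ζ b ∧ d ∉ blk ζ c := by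
    intro a b c
    by_contra hcon
    push Not at hcon
    have h1 : (Finset.univ : Finset α) ⊆ blk ζ a ∪ blk ζ b ∪ blk ζ c := fun d _ => by
      simp only [Finset.mem_union]
      by_cases p : d ∈ blk ζ a
      · exact Or.inl (Or.inl p)
      by_cases q : d ∈ blk ζ b
      · exact Or.inl (Or.inr q)
      exact Or.inr (hcon d p q)
    have h2 := (Finset.card_le_card h1).trans ((Finset.card_union_le _ _).trans
      (Nat.add_le_add_right (Finset.card_union_le _ _) _))
    have h4 : ∀ t, (blk ζ t).card ≤ 3 := fun t => Finset.card_le_three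
    have := h4 a; have := h4 b; have := h4 c
    rw [Finset.card_univ] at h2
    omega
  -- a third block joins a related pair
  have join : ∀ a b d : α, b ∉ blk ζ a → d ∉ blk ζ a → d ∉ blk ζ b → (threeRel (MP M)).r a b →
      (threeRel (MP M)).r a d := by
    intro a b d hba hda hdb hab
    obtain ⟨w, hwa, hwb, hwd⟩ := hfour a b d
    refine (threeRel (MP M)).symm' (move b d w a hdb hwb hwd (fun h => hba (hsym h))
      (fun h => hda (hsym h)) (fun h => hwa (hsym h)) ((threeRel (MP M)).symm' hab))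
  have hall : ∀ d, (threeRel (MP M)).r x d := by
    intro d
    by_cases hdx : d ∈ blk ζ x
    · obtain ⟨z, hzx, hzu, -⟩ := hfour x u x
      have r1 := join x u z hu hzx hzu hxu
      have hdu : d ∉ blk ζ u := fun h => hu (hmem (hsym h) hdx)
      have hdz : d ∉ blk ζ z := fun h => hzx (hmem (hsym h) hdx)
      have r2 : (threeRel (MP M)).r u z := (threeRel (MP M)).trans' ((threeRel (MP M)).symm' hxu) r1
      exact (threeRel (MP M)).trans' hxu (join u z d hzu hdu hdz r2)
    by_cases hdu : d ∈ blk ζ u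
    · obtain ⟨z, hzx, hzu, -⟩ := hfour x u x
      have r1 := join x u z hu hzx hzu hxu
      exact join x z d hzx hdx (fun h => hzu (hmem (hsym h) hdu)) r1
    · exact join x u d hu hdx hdu hxu
  exact fun a b => (threeRel (MP M)).trans' ((threeRel (MP M)).symm' (hall a)) (hall b)

theorem exists_off_block (ζ : Perm α) (x : α) {P : α → Prop} (h : 4 ≤ Nat.card {z // P z}) :
    ∃ u, P u ∧ u ∉ blk ζ x := by
  classical
  by_contra hcon
  push Not at hcon
  have h1 : (Finset.univ.filter fun z => P z) ⊆ blk ζ x := fun z hz =>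
    hcon z (Finset.mem_filter.mp hz).2
  have h2 := (Finset.card_le_card h1).trans Finset.card_le_three
  rw [← Fintype.card_subtype, ← Nat.card_eq_fintype_card] at h2
  omega

/-- The classification. -/
theorem main (h : Absorbs T M) (hne : M ≠ ⊤) (hT : IsPGroup 3 T) (hn : 5 ≤ Fintype.card α) :
    Fintype.card α = 6 ∨ Fintype.card α = 9 ∨ ∃ a : ℕ, 2 ≤ a ∧ Fintype.card α = 3 ^ a + 1 := by
  classical
  haveI : Fact (Nat.Prime 3) := ⟨Nat.prime_three⟩
  obtain ⟨x₀⟩ : Nonempty α := Fintype.card_pos_iff.mp (by omega)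
  obtain ⟨a, ha⟩ := size_eq_pow hT x₀
  have hrel : ∀ x y z v, orb T x y → orb T x z → ¬ orb T x v → x ≠ y → z ≠ x → z ≠ y →
      (threeRel (MP M)).r x y := fun x y z v hy hz hv hxy hzx hzy =>
    rel_of_stable h (P := orb T x) (orb_stable x) (orb_refl x) hv (by omega) hxy hzx.symm hzy.symm
      (iff_of_true (orb_refl x) hy) (iff_of_true hy hz)
  by_cases htrans : ∀ z, orb T x₀ z
  · have hcard : Fintype.card α = 3 ^ a := by
      rw [← ha, size, ← Nat.card_eq_fintype_card]
      exact (Nat.card_congr (Equiv.subtypeUnivEquiv htrans)).symm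
    rcases (show a ≤ 1 ∨ a = 2 ∨ 3 ≤ a by omega) with h1 | rfl | h3
    · have : 3 ^ a ≤ 3 ^ 1 := Nat.pow_le_pow_right (by norm_num) h1
      omega
    · exact Or.inr (Or.inl (by rw [hcard]; norm_num))
    exfalso
    have h27 : 27 ≤ 3 ^ a := le_trans (by norm_num) (Nat.pow_le_pow_right (by norm_num) h3)
    obtain ⟨ζ, hz3, hzc, -, hzf⟩ := exists_orbit_element hT (x := x₀) (by omega)
    -- a normal subgroup of index three containing the point stabiliser
    set G := TP T
    have hGp : IsPGroup 3 G := hT.map _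
    obtain ⟨k, hk⟩ := IsPGroup.iff_card.mp hGp
    set S := MulAction.stabilizer G x₀
    obtain ⟨j, hj⟩ := IsPGroup.iff_card.mp (hGp.to_subgroup S)
    have horb : Nat.card (MulAction.orbit G x₀) = 3 ^ a := by
      rw [← ha, size]
      exact (Nat.card_congr (Equiv.subtypeEquivRight fun z =>
        ⟨fun ⟨g, hg, he⟩ => ⟨⟨g, hg⟩, he⟩, fun ⟨⟨g, hg⟩, he⟩ => ⟨g, hg, he⟩⟩)).symm
    have hmul : 3 ^ a * 3 ^ j = 3 ^ k := by
      rw [← horb, ← hj, ← hk, Nat.card_congr (MulAction.orbitEquivQuotientStabilizer G x₀)]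
      exact (Subgroup.card_eq_card_quotient_mul_card_subgroup _).symm
    rw [← pow_add] at hmul
    have hkaj := Nat.pow_right_injective (le_refl 2 |>.trans (by norm_num : 2 ≤ 3)) hmul
    obtain ⟨N, hN, hSN⟩ := Sylow.exists_subgroup_card_pow_prime_le 3 (m := k - 1)
      (by rw [hk]; exact Nat.pow_dvd_pow 3 (by omega)) S hj (by omega)
    have hidx : N.index = 3 := by
      have := N.card_mul_index
      rw [hN, hk] at this
      have e : 3 ^ k = 3 ^ (k - 1) * 3 := by rw [← pow_succ]; congr 1; omega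
      rw [e] at this
      exact Nat.eq_of_mul_eq_mul_left (Nat.pow_pos (by norm_num)) this
    haveI hNn : N.Normal := Subgroup.normal_of_index_eq_minFac_card (by
      rw [hidx, hk, Nat.pow_minFac (by omega), Nat.prime_three.minFac_eq])
    let s : Setoid α :=
      { r := fun u v => ∃ m ∈ N, ((m : G) : Perm α) u = v
        iseqv := ⟨fun u => ⟨1, one_mem _, rfl⟩, fun {u v} ⟨m, hm, e⟩ => ⟨m⁻¹, inv_mem hm, by
            rw [← e]; exact ((m : G) : Perm α).symm_apply_apply u⟩,
          fun {u v w} ⟨m, hm, e⟩ ⟨m', hm', e'⟩ => ⟨m' * m, mul_mem hm' hm, by rw [← e', ← e]; rfl⟩⟩ }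
    have hTs : TP T ≤ stabN s := by
      intro g hg u v
      have key : ∀ (g : G) u v, s.r u v → s.r ((g : Perm α) u) ((g : Perm α) v) := by
        rintro g u v ⟨m, hm, e⟩
        refine ⟨g * m * g⁻¹, hNn.conj_mem m hm g, ?_⟩
        show (g : Perm α) ((m : Perm α) ((g : Perm α)⁻¹ ((g : Perm α) u))) = _
        rw [show (g : Perm α)⁻¹ ((g : Perm α) u) = u from (g : Perm α).symm_apply_apply u, e]
      refine ⟨fun hr => ?_, key ⟨g, hg⟩ u v⟩
      have := key (⟨g, hg⟩ : G)⁻¹ _ _ hr
      have e : ∀ w, ((⟨g, hg⟩ : G)⁻¹ : G).1 (g w) = w := fun w => g.symm_apply_apply w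
      rwa [e, e] at this
    -- a point outside the block of `x₀`
    obtain ⟨v, hv⟩ : ∃ v, ¬ s.r x₀ v := by
      by_contra hall
      push Not at hall
      have htop : N = ⊤ := by
        rw [eq_top_iff]
        intro g _
        obtain ⟨m, hm, e⟩ := hall ((g : Perm α) x₀)
        have hs : m⁻¹ * g ∈ S := by
          show (m⁻¹ * g) • x₀ = x₀
          rw [mul_smul, inv_smul_eq_iff]
          exact e.symm
        have := mul_mem hm (hSN hs)
        rwa [mul_inv_cancel_left] at this
      rw [htop, Subgroup.index_top] at hidx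
      norm_num at hidx
    have hcls : 4 ≤ Nat.card {z // s.r x₀ z} := by
      -- three translates of the class cover everything
      have hle : Fintype.card α ≤ Nat.card (G ⧸ N) * Nat.card {z // s.r x₀ z} := by
        have hsurj : Function.Surjective (fun p : (G ⧸ N) × {z // s.r x₀ z} =>
            ((p.1.out : G) : Perm α) p.2) := by
          intro w
          obtain ⟨g, hg, he⟩ := htrans w
          set q : G ⧸ N := ((⟨g, hg⟩ : G) : G ⧸ N)
          obtain ⟨m, hm⟩ := QuotientGroup.mk_out_eq_mul N (⟨g, hg⟩ : G)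
          refine ⟨⟨q, ⟨((m : G) : Perm α)⁻¹ x₀, ⟨(m : G)⁻¹, inv_mem m.2, rfl⟩⟩⟩, ?_⟩
          show ((q.out : G) : Perm α) _ = w
          rw [hm, Subgroup.coe_mul, Perm.mul_apply,
            show ((m : G) : Perm α) (((m : G) : Perm α)⁻¹ x₀) = x₀ from ((m : G) : Perm α).apply_symm_apply x₀]
          exact he
        have := Nat.card_le_card_of_surjective _ hsurj
        rwa [Nat.card_prod, Nat.card_eq_fintype_card (α := α)] at this
      have hq : Nat.card (G ⧸ N) = 3 := hidx
      rw [hq] at hle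
      omega
    obtain ⟨u, hu, hub⟩ := exists_off_block ζ x₀ hcls
    obtain ⟨w, hw, hwx, hwu⟩ : ∃ w, s.r x₀ w ∧ w ≠ x₀ ∧ w ≠ u := by
      by_contra hcon
      push Not at hcon
      have h1 : (Finset.univ.filter fun z => s.r x₀ z) ⊆ {x₀, u} := fun z hz => by
        simp only [Finset.mem_filter, Finset.mem_univ, true_and] at hz
        simp only [Finset.mem_insert, Finset.mem_singleton]
        by_cases e : z = x₀
        · exact Or.inl e
        · exact Or.inr (hcon z hz e)
      have h2 := (Finset.card_le_card h1).trans Finset.card_le_two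
      rw [← Fintype.card_subtype, ← Nat.card_eq_fintype_card] at h2
      omega
    have hux : x₀ ≠ u := fun e => hub (by simp [blk, e])
    refine no_two_blocks h hne (by omega) (fun z => ?_) (fun z => hzf z (htrans z)) hzc hub
      (Or.inr ⟨cyc x₀ u w, ?_, cyc_three hux hwx.symm hwu.symm, cyc_left hux hwx.symm⟩)
    · have := Equiv.congr_fun hz3 z
      simpa [pow_succ, Perm.mul_apply] using this
    · have hxv : x₀ ≠ v := fun e => hv (e ▸ ⟨1, one_mem _, rfl⟩)
      have hxv' : u ≠ v := fun e => hv (e ▸ hu)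
      refine absorb h hTs (cyc_three hux hxv hxv') (fun hmem => hv ?_) (stabK_le_stabN s fun z => ?_)
        (cyc_three hux hwx.symm hwu.symm).mem_alternatingGroup
      · have h1 := (hmem x₀ u).mpr hu
        rw [cyc_left hux hxv, cyc_mid hxv hxv'] at h1
        exact s.trans' hu h1
      · by_cases e1 : z = x₀
        · rw [e1, cyc_left hux hwx.symm]; exact s.symm' hu
        by_cases e2 : z = u
        · rw [e2, cyc_mid hwx.symm hwu.symm]; exact s.trans' (s.symm' hw) hu
        by_cases e3 : z = w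
        · subst e3
          rw [show cyc x₀ u z z = x₀ by rw [cyc, Perm.mul_apply, swap_apply_right, swap_apply_right]]
          exact hw
        · rw [cyc_off e1 e2 e3]
  · push Not at htrans
    obtain ⟨y₀, hy₀⟩ := htrans
    obtain ⟨b, hb⟩ := size_eq_pow hT y₀
    have hcov := orbits_le_two h hne hT hn x₀ y₀ hy₀
    have hdisj : ∀ z, orb T x₀ z → ¬ orb T y₀ z := fun z h1 h2 => hy₀ (orb_trans h1 (orb_symm h2))
    have hcard : Fintype.card α = 3 ^ a + 3 ^ b := by
      rw [← ha, ← hb, size, size, Nat.card_eq_fintype_card, Nat.card_eq_fintype_card,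
        Fintype.card_subtype, Fintype.card_subtype, ← Finset.card_union_of_disjoint
          (Finset.disjoint_filter.mpr fun z _ h1 => hdisj z h1), ← Finset.card_univ]
      congr 1
      ext z
      simp [hcov z]
    have hpos : ∀ c, a = 0 ∨ b = 0 → c = a + b → Fintype.card α = 3 ^ c + 1 := by
      intro c hc e
      rcases hc with rfl | rfl
      · rw [hcard, e, zero_add, pow_zero, add_comm]
      · rw [hcard, e, add_zero, pow_zero]
    by_cases h0 : a = 0 ∨ b = 0
    · refine Or.inr (Or.inr ⟨a + b, ?_, hpos _ h0 rfl⟩)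
      by_contra hlt
      have h1 : (3 : ℕ) ^ (a + b) ≤ 3 ^ 1 := Nat.pow_le_pow_right (by norm_num) (by omega)
      have := hpos _ h0 rfl
      omega
    push Not at h0
    by_cases h11 : a = 1 ∧ b = 1
    · exact Or.inl (by rw [hcard, h11.1, h11.2]; norm_num)
    exfalso
    have h3a : 3 ≤ 3 ^ a := le_trans (by norm_num) (Nat.pow_le_pow_right (by norm_num) (Nat.pos_of_ne_zero h0.1))
    have h3b : 3 ≤ 3 ^ b := le_trans (by norm_num) (Nat.pow_le_pow_right (by norm_num) (Nat.pos_of_ne_zero h0.2))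
    obtain ⟨ζ₁, h13, h1c, h1o, h1f⟩ := exists_orbit_element hT (x := x₀) (by omega)
    obtain ⟨ζ₂, h23, h2c, h2o, h2f⟩ := exists_orbit_element hT (x := y₀) (by omega)
    have hd : Perm.Disjoint ζ₁ ζ₂ := fun z => by
      by_cases hz : orb T x₀ z
      · exact Or.inr (h2o z (hdisj z hz))
      · exact Or.inl (h1o z hz)
    set ζ := ζ₁ * ζ₂ with hζ
    have hz3 : ∀ z, ζ (ζ (ζ z)) = z := fun z => by
      have : ζ ^ 3 = 1 := by rw [hζ, hd.commute.mul_pow, h13, h23, one_mul]
      have := Equiv.congr_fun this z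
      simpa [pow_succ, Perm.mul_apply] using this
    have hzc : ∀ g ∈ TP T, g * ζ = ζ * g := fun g hg => by
      rw [hζ, ← mul_assoc, h1c g hg, mul_assoc, h2c g hg, mul_assoc]
    have hzf : ∀ z, ζ z ≠ z := fun z => by
      rcases hcov z with hz | hz
      · rw [hζ, Perm.mul_apply, h2o z (hdisj z hz)]; exact h1f z hz
      · rw [hζ, hd.commute.eq, Perm.mul_apply, h1o z fun e => hdisj z e hz]; exact h2f z hz
    obtain ⟨x, hx9, v, hxv⟩ : ∃ x, 9 ≤ size T x ∧ ∃ v, ¬ orb T x v := by
      rcases (show 2 ≤ a ∨ 2 ≤ b by omega) with h2 | h2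
      · exact ⟨x₀, by rw [ha]; exact le_trans (by norm_num) (Nat.pow_le_pow_right (by norm_num) h2), y₀, hy₀⟩
      · exact ⟨y₀, by rw [hb]; exact le_trans (by norm_num) (Nat.pow_le_pow_right (by norm_num) h2), x₀,
          fun e => hy₀ (orb_symm e)⟩
    obtain ⟨u, hu, hub⟩ := exists_off_block ζ x (P := orb T x) (by change 4 ≤ size T x; omega)
    obtain ⟨w, hw, hwx, hwu⟩ := exists_third (y := u) (show 3 ≤ size T x by omega)
    have hux : x ≠ u := fun e => hub (by simp [blk, e])
    have hn10 : 10 ≤ Fintype.card α := by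
      rcases (show 2 ≤ a ∨ 2 ≤ b by omega) with h2 | h2
      · have : (9 : ℕ) ≤ 3 ^ a := le_trans (by norm_num) (Nat.pow_le_pow_right (by norm_num) h2)
        omega
      · have : (9 : ℕ) ≤ 3 ^ b := le_trans (by norm_num) (Nat.pow_le_pow_right (by norm_num) h2)
        omega
    exact no_two_blocks h hne hn10 hz3 hzf hzc hub (hrel x u w v hu hw hxv hux hwx hwu)

end CfsgLib.LocalEvenB.AltThreeMinimal
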