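import Cfsg.Agent.Lib.Fusion.Thompson
import Cfsg.Agent.Lib.LocalEven.Residual
import Cfsg.Agent.Lib.LocalEven.Commutators
import Cfsg.Agent.Lib.LocalEven.SylowIn
import Cfsg.Prelude.Def_BaumannBlocks

/-!
Elementary properties of blocks relative to the Baumann subgroup.
-/

set_option autoImplicit false
set_option linter.style.haveILetI false
set_option linter.unusedSectionVars false

namespace CfsgLib.LocalEvenB.BaumannBlock

universe u

open Subgroup
open CfsgLib.Fusion.Thompson

section Thompson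

variable {G : Type u} [Group G] [Finite G] {p : ℕ} [Fact p.Prime]

theorem omegaOne_congr (p : ℕ) {H K : Subgroup G} (h : H = K) :
    Cfsg.omegaOne p H = Cfsg.omegaOne p K := by rw [h]

/-- `J(T)` lies in the Baumann subgroup. -/
theorem thompson_le_baumann (T : Subgroup G) :
    Cfsg.thompsonSubgroupOf p T ≤ Cfsg.baumannSubgroupOf p T := by
  intro j hj
  refine mem_inf.2 ⟨thompsonSubgroupOf_le T hj, mem_centralizer_iff.2 fun z hz => ?_⟩
  have hz' : z ∈ Cfsg.centerThompsonOf p T :=
    (closure_le _).2 (fun x hx => hx.1) hz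
  exact (mem_centralizer_iff.1 (mem_inf.1 hz').2 j hj).symm

/-- A Sylow subgroup containing `J(T)` has the same Thompson subgroup. -/
theorem thompson_eq_of_le {T S : Sylow p G}
    (h : Cfsg.thompsonSubgroupOf p (T : Subgroup G) ≤ (S : Subgroup G)) :
    Cfsg.thompsonSubgroupOf p (S : Subgroup G) = Cfsg.thompsonSubgroupOf p (T : Subgroup G) := by
  obtain ⟨A₀, hA₀, hle⟩ := exists_maxEA_le_sylow T
  have hAJ : ∀ A ∈ Cfsg.maxElementaryAbelianSubgroups p G, A ≤ (T : Subgroup G) →
      A ≤ Cfsg.thompsonSubgroupOf p (T : Subgroup G) := fun A hA hAT => by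
    rw [thompsonSubgroupOf_eq hA₀ hle]; exact le_sSup ⟨hA, hAT⟩
  have h1 : Cfsg.thompsonSubgroupOf p (T : Subgroup G) ≤ Cfsg.thompsonSubgroupOf p (S : Subgroup G) := by
    rw [thompsonSubgroupOf_eq hA₀ hle, thompsonSubgroupOf_eq hA₀ ((hAJ A₀ hA₀ hle).trans h)]
    exact sSup_le fun A hA => le_sSup ⟨hA.1, (hAJ A hA.1 hA.2).trans h⟩
  obtain ⟨g, hg⟩ := MulAction.exists_smul_eq G T S
  refine (eq_of_le_of_card_ge h1 (le_of_eq ?_)).symm
  rw [← hg, thompsonSubgroupOf_smul, card_map_of_injective (MulAut.conj g).injective]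

theorem normalizer_le_normalizer_centerThompson (U : Subgroup G) :
    normalizer (Cfsg.thompsonSubgroupOf p U : Set G) ≤
      normalizer (centralizer (Cfsg.omegaOne p (Cfsg.centerThompsonOf p U) : Set G) : Set G) := by
  refine CfsgLib.LocalEven.SylowIn.le_normalizer_of_map_conj fun g hg => ?_
  have e := CfsgLib.LocalEven.SylowIn.map_conj_eq_iff.2 hg
  have hZ : (Cfsg.centerThompsonOf p U).map (MulAut.conj g).toMonoidHom = Cfsg.centerThompsonOf p U := by
    rw [Cfsg.centerThompsonOf, Subgroup.map_inf _ _ _ (MulAut.conj g).injective, e,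
      ← CfsgLib.LocalEven.SylowIn.centralizer_map_conj, e]
  rw [← CfsgLib.LocalEven.SylowIn.centralizer_map_conj, CfsgLib.LocalEven.SylowIn.omegaOne_map, hZ]

/-- A Sylow subgroup containing `J(T)` has the same Baumann subgroup if it contains it. -/
theorem baumann_eq_of_le {T S : Sylow p G}
    (h : Cfsg.baumannSubgroupOf p (T : Subgroup G) ≤ (S : Subgroup G)) :
    Cfsg.baumannSubgroupOf p (S : Subgroup G) = Cfsg.baumannSubgroupOf p (T : Subgroup G) := by
  have hJ : Cfsg.thompsonSubgroupOf p (S : Subgroup G) = Cfsg.thompsonSubgroupOf p (T : Subgroup G) :=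
    thompson_eq_of_le ((thompson_le_baumann _).trans h)
  set C := centralizer (Cfsg.omegaOne p (Cfsg.centerThompsonOf p (T : Subgroup G)) : Set G) with hC
  have hS : Cfsg.baumannSubgroupOf p (S : Subgroup G) = (S : Subgroup G) ⊓ C := by
    rw [Cfsg.baumannSubgroupOf, Cfsg.centerThompsonOf, hJ, hC, Cfsg.centerThompsonOf]
  rw [hS]
  refine (eq_of_le_of_card_ge (le_inf h inf_le_right) ?_).symm
  set N := normalizer (Cfsg.thompsonSubgroupOf p (T : Subgroup G) : Set G) with hN
  have hT' : (T : Subgroup G) ≤ N := le_normalizer.trans (normalizer_le_normalizer_thompsonOf _)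
  have hS' : (S : Subgroup G) ≤ N := by
    rw [hN, ← hJ]; exact le_normalizer.trans (normalizer_le_normalizer_thompsonOf _)
  obtain ⟨n, hn⟩ := MulAction.exists_smul_eq N (S.subtype hS') (T.subtype hT')
  rw [Sylow.smul_subtype] at hn
  have hn' : (n : G) • S = T := Sylow.subtype_injective hn
  have hmap : ((S : Subgroup G) ⊓ C).map (MulAut.conj (n : G)).toMonoidHom =
      (T : Subgroup G) ⊓ C := by
    rw [Subgroup.map_inf _ _ _ (MulAut.conj (n : G)).injective, ← hn',
      CfsgLib.LocalEven.SylowIn.map_conj_eq_iff.2 (normalizer_le_normalizer_centerThompson _ n.2)]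
    rfl
  refine le_of_eq ?_
  show Nat.card ↥((S : Subgroup G) ⊓ C) = Nat.card ↥((T : Subgroup G) ⊓ C)
  rw [← hmap, card_map_of_injective (MulAut.conj (n : G)).injective]

/-- A `p`-subgroup normalised by `B(T)` commutates it into itself. -/
theorem commutator_baumann_le (T : Sylow p G) {Q : Subgroup G} (hQ : IsPGroup p Q)
    (hBQ : Cfsg.baumannSubgroupOf p (T : Subgroup G) ≤ normalizer (Q : Set G)) :
    Q ≤ normalizer (Cfsg.baumannSubgroupOf p (T : Subgroup G) : Set G) := by
  have hB : IsPGroup p (Cfsg.baumannSubgroupOf p (T : Subgroup G)) := T.isPGroup'.to_le inf_le_left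
  obtain ⟨S, hS⟩ := (hB.to_sup_of_normal_right' hQ hBQ).exists_le_sylow
  rw [← baumann_eq_of_le (le_sup_left.trans hS), Cfsg.baumannSubgroupOf]
  refine (le_sup_right.trans hS).trans ?_
  refine le_trans ?_ inf_normalizer_le_normalizer_inf
  exact le_inf le_normalizer ((le_normalizer.trans (normalizer_le_normalizer_thompsonOf _)).trans
    (normalizer_le_normalizer_centerThompson _))

end Thompson

section Core

variable {G : Type u} [Group G] [Finite G] {p : ℕ} [hp : Fact p.Prime]

/-- A subgroup `E = O^p(E) = [E, B]` is normalized by every `p`-subgroup `Q` that is normalized by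
`E` and `B` and commutates `B` into `B`. -/
theorem le_normalizer_of_commutator {E B Q : Subgroup G} (hres : Cfsg.pResidualOf p E = E)
    (hEB : ⁅E, B⁆ = E) (hQ : IsPGroup p Q) (hEQ : E ≤ normalizer (Q : Set G))
    (hBQ : B ≤ normalizer (Q : Set G)) (hQB : Q ≤ normalizer (B : Set G)) :
    Q ≤ normalizer (E : Set G) := by
  have hBE : B ≤ normalizer (E : Set G) := by
    have := CfsgLib.LocalEven.Commutators.normalizer_commutator_right E B
    rwa [hEB] at this
  set M := Q ⊓ normalizer (E : Set G) with hM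
  by_contra hne
  have hEM : E ≤ normalizer (M : Set G) :=
    (le_inf hEQ (le_normalizer.trans le_normalizer)).trans inf_normalizer_le_normalizer_inf
  have hBM : B ≤ normalizer (M : Set G) :=
    (le_inf hBQ (hBE.trans le_normalizer)).trans inf_normalizer_le_normalizer_inf
  have hlt : M.subgroupOf Q < ⊤ := lt_top_iff_ne_top.2 fun e => hne (by
    rw [subgroupOf_eq_top] at e; exact e.trans inf_le_right)
  haveI := hQ.isNilpotent
  obtain ⟨⟨q, hqQ⟩, hqn, hqM⟩ := SetLike.exists_of_lt (Group.normalizerCondition_of_isNilpotent _ hlt)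
  set Q2 := Q ⊓ normalizer (M : Set G) with hQ2
  have hMQ2 : M ≤ Q2 := le_inf inf_le_left le_normalizer
  have hEQ2 : E ≤ normalizer (Q2 : Set G) :=
    (le_inf hEQ (hEM.trans le_normalizer)).trans inf_normalizer_le_normalizer_inf
  have hBQ2 : B ≤ normalizer (Q2 : Set G) :=
    (le_inf hBQ (hBM.trans le_normalizer)).trans inf_normalizer_le_normalizer_inf
  have h1 : ⁅⁅B, Q2⁆, E⁆ ≤ M := by
    refine (commutator_mono ?_ le_rfl).trans (?_ : ⁅M, E⁆ ≤ M)
    · refine commutator_le.2 fun b hb x hx => mem_inf.2 ⟨?_, hBE ?_⟩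
      · rw [commutatorElement_def]
        exact mul_mem ((mem_normalizer_iff.1 (hBQ hb) x).1 hx.1) (inv_mem hx.1)
      · rw [commutatorElement_def, mul_assoc, mul_assoc, ← mul_assoc x]
        exact mul_mem hb ((mem_normalizer_iff.1 (hQB hx.1) b⁻¹).1 (inv_mem hb))
    · refine commutator_le.2 fun m hm e he => ?_
      rw [commutatorElement_def, mul_assoc, mul_assoc, ← mul_assoc e]
      exact mul_mem hm ((mem_normalizer_iff.1 (hEM he) m⁻¹).1 (inv_mem hm))
  have h2 : ⁅⁅Q2, E⁆, B⁆ ≤ M := by
    refine (commutator_mono (?_ : ⁅Q2, E⁆ ≤ Q2) le_rfl).trans ?_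
    · refine commutator_le.2 fun x hx e he => ?_
      rw [commutatorElement_def, mul_assoc, mul_assoc, ← mul_assoc e]
      exact mul_mem hx ((mem_normalizer_iff.1 (hEQ2 he) x⁻¹).1 (inv_mem hx))
    · refine commutator_le.2 fun x hx b hb => mem_inf.2 ⟨?_, hBE ?_⟩
      · rw [commutatorElement_def, mul_assoc, mul_assoc, ← mul_assoc b]
        exact mul_mem hx.1 ((mem_normalizer_iff.1 (hBQ hb) x⁻¹).1 (inv_mem hx.1))
      · rw [commutatorElement_def]
        exact mul_mem ((mem_normalizer_iff.1 (hQB hx.1) b).1 hb) (inv_mem hb)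
  have h3 := CfsgLib.LocalEven.Commutators.three_subgroup_mod hEM hBM
    (inf_le_right : Q2 ≤ normalizer (M : Set G)) h1 h2
  rw [hEB] at h3
  have hQ2E : Q2 ≤ normalizer (E : Set G) := by
    intro x hx
    have hgen : ∀ h ∈ E, (orderOf h).Coprime p → x * h⁻¹ * x⁻¹ ∈ E := by
      intro h hh hco
      set c := h * x * h⁻¹ * x⁻¹ with hc
      have hcM : c ∈ M := h3 (commutator_mem_commutator hh hx)
      have hcE : c ∈ normalizer (E : Set G) := inf_le_right (b := normalizer (E : Set G)) hcM
      have key : ∀ k : ℕ, h ^ k * x * (h ^ k)⁻¹ * x⁻¹ * (c ^ k)⁻¹ ∈ E := by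
        intro k
        induction k with
        | zero => simp
        | succ k ih =>
          have e1 : h * (c ^ k * h⁻¹ * (c ^ k)⁻¹) ∈ E :=
            mul_mem hh ((mem_normalizer_iff.1 (pow_mem hcE k) _).1 (inv_mem hh))
          have e2 := mul_mem (mul_mem (mul_mem hh ih) (inv_mem hh)) e1
          refine (congrArg (· ∈ E) ?_).mp e2
          rw [pow_succ' h, pow_succ c]
          rw [hc]
          group
      have h4 := key (orderOf h)
      rw [pow_orderOf_eq_one] at h4
      have h5 : c ^ orderOf h ∈ E := by simpa using inv_mem h4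
      obtain ⟨a, ha⟩ := IsPGroup.iff_orderOf.1 hQ ⟨c, hcM.1⟩
      rw [orderOf_mk] at ha
      obtain ⟨v, hv⟩ := exists_pow_eq_self_of_coprime (x := c) (n := orderOf h)
        (by rw [ha]; exact hco.pow_right a)
      have h6 : c ∈ E := hv ▸ pow_mem h5 v
      have : x * h⁻¹ * x⁻¹ = h⁻¹ * c := by rw [hc]; group
      rw [this]
      exact mul_mem (inv_mem hh) h6
    have hx' : E.map (MulAut.conj x).toMonoidHom = E := by
      refine eq_of_le_of_card_ge ?_ (card_map_of_injective (MulAut.conj x).injective).ge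
      have hgen' : E = closure {g | g ∈ E ∧ (orderOf g).Coprime p} := by
        rw [← CfsgLib.LocalEven.Residual.map_pResidual_eq_closure]; exact hres.symm
      conv_lhs => rw [hgen']
      rw [MonoidHom.map_closure, closure_le]
      rintro _ ⟨g, ⟨hg, hgc⟩, rfl⟩
      simpa using hgen g⁻¹ (inv_mem hg) (by rwa [orderOf_inv])
    exact CfsgLib.LocalEven.SylowIn.map_conj_eq_iff.1 hx'
  exact hqM (mem_subgroupOf.2 (mem_inf.2 ⟨hqQ, hQ2E (mem_inf.2 ⟨hqQ, by
    rw [← subgroupOf_normalizer_eq inf_le_left] at hqn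
    exact mem_subgroupOf.1 hqn⟩)⟩))

end Core

end CfsgLib.LocalEvenB.BaumannBlock
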