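import Cfsg.Agent.Lib.LocalEvenB.BaumannBlock
import Cfsg.Agent.Lib.LocalEvenB.BaumannModule

/-!
The module `W_E` of a block lies in `Ω₁(Z(O_p(G)))` and is moved by `J(T)`.
-/

set_option autoImplicit false
set_option linter.style.haveILetI false
set_option linter.unusedSectionVars false

namespace CfsgLib.LocalEvenB.BaumannBlockW

universe u

open Subgroup
open CfsgLib.LocalEven
open scoped Pointwise

variable {G : Type u} [Group G] [Finite G] {p : ℕ} [hp : Fact p.Prime] {T : Sylow p G} {E : Subgroup G}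

theorem normalizes_of_block (hE : Cfsg.IsBaumannBlock p (T : Subgroup G) E) {Q : Subgroup G}
    (hQ : IsPGroup p Q) (hBQ : Cfsg.baumannSubgroupOf p (T : Subgroup G) ≤ normalizer (Q : Set G))
    (hEQ : E ≤ normalizer (Q : Set G)) : Q ≤ normalizer (E : Set G) :=
  BaumannBlock.le_normalizer_of_commutator hE.1 hE.2.1 hQ hEQ hBQ
    (BaumannBlock.commutator_baumann_le T hQ hBQ)

theorem baumann_le_normalizer (hE : Cfsg.IsBaumannBlock p (T : Subgroup G) E) :
    Cfsg.baumannSubgroupOf p (T : Subgroup G) ≤ normalizer (E : Set G) := by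
  have := Commutators.normalizer_commutator_right E (Cfsg.baumannSubgroupOf p (T : Subgroup G))
  rwa [hE.2.1] at this

theorem le_normalizer_of_normal (R : Subgroup G) [R.Normal] (H : Subgroup G) :
    H ≤ normalizer (R : Set G) := normalizer_eq_top_iff.2 (inferInstance : R.Normal) ▸ le_top

theorem pCore_le_normalizer (hE : Cfsg.IsBaumannBlock p (T : Subgroup G) E) :
    Cfsg.pCore p G ≤ normalizer (E : Set G) := by
  haveI := SylowIn.pCore_normal G p
  exact normalizes_of_block hE (SylowIn.isPGroup_pCore G p) (le_normalizer_of_normal _ _)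
    (le_normalizer_of_normal _ _)

/-- `E = O^p(E O_p(G))`. -/
theorem pResidual_sup (hE : Cfsg.IsBaumannBlock p (T : Subgroup G) E) :
    Cfsg.pResidualOf p (E ⊔ Cfsg.pCore p G) = E := by
  set R := Cfsg.pCore p G with hR
  have hRN := pCore_le_normalizer hE
  refine le_antisymm (Residual.map_pResidual_le_iff.2 fun g hg hco => ?_) ?_
  · have hg' : g ∈ ((E : Set G) * (R : Set G)) := by
      rw [← coe_mul_of_right_le_normalizer_left E R hRN]; exact hg
    obtain ⟨e, he, r, hr, rfl⟩ := hg'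
    haveI : (E.subgroupOf (E ⊔ R)).Normal :=
      (normal_subgroupOf_iff_le_normalizer le_sup_left).2 (sup_le le_normalizer hRN)
    set X := E ⊔ R with hX
    let e' : X := ⟨e, mem_sup_left he⟩
    let r' : X := ⟨r, mem_sup_right hr⟩
    have h1 : QuotientGroup.mk' (E.subgroupOf X) (e' * r') = QuotientGroup.mk' (E.subgroupOf X) r' := by
      rw [map_mul, show QuotientGroup.mk' (E.subgroupOf X) e' = 1 from
        (QuotientGroup.eq_one_iff e').2 (mem_subgroupOf.2 he), one_mul]
    obtain ⟨k, hk⟩ := IsPGroup.iff_orderOf.1 (SylowIn.isPGroup_pCore G p) ⟨r, hr⟩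
    rw [orderOf_mk] at hk
    have h2 : orderOf (QuotientGroup.mk' (E.subgroupOf X) r') ∣ p ^ k := by
      refine (orderOf_map_dvd _ r').trans ?_
      rw [← orderOf_coe, show (r' : G) = r from rfl, hk]
    have h3 : orderOf (QuotientGroup.mk' (E.subgroupOf X) r') ∣ orderOf (e * r) := by
      rw [← h1]
      refine (orderOf_map_dvd _ (e' * r')).trans ?_
      rw [← orderOf_coe]; rfl
    have h4 : orderOf (QuotientGroup.mk' (E.subgroupOf X) r') = 1 :=
      Nat.dvd_one.1 ((hco.pow_right k) ▸ Nat.dvd_gcd h3 h2)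
    have h5 : r ∈ E := mem_subgroupOf.1 ((QuotientGroup.eq_one_iff r').1 (orderOf_eq_one_iff.1 h4))
    exact mul_mem he h5
  · conv_lhs => rw [← hE.1]
    refine Residual.map_pResidual_le_iff.2 fun g hg hco => ?_
    rw [Cfsg.pResidualOf, Residual.map_pResidual_eq_closure]
    exact subset_closure ⟨mem_sup_left hg, hco⟩

theorem normalizer_le_normalizer_pCoreOf (X : Subgroup G) :
    normalizer (X : Set G) ≤ normalizer (Cfsg.pCoreOf p X : Set G) := by
  refine SylowIn.le_normalizer_of_map_conj fun g hg => ?_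
  rw [SylowIn.pCoreOf_map_conj, SylowIn.map_conj_eq_iff.2 hg]

theorem normalizer_inf_le_normalizer_sup (X Y : Subgroup G) :
    normalizer (X : Set G) ⊓ normalizer (Y : Set G) ≤ normalizer ((X ⊔ Y : Subgroup G) : Set G) := by
  refine SylowIn.le_normalizer_of_map_conj fun g hg => ?_
  rw [Subgroup.map_sup, SylowIn.map_conj_eq_iff.2 (mem_inf.1 hg).1,
    SylowIn.map_conj_eq_iff.2 (mem_inf.1 hg).2]

theorem normalizer_le_normalizer_centralizer (X : Subgroup G) :
    normalizer (X : Set G) ≤ normalizer (centralizer (X : Set G) : Set G) := by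
  refine SylowIn.le_normalizer_of_map_conj fun g hg => ?_
  rw [← SylowIn.centralizer_map_conj, SylowIn.map_conj_eq_iff.2 hg]

theorem omegaOneCenter_le (X : Subgroup G) : Cfsg.omegaOneCenter p X ≤ X ⊓ centralizer (X : Set G) :=
  (closure_le _).2 fun _ h => h.1

theorem normalizer_le_normalizer_omegaOneCenter (X : Subgroup G) :
    normalizer (X : Set G) ≤ normalizer (Cfsg.omegaOneCenter p X : Set G) := by
  refine SylowIn.le_normalizer_of_map_conj fun g hg => ?_
  rw [Cfsg.omegaOneCenter, SylowIn.omegaOne_map, Subgroup.map_inf _ _ _ (MulAut.conj g).injective,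
    ← SylowIn.centralizer_map_conj, SylowIn.map_conj_eq_iff.2 hg]

theorem pow_eq_one_of_mem (X : Subgroup G) {u : G} (hu : u ∈ Cfsg.omegaOneCenter p X) : u ^ p = 1 := by
  induction hu using closure_induction with
  | mem x hx => exact hx.2
  | one => exact one_pow p
  | mul x y hx hy ix iy =>
    have hc : Commute x y :=
      mem_centralizer_iff.1 ((omegaOneCenter_le X hy).2) x (omegaOneCenter_le X hx).1
    rw [hc.mul_pow, ix, iy, one_mul]
  | inv x _ ix => rw [inv_pow, ix, inv_one]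

theorem eq_conj_of_commutate {a b : G} : a * b = (a * b * a⁻¹ * b⁻¹) * b * a := by group

/-- `W_E = [Ω₁(Z(O_p(E))), E]` lies in `Ω₁(Z(O_p(G)))`. -/
theorem w_le (hG : centralizer (Cfsg.pCore p G : Set G) ≤ Cfsg.pCore p G)
    (hE : Cfsg.IsBaumannBlock p (T : Subgroup G) E) :
    ⁅Cfsg.omegaOneCenter p (Cfsg.pCoreOf p E), E⁆ ≤ Cfsg.omegaOneCenter p (Cfsg.pCore p G) := by
  haveI := SylowIn.pCore_normal G p
  set R := Cfsg.pCore p G with hR
  set Q := Cfsg.pCoreOf p E with hQ
  set U := Cfsg.omegaOneCenter p Q with hU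
  obtain ⟨hEU, hZU, hirr, -⟩ := BaumannModule.good_of_block hE
  set Z := U ⊓ centralizer (E : Set G) with hZ
  have hRE := pCore_le_normalizer hE
  have hRU : R ≤ normalizer (U : Set G) :=
    (hRE.trans (normalizer_le_normalizer_pCoreOf E)).trans (normalizer_le_normalizer_omegaOneCenter Q)
  have hcomm : ∀ r ∈ R, ∀ e ∈ E, ∀ u ∈ U, (r * e * r⁻¹ * e⁻¹) * u = u * (r * e * r⁻¹ * e⁻¹) := by
    intro r hr e he u hu
    have h1 : r * e * r⁻¹ * e⁻¹ ∈ E := mul_mem ((mem_normalizer_iff.1 (hRE hr) e).1 he) (inv_mem he)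
    have h2 : r * e * r⁻¹ * e⁻¹ ∈ R := by
      have := mul_mem hr ((inferInstance : R.Normal).conj_mem r⁻¹ (inv_mem hr) e)
      simpa [mul_assoc] using this
    have h3 : r * e * r⁻¹ * e⁻¹ ∈ Q := by
      refine SylowIn.le_pCoreOf (N := R ⊓ E) inf_le_right ?_
        ((SylowIn.isPGroup_pCore G p).to_le inf_le_left) (mem_inf.2 ⟨h2, h1⟩)
      exact (le_inf (le_normalizer_of_normal R E) le_normalizer).trans inf_normalizer_le_normalizer_inf
    exact mem_centralizer_iff.1 (omegaOneCenter_le Q hu).2 _ h3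
  have hnormZ : ∀ e ∈ E, ∀ z ∈ Z, e * z * e⁻¹ = z := fun e he z hz => by
    rw [mem_centralizer_iff.1 (mem_inf.1 hz).2 e he, mul_inv_cancel_right]
  have hRZ : ∀ r ∈ R, ∀ z ∈ Z, r * z * r⁻¹ ∈ Z := by
    intro r hr z hz
    refine mem_inf.2 ⟨(mem_normalizer_iff.1 (hRU hr) z).1 (mem_inf.1 hz).1,
      mem_centralizer_iff.2 fun e he => ?_⟩
    have he' : r⁻¹ * e * r ∈ E := by simpa using (mem_normalizer_iff.1 (hRE (inv_mem hr)) e).1 he
    have := mem_centralizer_iff.1 (mem_inf.1 hz).2 _ he'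
    calc e * (r * z * r⁻¹) = r * (r⁻¹ * e * r * z) * r⁻¹ := by group
      _ = r * (z * (r⁻¹ * e * r)) * r⁻¹ := by rw [this]
      _ = r * z * r⁻¹ * e := by group
  -- the points fixed by `R` modulo `Z`
  have hX : ∀ u ∈ U, ∀ r ∈ R, r * u * r⁻¹ * u⁻¹ ∈ Z := by
    let X : Subgroup G :=
      { carrier := {u | u ∈ U ∧ ∀ r ∈ R, r * u * r⁻¹ * u⁻¹ ∈ Z}
        one_mem' := ⟨one_mem _, fun r _ => by simp⟩
        mul_mem' := by
          rintro a b ⟨ha, ha'⟩ ⟨hb, hb'⟩
          refine ⟨mul_mem ha hb, fun r hr => ?_⟩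
          have hc : r * b * r⁻¹ * b⁻¹ * a⁻¹ = a⁻¹ * (r * b * r⁻¹ * b⁻¹) := by
            have h1 := (omegaOneCenter_le Q (hZU (hb' r hr))).2
            exact (mem_centralizer_iff.1 h1 _ (inv_mem (omegaOneCenter_le Q ha).1)).symm
          have : r * (a * b) * r⁻¹ * (a * b)⁻¹ =
              (r * a * r⁻¹ * a⁻¹) * (r * b * r⁻¹ * b⁻¹) := by
            calc r * (a * b) * r⁻¹ * (a * b)⁻¹ = r * a * r⁻¹ * (r * b * r⁻¹ * b⁻¹ * a⁻¹) := by group
              _ = _ := by rw [hc]; group
          rw [this]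
          exact mul_mem (ha' r hr) (hb' r hr)
        inv_mem' := by
          rintro a ⟨ha, ha'⟩
          refine ⟨inv_mem ha, fun r hr => ?_⟩
          have hc : (r * a * r⁻¹ * a⁻¹)⁻¹ * a = a * (r * a * r⁻¹ * a⁻¹)⁻¹ := by
            have h1 := (omegaOneCenter_le Q (hZU (inv_mem (ha' r hr)))).2
            exact (mem_centralizer_iff.1 h1 _ (omegaOneCenter_le Q ha).1).symm
          have : r * a⁻¹ * r⁻¹ * a⁻¹⁻¹ = (r * a * r⁻¹ * a⁻¹)⁻¹ := by
            calc r * a⁻¹ * r⁻¹ * a⁻¹⁻¹ = a⁻¹ * ((r * a * r⁻¹ * a⁻¹)⁻¹ * a) := by group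
              _ = _ := by rw [hc, ← mul_assoc, inv_mul_cancel, one_mul]
          rw [this]
          exact inv_mem (ha' r hr) }
    have hEX : E ≤ normalizer (X : Set G) := by
      have key : ∀ e ∈ E, ∀ u ∈ X, e * u * e⁻¹ ∈ X := by
        rintro e he u ⟨hu, hu'⟩
        refine ⟨(mem_normalizer_iff.1 (hEU he) u).1 hu, fun r hr => ?_⟩
        set q := r * e * r⁻¹ * e⁻¹ with hq
        set z := r * u * r⁻¹ * u⁻¹ with hz
        have hz1 := hnormZ e he z (hu' r hr)
        have hzu : z * u ∈ U := mul_mem (hZU (hu' r hr)) hu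
        have hqc := hcomm r hr e he (e * (z * u) * e⁻¹) ((mem_normalizer_iff.1 (hEU he) _).1 hzu)
        have : r * (e * u * e⁻¹) * r⁻¹ = z * (e * u * e⁻¹) := by
          calc r * (e * u * e⁻¹) * r⁻¹ = q * (e * (z * u) * e⁻¹) * q⁻¹ := by rw [hq, hz]; group
            _ = e * (z * u) * e⁻¹ := by rw [hqc, mul_inv_cancel_right]
            _ = e * z * e⁻¹ * (e * u * e⁻¹) := by group
            _ = z * (e * u * e⁻¹) := by rw [hz1]
        rw [this, mul_inv_cancel_right]
        exact hu' r hr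
      intro e he
      rw [mem_normalizer_iff]
      refine fun u => ⟨key e he u, fun h => ?_⟩
      have := key e⁻¹ (inv_mem he) _ h
      simpa [mul_assoc] using this
    have hZX : Z ≤ X := fun z hz => ⟨hZU hz, fun r hr => mul_mem (hRZ r hr z hz) (inv_mem hz)⟩
    rcases hirr X hZX (fun u hu => hu.1) hEX with hXZ | hXU
    · have hUQ : IsPGroup p U :=
        (SylowIn.isPGroup_pCoreOf E).to_le ((omegaOneCenter_le Q).trans inf_le_left)
      intro u hu r hr
      by_contra hne
      have hlt : Z < U := by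
        refine lt_of_le_of_ne hZU fun e => hne ?_
        rw [e]
        exact mul_mem ((mem_normalizer_iff.1 (hRU hr) u).1 hu) (inv_mem hu)
      -- a nonidentity fixed point of `R` on `U / Z`
      haveI hZn : (Z.subgroupOf U).Normal := ⟨fun z hz v => by
        have : v * z * v⁻¹ = z := Subtype.ext (by
          have h1 := (omegaOneCenter_le Q (mem_subgroupOf.1 hz).1).2
          simp only [Subgroup.coe_mul, Subgroup.coe_inv]
          rw [mem_centralizer_iff.1 h1 _ (omegaOneCenter_le Q v.2).1, mul_inv_cancel_right])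
        rwa [this]⟩
      letI : MulAction R (↥U ⧸ Z.subgroupOf U) :=
        { smul := fun r => Quotient.map' (fun v => ⟨r * v * (r : G)⁻¹, (mem_normalizer_iff.1 (hRU r.2) _).1 v.2⟩)
            (fun a b hab => by
              rw [QuotientGroup.leftRel_apply] at hab ⊢
              rw [mem_subgroupOf] at hab ⊢
              convert hRZ r r.2 _ hab using 1
              simp [mul_assoc])
          one_smul := fun q => by
            induction q using QuotientGroup.induction_on with | _ v => ?_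
            show QuotientGroup.mk _ = QuotientGroup.mk v
            congr 1; ext; simp
          mul_smul := fun a b q => by
            induction q using QuotientGroup.induction_on with | _ v => ?_
            show QuotientGroup.mk _ = QuotientGroup.mk _
            congr 1; ext; simp [mul_assoc] }
      have hdvd : p ∣ Nat.card (↥U ⧸ Z.subgroupOf U) := by
        obtain ⟨k, hk⟩ := (hUQ.to_quotient (Z.subgroupOf U)).exists_card_eq
        rcases k with - | k
        · exfalso
          rw [pow_zero, ← index_eq_card, index_eq_one, subgroupOf_eq_top] at hk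
          exact hlt.not_ge hk
        · rw [hk]; exact dvd_pow_self p (Nat.succ_ne_zero k)
      obtain ⟨b, hb, hb1⟩ := (SylowIn.isPGroup_pCore G p).exists_fixed_point_of_prime_dvd_card_of_fixed_point
        (↥U ⧸ Z.subgroupOf U) hdvd (a := (1 : ↥U ⧸ Z.subgroupOf U)) (fun r => by
          show QuotientGroup.mk _ = QuotientGroup.mk _
          congr 1; ext; simp)
      induction b using QuotientGroup.induction_on with | _ v => ?_
      refine hb1 ((QuotientGroup.eq_one_iff v).2 (mem_subgroupOf.2 ?_)).symm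
      rw [← hXZ]
      refine ⟨v.2, fun s hs => ?_⟩
      have h1 : (QuotientGroup.mk _ : ↥U ⧸ Z.subgroupOf U) = QuotientGroup.mk v := hb ⟨s, hs⟩
      have h2 := mem_subgroupOf.1 (QuotientGroup.eq.1 h1.symm)
      have h3 : (v : G)⁻¹ * (s * v * s⁻¹) = s * v * s⁻¹ * (v : G)⁻¹ := by
        have h4 := (omegaOneCenter_le Q ((mem_normalizer_iff.1 (hRU hs) v).1 v.2)).2
        exact mem_centralizer_iff.1 h4 _ (inv_mem (omegaOneCenter_le Q v.2).1)
      rw [← h3]
      simpa using h2
    · exact fun u hu => (hXU.symm ▸ hu : u ∈ X).2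
  -- conclusion
  have hWR : ∀ u ∈ U, ∀ e ∈ E, u * e * u⁻¹ * e⁻¹ ∈ centralizer (R : Set G) := by
    intro u hu e he
    refine mem_centralizer_iff.2 fun r hr => ?_
    set q := r * e * r⁻¹ * e⁻¹ with hq
    set z := r * u * r⁻¹ * u⁻¹ with hz
    have hzZ := hX u hu r hr
    have hqu : q * u = u * q := hcomm r hr e he u hu
    have hze : z * e = e * z := (mem_centralizer_iff.1 (mem_inf.1 hzZ).2 e he).symm
    have hzu : z * u = u * z := by
      have h1 := (omegaOneCenter_le Q (hZU hzZ)).2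
      exact (mem_centralizer_iff.1 h1 u (omegaOneCenter_le Q hu).1).symm
    have hzq : z * q = q * z := by
      have h1 := mem_centralizer_iff.1 (mem_inf.1 hzZ).2 q
      refine (h1 ?_).symm
      exact mul_mem ((mem_normalizer_iff.1 (hRE hr) e).1 he) (inv_mem he)
    set a := u * e * u⁻¹ * e⁻¹ with ha
    have key : r * a * r⁻¹ = a := by
      have hqeu : q * (e * u⁻¹ * e⁻¹) = (e * u⁻¹ * e⁻¹) * q :=
        hcomm r hr e he _ (inv_mem (by simpa using (mem_normalizer_iff.1 (hEU he) u).1 hu) |> fun h => by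
          simpa [mul_assoc] using h)
      calc r * a * r⁻¹ = (z * u) * (q * e) * (z * u)⁻¹ * (q * e)⁻¹ := by rw [hz, hq, ha]; group
        _ = z * (u * q) * e * u⁻¹ * z⁻¹ * e⁻¹ * q⁻¹ := by group
        _ = z * (q * u) * e * u⁻¹ * z⁻¹ * e⁻¹ * q⁻¹ := by rw [hqu]
        _ = q * (z * u) * e * u⁻¹ * z⁻¹ * e⁻¹ * q⁻¹ := by rw [← mul_assoc z, hzq]; group
        _ = q * u * (z * e) * u⁻¹ * z⁻¹ * e⁻¹ * q⁻¹ := by rw [hzu]; group
        _ = q * u * e * (z * u⁻¹ * z⁻¹) * e⁻¹ * q⁻¹ := by rw [hze]; group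
        _ = q * u * e * u⁻¹ * e⁻¹ * q⁻¹ := by
          rw [show z * u⁻¹ * z⁻¹ = u⁻¹ from by
            have := (show Commute z u from hzu).inv_right.eq
            rw [this, mul_inv_cancel_right]]
        _ = u * (q * (e * u⁻¹ * e⁻¹)) * q⁻¹ := by rw [hqu]; group
        _ = a := by rw [hqeu, ha]; group
    calc r * a = r * a * r⁻¹ * r := by group
      _ = a * r := by rw [key]
  refine commutator_le.2 fun u hu e he => ?_
  rw [commutatorElement_def]
  have hc := hWR u hu e he
  refine subset_closure ⟨mem_inf.2 ⟨hG hc, hc⟩, pow_eq_one_of_mem Q ?_⟩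
  have := mul_mem hu (inv_mem ((mem_normalizer_iff.1 (hEU he) u).1 hu))
  simpa [mul_assoc, hU] using this

/-- `J(T)` moves `W_E`. -/
theorem w_moved (hE : Cfsg.IsBaumannBlock p (T : Subgroup G) E) :
    ⁅⁅Cfsg.omegaOneCenter p (Cfsg.pCoreOf p E), E⁆, Cfsg.thompsonSubgroupOf p (T : Subgroup G)⁆ ≠ ⊥ := by
  intro hbot
  set Q := Cfsg.pCoreOf p E with hQ
  set U := Cfsg.omegaOneCenter p Q with hU
  set J := Cfsg.thompsonSubgroupOf p (T : Subgroup G) with hJ
  obtain ⟨hEU, hZU, hirr, hker⟩ := BaumannModule.good_of_block hE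
  set Z := U ⊓ centralizer (E : Set G) with hZ
  set W := ⁅U, E⁆ with hW
  have hWU : W ≤ U := commutator_le.2 fun u hu e he => by
    rw [commutatorElement_def]
    have := mul_mem hu (inv_mem ((mem_normalizer_iff.1 (hEU he) u).1 hu))
    simpa [mul_assoc] using this
  have hWE : E ≤ normalizer (W : Set G) := Commutators.normalizer_commutator_right U E
  have hJB := BaumannBlock.thompson_le_baumann (p := p) (T : Subgroup G)
  have hJE : J ≤ normalizer (E : Set G) := hJB.trans (baumann_le_normalizer hE)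
  have hJW : ∀ j ∈ J, ∀ w ∈ W, j * w = w * j := fun j hj w hw => by
    have h : W ≤ centralizer (J : Set G) := commutator_eq_bot_iff_le_centralizer.1 hbot
    exact mem_centralizer_iff.1 (h hw) j hj
  -- elements of `E` commuting with `W` lie in `Q`
  have hkerW : ∀ c ∈ E, (∀ w ∈ W, c * w = w * c) → c ∈ Q := by
    intro c hc hcW
    refine hker c hc fun u hu => ?_
    have hEZ : E ≤ normalizer (Z : Set G) :=
      (le_inf hEU (le_normalizer.trans (normalizer_le_normalizer_centralizer E))).trans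
        inf_normalizer_le_normalizer_inf
    rcases hirr (W ⊔ Z) le_sup_right (sup_le hWU hZU)
      ((le_inf hWE hEZ).trans (normalizer_inf_le_normalizer_sup W Z)) with h | h
    · have h1 : ∀ e ∈ E, ∀ v ∈ U, e * v * e⁻¹ * v⁻¹ ∈ Z := fun e he v hv => by
        rw [← h]
        refine mem_sup_left ?_
        have := inv_mem (commutator_mem_commutator hv he)
        rw [commutatorElement_def] at this
        simpa [mul_assoc] using this
      exact h1 c hc u hu
    · have hu' : u ∈ W ⊔ Z := h.symm ▸ hu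
      have hcen : W ⊔ Z ≤ centralizer ({c} : Set G) := sup_le
        (fun w hw => mem_centralizer_singleton_iff.2 (hcW w hw).symm)
        (fun z hz => mem_centralizer_singleton_iff.2 (mem_centralizer_iff.1 (mem_inf.1 hz).2 c hc).symm)
      rw [← mem_centralizer_singleton_iff.1 (hcen hu'), mul_inv_cancel_right, mul_inv_cancel]
      exact one_mem _
  have hQJ : ∀ e ∈ E, ∀ j ∈ J, e * j * e⁻¹ * j⁻¹ ∈ Q := by
    intro e he j hj
    have hje : j * e⁻¹ * j⁻¹ ∈ E := (mem_normalizer_iff.1 (hJE hj) _).1 (inv_mem he)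
    refine hkerW _ (by simpa [mul_assoc] using mul_mem he hje) fun w hw => ?_
    have hw' : e⁻¹ * w * e ∈ W := by simpa using (mem_normalizer_iff.1 (hWE (inv_mem he)) w).1 hw
    calc e * j * e⁻¹ * j⁻¹ * w = e * j * e⁻¹ * (j⁻¹ * w * j) * j⁻¹ := by group
      _ = e * j * e⁻¹ * w * j⁻¹ := by
        rw [show j⁻¹ * w * j = w by rw [mul_assoc, ← hJW j hj w hw, inv_mul_cancel_left]]
      _ = e * (j * (e⁻¹ * w * e)) * e⁻¹ * j⁻¹ := by group
      _ = e * ((e⁻¹ * w * e) * j) * e⁻¹ * j⁻¹ := by rw [hJW j hj _ hw']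
      _ = w * (e * j * e⁻¹ * j⁻¹) := by group
  have hJQn : J ≤ normalizer (Q : Set G) := hJE.trans (normalizer_le_normalizer_pCoreOf E)
  have hPp : IsPGroup p ↥(J ⊔ Q) :=
    (T.isPGroup'.to_le (CfsgLib.Fusion.Thompson.thompsonSubgroupOf_le _)).to_sup_of_normal_right'
      (SylowIn.isPGroup_pCoreOf E) hJQn
  obtain ⟨S, hS⟩ := hPp.exists_le_sylow
  have hJS := BaumannBlock.thompson_eq_of_le (T := T) (S := S) (le_sup_left.trans hS)
  obtain ⟨A₀, hA₀, hle⟩ := CfsgLib.Fusion.Thompson.exists_maxEA_le_sylow T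
  have hAJ : ∀ A ∈ Cfsg.maxElementaryAbelianSubgroups p G, A ≤ (T : Subgroup G) → A ≤ J := fun A hA hAT => by
    rw [hJ, CfsgLib.Fusion.Thompson.thompsonSubgroupOf_eq hA₀ hle]; exact le_sSup ⟨hA, hAT⟩
  have hJP : Cfsg.thompsonSubgroupOf p (J ⊔ Q) = J := by
    rw [CfsgLib.Fusion.Thompson.thompsonSubgroupOf_eq hA₀ ((hAJ A₀ hA₀ hle).trans le_sup_left)]
    refine le_antisymm (sSup_le fun A hA => ?_) ?_
    · rw [hJ, ← hJS, CfsgLib.Fusion.Thompson.thompsonSubgroupOf_eq hA₀
        ((hAJ A₀ hA₀ hle).trans (le_sup_left.trans hS))]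
      exact le_sSup ⟨hA.1, hA.2.trans hS⟩
    · conv_lhs => rw [hJ, CfsgLib.Fusion.Thompson.thompsonSubgroupOf_eq hA₀ hle]
      exact sSup_le fun A hA => le_sSup ⟨hA.1, (hAJ A hA.1 hA.2).trans le_sup_left⟩
  have hEP : E ≤ normalizer ((J ⊔ Q : Subgroup G) : Set G) := by
    refine SylowIn.le_normalizer_of_map_conj fun e he =>
      eq_of_le_of_card_ge ?_ (card_map_of_injective (MulAut.conj e).injective).ge
    rw [Subgroup.map_sup, sup_le_iff]
    constructor
    · rintro _ ⟨j, hj, rfl⟩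
      have := mul_mem (mem_sup_right (S := J) (hQJ e he j hj)) (mem_sup_left (T := Q) hj)
      simpa using this
    · refine le_trans (le_of_eq ?_) le_sup_right
      exact SylowIn.map_conj_eq_iff.2 (SylowIn.normalizer_pCoreOf E he)
  have hEJ : E ≤ normalizer (J : Set G) := by
    rw [← hJP]; exact hEP.trans (CfsgLib.Fusion.Thompson.normalizer_le_normalizer_thompsonOf _)
  set C := centralizer (Cfsg.omegaOne p (Cfsg.centerThompsonOf p (T : Subgroup G)) : Set G) with hC
  have hEC : E ≤ C := by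
    rw [← hE.2.1]
    refine commutator_le.2 fun e he b hb => ?_
    rw [commutatorElement_def]
    exact mul_mem ((mem_normalizer_iff.1 ((hEJ.trans
      (BaumannBlock.normalizer_le_normalizer_centerThompson _)) he) b).1 (mem_inf.1 hb).2)
      (inv_mem (mem_inf.1 hb).2)
  refine hE.2.2.2.1 (commutator_eq_bot_iff_le_centralizer.2 (hEC.trans (centralizer_le ?_)))
  show Cfsg.omegaOneCenter p (T : Subgroup G) ≤ Cfsg.omegaOne p (Cfsg.centerThompsonOf p (T : Subgroup G))
  rw [Cfsg.omegaOneCenter, Cfsg.omegaOne, closure_le]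
  intro y hy
  refine subset_closure ⟨mem_inf.2 ⟨?_, ?_⟩, hy.2⟩
  · refine hAJ A₀ hA₀ hle (CfsgLib.Fusion.Thompson.mem_of_pow_eq_one_of_centralizes hA₀ ?_ hy.2)
    exact centralizer_le hle (mem_inf.1 hy.1).2
  · exact centralizer_le (CfsgLib.Fusion.Thompson.thompsonSubgroupOf_le _) (mem_inf.1 hy.1).2

end CfsgLib.LocalEvenB.BaumannBlockW
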