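import Cfsg.Agent.Lib.LocalEvenB.BlockTrick

/-!
A block is normalised by the centralizer of its module `W_E`.
-/

set_option autoImplicit false
set_option linter.style.haveILetI false
set_option linter.unusedSectionVars false

namespace CfsgLib.LocalEvenB.BlockCentralizer

universe u

open Subgroup CfsgLib.LocalEven CfsgLib.LocalEvenB.BlockTrick
open scoped Pointwise commutatorElement

variable {G : Type u} [Group G] [Finite G] {p : ℕ} [hp : Fact p.Prime]

/-! ### Stabilisers of sections -/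

theorem mem_norm {H : Subgroup G} {g : G} (h : ∀ x ∈ H, g * x * g⁻¹ ∈ H) : g ∈ normalizer (H : Set G) := by
  refine SylowIn.map_conj_eq_iff.1 (eq_of_le_of_card_ge ?_ (card_map_of_injective (MulAut.conj g).injective).ge)
  rintro _ ⟨x, hx, rfl⟩
  exact h x hx

theorem conj_mem {H : Subgroup G} {g x : G} (hg : g ∈ normalizer (H : Set G)) (hx : x ∈ H) :
    g * x * g⁻¹ ∈ H := (mem_normalizer_iff.1 hg x).1 hx

theorem conj_mem' {H : Subgroup G} {g x : G} (hg : g ∈ normalizer (H : Set G)) (hx : x ∈ H) :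
    g⁻¹ * x * g ∈ H := by simpa using conj_mem (inv_mem hg) hx

/-- The elements normalising `X` and `Y` and acting trivially on `X` modulo `Y`. -/
def stab (X Y : Subgroup G) : Subgroup G where
  carrier := {g | g ∈ normalizer (X : Set G) ⊓ normalizer (Y : Set G) ∧ ∀ x ∈ X, g * x * g⁻¹ * x⁻¹ ∈ Y}
  one_mem' := ⟨one_mem _, fun x _ => by simp⟩
  mul_mem' := by
    rintro a b ⟨ha, ha'⟩ ⟨hb, hb'⟩
    refine ⟨mul_mem ha hb, fun x hx => ?_⟩
    rw [show a * b * x * (a * b)⁻¹ * x⁻¹ = (a * (b * x * b⁻¹ * x⁻¹) * a⁻¹) * (a * x * a⁻¹ * x⁻¹) by group]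
    exact mul_mem (conj_mem (mem_inf.1 ha).2 (hb' x hx)) (ha' x hx)
  inv_mem' := by
    rintro a ⟨ha, ha'⟩
    refine ⟨inv_mem ha, fun x hx => ?_⟩
    rw [show a⁻¹ * x * a⁻¹⁻¹ * x⁻¹ = a⁻¹ * (a * x * a⁻¹ * x⁻¹)⁻¹ * a by group]
    exact conj_mem' (mem_inf.1 ha).2 (inv_mem (ha' x hx))

theorem mem_stab {X Y : Subgroup G} {g : G} (hX : g ∈ normalizer (X : Set G))
    (hY : g ∈ normalizer (Y : Set G)) (h : ∀ x ∈ X, g * x * g⁻¹ * x⁻¹ ∈ Y) : g ∈ stab X Y :=
  ⟨mem_inf.2 ⟨hX, hY⟩, h⟩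

theorem stab_le {X Y : Subgroup G} : stab X Y ≤ normalizer (X : Set G) ⊓ normalizer (Y : Set G) :=
  fun _ h => h.1

theorem stab_apply {X Y : Subgroup G} {g x : G} (hg : g ∈ stab X Y) (hx : x ∈ X) :
    g * x * g⁻¹ * x⁻¹ ∈ Y := hg.2 x hx

theorem normalizer_le_normalizer_stab (X Y : Subgroup G) :
    normalizer (X : Set G) ⊓ normalizer (Y : Set G) ≤ normalizer (stab X Y : Set G) := by
  intro n hn
  refine mem_norm fun g hg => ⟨mul_mem (mul_mem hn hg.1) (inv_mem hn), fun x hx => ?_⟩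
  rw [show n * g * n⁻¹ * x * (n * g * n⁻¹)⁻¹ * x⁻¹ =
    n * (g * (n⁻¹ * x * n) * g⁻¹ * (n⁻¹ * x * n)⁻¹) * n⁻¹ by group]
  exact conj_mem (mem_inf.1 hn).2 (hg.2 _ (conj_mem' (mem_inf.1 hn).1 hx))

theorem le_normalizer_stab {H X Y : Subgroup G} (hX : H ≤ normalizer (X : Set G))
    (hY : H ≤ normalizer (Y : Set G)) : H ≤ normalizer (stab X Y : Set G) :=
  (le_inf hX hY).trans (normalizer_le_normalizer_stab X Y)

theorem le_normalizer_inf {H X Y : Subgroup G} (hX : H ≤ normalizer (X : Set G))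
    (hY : H ≤ normalizer (Y : Set G)) : H ≤ normalizer ((X ⊓ Y : Subgroup G) : Set G) :=
  (le_inf hX hY).trans inf_normalizer_le_normalizer_inf

/-- A `p'`-element acting trivially on two successive sections acts trivially on their union. -/
theorem trivial_of_steps {X Y₁ Y : Subgroup G} (hY₁ : IsPGroup p Y₁) {e : G} (hco : (orderOf e).Coprime p)
    (hY : e ∈ normalizer (Y : Set G)) (h1 : ∀ x ∈ X, e * x * e⁻¹ * x⁻¹ ∈ Y₁)
    (h2 : ∀ y ∈ Y₁, e * y * e⁻¹ * y⁻¹ ∈ Y) : ∀ x ∈ X, e * x * e⁻¹ * x⁻¹ ∈ Y := by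
  intro x hx
  set d := e * x * e⁻¹ * x⁻¹ with hd
  have hdY : d ∈ Y₁ := h1 x hx
  have hk : ∀ k : ℕ, e ^ k * x * (e ^ k)⁻¹ * (d ^ k * x)⁻¹ ∈ Y := by
    intro k
    induction k with
    | zero => simp
    | succ k ih =>
      have h := mul_mem (conj_mem hY ih) (h2 _ (pow_mem hdY k))
      refine (congrArg (· ∈ Y) ?_).mp h
      rw [pow_succ' e, pow_succ d, hd]
      group
  have h := hk (orderOf e)
  rw [pow_orderOf_eq_one, one_mul, inv_one, mul_one, mul_inv_rev, mul_inv_cancel_left] at h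
  obtain ⟨a, ha⟩ := IsPGroup.iff_orderOf.1 hY₁ ⟨d, hdY⟩
  rw [orderOf_mk] at ha
  have hcop : (orderOf e).Coprime (orderOf d) := ha ▸ hco.pow_right a
  obtain ⟨m, hm⟩ := exists_pow_eq_self_of_coprime hcop
  rw [← hm]
  exact pow_mem (inv_mem_iff.1 h) m

/-- `E = O^p(E)` is generated by its `p'`-elements. -/
theorem le_of_coprime_mem {E K : Subgroup G} (hres : Cfsg.pResidualOf p E = E)
    (h : ∀ e ∈ E, (orderOf e).Coprime p → e ∈ K) : E ≤ K := by
  have hgen : E = closure {g | g ∈ E ∧ (orderOf g).Coprime p} := by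
    rw [← Residual.map_pResidual_eq_closure]; exact hres.symm
  rw [hgen, closure_le]
  exact fun g hg => h g hg.1 hg.2

/-- The stabiliser of a series through a `p`-group is a `p`-group. -/
theorem eq_one_of_stab {R X₁ X₂ X₃ : Subgroup G} (hR : IsPGroup p R)
    (hG : centralizer (R : Set G) ≤ R) (h1 : X₁ ≤ R) (h2 : X₂ ≤ R) (h3 : X₃ ≤ R) {h : G}
    (hco : (orderOf h).Coprime p) (e3 : ∀ x ∈ X₃, h * x * h⁻¹ = x)
    (e2 : ∀ x ∈ X₂, h * x * h⁻¹ * x⁻¹ ∈ X₃) (e1 : ∀ x ∈ X₁, h * x * h⁻¹ * x⁻¹ ∈ X₂)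
    (e0 : ∀ x ∈ R, h * x * h⁻¹ * x⁻¹ ∈ X₁) : h = 1 := by
  have f2 : ∀ x ∈ X₂, h * x * h⁻¹ = x := fun x hx => commute_of_coprime (hR.to_le h3) hco (e2 x hx) e3
  have f1 : ∀ x ∈ X₁, h * x * h⁻¹ = x := fun x hx => commute_of_coprime (hR.to_le h2) hco (e1 x hx) f2
  have f0 : ∀ x ∈ R, h * x * h⁻¹ = x := fun x hx => commute_of_coprime (hR.to_le h1) hco (e0 x hx) f1
  have hR' : h ∈ R := hG (mem_centralizer_iff.2 fun x hx => (mul_inv_eq_iff_eq_mul.1 (f0 x hx)).symm)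
  obtain ⟨k, hk⟩ := IsPGroup.iff_orderOf.1 hR ⟨h, hR'⟩
  rw [orderOf_mk] at hk
  rw [← orderOf_eq_one_iff, hk]
  rw [hk] at hco
  exact (hco.symm.pow_left k).eq_one_of_dvd dvd_rfl

/-- A subgroup all of whose `p'`-elements are trivial is a `p`-group. -/
theorem isPGroup_of_coprime {H : Subgroup G} (h : ∀ g ∈ H, (orderOf g).Coprime p → g = 1) :
    IsPGroup p H := by
  rw [IsPGroup.iff_orderOf]
  intro g
  rw [← Subgroup.orderOf_coe]
  have hn : orderOf (g : G) ≠ 0 := (orderOf_pos _).ne'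
  refine ⟨(orderOf (g : G)).factorization p, ?_⟩
  set n := orderOf (g : G) with hn'
  have hd : p ^ n.factorization p ∣ n := Nat.ordProj_dvd n p
  have ho : orderOf ((g : G) ^ p ^ n.factorization p) = n / p ^ n.factorization p := by
    rw [orderOf_pow, ← hn', Nat.gcd_eq_right hd]
  have := h _ (pow_mem g.2 _) (ho ▸ (Nat.coprime_ordCompl hp.out hn).symm)
  exact Nat.dvd_antisymm (orderOf_dvd_of_pow_eq_one this) hd

/-! ### Blocks -/

section Block

variable {T : Sylow p G} {E : Subgroup G} (hE : Cfsg.IsBaumannBlock p (T : Subgroup G) E)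
include hE

theorem pCore_inf_le : Cfsg.pCore p G ⊓ E ≤ Cfsg.pCoreOf p E := by
  haveI := SylowIn.pCore_normal G p
  refine SylowIn.le_pCoreOf (N := Cfsg.pCore p G ⊓ E) inf_le_right ?_
    ((SylowIn.isPGroup_pCore G p).to_le inf_le_left)
  exact le_normalizer_inf (BaumannBlockW.le_normalizer_of_normal _ E) le_normalizer

theorem conj_pCore_mem {e r : G} (he : e ∈ E) (hr : r ∈ Cfsg.pCore p G) :
    e * r * e⁻¹ * r⁻¹ ∈ Cfsg.pCoreOf p E := by
  haveI := SylowIn.pCore_normal G p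
  refine pCore_inf_le hE (mem_inf.2 ⟨mul_mem ((inferInstance : (Cfsg.pCore p G).Normal).conj_mem r hr e)
    (inv_mem hr), ?_⟩)
  rw [show e * r * e⁻¹ * r⁻¹ = e * (r * e⁻¹ * r⁻¹) by group]
  exact mul_mem he (conj_mem (BaumannBlockW.pCore_le_normalizer hE hr) (inv_mem he))

theorem normalizer_le_U : normalizer (E : Set G) ≤ normalizer (U0 p E : Set G) :=
  (BaumannBlockW.normalizer_le_normalizer_pCoreOf E).trans
    (BaumannBlockW.normalizer_le_normalizer_omegaOneCenter _)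

theorem normalizer_le_W : normalizer (E : Set G) ≤ normalizer (W0 p E : Set G) :=
  SylowIn.le_normalizer_of_map_conj fun g hg => by
    rw [Subgroup.map_commutator, SylowIn.map_conj_eq_iff.2 hg,
      SylowIn.map_conj_eq_iff.2 (normalizer_le_U hE hg)]

theorem normalizer_le_C : normalizer (E : Set G) ≤ normalizer (centralizer (W0 p E : Set G) : Set G) :=
  (normalizer_le_W hE).trans (BaumannBlockW.normalizer_le_normalizer_centralizer _)

theorem W_le_U : W0 p E ≤ U0 p E := commutator_le.2 fun u hu e he => by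
  rw [commutatorElement_def]
  have := mul_mem hu (inv_mem (conj_mem (normalizer_le_U hE (le_normalizer he)) hu))
  simpa [mul_assoc] using this

theorem conj_U_mem {e u : G} (he : e ∈ E) (hu : u ∈ U0 p E) : e * u * e⁻¹ * u⁻¹ ∈ W0 p E := by
  have := inv_mem (commutator_mem_commutator hu he)
  rw [commutatorElement_def] at this
  simpa [mul_assoc] using this

theorem isPGroup_U : IsPGroup p (U0 p E) :=
  (SylowIn.isPGroup_pCoreOf E).to_le ((BaumannBlockW.omegaOneCenter_le _).trans inf_le_left)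

/-- A series step: `E` is trivial on `X / W` when it is trivial on `X / U`. -/
theorem le_stab_W {X : Subgroup G} (hX : E ≤ normalizer (X : Set G))
    (h : ∀ e ∈ E, ∀ x ∈ X, e * x * e⁻¹ * x⁻¹ ∈ U0 p E) : E ≤ stab X (W0 p E) :=
  le_of_coprime_mem hE.1 fun e he hco => mem_stab (hX he) (normalizer_le_W hE (le_normalizer he))
    (trivial_of_steps (isPGroup_U hE) hco (normalizer_le_W hE (le_normalizer he)) (h e he)
      fun _ hy => conj_U_mem hE he hy)

theorem W_centralized (hG : centralizer (Cfsg.pCore p G : Set G) ≤ Cfsg.pCore p G) {r w : G}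
    (hr : r ∈ Cfsg.pCore p G) (hw : w ∈ W0 p E) : r * w = w * r :=
  mem_centralizer_iff.1 (mem_inf.1 ((BaumannBlockW.omegaOneCenter_le _) (BaumannBlockW.w_le hG hE hw))).2 r hr

theorem W_le_core (hG : centralizer (Cfsg.pCore p G : Set G) ≤ Cfsg.pCore p G) :
    W0 p E ≤ Cfsg.pCore p G :=
  (BaumannBlockW.w_le hG hE).trans ((BaumannBlockW.omegaOneCenter_le _).trans inf_le_left)

/-- The case `[O_p(G), E] ≤ U_E`. -/
theorem case_small (hG : centralizer (Cfsg.pCore p G : Set G) ≤ Cfsg.pCore p G)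
    (hsmall : ∀ e ∈ E, ∀ r ∈ Cfsg.pCore p G, e * r * e⁻¹ * r⁻¹ ∈ U0 p E) :
    centralizer (W0 p E : Set G) ≤ normalizer (E : Set G) := by
  haveI := SylowIn.pCore_normal G p
  set R := Cfsg.pCore p G
  set C := centralizer (W0 p E : Set G) with hC
  set K := C ⊓ stab R (W0 p E) with hK
  have hRn : ∀ H : Subgroup G, H ≤ normalizer (R : Set G) := BaumannBlockW.le_normalizer_of_normal R
  have hCW : C ≤ normalizer (W0 p E : Set G) := centralizer_le_normalizer _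
  have hnorm : ∀ H : Subgroup G, H ≤ normalizer (W0 p E : Set G) → H ≤ normalizer (K : Set G) := fun H hH =>
    le_normalizer_inf (hH.trans (BaumannBlockW.normalizer_le_normalizer_centralizer _))
      (le_normalizer_stab (hRn H) hH)
  have hKp : IsPGroup p K := isPGroup_of_coprime fun g hg hco =>
    eq_one_of_stab (SylowIn.isPGroup_pCore G p) hG (W_le_core hE hG) (W_le_core hE hG) (W_le_core hE hG) hco
      (fun w hw => by rw [mul_inv_eq_iff_eq_mul]; exact (mem_centralizer_iff.1 (mem_inf.1 hg).1 w hw).symm)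
      (fun w hw => stab_apply (mem_inf.1 hg).2 (W_le_core hE hG hw))
      (fun w hw => stab_apply (mem_inf.1 hg).2 (W_le_core hE hG hw))
      (fun r hr => stab_apply (mem_inf.1 hg).2 hr)
  have hEW : E ≤ normalizer (W0 p E : Set G) := le_normalizer.trans (normalizer_le_W hE)
  have hKE : K ≤ normalizer (E : Set G) := BaumannBlockW.normalizes_of_block hE hKp
    (hnorm _ ((BaumannBlockW.baumann_le_normalizer hE).trans (normalizer_le_W hE))) (hnorm _ hEW)
  have hES : E ≤ stab R (W0 p E) := le_stab_W hE (hRn E) hsmall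
  intro c hc
  refine mem_normalizer_of_sup hE.1 hKp hKE (mem_norm fun x hx => ?_)
  suffices h : E ⊔ K ≤ (E ⊔ K).comap (MulAut.conj c).toMonoidHom by simpa using h hx
  refine sup_le (fun e he => ?_) fun k hk => ?_
  · have h1 : c * e * c⁻¹ * e⁻¹ ∈ K := by
      refine mem_inf.2 ⟨?_, mul_mem ?_ (inv_mem (hES he))⟩
      · rw [show c * e * c⁻¹ * e⁻¹ = c * (e * c⁻¹ * e⁻¹) by group]
        exact mul_mem hc (conj_mem (normalizer_le_C hE (le_normalizer he)) (inv_mem hc))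
      · exact conj_mem (le_normalizer_stab (hRn C) hCW hc) (hES he)
    simpa using mul_mem (mem_sup_right (S := E) h1) (mem_sup_left (T := K) he)
  · simpa using mem_sup_right (S := E) (conj_mem (hnorm C hCW hc) hk)

end Block

/-! ### Commutators with central values -/

omit [Finite G] hp in
theorem com_mul_left {R U : Subgroup G} (hUR : ∀ u ∈ U, ∀ r ∈ R, r * u = u * r) (hUle : U ≤ R) {a b y : G}
    (ha : a ∈ R) (h1 : ⁅a, y⁆ ∈ U) (h2 : ⁅b, y⁆ ∈ U) : ⁅a * b, y⁆ = ⁅a, y⁆ * ⁅b, y⁆ := by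
  have e : ⁅a * b, y⁆ = a * ⁅b, y⁆ * a⁻¹ * ⁅a, y⁆ := by simp only [commutatorElement_def]; group
  rw [e, hUR _ h2 a ha, mul_inv_cancel_right, hUR _ h1 _ (hUle h2)]

omit [Finite G] hp in
theorem com_mul_right {R U : Subgroup G} (hUR : ∀ u ∈ U, ∀ r ∈ R, r * u = u * r) {x a b : G}
    (ha : a ∈ R) (h2 : ⁅x, b⁆ ∈ U) : ⁅x, a * b⁆ = ⁅x, a⁆ * ⁅x, b⁆ := by
  have e : ⁅x, a * b⁆ = ⁅x, a⁆ * (a * ⁅x, b⁆ * a⁻¹) := by simp only [commutatorElement_def]; group
  rw [e, hUR _ h2 a ha, mul_inv_cancel_right]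

/-! ### Exceptional blocks -/

/-- The subgroup generated by the `C(W_E)`-conjugates of `E`. -/
def Ycl (p : ℕ) (E : Subgroup G) : Subgroup G :=
  closure {x | ∃ c ∈ centralizer (W0 p E : Set G), ∃ e ∈ E, c * e * c⁻¹ = x}

/-- The subgroup generated by the conjugates of `O_p(E)` under these. -/
def R1cl (p : ℕ) (E : Subgroup G) : Subgroup G :=
  closure {x | ∃ y ∈ Ycl p E, ∃ q ∈ Q0 p E, y * q * y⁻¹ = x}

/-- The radical of its commutator pairing modulo `W_E`. -/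
def Rad (p : ℕ) (E : Subgroup G) : Subgroup G := R1cl p E ⊓ stab (R1cl p E) (W0 p E)

section Exceptional

variable {F : Type} [Field F] [Finite F] {T : Sylow p G} {E : Subgroup G}
variable (D : Exc F p (T : Subgroup G) E)
include D

omit [Finite F] in
theorem Q_irr {X : Subgroup G} (hUX : U0 p E ≤ X) (hXQ : X ≤ Q0 p E) (hEX : E ≤ normalizer (X : Set G)) :
    X = U0 p E ∨ X = Q0 p E := by
  let X' : AddSubgroup (Fin 2 → F) :=
    { carrier := {v | ∃ q : ↥(Q0 p E), (q : G) ∈ X ∧ D.SQ.co q = v}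
      zero_mem' := ⟨1, one_mem _, (D.SQ.co_eq_zero 1).2 (one_mem _)⟩
      add_mem' := by
        rintro _ _ ⟨a, ha, rfl⟩ ⟨b, hb, rfl⟩
        exact ⟨a * b, mul_mem ha hb, Sec.co_mul _ a b⟩
      neg_mem' := by
        rintro _ ⟨a, ha, rfl⟩
        exact ⟨a⁻¹, inv_mem ha, Sec.co_inv _ a⟩ }
  by_cases hne : ∃ v ∈ X', v ≠ 0
  · obtain ⟨v, hv, hv0⟩ := hne
    have htop := BaumannModule.invariant_eq_top X' (fun M hM w hw => by
      obtain ⟨e, rfl⟩ := D.SQ.mem_range M hM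
      obtain ⟨q, hq, rfl⟩ := hw
      exact ⟨⟨(e : G) * q * (e : G)⁻¹, (mem_normalizer_iff.1 (D.SQ.norm e.2) q).1 q.2⟩, conj_mem (hEX e.2) hq,
        D.SQ.act e q⟩) hv hv0
    refine Or.inr (le_antisymm hXQ fun q hq => ?_)
    obtain ⟨a, ha, hae⟩ : D.SQ.co ⟨q, hq⟩ ∈ X' := htop ▸ AddSubgroup.mem_top _
    have h : (a : G)⁻¹ * q ∈ U0 p E := (D.SQ.co_eq_zero (a⁻¹ * ⟨q, hq⟩)).1 (by
      rw [Sec.co_mul, Sec.co_inv, hae, neg_add_cancel])
    simpa using mul_mem ha (hUX h)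
  · push Not at hne
    exact Or.inl (le_antisymm (fun x hx =>
      (D.SQ.co_eq_zero ⟨x, hXQ hx⟩).1 (hne _ ⟨⟨x, hXQ hx⟩, hx, rfl⟩)) hUX)

variable (hG : centralizer (Cfsg.pCore p G : Set G) ≤ Cfsg.pCore p G)
variable (hbig : ¬ ∀ e ∈ E, ∀ r ∈ Cfsg.pCore p G, e * r * e⁻¹ * r⁻¹ ∈ U0 p E)
include hG hbig

theorem Q_le_R : Q0 p E ≤ Cfsg.pCore p G := by
  haveI := SylowIn.pCore_normal G p
  set R := Cfsg.pCore p G
  set I := R ⊓ E with hI
  have hIQ : I ≤ Q0 p E := pCore_inf_le D.block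
  have hEI : E ≤ normalizer (I : Set G) :=
    le_normalizer_inf (BaumannBlockW.le_normalizer_of_normal _ E) le_normalizer
  have hX := Q_irr D (X := I ⊔ U0 p E) le_sup_right (sup_le hIQ D.U_le)
    ((le_inf hEI (le_normalizer.trans (normalizer_le_U D.block))).trans
      (BaumannBlockW.normalizer_inf_le_normalizer_sup _ _))
  rcases hX with h | h
  · refine absurd (fun e he r hr => ?_) hbig
    have h1 : e * r * e⁻¹ * r⁻¹ ∈ I := mem_inf.2
      ⟨mul_mem ((inferInstance : R.Normal).conj_mem r hr e) (inv_mem hr),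
        D.Q_le (conj_pCore_mem D.block he hr)⟩
    exact h ▸ mem_sup_left h1
  · have hdec : ∀ q ∈ Q0 p E, ∃ i ∈ I, ∃ u ∈ U0 p E, i * u = q := by
      intro q hq
      have : q ∈ (I : Set G) * (U0 p E : Set G) := by
        rw [← coe_mul_of_right_le_normalizer_left _ _ ((D.U_le.trans D.Q_le).trans hEI), h]; exact hq
      exact this
    have hZ : Z0 p E ≤ R := by
      rw [← D.comm]
      refine commutator_le.2 fun x hx y hy => ?_
      obtain ⟨i, hi, u, hu, rfl⟩ := hdec x hx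
      obtain ⟨j, hj, v, hv, rfl⟩ := hdec y hy
      have e : ⁅i * u, j * v⁆ = ⁅i, j⁆ := by
        have c1 : ∀ q ∈ Q0 p E, q * u = u * q := fun q hq => D.Q_comm_U hq hu
        have c2 : ∀ q ∈ Q0 p E, q * v = v * q := fun q hq => D.Q_comm_U hq hv
        simp only [commutatorElement_def]
        calc i * u * (j * v) * (i * u)⁻¹ * (j * v)⁻¹ = i * u * (j * v * u⁻¹) * i⁻¹ * (j * v)⁻¹ := by group
          _ = i * u * (u⁻¹ * (j * v)) * i⁻¹ * (j * v)⁻¹ := by
            rw [D.Q_comm_U (mul_mem (hIQ hj) (D.U_le hv)) (inv_mem hu)]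
          _ = i * j * (v * i⁻¹) * v⁻¹ * j⁻¹ := by group
          _ = i * j * (i⁻¹ * v) * v⁻¹ * j⁻¹ := by rw [c2 _ (inv_mem (hIQ hi))]
          _ = i * j * i⁻¹ * j⁻¹ := by group
      rw [e, commutatorElement_def]
      have hiR := (mem_inf.1 hi).1; have hjR := (mem_inf.1 hj).1
      exact mul_mem (mul_mem (mul_mem hiR hjR) (inv_mem hiR)) (inv_mem hjR)
    intro q hq
    obtain ⟨i, hi, u, hu, rfl⟩ := hdec q hq
    obtain ⟨w, hw, z, hz, rfl⟩ := D.exists_wz hu
    exact mul_mem (mem_inf.1 hi).1 (mul_mem (W_le_core D.block hG hw) (hZ hz))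

theorem U_le_R : U0 p E ≤ Cfsg.pCore p G := D.U_le.trans (Q_le_R D hG hbig)

theorem com_RQ {r q : G} (hr : r ∈ Cfsg.pCore p G) (hq : q ∈ Q0 p E) : ⁅r, q⁆ ∈ U0 p E := by
  have hrN := BaumannBlockW.pCore_le_normalizer D.block hr
  obtain ⟨k, hk⟩ := IsPGroup.iff_orderOf.1 (SylowIn.isPGroup_pCore G p) ⟨r, hr⟩
  rw [orderOf_mk] at hk
  have h1 := D.actQ_eq_one hrN (k := k) (by rw [← hk]; exact pow_orderOf_eq_one r) fun e he => by
    have := inv_mem (conj_pCore_mem D.block he hr)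
    simpa [mul_assoc] using this
  have h2 := D.SQ.mem_of_actHom_eq_one h1 ⟨q, hq⟩
  rw [commutatorElement_def]
  exact h2

theorem U_central {u r : G} (hu : u ∈ U0 p E) (hr : r ∈ Cfsg.pCore p G) : r * u = u * r := by
  obtain ⟨w, hw, z, hz, rfl⟩ := D.exists_wz hu
  have hZ : Z0 p E ≤ centralizer ({r} : Set G) := by
    rw [← D.comm]
    refine commutator_le.2 fun x hx y hy => mem_centralizer_singleton_iff.2 ?_
    have hx' := com_RQ D hG hbig hr hx
    have hy' := com_RQ D hG hbig hr hy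
    have ex : r * x * r⁻¹ = ⁅r, x⁆ * x := by rw [commutatorElement_def]; group
    have ey : r * y * r⁻¹ = ⁅r, y⁆ * y := by rw [commutatorElement_def]; group
    suffices e : r * ⁅x, y⁆ * r⁻¹ = ⁅x, y⁆ by exact (mul_inv_eq_iff_eq_mul.1 e).symm
    have c : ∀ {a b q : G}, a ∈ U0 p E → q ∈ Q0 p E → a * q = q * a := fun ha hq => (D.Q_comm_U hq ha).symm
    calc r * ⁅x, y⁆ * r⁻¹ = ⁅r * x * r⁻¹, r * y * r⁻¹⁆ := by simp only [commutatorElement_def]; group
      _ = ⁅r, x⁆ * (x * (⁅r, y⁆ * y) * x⁻¹) * ⁅r, x⁆⁻¹ * (⁅r, y⁆ * y)⁻¹ := by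
        rw [ex, ey]; simp only [commutatorElement_def]; group
      _ = x * (⁅r, y⁆ * y) * x⁻¹ * (⁅r, y⁆ * y)⁻¹ := by
        rw [(D.Q_comm_U (mul_mem (mul_mem hx (mul_mem (D.U_le hy') hy)) (inv_mem hx)) hx').symm,
          mul_inv_cancel_right]
      _ = ⁅r, y⁆ * (x * y * x⁻¹) * (⁅r, y⁆ * y)⁻¹ := by
        rw [← mul_assoc x, D.Q_comm_U hx hy', mul_assoc ⁅r, y⁆, mul_assoc ⁅r, y⁆]
      _ = ⁅r, y⁆ * ⁅x, y⁆ * ⁅r, y⁆⁻¹ := by simp only [commutatorElement_def]; group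
      _ = ⁅x, y⁆ := by
        rw [← D.Q_comm_U (mul_mem (mul_mem (mul_mem hx hy) (inv_mem hx)) (inv_mem hy) |> fun h => by
          rw [commutatorElement_def]; exact h) hy', mul_inv_cancel_right]
  calc r * (w * z) = (r * w) * z := by group
    _ = w * (r * z) := by rw [W_centralized D.block hG hr hw]; group
    _ = w * (z * r) := by rw [(mem_centralizer_singleton_iff.1 (hZ hz)).symm]
    _ = w * z * r := by group

theorem Z_le_comm : Z0 p E ≤ ⁅Cfsg.pCore p G, Cfsg.pCore p G⁆ := by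
  rw [← D.comm]; exact commutator_mono (Q_le_R D hG hbig) (Q_le_R D hG hbig)

theorem E_stab_N : E ≤ stab (⁅Cfsg.pCore p G, Cfsg.pCore p G⁆ ⊔ W0 p E) (W0 p E) := by
  haveI := SylowIn.pCore_normal G p
  set R := Cfsg.pCore p G
  have hEW : E ≤ normalizer (W0 p E : Set G) := le_normalizer.trans (normalizer_le_W D.block)
  refine le_stab_W D.block ((le_inf (BaumannBlockW.le_normalizer_of_normal _ E) hEW).trans
    (BaumannBlockW.normalizer_inf_le_normalizer_sup _ _)) fun e he => ?_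
  let S : Subgroup G :=
    { carrier := {x | x ∈ R ∧ e * x * e⁻¹ * x⁻¹ ∈ U0 p E}
      one_mem' := ⟨one_mem _, by simp⟩
      mul_mem' := by
        rintro a b ⟨ha, ha'⟩ ⟨hb, hb'⟩
        refine ⟨mul_mem ha hb, ?_⟩
        rw [show e * (a * b) * e⁻¹ * (a * b)⁻¹ = (e * a * e⁻¹ * a⁻¹) * (a * (e * b * e⁻¹ * b⁻¹) * a⁻¹) by group,
          U_central D hG hbig hb' ha, mul_inv_cancel_right]
        exact mul_mem ha' hb'
      inv_mem' := by
        rintro a ⟨ha, ha'⟩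
        refine ⟨inv_mem ha, ?_⟩
        have h := inv_mem ha'
        rw [show e * a⁻¹ * e⁻¹ * a⁻¹⁻¹ = a⁻¹ * (e * a * e⁻¹ * a⁻¹)⁻¹ * a by group,
          U_central D hG hbig h (inv_mem ha), inv_mul_cancel_right]
        exact h }
  suffices h : ⁅R, R⁆ ⊔ W0 p E ≤ S from fun x hx => (h hx).2
  refine sup_le (commutator_le.2 fun a ha b hb => ?_)
    fun w hw => ⟨W_le_core D.block hG hw, D.W_le (conj_U_mem D.block he (D.W_le hw))⟩
  have hab : ⁅a, b⁆ ∈ R := by
    rw [commutatorElement_def]; exact mul_mem (mul_mem (mul_mem ha hb) (inv_mem ha)) (inv_mem hb)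
  refine ⟨hab, ?_⟩
  have hdQ := conj_pCore_mem D.block he ha
  have hdQ' := conj_pCore_mem D.block he hb
  set d := e * a * e⁻¹ * a⁻¹ with hd
  set d' := e * b * e⁻¹ * b⁻¹ with hd'
  have ea : e * a * e⁻¹ = d * a := by rw [hd]; group
  have eb : e * b * e⁻¹ = d' * b := by rw [hd']; group
  have u1 : ⁅d, d' * b⁆ ∈ U0 p E := by
    have := inv_mem (com_RQ D hG hbig (mul_mem (Q_le_R D hG hbig hdQ') hb) hdQ)
    rwa [commutatorElement_inv] at this
  have u2 : ⁅a, d'⁆ ∈ U0 p E := com_RQ D hG hbig ha hdQ'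
  rw [show e * ⁅a, b⁆ * e⁻¹ = ⁅e * a * e⁻¹, e * b * e⁻¹⁆ by simp only [commutatorElement_def]; group, ea, eb]
  have e1 : ⁅d * a, d' * b⁆ = d * ⁅a, d' * b⁆ * d⁻¹ * ⁅d, d' * b⁆ := by
    simp only [commutatorElement_def]; group
  have e2 : ⁅a, d' * b⁆ = ⁅a, d'⁆ * (d' * ⁅a, b⁆ * d'⁻¹) := by simp only [commutatorElement_def]; group
  have c1 : ∀ q ∈ Q0 p E, ∃ u ∈ U0 p E, q * ⁅a, b⁆ * q⁻¹ = u * ⁅a, b⁆ := fun q hq =>
    ⟨⁅q, ⁅a, b⁆⁆, by
      have := inv_mem (com_RQ D hG hbig hab hq)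
      rwa [commutatorElement_inv] at this, by simp only [commutatorElement_def]; group⟩
  obtain ⟨v, hv, ev⟩ := c1 d' hdQ'
  obtain ⟨v', hv', ev'⟩ := c1 d hdQ
  have hdR := Q_le_R D hG hbig hdQ
  rw [e1, e2, ev, show d * (⁅a, d'⁆ * (v * ⁅a, b⁆)) * d⁻¹ = (d * ⁅a, d'⁆ * d⁻¹) * (d * v * d⁻¹) *
    (d * ⁅a, b⁆ * d⁻¹) by group, ev', U_central D hG hbig u2 hdR, U_central D hG hbig hv hdR,
    mul_inv_cancel_right, mul_inv_cancel_right]
  have hcen := U_central D hG hbig u1 hab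
  rw [show ⁅a, d'⁆ * v * (v' * ⁅a, b⁆) * ⁅d, d' * b⁆ * ⁅a, b⁆⁻¹ =
    ⁅a, d'⁆ * v * v' * (⁅a, b⁆ * ⁅d, d' * b⁆ * ⁅a, b⁆⁻¹) by group, hcen, mul_inv_cancel_right]
  exact mul_mem (mul_mem (mul_mem u2 hv) hv') u1

theorem U_le_N : U0 p E ≤ ⁅Cfsg.pCore p G, Cfsg.pCore p G⁆ ⊔ W0 p E := fun u hu => by
  obtain ⟨w, hw, z, hz, rfl⟩ := D.exists_wz hu
  exact mul_mem (mem_sup_right hw) (mem_sup_left (Z_le_comm D hG hbig hz))

omit hG hbig in
/-- The commutator pairing of `Q / U` is a symplectic form over `F`. -/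
theorem exists_form : ∃ ζ : G → F, (∀ u ∈ U0 p E, ζ u = 0 ↔ u ∈ W0 p E) ∧
    (∀ u ∈ U0 p E, ∀ v ∈ U0 p E, ζ (u * v) = ζ u + ζ v) ∧
    ∀ x y : ↥(Q0 p E), ζ ⁅(x : G), (y : G)⁆ = SympPlane.det2 (D.SQ.co x) (D.SQ.co y) := by
  classical
  haveI := D.charP
  have hZc : ∀ a b : ↥(Z0 p E), a * b = b * a := fun a b =>
    Subtype.ext (D.U_comm (mem_inf.1 a.2).1 (mem_inf.1 b.2).1)
  letI : CommGroup ↥(Z0 p E) := { (inferInstance : Group ↥(Z0 p E)) with mul_comm := hZc }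
  have hcz : ∀ x y : ↥(Q0 p E), ⁅(x : G), (y : G)⁆ ∈ Z0 p E := fun x y => by
    rw [← D.comm]; exact commutator_mem_commutator x.2 y.2
  let cz : ↥(Q0 p E) → ↥(Q0 p E) → Additive ↥(Z0 p E) := fun x y => Additive.ofMul ⟨_, hcz x y⟩
  have hUR : ∀ u ∈ U0 p E, ∀ r ∈ Q0 p E, r * u = u * r := fun u hu r hr => D.Q_comm_U hr hu
  have hadd : ∀ a b y, cz (a * b) y = cz a y + cz b y := fun a b y => congrArg Additive.ofMul (Subtype.ext
    (com_mul_left hUR D.U_le a.2 (mem_inf.1 (hcz a y)).1 (mem_inf.1 (hcz b y)).1))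
  have hadd' : ∀ x a b, cz x (a * b) = cz x a + cz x b := fun x a b => congrArg Additive.ofMul (Subtype.ext
    (com_mul_right hUR a.2 (mem_inf.1 (hcz x b)).1))
  have hzero : ∀ (x y : ↥(Q0 p E)), (x : G) ∈ U0 p E → cz x y = 0 := fun x y hx => by
    refine congrArg Additive.ofMul (Subtype.ext ?_)
    show ⁅(x : G), (y : G)⁆ = 1
    rw [commutatorElement_eq_one_iff_mul_comm, D.Q_comm_U y.2 hx]
  have hswap : ∀ x y, cz y x = -cz x y := fun x y => congrArg Additive.ofMul (Subtype.ext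
    (commutatorElement_inv (x : G) (y : G)).symm)
  have hwd : ∀ x x' y, D.SQ.co x = D.SQ.co x' → cz x y = cz x' y := fun x x' y h => by
    have h1 : ((x * x'⁻¹ : ↥(Q0 p E)) : G) ∈ U0 p E := (D.SQ.co_eq_zero _).1 (by
      rw [Sec.co_mul, Sec.co_inv, h, add_neg_cancel])
    conv_lhs => rw [← inv_mul_cancel_right x x']
    rw [hadd, hzero _ _ h1, zero_add]
  let pre : (Fin 2 → F) → ↥(Q0 p E) := fun v => (D.SQ.exists_co v).choose
  have hpre : ∀ v, D.SQ.co (pre v) = v := fun v => (D.SQ.exists_co v).choose_spec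
  let f : (Fin 2 → F) → (Fin 2 → F) → Additive ↥(Z0 p E) := fun v w => cz (pre v) (pre w)
  have hf : ∀ x y, cz x y = f (D.SQ.co x) (D.SQ.co y) := fun x y => by
    show _ = cz _ _
    rw [hwd x (pre (D.SQ.co x)) y (hpre _).symm, ← neg_neg (cz _ y), ← hswap,
      hwd y (pre (D.SQ.co y)) _ (hpre _).symm, ← hswap]
  have fadd : ∀ a b w, f (a + b) w = f a w + f b w := fun a b w => by
    show cz _ _ = cz _ _ + cz _ _
    rw [← hadd]
    exact hwd _ _ _ (by rw [Sec.co_mul, hpre, hpre, hpre])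
  have fswap : ∀ a b, f b a = -f a b := fun a b => hswap _ _
  have fadd' : ∀ v a b, f v (a + b) = f v a + f v b := fun v a b => by
    rw [fswap, fadd, neg_add, ← fswap, ← fswap]
  have falt : ∀ v, f v v = 0 := fun v => congrArg Additive.ofMul (Subtype.ext (commutatorElement_self _))
  have finv : ∀ (e : ↥E) v w, f ((D.SQ.ρ e).1.mulVec v) ((D.SQ.ρ e).1.mulVec w) = f v w := fun e v w => by
    conv_lhs => rw [← hpre v, ← hpre w]
    let ev : ↥(Q0 p E) := ⟨(e : G) * pre v * (e : G)⁻¹, (mem_normalizer_iff.1 (D.SQ.norm e.2) _).1 (pre v).2⟩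
    let ew : ↥(Q0 p E) := ⟨(e : G) * pre w * (e : G)⁻¹, (mem_normalizer_iff.1 (D.SQ.norm e.2) _).1 (pre w).2⟩
    rw [show (D.SQ.ρ e).1.mulVec (D.SQ.co (pre v)) = D.SQ.co ev from (D.SQ.act e (pre v)).symm,
      show (D.SQ.ρ e).1.mulVec (D.SQ.co (pre w)) = D.SQ.co ew from (D.SQ.act e (pre w)).symm, ← hf]
    refine congrArg Additive.ofMul (Subtype.ext ?_)
    show ⁅(e : G) * pre v * (e : G)⁻¹, (e : G) * pre w * (e : G)⁻¹⁆ = ⁅(pre v : G), (pre w : G)⁆
    rw [show ⁅(e : G) * pre v * (e : G)⁻¹, (e : G) * pre w * (e : G)⁻¹⁆ =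
      (e : G) * ⁅(pre v : G), (pre w : G)⁆ * (e : G)⁻¹ by simp only [commutatorElement_def]; group]
    exact D.Z_comm (hcz _ _) e.2
  let a1 : F →+ (Fin 2 → F) := AddMonoidHom.mk' (fun x => ![x, 0]) fun a b => by ext i; fin_cases i <;> simp
  let a2 : F →+ (Fin 2 → F) := AddMonoidHom.mk' (fun x => ![0, x]) fun a b => by ext i; fin_cases i <;> simp
  let fl : (Fin 2 → F) → (Fin 2 → F) →+ Additive ↥(Z0 p E) := fun v => AddMonoidHom.mk' (f v) (fadd' v)
  have key : (∀ x z, f ![x, 0] ![z, 0] = 0) ∧ (∀ x z, f ![0, x] ![0, z] = 0) ∧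
      ∀ x y : F, f ![x, 0] ![0, y] = f ![x * y, 0] ![0, 1] := by
    by_cases hcard : Nat.card F = 3
    · let c := ZMod.castHom (dvd_refl 3) F
      have hc : Function.Surjective c := ((Nat.bijective_iff_injective_and_card _).2
        ⟨ZMod.castHom_injective F, by rw [hcard, Nat.card_eq_fintype_card, ZMod.card]⟩).2
      have hnat : ∀ x : F, ∃ m : ℕ, x = m • (1 : F) := fun x => by
        obtain ⟨y, rfl⟩ := hc x
        obtain ⟨m, rfl⟩ := ZMod.natCast_zmod_surjective y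
        exact ⟨m, by rw [map_natCast, nsmul_one]⟩
      have hl : ∀ (v : Fin 2 → F) (m : ℕ) w, f v (m • w) = m • f v w := fun v m w => map_nsmul (fl v) m w
      have hr : ∀ (v : Fin 2 → F) (m : ℕ) w, f (m • v) w = m • f v w := fun v m w => by
        rw [fswap, hl, fswap w v, smul_neg]
      refine ⟨fun x z => ?_, fun x z => ?_, fun x y => ?_⟩
      · obtain ⟨m, rfl⟩ := hnat x; obtain ⟨n, rfl⟩ := hnat z
        show f (a1 (m • 1)) (a1 (n • 1)) = 0
        rw [map_nsmul, map_nsmul, hl, hr, falt, smul_zero, smul_zero]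
      · obtain ⟨m, rfl⟩ := hnat x; obtain ⟨n, rfl⟩ := hnat z
        show f (a2 (m • 1)) (a2 (n • 1)) = 0
        rw [map_nsmul, map_nsmul, hl, hr, falt, smul_zero, smul_zero]
      · obtain ⟨n, rfl⟩ := hnat y
        show f (a1 x) (a2 (n • 1)) = f (a1 (x * (n • 1))) (a2 1)
        rw [mul_smul_comm, mul_one, map_nsmul, map_nsmul, hl, hr]
    · have hlift : ∀ M : Matrix.SpecialLinearGroup (Fin 2) F, ∀ v w, f (M.1.mulVec v) (M.1.mulVec w) = f v w := by
        intro M v w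
        obtain ⟨e, rfl⟩ := D.SQ.mem_range M ((D.commutator_top hcard) ▸ mem_top _)
        exact finv e v w
      refine ⟨fun x z => ?_, fun x z => ?_, fun x y => ?_⟩
      · have h := hlift (BaumannModule.up z) ![x, 0] ![0, 1]
        rw [show (BaumannModule.up z).1.mulVec ![x, 0] = ![x, 0] by
            ext i; fin_cases i <;> simp [BaumannModule.up, Matrix.mulVec, Matrix.vecHead, Matrix.vecTail],
          show (BaumannModule.up z).1.mulVec ![0, 1] = ![z, 0] + ![0, 1] by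
            ext i; fin_cases i <;> simp [BaumannModule.up, Matrix.mulVec, Matrix.vecHead, Matrix.vecTail],
          fadd'] at h
        exact add_eq_right.1 h
      · have h := hlift (BaumannModule.low z) ![0, x] ![1, 0]
        rw [show (BaumannModule.low z).1.mulVec ![0, x] = ![0, x] by
            ext i; fin_cases i <;> simp [BaumannModule.low, Matrix.mulVec, Matrix.vecHead, Matrix.vecTail],
          show (BaumannModule.low z).1.mulVec ![1, 0] = ![0, z] + ![1, 0] by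
            ext i; fin_cases i <;> simp [BaumannModule.low, Matrix.mulVec, Matrix.vecHead, Matrix.vecTail],
          fadd'] at h
        exact add_eq_right.1 h
      · by_cases hy : y = 0
        · subst hy
          rw [show (![x, 0] : Fin 2 → F) = a1 x from rfl, show (![x * 0, 0] : Fin 2 → F) = a1 0 by simp [a1],
            show (![0, 0] : Fin 2 → F) = a2 0 from rfl, map_zero, map_zero, show f (a1 x) 0 = fl (a1 x) 0 from rfl,
            map_zero, fswap, show f (![0, 1]) 0 = fl ![0, 1] 0 from rfl, map_zero, neg_zero]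
        · have h := hlift (BaumannModule.dia y hy) ![x, 0] ![0, y]
          rw [show (BaumannModule.dia y hy).1.mulVec ![x, 0] = ![x * y, 0] by
              ext i; fin_cases i <;> simp [BaumannModule.dia, Matrix.mulVec, Matrix.vecHead, Matrix.vecTail, mul_comm],
            show (BaumannModule.dia y hy).1.mulVec ![0, y] = ![0, 1] by
              ext i; fin_cases i <;> simp [BaumannModule.dia, Matrix.mulVec, Matrix.vecHead, Matrix.vecTail, hy]] at h
          exact h.symm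
  obtain ⟨k1, k2, k3⟩ := key
  let g : F →+ Additive ↥(Z0 p E) := AddMonoidHom.mk' (fun a => f (a1 a) (a2 1)) fun a b => by
    rw [map_add, fadd]
  have hfg : ∀ v w, f v w = g (SympPlane.det2 v w) := by
    intro v w
    have hv : v = a1 (v 0) + a2 (v 1) := by ext i; fin_cases i <;> simp [a1, a2]
    have hw : w = a1 (w 0) + a2 (w 1) := by ext i; fin_cases i <;> simp [a1, a2]
    rw [SympPlane.det2, map_sub]
    conv_lhs => rw [hv, hw, fadd, fadd', fadd']
    show f ![v 0, 0] ![w 0, 0] + f ![v 0, 0] ![0, w 1] + (f ![0, v 1] ![w 0, 0] + f ![0, v 1] ![0, w 1]) =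
      f ![v 0 * w 1, 0] ![0, 1] - f ![v 1 * w 0, 0] ![0, 1]
    rw [k1, k2, k3 (v 0) (w 1), fswap ![w 0, 0], k3 (w 0) (v 1), mul_comm (w 0)]
    abel
  have hsurj : Function.Surjective g := by
    intro z
    have hle : Z0 p E ≤ closure {x | ∃ h : x ∈ Z0 p E, Additive.ofMul (⟨x, h⟩ : ↥(Z0 p E)) ∈ g.range} := by
      conv_lhs => rw [← D.comm]
      refine commutator_le.2 fun x hx y hy => subset_closure ⟨hcz ⟨x, hx⟩ ⟨y, hy⟩, ?_⟩
      exact ⟨_, ((hf ⟨x, hx⟩ ⟨y, hy⟩).trans (hfg _ _)).symm⟩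
    have hmem : ∀ x ∈ closure {x | ∃ h : x ∈ Z0 p E, Additive.ofMul (⟨x, h⟩ : ↥(Z0 p E)) ∈ g.range},
        ∃ h : x ∈ Z0 p E, Additive.ofMul (⟨x, h⟩ : ↥(Z0 p E)) ∈ g.range := by
      intro x hx
      induction hx using closure_induction with
      | mem x hx => exact hx
      | one => exact ⟨one_mem _, zero_mem _⟩
      | mul x y _ _ ix iy =>
        obtain ⟨h1, h1'⟩ := ix; obtain ⟨h2, h2'⟩ := iy
        exact ⟨mul_mem h1 h2, add_mem h1' h2'⟩
      | inv x _ ix =>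
        obtain ⟨h1, h1'⟩ := ix
        exact ⟨inv_mem h1, neg_mem h1'⟩
    obtain ⟨_, h⟩ := hmem _ (hle (Additive.toMul z).2)
    exact h
  have hbij : Function.Bijective g := by
    obtain ⟨n, hn, hz⟩ := D.card
    exact (Nat.bijective_iff_surjective_and_card _).2 ⟨hsurj, hn.trans hz.symm⟩
  set gi := AddEquiv.ofBijective g hbij
  -- the coordinate on `U / W`
  have hdec : ∀ u ∈ U0 p E, ∃ z : ↥(Z0 p E), u * (z : G)⁻¹ ∈ W0 p E := fun u hu => by
    obtain ⟨w, hw, z, hz, rfl⟩ := D.exists_wz hu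
    exact ⟨⟨z, hz⟩, by simpa using hw⟩
  have huniq : ∀ u (z z' : ↥(Z0 p E)), u * (z : G)⁻¹ ∈ W0 p E → u * (z' : G)⁻¹ ∈ W0 p E → z = z' := by
    intro u z z' h h'
    have h1 : (z : G) * (z' : G)⁻¹ ∈ W0 p E ⊓ Z0 p E := by
      refine mem_inf.2 ⟨?_, mul_mem z.2 (inv_mem z'.2)⟩
      have := mul_mem (inv_mem h) h'
      simpa [mul_assoc] using this
    rw [D.disjoint, mem_bot, mul_inv_eq_one] at h1
    exact Subtype.ext h1
  let zf : G → ↥(Z0 p E) := fun u => if h : u ∈ U0 p E then (hdec u h).choose else 1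
  have hzf : ∀ u ∈ U0 p E, u * (zf u : G)⁻¹ ∈ W0 p E := fun u hu => by
    simp only [zf, dif_pos hu]; exact (hdec u hu).choose_spec
  refine ⟨fun u => gi.symm (Additive.ofMul (zf u)), fun u hu => ?_, fun u hu v hv => ?_, fun x y => ?_⟩
  · rw [map_eq_zero_iff _ gi.symm.injective, ofMul_eq_zero]
    refine ⟨fun h => ?_, fun h => huniq u _ 1 (hzf u hu) (by simpa using h)⟩
    have := hzf u hu
    rwa [h, Subgroup.coe_one, inv_one, mul_one] at this
  · rw [← map_add, ← ofMul_mul]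
    refine congrArg (fun z => gi.symm (Additive.ofMul z)) ?_
    refine huniq (u * v) _ _ (hzf _ (mul_mem hu hv)) ?_
    rw [Subgroup.coe_mul, mul_inv_rev,
      show u * v * ((zf v : G)⁻¹ * (zf u : G)⁻¹) = u * ((v * (zf v : G)⁻¹) * (zf u : G)⁻¹) by group,
      D.U_comm (D.W_le (hzf v hv)) (inv_mem (mem_inf.1 (zf u).2).1), ← mul_assoc]
    exact mul_mem (hzf u hu) (hzf v hv)
  · refine gi.injective ?_
    rw [gi.apply_symm_apply]
    show _ = g _
    rw [← hfg, ← hf]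
    have hxy := hcz x y
    exact congrArg Additive.ofMul (huniq _ _ ⟨_, hxy⟩ (hzf _ (mem_inf.1 hxy).1)
      (by show ⁅(x : G), (y : G)⁆ * ⁅(x : G), (y : G)⁆⁻¹ ∈ W0 p E; rw [mul_inv_cancel]; exact one_mem _))

omit hG hbig in
theorem E_le_Y : E ≤ Ycl p E := fun e he =>
  subset_closure ⟨1, one_mem _, e, he, by simp⟩

omit hG hbig in
theorem conj_le_Y {c e : G} (hc : c ∈ centralizer (W0 p E : Set G)) (he : e ∈ E) :
    c * e * c⁻¹ ∈ Ycl p E := subset_closure ⟨c, hc, e, he, rfl⟩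

omit [Finite F] hG hbig in
theorem mem_norm_closure {S : Set G} {g : G} (h : ∀ x ∈ S, g * x * g⁻¹ ∈ closure S) :
    g ∈ normalizer (closure S : Set G) := by
  refine mem_norm fun x hx => ?_
  suffices hle : closure S ≤ (closure S).comap (MulAut.conj g).toMonoidHom by simpa using hle hx
  exact (closure_le _).2 fun x hx => by simpa using h x hx

omit hG hbig in
theorem C_le_norm_Y : centralizer (W0 p E : Set G) ≤ normalizer (Ycl p E : Set G) := fun c hc => by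
  refine mem_norm_closure D ?_
  rintro _ ⟨c', hc', e, he, rfl⟩
  exact subset_closure ⟨c * c', mul_mem hc hc', e, he, by group⟩

omit hG hbig in
theorem NE_le_norm_Y : normalizer (E : Set G) ≤ normalizer (Ycl p E : Set G) := fun n hn => by
  refine mem_norm_closure D ?_
  rintro _ ⟨c, hc, e, he, rfl⟩
  exact subset_closure ⟨n * c * n⁻¹, conj_mem (normalizer_le_C D.block hn) hc,
    n * e * n⁻¹, conj_mem hn he, by group⟩

theorem Y_stab_N : Ycl p E ≤ stab (⁅Cfsg.pCore p G, Cfsg.pCore p G⁆ ⊔ W0 p E) (W0 p E) := by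
  haveI := SylowIn.pCore_normal G p
  refine (closure_le _).2 ?_
  rintro _ ⟨c, hc, e, he, rfl⟩
  have hcW : c ∈ normalizer (W0 p E : Set G) := centralizer_le_normalizer _ hc
  have hcN := BaumannBlockW.normalizer_inf_le_normalizer_sup _ _
    (mem_inf.2 ⟨BaumannBlockW.le_normalizer_of_normal ⁅Cfsg.pCore p G, Cfsg.pCore p G⁆ ⊤ (mem_top c), hcW⟩)
  exact conj_mem (normalizer_le_normalizer_stab _ _ (mem_inf.2 ⟨hcN, hcW⟩)) (E_stab_N D hG hbig he)

theorem Y_triv_U {y u : G} (hy : y ∈ Ycl p E) (hu : u ∈ U0 p E) : y * u * y⁻¹ * u⁻¹ ∈ W0 p E :=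
  stab_apply (Y_stab_N D hG hbig hy) (U_le_N D hG hbig hu)

theorem Y_le_norm_U : Ycl p E ≤ normalizer (U0 p E : Set G) := fun y hy => mem_norm fun u hu => by
  simpa using mul_mem (D.W_le (Y_triv_U D hG hbig hy hu)) hu

theorem Y_le_norm_W : Ycl p E ≤ normalizer (W0 p E : Set G) := fun _ hy =>
  (mem_inf.1 (stab_le (Y_stab_N D hG hbig hy))).2

theorem Y_le_norm_C : Ycl p E ≤ normalizer (centralizer (W0 p E : Set G) : Set G) :=
  (Y_le_norm_W D hG hbig).trans (BaumannBlockW.normalizer_le_normalizer_centralizer _)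

omit hG hbig in
theorem exists_E {y : G} (hy : y ∈ Ycl p E) : ∃ e ∈ E, y * e⁻¹ ∈ centralizer (W0 p E : Set G) := by
  set C := centralizer (W0 p E : Set G)
  have hle : Ycl p E ≤ C ⊔ E := by
    refine (closure_le _).2 ?_
    rintro _ ⟨c, hc, e, he, rfl⟩
    exact mul_mem (mul_mem (mem_sup_left hc) (mem_sup_right he)) (inv_mem (mem_sup_left hc))
  have h : y ∈ (C : Set G) * (E : Set G) := by
    rw [← coe_mul_of_right_le_normalizer_left C E (le_normalizer.trans (normalizer_le_C D.block))]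
    exact hle hy
  obtain ⟨c, hc, e, he, rfl⟩ := h
  exact ⟨e, he, by rw [mul_inv_cancel_right]; exact hc⟩

omit hG hbig in
theorem Q_le_R1 : Q0 p E ≤ R1cl p E := fun q hq =>
  subset_closure ⟨1, one_mem _, q, hq, by simp⟩

theorem R1_le_R : R1cl p E ≤ Cfsg.pCore p G := by
  haveI := SylowIn.pCore_normal G p
  refine (closure_le _).2 ?_
  rintro _ ⟨y, -, q, hq, rfl⟩
  exact (inferInstance : (Cfsg.pCore p G).Normal).conj_mem q (Q_le_R D hG hbig hq) y

theorem U_le_R1 : U0 p E ≤ R1cl p E := D.U_le.trans (Q_le_R1 D)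

omit hG hbig in
theorem Y_le_norm_R1 : Ycl p E ≤ normalizer (R1cl p E : Set G) := fun n hn => by
  refine mem_norm_closure D ?_
  rintro _ ⟨y, hy, q, hq, rfl⟩
  exact subset_closure ⟨n * y, mul_mem hn hy, q, hq, by group⟩

omit hG hbig in
theorem NE_le_norm_R1 : normalizer (E : Set G) ≤ normalizer (R1cl p E : Set G) := fun n hn => by
  refine mem_norm_closure D ?_
  rintro _ ⟨y, hy, q, hq, rfl⟩
  exact subset_closure ⟨n * y * n⁻¹, conj_mem (NE_le_norm_Y D hn) hy,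
    n * q * n⁻¹, conj_mem (BaumannBlockW.normalizer_le_normalizer_pCoreOf E hn) hq, by group⟩

theorem com_RR1 {r x : G} (hr : r ∈ Cfsg.pCore p G) (hx : x ∈ R1cl p E) : ⁅r, x⁆ ∈ U0 p E := by
  haveI := SylowIn.pCore_normal G p
  have hUR : ∀ u ∈ U0 p E, ∀ r ∈ Cfsg.pCore p G, r * u = u * r := fun u hu r hr =>
    U_central D hG hbig hu hr
  induction hx using closure_induction with
  | mem x hx =>
    obtain ⟨y, hy, q, hq, rfl⟩ := hx
    rw [show ⁅r, y * q * y⁻¹⁆ = y * ⁅y⁻¹ * r * y, q⁆ * y⁻¹ by simp only [commutatorElement_def]; group]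
    refine conj_mem (Y_le_norm_U D hG hbig hy) (com_RQ D hG hbig ?_ hq)
    simpa using (inferInstance : (Cfsg.pCore p G).Normal).conj_mem r hr y⁻¹
  | one => rw [commutatorElement_one_right]; exact one_mem _
  | mul a b ha hb ia ib =>
    rw [com_mul_right hUR (R1_le_R D hG hbig ha) ib]
    exact mul_mem ia ib
  | inv a ha ia =>
    rw [show ⁅r, a⁻¹⁆ = a⁻¹ * ⁅r, a⁆⁻¹ * a by simp only [commutatorElement_def]; group,
      U_central D hG hbig (inv_mem ia) (inv_mem (R1_le_R D hG hbig ha)), inv_mul_cancel_right]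
    exact inv_mem ia

theorem com_R1 {x y : G} (hx : x ∈ R1cl p E) (hy : y ∈ R1cl p E) : ⁅x, y⁆ ∈ U0 p E :=
  com_RR1 D hG hbig (R1_le_R D hG hbig hx) hy

theorem R1_le_norm_W : R1cl p E ≤ normalizer (W0 p E : Set G) := fun r hr => mem_norm fun w hw => by
  rw [W_centralized D.block hG (R1_le_R D hG hbig hr) hw, mul_inv_cancel_right]
  exact hw

theorem mem_Rad {x : G} : x ∈ Rad p E ↔ x ∈ R1cl p E ∧ ∀ y ∈ R1cl p E, ⁅x, y⁆ ∈ W0 p E := by
  refine ⟨fun h => ⟨(mem_inf.1 h).1, fun y hy => ?_⟩, fun h => mem_inf.2 ⟨h.1, mem_stab (le_normalizer h.1)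
    (R1_le_norm_W D hG hbig h.1) fun y hy => ?_⟩⟩
  · rw [commutatorElement_def]; exact stab_apply (mem_inf.1 h).2 hy
  · rw [← commutatorElement_def]; exact h.2 y hy

omit D hG hbig in
theorem Rad_le_R1 : Rad p E ≤ R1cl p E := inf_le_left

omit D hG hbig in
theorem le_norm_Rad {H : Subgroup G} (h1 : H ≤ normalizer (R1cl p E : Set G))
    (h2 : H ≤ normalizer (W0 p E : Set G)) : H ≤ normalizer (Rad p E : Set G) :=
  le_normalizer_inf h1 (le_normalizer_stab h1 h2)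

theorem Y_le_norm_Rad : Ycl p E ≤ normalizer (Rad p E : Set G) :=
  le_norm_Rad (Y_le_norm_R1 D) (Y_le_norm_W D hG hbig)

omit hG hbig in
theorem NE_le_norm_Rad : normalizer (E : Set G) ≤ normalizer (Rad p E : Set G) :=
  le_norm_Rad (NE_le_norm_R1 D) (normalizer_le_W D.block)

theorem U_le_Rad : U0 p E ≤ Rad p E := fun u hu => (mem_Rad D hG hbig).2 ⟨U_le_R1 D hG hbig hu, fun y hy => by
  rw [commutatorElement_eq_one_iff_mul_comm.2 (U_central D hG hbig hu (R1_le_R D hG hbig hy)).symm]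
  exact one_mem _⟩

theorem Q_inf_Rad : Q0 p E ⊓ Rad p E ≤ U0 p E := by
  rintro q ⟨hq, hqR⟩
  obtain ⟨ζ, h0, -, hdet⟩ := exists_form D
  refine (D.SQ.co_eq_zero ⟨q, hq⟩).1 (SympPlane.eq_of_det2 fun w => ?_)
  obtain ⟨y, rfl⟩ := D.SQ.exists_co w
  rw [← hdet]
  have hW := ((mem_Rad D hG hbig).1 hqR).2 y (Q_le_R1 D y.2)
  show ζ ⁅q, (y : G)⁆ = _
  rw [(h0 _ (D.W_le hW)).2 hW]
  simp [SympPlane.det2]

theorem E_stab_Rad : E ≤ stab (Rad p E) (W0 p E) := by
  have hn : E ≤ normalizer (Rad p E : Set G) := le_normalizer.trans (NE_le_norm_Rad D)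
  refine le_stab_W D.block hn fun e he x hx => Q_inf_Rad D hG hbig (mem_inf.2 ⟨?_, ?_⟩)
  · exact conj_pCore_mem D.block he (R1_le_R D hG hbig (Rad_le_R1 hx))
  · exact mul_mem (conj_mem (hn he) hx) (inv_mem hx)

theorem E_stab_R : E ≤ stab (Cfsg.pCore p G) (R1cl p E) := fun e he => by
  haveI := SylowIn.pCore_normal G p
  exact mem_stab (BaumannBlockW.le_normalizer_of_normal (Cfsg.pCore p G) E he)
    (NE_le_norm_R1 D (le_normalizer he)) fun r hr => Q_le_R1 D (conj_pCore_mem D.block he hr)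

/-- The part of `C(W_E)` inside `Y` that stabilises the series below `O_p(G)`. -/
def D0 (p : ℕ) (E : Subgroup G) : Subgroup G :=
  Ycl p E ⊓ centralizer (W0 p E : Set G) ⊓ stab (R1cl p E) (Rad p E) ⊓ stab (Rad p E) (W0 p E) ⊓
    stab (Cfsg.pCore p G) (R1cl p E)

theorem D0_isPGroup : IsPGroup p (D0 p E) := isPGroup_of_coprime fun g hg hco => by
  obtain ⟨⟨⟨⟨-, hC⟩, h1⟩, h2⟩, h0⟩ := hg
  exact eq_one_of_stab (SylowIn.isPGroup_pCore G p) hG (R1_le_R D hG hbig)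
    (Rad_le_R1.trans (R1_le_R D hG hbig)) (W_le_core D.block hG) hco
    (fun w hw => by rw [mul_inv_eq_iff_eq_mul]; exact (mem_centralizer_iff.1 hC w hw).symm)
    (fun w hw => stab_apply h2 hw) (fun w hw => stab_apply h1 hw) (fun w hw => stab_apply h0 hw)

theorem le_norm_D0 {H : Subgroup G} (hY : H ≤ normalizer (Ycl p E : Set G))
    (h1 : H ≤ normalizer (R1cl p E : Set G)) (h2 : H ≤ normalizer (W0 p E : Set G)) :
    H ≤ normalizer (D0 p E : Set G) := by
  haveI := SylowIn.pCore_normal G p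
  exact le_normalizer_inf (le_normalizer_inf (le_normalizer_inf
    (le_normalizer_inf hY (h2.trans (BaumannBlockW.normalizer_le_normalizer_centralizer _)))
    (le_normalizer_stab h1 (le_norm_Rad h1 h2))) (le_normalizer_stab (le_norm_Rad h1 h2) h2))
    (le_normalizer_stab (BaumannBlockW.le_normalizer_of_normal _ H) h1)

theorem NE_le_norm_D0 : normalizer (E : Set G) ≤ normalizer (D0 p E : Set G) :=
  le_norm_D0 D hG hbig (NE_le_norm_Y D) (NE_le_norm_R1 D) (normalizer_le_W D.block)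

theorem norm_of_stab {d : G} (hd : d ∈ Ycl p E) (hdC : d ∈ centralizer (W0 p E : Set G))
    (h : ∀ e ∈ E, d * e * d⁻¹ * e⁻¹ ∈ stab (R1cl p E) (Rad p E)) : d ∈ normalizer (E : Set G) := by
  haveI := SylowIn.pCore_normal G p
  have hp0 := D0_isPGroup D hG hbig
  have hNE := NE_le_norm_D0 D hG hbig
  have h0E : D0 p E ≤ normalizer (E : Set G) := BaumannBlockW.normalizes_of_block D.block hp0
    ((BaumannBlockW.baumann_le_normalizer D.block).trans hNE) (le_normalizer.trans hNE)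
  have hdn : d ∈ normalizer (D0 p E : Set G) :=
    le_norm_D0 D hG hbig (H := Ycl p E) le_normalizer (Y_le_norm_R1 D) (Y_le_norm_W D hG hbig) hd
  refine mem_normalizer_of_sup D.block.1 hp0 h0E (mem_norm fun x hx => ?_)
  suffices hle : E ⊔ D0 p E ≤ (E ⊔ D0 p E).comap (MulAut.conj d).toMonoidHom by simpa using hle hx
  refine sup_le (fun e he => ?_) fun k hk => ?_
  · have hg : d * e * d⁻¹ * e⁻¹ ∈ D0 p E := by
      have eY := E_le_Y D he
      refine mem_inf.2 ⟨mem_inf.2 ⟨mem_inf.2 ⟨mem_inf.2 ⟨?_, ?_⟩, h e he⟩, ?_⟩, ?_⟩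
      · exact mul_mem (mul_mem (mul_mem hd eY) (inv_mem hd)) (inv_mem eY)
      · rw [show d * e * d⁻¹ * e⁻¹ = d * (e * d⁻¹ * e⁻¹) by group]
        exact mul_mem hdC (conj_mem (normalizer_le_C D.block (le_normalizer he)) (inv_mem hdC))
      · refine mul_mem (conj_mem ?_ (E_stab_Rad D hG hbig he)) (inv_mem (E_stab_Rad D hG hbig he))
        exact normalizer_le_normalizer_stab _ _
          (mem_inf.2 ⟨Y_le_norm_Rad D hG hbig hd, Y_le_norm_W D hG hbig hd⟩)
      · refine mul_mem (conj_mem ?_ (E_stab_R D hG hbig he)) (inv_mem (E_stab_R D hG hbig he))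
        exact normalizer_le_normalizer_stab _ _
          (mem_inf.2 ⟨BaumannBlockW.le_normalizer_of_normal (Cfsg.pCore p G) _ hd, Y_le_norm_R1 D hd⟩)
    simpa using mul_mem (mem_sup_right (S := E) hg) (mem_sup_left (T := D0 p E) he)
  · simpa using mem_sup_right (S := E) (conj_mem hdn hk)

/-- The elements of `Y` centralising `W_E` act trivially on `R₁` modulo its radical. -/
theorem Dd_le_stab : Ycl p E ⊓ centralizer (W0 p E : Set G) ≤ stab (R1cl p E) (Rad p E) := by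
  classical
  haveI := D.charP
  haveI := SylowIn.pCore_normal G p
  obtain ⟨ζ, hζ0, hζadd, hζdet⟩ := exists_form D
  set R := Cfsg.pCore p G
  set C := centralizer (W0 p E : Set G) with hC
  have hζ1 : ζ 1 = 0 := (hζ0 1 (one_mem _)).2 (one_mem _)
  have hUR : ∀ u ∈ U0 p E, ∀ r ∈ R, r * u = u * r := fun u hu r hr => U_central D hG hbig hu hr
  have hcl : ∀ {a b y : G}, a ∈ R1cl p E → b ∈ R1cl p E → y ∈ R1cl p E →
      ζ ⁅a * b, y⁆ = ζ ⁅a, y⁆ + ζ ⁅b, y⁆ := fun {a b y} ha hb hy => by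
    rw [com_mul_left hUR (U_le_R D hG hbig) (R1_le_R D hG hbig ha) (com_R1 D hG hbig ha hy)
      (com_R1 D hG hbig hb hy), hζadd _ (com_R1 D hG hbig ha hy) _ (com_R1 D hG hbig hb hy)]
  have hskew : ∀ {a b : G}, a ∈ R1cl p E → b ∈ R1cl p E → ζ ⁅b, a⁆ = -ζ ⁅a, b⁆ := fun {a b} ha hb => by
    have h := hζadd _ (com_R1 D hG hbig ha hb) _ (com_R1 D hG hbig hb ha)
    rw [← commutatorElement_inv a b, mul_inv_cancel, hζ1, commutatorElement_inv] at h
    exact eq_neg_of_add_eq_zero_right h.symm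
  have hcr : ∀ {a b y : G}, a ∈ R1cl p E → b ∈ R1cl p E → y ∈ R1cl p E →
      ζ ⁅y, a * b⁆ = ζ ⁅y, a⁆ + ζ ⁅y, b⁆ := fun {a b y} ha hb hy => by
    rw [hskew (mul_mem ha hb) hy, hcl ha hb hy, neg_add, ← hskew ha hy, ← hskew hb hy]
  have hinv : ∀ {y a b : G}, y ∈ Ycl p E → a ∈ R1cl p E → b ∈ R1cl p E →
      ζ ⁅y * a * y⁻¹, y * b * y⁻¹⁆ = ζ ⁅a, b⁆ := fun {y a b} hy ha hb => by
    have hu := com_R1 D hG hbig ha hb
    have hw := Y_triv_U D hG hbig hy hu
    rw [show ⁅y * a * y⁻¹, y * b * y⁻¹⁆ = (y * ⁅a, b⁆ * y⁻¹ * ⁅a, b⁆⁻¹) * ⁅a, b⁆ by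
      simp only [commutatorElement_def]; group, hζadd _ (D.W_le hw) _ hu, (hζ0 _ (D.W_le hw)).2 hw, zero_add]
  have hQ1 := Q_le_R1 D
  -- the quotient by the radical
  let N := (Rad p E).subgroupOf (R1cl p E)
  haveI hN : N.Normal := (normal_subgroupOf_iff_le_normalizer Rad_le_R1).2
    (le_norm_Rad le_normalizer (R1_le_norm_W D hG hbig))
  letI : CommGroup (↥(R1cl p E) ⧸ N) :=
    { (inferInstance : Group (↥(R1cl p E) ⧸ N)) with
      mul_comm := fun u v => by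
        induction u using QuotientGroup.induction_on with | _ a => ?_
        induction v using QuotientGroup.induction_on with | _ b => ?_
        rw [← QuotientGroup.mk_mul, ← QuotientGroup.mk_mul, QuotientGroup.eq]
        refine mem_subgroupOf.2 (U_le_Rad D hG hbig ?_)
        have := com_R1 D hG hbig (inv_mem b.2) (inv_mem a.2)
        rw [commutatorElement_def, inv_inv, inv_inv] at this
        simpa [mul_assoc] using this }
  let mk : ↥(R1cl p E) → Additive (↥(R1cl p E) ⧸ N) := fun x => Additive.ofMul (QuotientGroup.mk x)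
  have mk_mul : ∀ a b, mk (a * b) = mk a + mk b := fun a b => rfl
  have mk_eq : ∀ a b, mk a = mk b ↔ ∃ n ∈ Rad p E, (a : G) * n = b := fun a b => by
    refine (Additive.ofMul.injective.eq_iff).trans (QuotientGroup.eq.trans ⟨fun h => ?_, ?_⟩)
    · exact ⟨_, mem_subgroupOf.1 h, by simp⟩
    · rintro ⟨n, hn, e⟩
      exact mem_subgroupOf.2 (by simpa [← e] using hn)
  have mk_surj : ∀ v, ∃ x, mk x = v := fun v => by
    obtain ⟨x, hx⟩ := QuotientGroup.mk_surjective (Additive.toMul v)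
    exact ⟨x, congrArg Additive.ofMul hx⟩
  choose sec hsec using mk_surj
  -- the pairing
  have hβ : ∀ x y : ↥(R1cl p E), ζ ⁅(sec (mk x) : G), (sec (mk y) : G)⁆ = ζ ⁅(x : G), (y : G)⁆ := by
    intro x y
    have key : ∀ (a : ↥(R1cl p E)) (b : G), b ∈ R1cl p E → ζ ⁅(sec (mk a) : G), b⁆ = ζ ⁅(a : G), b⁆ := by
      intro a b hb
      obtain ⟨n, hn, e⟩ := (mk_eq _ a).1 (hsec (mk a))
      have hnb := ((mem_Rad D hG hbig).1 hn).2 b hb
      rw [← e, hcl (sec (mk a)).2 (Rad_le_R1 hn) hb, (hζ0 _ (D.W_le hnb)).2 hnb, add_zero]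
    rw [key x _ (sec (mk y)).2, hskew (sec (mk y)).2 x.2, key y _ x.2, ← hskew y.2 x.2]
  let β : Additive (↥(R1cl p E) ⧸ N) →+ Additive (↥(R1cl p E) ⧸ N) →+ F :=
    AddMonoidHom.mk' (fun v => AddMonoidHom.mk' (fun w => ζ ⁅(sec v : G), (sec w : G)⁆) fun a b => by
      rw [← hsec a, ← hsec b, ← hsec v, ← mk_mul, hβ, hβ, hβ, Subgroup.coe_mul,
        hcr (sec a).2 (sec b).2 (sec v).2]) fun a b => AddMonoidHom.ext fun w => by
      show ζ _ = ζ _ + ζ _
      rw [← hsec a, ← hsec b, ← hsec w, ← mk_mul, hβ, hβ, hβ, Subgroup.coe_mul,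
        hcl (sec a).2 (sec b).2 (sec w).2]
  have hβmk : ∀ x y, β (mk x) (mk y) = ζ ⁅(x : G), (y : G)⁆ := hβ
  -- the action of `Y`
  let cj : ↥(Ycl p E) → ↥(R1cl p E) →* ↥(R1cl p E) := fun y =>
    { toFun := fun x => ⟨(y : G) * x * (y : G)⁻¹, conj_mem (Y_le_norm_R1 D y.2) x.2⟩
      map_one' := Subtype.ext (by simp)
      map_mul' := fun a b => Subtype.ext (by simp [mul_assoc]) }
  have hcjN : ∀ y, N ≤ N.comap (cj y) := fun y x hx => show cj y x ∈ N from
    mem_subgroupOf.2 (conj_mem (Y_le_norm_Rad D hG hbig y.2) (mem_subgroupOf.1 hx))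
  let act : ↥(Ycl p E) → Additive (↥(R1cl p E) ⧸ N) →+ Additive (↥(R1cl p E) ⧸ N) := fun y =>
    MonoidHom.toAdditive (QuotientGroup.map N N (cj y) (hcjN y))
  have hact : ∀ y x, act y (mk x) = mk (cj y x) := fun y x => rfl
  -- the section `Q / U`
  let qi : ↥(Q0 p E) → ↥(R1cl p E) := fun q => ⟨q, hQ1 q.2⟩
  have qi_eq : ∀ q q', D.SQ.co q = D.SQ.co q' → mk (qi q) = mk (qi q') := fun q q' h => by
    refine (mk_eq _ _).2 ⟨_, U_le_Rad D hG hbig ((D.SQ.co_eq_zero (q⁻¹ * q')).1 ?_), by simp [qi]⟩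
    rw [Sec.co_mul, Sec.co_inv, h, neg_add_cancel]
  let pre : (Fin 2 → F) → ↥(Q0 p E) := fun v => (D.SQ.exists_co v).choose
  have hpre : ∀ v, D.SQ.co (pre v) = v := fun v => (D.SQ.exists_co v).choose_spec
  let ι : (Fin 2 → F) →+ Additive (↥(R1cl p E) ⧸ N) := AddMonoidHom.mk' (fun z => mk (qi (pre z))) fun a b =>
    (qi_eq (pre (a + b)) (pre a * pre b) (by rw [Sec.co_mul, hpre, hpre, hpre])).trans (mk_mul (qi (pre a)) (qi (pre b)))
  have hι : ∀ q, ι (D.SQ.co q) = mk (qi q) := fun q => qi_eq _ _ (hpre _)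
  -- the involution and the projection
  obtain ⟨t, ht⟩ := D.SQ.mem_range _ (SympPlane.Setup.neg_one_mem (F := F))
  have hdQ : ∀ (e : ↥E) (x : ↥(R1cl p E)), (e : G) * x * (e : G)⁻¹ * (x : G)⁻¹ ∈ Q0 p E := fun e x =>
    conj_pCore_mem D.block e.2 (R1_le_R D hG hbig x.2)
  let dd : ↥E → ↥(R1cl p E) → ↥(Q0 p E) := fun e x => ⟨_, hdQ e x⟩
  have hddmul : ∀ e a b, D.SQ.co (dd e (a * b)) = D.SQ.co (dd e a) + D.SQ.co (dd e b) := fun e a b => by
    rw [← Sec.co_mul]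
    refine D.SQ.co_eq _ _ ?_
    have h := conj_mem (normalizer_le_U D.block (le_normalizer (D.Q_le (dd e a).2)))
      (com_RQ D hG hbig (R1_le_R D hG hbig a.2) (dd e b).2)
    rw [commutatorElement_def] at h
    convert h using 1
    simp only [dd, Subgroup.coe_mul]; group
  have hddRad : ∀ e (x : ↥(R1cl p E)), (x : G) ∈ Rad p E → D.SQ.co (dd e x) = 0 := fun e x hx =>
    (D.SQ.co_eq_zero _).2 (Q_inf_Rad D hG hbig (mem_inf.2 ⟨(dd e x).2,
      mul_mem (conj_mem (NE_le_norm_Rad D (le_normalizer e.2)) hx) (inv_mem hx)⟩))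
  have hpwd : ∀ x, D.SQ.co (dd t (sec (mk x))) = D.SQ.co (dd t x) := fun x => by
    obtain ⟨n, hn, e⟩ := (mk_eq _ x).1 (hsec (mk x))
    rw [show x = sec (mk x) * ⟨n, Rad_le_R1 hn⟩ from Subtype.ext e.symm]
    conv_rhs => rw [hddmul, hddRad t ⟨n, Rad_le_R1 hn⟩ hn, add_zero]
    rw [show sec (mk x) * ⟨n, Rad_le_R1 hn⟩ = x from Subtype.ext e]
  let pj : Additive (↥(R1cl p E) ⧸ N) →+ (Fin 2 → F) := AddMonoidHom.mk' (fun v => D.SQ.co (dd t (sec v)))
    fun a b => by rw [← hsec a, ← hsec b, ← mk_mul, hpwd, hpwd, hpwd, hddmul]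
  have hpj : ∀ x, pj (mk x) = D.SQ.co (dd t x) := hpwd
  have hYE : ∀ e : ↥E, (e : G) ∈ Ycl p E := fun e => E_le_Y D e.2
  have hconjco : ∀ (e : ↥E) (q : ↥(Q0 p E)), ∃ q' : ↥(Q0 p E), (q' : G) = (e : G) * q * (e : G)⁻¹ ∧
      D.SQ.co q' = (D.SQ.ρ e).1.mulVec (D.SQ.co q) := fun e q =>
    ⟨⟨_, (mem_normalizer_iff.1 (D.SQ.norm e.2) _).1 q.2⟩, rfl, D.SQ.act e q⟩
  -- `ζ [e x e⁻¹, e q e⁻¹]` in terms of the coordinates
  have hpair : ∀ (e : ↥E) (x : ↥(R1cl p E)) (q q' : ↥(Q0 p E)), (q' : G) = (e : G) * q * (e : G)⁻¹ →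
      ζ ⁅(x : G), (q : G)⁆ = SympPlane.det2 (D.SQ.co (dd e x)) (D.SQ.co q') + ζ ⁅(x : G), (q' : G)⁆ := by
    intro e x q q' hq'
    rw [← hinv (hYE e) x.2 (hQ1 q.2), ← hq', ← hζdet, ← hcl (hQ1 (dd e x).2) x.2 (hQ1 q'.2)]
    congr 2
    simp only [dd]; group
  have hadjco : ∀ (x : ↥(R1cl p E)) (q : ↥(Q0 p E)),
      ζ ⁅(x : G), (q : G)⁆ = SympPlane.det2 (D.SQ.co (dd t x)) (D.SQ.co q) := by
    intro x q
    obtain ⟨q', hq', hco⟩ := hconjco t q
    rw [ht, Matrix.SpecialLinearGroup.coe_neg, Matrix.SpecialLinearGroup.coe_one, Matrix.neg_mulVec,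
      Matrix.one_mulVec] at hco
    have h1 := hpair t x q q' hq'
    have h2 : ζ ⁅(x : G), (q' : G)⁆ = -ζ ⁅(x : G), (q : G)⁆ := by
      have hu : ((q' * q : ↥(Q0 p E)) : G) ∈ U0 p E := (D.SQ.co_eq_zero _).1 (by
        rw [Sec.co_mul, hco, neg_add_cancel])
      have h3 := hcr (hQ1 q'.2) (hQ1 q.2) x.2
      rw [commutatorElement_eq_one_iff_mul_comm.2 (U_central D hG hbig (u := (q' : G) * q) hu
        (R1_le_R D hG hbig x.2)), hζ1] at h3
      exact eq_neg_of_add_eq_zero_left h3.symm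
    rw [h2, hco] at h1
    simp only [SympPlane.det2, Pi.neg_apply] at h1 ⊢
    linear_combination (-1) * h1 + (ζ ⁅(x : G), (q : G)⁆) * SympPlane.Setup.three (F := F)
  have hadj : ∀ v z, β v (ι z) = SympPlane.det2 (pj v) z := fun v z => by
    rw [← hsec v, ← hpre z, hι, hβmk, hpj]
    exact hadjco _ _
  -- the second action
  have hE_of : ∀ y : ↥(Ycl p E), ∃ e : ↥E, (y : G) * (e : G)⁻¹ ∈ C := fun y => by
    obtain ⟨e, he, h⟩ := exists_E D y.2
    exact ⟨⟨e, he⟩, h⟩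
  choose ef hef using hE_of
  have hρ1 : ∀ e : ↥E, (e : G) ∈ C → D.SQ.ρ e = 1 := fun e he =>
    (D.rhoQ_eq_one_iff e).2 (D.inf_le_Q (mem_inf.2 ⟨e.2, he⟩))
  have hψwd : ∀ (y : ↥(Ycl p E)) (e : ↥E), (y : G) * (e : G)⁻¹ ∈ C → D.SQ.ρ (ef y) = D.SQ.ρ e := by
    intro y e he
    rw [← mul_inv_eq_one, ← map_inv, ← map_mul]
    refine hρ1 _ ?_
    have := mul_mem (inv_mem (hef y)) he
    simpa [mul_assoc] using this
  let ψ : ↥(Ycl p E) →* Matrix.SpecialLinearGroup (Fin 2) F :=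
    { toFun := fun y => D.SQ.ρ (ef y)
      map_one' := (hψwd 1 1 (by simp [one_mem])).trans (map_one _)
      map_mul' := fun a b => by
        rw [← map_mul]
        refine hψwd _ _ ?_
        have h := mul_mem (hef a) (conj_mem (normalizer_le_C D.block (le_normalizer (ef a).2)) (hef b))
        convert h using 1
        simp only [Subgroup.coe_mul]; group }
  have hψC : ∀ y : ↥(Ycl p E), ψ y = 1 ↔ (y : G) ∈ C := fun y => by
    refine ⟨fun h => ?_, fun h => (hψwd y 1 (by simpa using h)).trans (map_one _)⟩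
    have := mul_mem (hef y) (D.Q_le_C ((D.rhoQ_eq_one_iff (ef y)).1 h))
    simpa using this
  -- lifts of `E`
  have hlift : ∀ (e : ↥E) v, act ⟨e, hYE e⟩ v = v + ι ((D.SQ.ρ e).1.mulVec (pj v) - pj v) := by
    intro e v
    obtain ⟨x, rfl⟩ : ∃ x, mk x = v := ⟨sec v, hsec v⟩
    have hco : D.SQ.co (dd e x) = (D.SQ.ρ e).1.mulVec (pj (mk x)) - pj (mk x) := by
      refine SympPlane.eq_of_det2 fun w => ?_
      obtain ⟨q', rfl⟩ := D.SQ.exists_co w
      obtain ⟨q, hq, hqco⟩ := hconjco e⁻¹ q'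
      have hq' : (q' : G) = (e : G) * q * (e : G)⁻¹ := by rw [hq, Subgroup.coe_inv]; group
      have h1 := hpair e x q q' hq'
      rw [hadjco, hadjco, ← hpj] at h1
      have h2 : SympPlane.det2 ((D.SQ.ρ e).1.mulVec (pj (mk x))) ((D.SQ.ρ e).1.mulVec (D.SQ.co q)) =
          SympPlane.det2 (pj (mk x)) (D.SQ.co q) := by
        have hd := (D.SQ.ρ e).2
        rw [Matrix.det_fin_two] at hd
        simp [SympPlane.det2, Matrix.mulVec, dotProduct, Fin.sum_univ_two]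
        linear_combination (pj (mk x) 0 * D.SQ.co q 1 - pj (mk x) 1 * D.SQ.co q 0) * hd
      have h3 : (D.SQ.ρ e).1.mulVec (D.SQ.co q) = D.SQ.co q' := by
        rw [hqco, Matrix.mulVec_mulVec, ← Matrix.SpecialLinearGroup.coe_mul, ← map_mul, mul_inv_cancel,
          map_one, Matrix.SpecialLinearGroup.coe_one, Matrix.one_mulVec]
      rw [h3] at h2
      simp only [SympPlane.det2, Pi.sub_apply] at h1 h2 ⊢
      linear_combination -h1 - h2
    rw [hact, ← hco, hι, add_comm, ← mk_mul]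
    exact congrArg mk (Subtype.ext (by simp [cj, dd, qi, mul_assoc]))
  -- no element inverts
  have hno : ∀ h, ψ h = 1 → ¬ ∀ z, act h (ι z) = -ι z := by
    intro h hh hneg
    have hhC := (hψC h).1 hh
    have hpinv : ∀ v, pj (act h⁻¹ v) = -pj v := fun v => by
      refine SympPlane.eq_of_det2 fun z => ?_
      obtain ⟨x, rfl⟩ : ∃ x, mk x = v := ⟨sec v, hsec v⟩
      obtain ⟨q, rfl⟩ := D.SQ.exists_co z
      have h2 : β (act h⁻¹ (mk x)) (ι (D.SQ.co q)) = β (mk x) (act h (ι (D.SQ.co q))) := by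
        rw [hι, hact, hact, hβmk, hβmk, ← hinv h.2 (cj h⁻¹ x).2 (hQ1 q.2)]
        congr 2
        simp [cj, mul_assoc]
      rw [hneg, map_neg, hadj, hadj] at h2
      rw [h2]
      simp [SympPlane.det2]
      ring
    have hstab : ∀ e ∈ E, (h : G) * e * (h : G)⁻¹ * e⁻¹ ∈ stab (R1cl p E) (Rad p E) := by
      intro e he
      have hgY : (h : G) * e * (h : G)⁻¹ * e⁻¹ ∈ Ycl p E :=
        mul_mem (mul_mem (mul_mem h.2 (hYE ⟨e, he⟩)) (inv_mem h.2)) (inv_mem (hYE ⟨e, he⟩))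
      refine mem_stab (Y_le_norm_R1 D hgY) (Y_le_norm_Rad D hG hbig hgY) fun x hx => ?_
      set e' : ↥E := ⟨e, he⟩
      have hcomm : ∀ v, act h (act ⟨e', hYE e'⟩ (act h⁻¹ v)) = act ⟨e', hYE e'⟩ v := by
        intro v
        obtain ⟨x, rfl⟩ : ∃ x, mk x = v := ⟨sec v, hsec v⟩
        rw [hlift, hlift, map_add, hneg, hpinv, Matrix.mulVec_neg, ← neg_sub_neg, ← map_neg]
        congr 1
        · rw [hact, hact]; exact congrArg mk (Subtype.ext (by simp [cj, mul_assoc]))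
        · congr 1; abel
      have h4 := hcomm (mk ⟨(e'⁻¹ : ↥E) * x * ((e'⁻¹ : ↥E) : G)⁻¹, conj_mem (NE_le_norm_R1 D
        (le_normalizer (e'⁻¹).2)) hx⟩)
      rw [hact, hact, hact, hact] at h4
      obtain ⟨n, hn, en⟩ := (mk_eq _ _).1 h4.symm
      simp only [cj, MonoidHom.coe_mk, OneHom.coe_mk] at en
      have hfin : (h : G) * e * (h : G)⁻¹ * e⁻¹ * x * ((h : G) * e * (h : G)⁻¹ * e⁻¹)⁻¹ * x⁻¹ =
          x * n * x⁻¹ := by
        rw [show x * n = (h : G) * e * (h : G)⁻¹ * e⁻¹ * x * ((h : G) * e * (h : G)⁻¹ * e⁻¹)⁻¹ by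
          convert en using 1 <;> simp [e', mul_assoc]]
      rw [hfin]
      exact conj_mem (le_norm_Rad le_normalizer (R1_le_norm_W D hG hbig) hx) hn
    have hhE := norm_of_stab D hG hbig h.2 hhC hstab
    refine D.no_inverter hG hhC hhE fun q hq => Q_inf_Rad D hG hbig (mem_inf.2 ⟨?_, ?_⟩)
    · exact mul_mem (conj_mem (BaumannBlockW.normalizer_le_normalizer_pCoreOf E hhE) hq) hq
    · have h1 := hneg (D.SQ.co ⟨q, hq⟩)
      rw [hι, hact, eq_neg_iff_add_eq_zero, ← mk_mul] at h1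
      obtain ⟨n, hn, en⟩ := (mk_eq 1 _).1 h1.symm
      rw [Subgroup.coe_one, one_mul] at en
      simpa [en, cj, qi] using hn
  let S : SympPlane.Setup ↥(Ycl p E) (Additive (↥(R1cl p E) ⧸ N)) F :=
    { act := act
      act_one := fun v => by
        obtain ⟨x, rfl⟩ : ∃ x, mk x = v := ⟨sec v, hsec v⟩
        rw [hact]; exact congrArg mk (Subtype.ext (by simp [cj]))
      act_mul := fun g h v => by
        obtain ⟨x, rfl⟩ : ∃ x, mk x = v := ⟨sec v, hsec v⟩
        rw [hact, hact, hact]; exact congrArg mk (Subtype.ext (by simp [cj, mul_assoc]))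
      β := β
      alt := fun v => by
        rw [← hsec v, hβmk, commutatorElement_self, hζ1]
      iso := fun g v w => by
        rw [← hsec v, ← hsec w, hact, hact, hβmk, hβmk]
        exact hinv g.2 (sec v).2 (sec w).2
      ι := ι
      p := pj
      adj := hadj
      pι := fun z => SympPlane.eq_of_det2 fun w => by
        rw [← hadj, ← hpre z, ← hpre w, hι, hι, hβmk]
        exact hζdet _ _
      ψ := ψ
      lift := fun M hM => by
        obtain ⟨e, rfl⟩ := D.SQ.mem_range M hM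
        exact ⟨⟨e, hYE e⟩, hψwd _ e (by simp [one_mem]), hlift e⟩
      no_neg := hno
      gen := fun v hv => by
        obtain ⟨x, rfl⟩ : ∃ x, mk x = v := ⟨sec v, hsec v⟩
        have hall : ∀ y ∈ R1cl p E, ζ ⁅(x : G), y⁆ = 0 := by
          intro y hy
          induction hy using closure_induction with
          | mem y hy =>
            obtain ⟨y₁, hy₁, q, hq, rfl⟩ := hy
            obtain ⟨e, he, hd⟩ := exists_E D hy₁
            let d : ↥(Ycl p E) := ⟨y₁ * e⁻¹, mul_mem hy₁ (inv_mem (E_le_Y D he))⟩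
            obtain ⟨q', hq', -⟩ := hconjco ⟨e, he⟩ ⟨q, hq⟩
            have h := hv d ((hψC d).2 hd) (D.SQ.co q')
            rw [hι, hact, hβmk] at h
            have e1 : ((cj d (qi q') : ↥(R1cl p E)) : G) = y₁ * q * y₁⁻¹ := by
              show y₁ * e⁻¹ * (q' : G) * (y₁ * e⁻¹)⁻¹ = _
              rw [hq']; group
            rw [e1] at h
            rw [hskew (subset_closure ⟨y₁, hy₁, q, hq, rfl⟩) x.2, h, neg_zero]
          | one => rw [commutatorElement_one_right, hζ1]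
          | mul a b ha hb ia ib => rw [hcr ha hb x.2, ia, ib, add_zero]
          | inv a ha ia =>
            have := hcr ha (inv_mem ha) x.2
            rwa [mul_inv_cancel, commutatorElement_one_right, hζ1, ia, zero_add, eq_comm] at this
        have hxR : (x : G) ∈ Rad p E := (mem_Rad D hG hbig).2 ⟨x.2, fun y hy =>
          (hζ0 _ (com_R1 D hG hbig x.2 hy)).1 (hall y hy)⟩
        exact (mk_eq x 1).2 ⟨(x : G)⁻¹, inv_mem hxR, by simp⟩ }
  have hcard : Nat.card F = 3 ∨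
      (5 ≤ Nat.card F ∧ _root_.commutator (Matrix.SpecialLinearGroup (Fin 2) F) = ⊤) := by
    by_cases hc : Nat.card F = 3
    · exact Or.inl hc
    refine Or.inr ⟨?_, D.commutator_top hc⟩
    obtain ⟨n, hn, -⟩ := D.card
    rw [D.p_eq] at hn
    rcases n with - | - | n
    · have := Finite.one_lt_card (α := F); omega
    · exact absurd (by rw [hn]; rfl) hc
    · rw [hn]
      calc 5 ≤ 3 ^ 2 := by norm_num
        _ ≤ _ := Nat.pow_le_pow_right (by norm_num) (by omega)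
  rintro d ⟨hdY, hdC⟩
  refine mem_stab (Y_le_norm_R1 D hdY) (Y_le_norm_Rad D hG hbig hdY) fun x hx => ?_
  have h : act ⟨d, hdY⟩ (mk ⟨x, hx⟩) = mk ⟨x, hx⟩ :=
    S.act_eq hcard (d := ⟨d, hdY⟩) ((hψC ⟨d, hdY⟩).2 hdC) (mk ⟨x, hx⟩)
  rw [hact] at h
  obtain ⟨n, hn, en⟩ := (mk_eq _ _).1 h.symm
  have e1 : d * x * d⁻¹ * x⁻¹ = x * n * x⁻¹ := by rw [show x * n = d * x * d⁻¹ from en]
  rw [e1]
  exact conj_mem (le_norm_Rad le_normalizer (R1_le_norm_W D hG hbig) hx) hn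

theorem Y_le_norm_E : Ycl p E ≤ normalizer (E : Set G) := fun y hy => by
  obtain ⟨e, he, hd⟩ := exists_E D hy
  have hdY : y * e⁻¹ ∈ Ycl p E := mul_mem hy (inv_mem (E_le_Y D he))
  have h : y * e⁻¹ ∈ normalizer (E : Set G) := by
    refine norm_of_stab D hG hbig hdY hd fun e' he' => Dd_le_stab D hG hbig (mem_inf.2 ⟨?_, ?_⟩)
    · exact mul_mem (mul_mem (mul_mem hdY (E_le_Y D he')) (inv_mem hdY)) (inv_mem (E_le_Y D he'))
    · rw [show y * e⁻¹ * e' * (y * e⁻¹)⁻¹ * e'⁻¹ = y * e⁻¹ * (e' * (y * e⁻¹)⁻¹ * e'⁻¹) by group]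
      exact mul_mem hd (conj_mem (normalizer_le_C D.block (le_normalizer he')) (inv_mem hd))
  simpa using mul_mem h (le_normalizer he)

/-- `C(W_E)` normalises `O_p(E)`. -/
theorem C_le_norm_Q : centralizer (W0 p E : Set G) ≤ normalizer (Q0 p E : Set G) := by
  intro c hc
  haveI := D.charP
  set C := centralizer (W0 p E : Set G)
  set Ec := E.map (MulAut.conj c).toMonoidHom with hEc
  have hYE := Y_le_norm_E D hG hbig
  have hEcY : Ec ≤ Ycl p E := by rintro _ ⟨e, he, rfl⟩; exact conj_le_Y D hc he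
  have hYEc : Ycl p E ≤ normalizer (Ec : Set G) := fun y hy => mem_norm fun x hx => by
    obtain ⟨e, he, rfl⟩ := hx
    refine ⟨c⁻¹ * y * c * e * (c⁻¹ * y * c)⁻¹, conj_mem (hYE (conj_mem' (C_le_norm_Y D hc) hy)) he, ?_⟩
    simp [mul_assoc]
  set I := E ⊓ Ec with hI
  have hEI : E ≤ normalizer (I : Set G) :=
    le_normalizer_inf le_normalizer ((E_le_Y D).trans hYEc)
  obtain ⟨e₁, he₁⟩ := D.SW.mem_range _ (SympPlane.Setup.qI_mem (F := F))
  obtain ⟨e₂, he₂⟩ := D.SW.mem_range _ (SympPlane.Setup.qJ_mem (F := F))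
  set f : G := c * (e₂ : G) * c⁻¹ with hf
  have hfEc : f ∈ Ec := ⟨e₂, e₂.2, rfl⟩
  set t : G := (e₁ : G) * f * (e₁ : G)⁻¹ * f⁻¹ with ht
  have htI : t ∈ I := by
    refine mem_inf.2 ⟨?_, ?_⟩
    · rw [ht, show (e₁ : G) * f * (e₁ : G)⁻¹ * f⁻¹ = (e₁ : G) * (f * (e₁ : G)⁻¹ * f⁻¹) by group]
      exact mul_mem e₁.2 (conj_mem (hYE (hEcY hfEc)) (inv_mem e₁.2))
    · exact mul_mem (conj_mem (hYEc (E_le_Y D e₁.2)) hfEc) (inv_mem hfEc)
  have htQ : t ∉ Q0 p E := fun htQ => by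
    set s : ↥E := e₁ * e₂ * e₁⁻¹ * e₂⁻¹ with hs
    have hg : f * (e₂ : G)⁻¹ ∈ C := by
      rw [hf, show c * (e₂ : G) * c⁻¹ * (e₂ : G)⁻¹ = c * ((e₂ : G) * c⁻¹ * (e₂ : G)⁻¹) by group]
      exact mul_mem hc (conj_mem (normalizer_le_C D.block (le_normalizer e₂.2)) (inv_mem hc))
    have hts : t * (s : G)⁻¹ ∈ C := by
      rw [show t * (s : G)⁻¹ = ((e₁ : G) * (f * (e₂ : G)⁻¹) * (e₁ : G)⁻¹) *
        ((s : G) * (f * (e₂ : G)⁻¹)⁻¹ * (s : G)⁻¹) by rw [ht, hs]; simp only [Subgroup.coe_mul, Subgroup.coe_inv]; group]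
      exact mul_mem (conj_mem (normalizer_le_C D.block (le_normalizer e₁.2)) hg)
        (conj_mem (normalizer_le_C D.block (le_normalizer s.2)) (inv_mem hg))
    have hsC : (s : G) ∈ C := by
      have := mul_mem (inv_mem hts) (D.Q_le_C htQ)
      simpa using this
    have hsQ := (D.rhoW_eq_one_iff s).2 (D.inf_le_Q (mem_inf.2 ⟨s.2, hsC⟩))
    rw [hs, map_mul, map_mul, map_mul, map_inv, map_inv, he₁, he₂, mul_inv_eq_one, mul_inv_eq_iff_eq_mul] at hsQ
    have h00 := congrFun (congrFun (congrArg Subtype.val hsQ) 0) 0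
    change ((SympPlane.Setup.qI (F := F)).1 * (SympPlane.Setup.qJ (F := F)).1) 0 0 =
      ((SympPlane.Setup.qJ (F := F)).1 * (SympPlane.Setup.qI (F := F)).1) 0 0 at h00
    simp [SympPlane.Setup.qI, SympPlane.Setup.qJ, Matrix.mul_apply, Fin.sum_univ_two] at h00
    exact SympPlane.Setup.two_ne (F := F) (by linear_combination h00)
  have hQIU : Q0 p E ≤ I ⊔ U0 p E := by
    have hX := Q_irr D (X := (I ⊔ U0 p E) ⊓ Q0 p E) (le_inf le_sup_right D.U_le) inf_le_right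
      (le_normalizer_inf ((le_inf hEI (le_normalizer.trans (normalizer_le_U D.block))).trans
        (BaumannBlockW.normalizer_inf_le_normalizer_sup _ _))
        (le_normalizer.trans (BaumannBlockW.normalizer_le_normalizer_pCoreOf E)))
    rcases hX with h | h
    · exfalso
      refine htQ ((D.rhoQ_eq_one_iff ⟨t, (mem_inf.1 htI).1⟩).1 (D.SQ.rho_eq_one fun q => ?_))
      refine h.le (mem_inf.2 ⟨mem_sup_left ?_, ?_⟩)
      · rw [show t * (q : G) * t⁻¹ * (q : G)⁻¹ = t * ((q : G) * t⁻¹ * (q : G)⁻¹) by group]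
        exact mul_mem htI (conj_mem (hEI (D.Q_le q.2)) (inv_mem htI))
      · exact mul_mem (conj_mem (D.SQ.norm (mem_inf.1 htI).1) q.2) (inv_mem q.2)
    · exact h.ge.trans inf_le_left
  have hdec : ∀ q ∈ Q0 p E, ∃ i ∈ I, ∃ u ∈ U0 p E, i * u = q := by
    intro q hq
    have : q ∈ (I : Set G) * (U0 p E : Set G) := by
      rw [← coe_mul_of_right_le_normalizer_left _ _ ((D.U_le.trans D.Q_le).trans hEI)]; exact hQIU hq
    exact this
  have hZI : Z0 p E ≤ I := by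
    rw [← D.comm]
    refine commutator_le.2 fun x hx y hy => ?_
    obtain ⟨i, hi, u, hu, rfl⟩ := hdec x hx
    obtain ⟨j, hj, v, hv, rfl⟩ := hdec y hy
    have hiQ : i ∈ Q0 p E := by simpa using mul_mem hx (inv_mem (D.U_le hu))
    have hjQ : j ∈ Q0 p E := by simpa using mul_mem hy (inv_mem (D.U_le hv))
    have hUR : ∀ w ∈ U0 p E, ∀ r ∈ Q0 p E, r * w = w * r := fun w hw r hr => D.Q_comm_U hr hw
    have hZ : ∀ a ∈ Q0 p E, ∀ b ∈ Q0 p E, ⁅a, b⁆ ∈ U0 p E := fun a ha b hb =>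
      (mem_inf.1 (D.comm.le (commutator_mem_commutator ha hb))).1
    rw [com_mul_left hUR D.U_le hiQ (hZ i hiQ _ (mul_mem hjQ (D.U_le hv))) (hZ u (D.U_le hu) _ (mul_mem hjQ (D.U_le hv))),
      commutatorElement_eq_one_iff_mul_comm.2 (D.Q_comm_U (mul_mem hjQ (D.U_le hv)) hu).symm, mul_one,
      com_mul_right hUR hjQ (hZ i hiQ v (D.U_le hv)),
      commutatorElement_eq_one_iff_mul_comm.2 (D.Q_comm_U hiQ hv), mul_one, commutatorElement_def]
    exact mul_mem (mul_mem (mul_mem hi hj) (inv_mem hi)) (inv_mem hj)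
  have hUI : U0 p E ≤ I := by
    have hEZ : E ≤ normalizer (Z0 p E : Set G) := le_normalizer_inf (le_normalizer.trans (normalizer_le_U D.block))
      (le_normalizer.trans (BaumannBlockW.normalizer_le_normalizer_centralizer E))
    have hX := (BaumannModule.good_of_block D.block).irr ((I ⊓ U0 p E) ⊔ Z0 p E) le_sup_right
      (sup_le inf_le_right inf_le_left)
      ((le_inf (le_normalizer_inf hEI (le_normalizer.trans (normalizer_le_U D.block))) hEZ).trans
        (BaumannBlockW.normalizer_inf_le_normalizer_sup _ _))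
    rcases hX with h | h
    · exfalso
      refine htQ ((D.rhoW_eq_one_iff ⟨t, (mem_inf.1 htI).1⟩).1 (D.SW.rho_eq_one fun u => h.le (mem_sup_left ?_)))
      refine mem_inf.2 ⟨?_, mul_mem (conj_mem (normalizer_le_U D.block (le_normalizer (mem_inf.1 htI).1)) u.2) (inv_mem u.2)⟩
      rw [show t * (u : G) * t⁻¹ * (u : G)⁻¹ = t * ((u : G) * t⁻¹ * (u : G)⁻¹) by group]
      exact mul_mem htI (conj_mem (hEI (D.Q_le (D.U_le u.2))) (inv_mem htI))
    · exact h.ge.trans (sup_le inf_le_left hZI)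
  have hQEc : Q0 p E ≤ Ec := fun q hq => by
    obtain ⟨i, hi, u, hu, rfl⟩ := hdec q hq
    exact mul_mem (mem_inf.1 hi).2 (mem_inf.1 (hUI hu)).2
  have hle : Q0 p E ≤ Cfsg.pCoreOf p Ec := SylowIn.le_pCoreOf hQEc
    ((hEcY.trans hYE).trans (BaumannBlockW.normalizer_le_normalizer_pCoreOf E)) (SylowIn.isPGroup_pCoreOf E)
  have hmap : (Q0 p E).map (MulAut.conj c).toMonoidHom = Cfsg.pCoreOf p Ec := SylowIn.pCoreOf_map_conj _ _
  refine SylowIn.map_conj_eq_iff.1 ?_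
  rw [hmap]
  refine (eq_of_le_of_card_ge hle ?_).symm
  rw [← hmap, card_map_of_injective (MulAut.conj c).injective]

/-- The exceptional case. -/
theorem case_big : centralizer (W0 p E : Set G) ≤ normalizer (E : Set G) := by
  haveI := SylowIn.pCore_normal G p
  set C := centralizer (W0 p E : Set G) with hC
  set R := Cfsg.pCore p G
  have hYE := Y_le_norm_E D hG hbig
  have hYQ : Ycl p E ≤ normalizer (Q0 p E : Set G) :=
    hYE.trans (BaumannBlockW.normalizer_le_normalizer_pCoreOf E)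
  have hR1 : R1cl p E = Q0 p E := by
    refine le_antisymm ((closure_le _).2 ?_) (Q_le_R1 D)
    rintro _ ⟨y, hy, q, hq, rfl⟩
    exact conj_mem (hYQ hy) hq
  have hRad : Rad p E = U0 p E := le_antisymm
    (fun x hx => Q_inf_Rad D hG hbig (mem_inf.2 ⟨hR1 ▸ Rad_le_R1 hx, hx⟩)) (U_le_Rad D hG hbig)
  have hYR : Ycl p E ≤ stab R (R1cl p E) := by
    refine (closure_le _).2 ?_
    rintro _ ⟨c, hc, e, he, rfl⟩
    refine conj_mem (normalizer_le_normalizer_stab _ _ (mem_inf.2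
      ⟨BaumannBlockW.le_normalizer_of_normal R C hc, ?_⟩)) (E_stab_R D hG hbig he)
    rw [hR1]
    exact C_le_norm_Q D hG hbig hc
  have hD : Ycl p E ⊓ C ≤ D0 p E := fun d hd => by
    obtain ⟨hdY, hdC⟩ := mem_inf.1 hd
    refine mem_inf.2 ⟨mem_inf.2 ⟨mem_inf.2 ⟨hd, Dd_le_stab D hG hbig hd⟩, ?_⟩, hYR hdY⟩
    refine mem_stab (Y_le_norm_Rad D hG hbig hdY) (Y_le_norm_W D hG hbig hdY) fun x hx => ?_
    exact Y_triv_U D hG hbig hdY (hRad ▸ hx)
  have hDp : IsPGroup p ↥(Ycl p E ⊓ C) := (D0_isPGroup D hG hbig).to_le hD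
  intro c hc
  refine mem_normalizer_of_sup D.block.1 hDp (inf_le_left.trans hYE) ?_
  have hY : E ⊔ (Ycl p E ⊓ C) = Ycl p E := by
    refine le_antisymm (sup_le (E_le_Y D) inf_le_left) fun y hy => ?_
    obtain ⟨e, he, hd⟩ := exists_E D hy
    have h := mul_mem (mem_sup_right (S := E) (show y * e⁻¹ ∈ Ycl p E ⊓ C from
      mem_inf.2 ⟨mul_mem hy (inv_mem (E_le_Y D he)), hd⟩)) (mem_sup_left (T := Ycl p E ⊓ C) he)
    simpa using h
  rw [hY]
  exact C_le_norm_Y D hc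

end Exceptional

/-- A block is normalised by the centralizer of `W_E`. -/
theorem centralizer_le_normalizer_block {T : Sylow p G} {E : Subgroup G}
    (hG : centralizer (Cfsg.pCore p G : Set G) ≤ Cfsg.pCore p G)
    (hE : Cfsg.IsBaumannBlock p (T : Subgroup G) E) :
    centralizer (W0 p E : Set G) ≤ normalizer (E : Set G) := by
  by_cases hsmall : ∀ e ∈ E, ∀ r ∈ Cfsg.pCore p G, e * r * e⁻¹ * r⁻¹ ∈ U0 p E
  · exact case_small hE hG hsmall
  have hQU : Q0 p E ≠ U0 p E := fun h => hsmall fun e he r hr => h ▸ conj_pCore_mem hE he hr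
  rcases hE.2.2.2.2 with ⟨F, i1, i2, n, hcard, -, hW, h⟩ | ⟨-, m, -, -, h⟩
  · rcases h with h | ⟨hp3, hQ, hcomm, -, hcent, hZ, hquad⟩
    · exact absurd h hQU
    obtain ⟨SW⟩ := Sec.nonempty hW
    obtain ⟨SQ⟩ := Sec.nonempty hQ
    have hc : ∃ k : ℕ, Nat.card F = p ^ k ∧ Nat.card (Z0 p E) = p ^ k := ⟨n, by
      rw [Nat.card_eq_fintype_card, hcard], by show Nat.card ↥(U0 p E ⊓ centralizer (E : Set G)) = _; rw [← hcent, hZ, hp3]⟩
    haveI : Finite F := Finite.of_fintype F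
    exact case_big ⟨hE, hp3, SW, SQ, hcomm, hcent, hc, hquad⟩ hG hsmall
  · exact absurd h hQU

end CfsgLib.LocalEvenB.BlockCentralizer
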