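import Cfsg.Agent.Lib.LocalEvenB.BlockTrick
import Cfsg.Agent.Lib.Solvable.Cores

/-!
Conjugates of blocks are blocks.
-/

set_option autoImplicit false
set_option linter.style.haveILetI false
set_option linter.unusedSectionVars false

namespace CfsgLib.LocalEvenB.BlockConj

universe u

open Subgroup CfsgLib.LocalEven
open scoped Pointwise

variable {G : Type u} [Group G] [Finite G] {p : ℕ} [hp : Fact p.Prime]

theorem omegaOneCenter_map (X : Subgroup G) (g : G) :
    (Cfsg.omegaOneCenter p X).map (MulAut.conj g).toMonoidHom =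
      Cfsg.omegaOneCenter p (X.map (MulAut.conj g).toMonoidHom) := by
  rw [Cfsg.omegaOneCenter, Cfsg.omegaOneCenter, SylowIn.omegaOne_map,
    Subgroup.map_inf _ _ _ (MulAut.conj g).injective, ← SylowIn.centralizer_map_conj]

theorem pResidual_map {E : Subgroup G} (h : Cfsg.pResidualOf p E = E) (g : G) :
    Cfsg.pResidualOf p (E.map (MulAut.conj g).toMonoidHom) = E.map (MulAut.conj g).toMonoidHom := by
  refine le_antisymm (map_subtype_le _) ?_
  conv_lhs => rw [← h, Cfsg.pResidualOf, Residual.map_pResidual_eq_closure]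
  rw [MonoidHom.map_closure, closure_le]
  rintro _ ⟨x, ⟨hx, hco⟩, rfl⟩
  rw [Cfsg.pResidualOf, Residual.map_pResidual_eq_closure]
  exact subset_closure ⟨⟨x, hx, rfl⟩, by rwa [orderOf_injective _ (MulAut.conj g).injective]⟩

variable {F : Type} [Field F] {R : Subgroup (Matrix.SpecialLinearGroup (Fin 2) F)}

theorem sl2_map {E U U₀ : Subgroup G} (h : Cfsg.ActsAsSL2OnSection F R E U U₀) (g : G) :
    Cfsg.ActsAsSL2OnSection F R (E.map (MulAut.conj g).toMonoidHom) (U.map (MulAut.conj g).toMonoidHom)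
      (U₀.map (MulAut.conj g).toMonoidHom) := by
  obtain ⟨hn, hle, ρ, ψ, hr, hs, hk, ha⟩ := h
  have hi := (MulAut.conj g).injective
  let eE : ↥E ≃* ↥(E.map (MulAut.conj g).toMonoidHom) := E.equivMapOfInjective _ hi
  let eU : ↥U ≃* ↥(U.map (MulAut.conj g).toMonoidHom) := U.equivMapOfInjective _ hi
  refine ⟨?_, map_mono hle, ρ.comp eE.symm.toMonoidHom, ψ.comp eU.symm.toMonoidHom, ?_, ?_, fun u => ?_, fun e u => ?_⟩
  · rw [SylowIn.normalizer_map_conj]; exact map_mono hn
  · rw [MonoidHom.range_comp, MonoidHom.range_eq_top.2 eE.symm.surjective, ← MonoidHom.range_eq_map, hr]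
  · exact hs.comp eU.symm.surjective
  · obtain ⟨v, rfl⟩ := eU.surjective u
    show ψ (eU.symm (eU v)) = 1 ↔ _
    rw [eU.symm_apply_apply, hk]
    exact (mem_map_iff_mem hi).symm
  · obtain ⟨v, rfl⟩ := eU.surjective u
    obtain ⟨x, rfl⟩ := eE.surjective e
    obtain ⟨w, hw, hw'⟩ := ha x v
    refine ⟨eU w, ?_, ?_⟩
    · show (MulAut.conj g) (w : G) = (MulAut.conj g) (x : G) * (MulAut.conj g) (v : G) * ((MulAut.conj g) (x : G))⁻¹
      rw [hw, map_mul, map_mul, map_inv]
    · show Multiplicative.toAdd (ψ (eU.symm (eU w))) = _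
      rw [eU.symm_apply_apply, hw']
      show _ = (ρ (eE.symm (eE x))).1.mulVec (Multiplicative.toAdd (ψ (eU.symm (eU v))))
      rw [eE.symm_apply_apply, eU.symm_apply_apply]

theorem alt_map {n : ℕ} {R : Subgroup (Equiv.Perm (Fin n))} {E U U₀ : Subgroup G}
    (h : Cfsg.ActsAsOddPermModuleOnSection n R E U U₀) (g : G) :
    Cfsg.ActsAsOddPermModuleOnSection n R (E.map (MulAut.conj g).toMonoidHom) (U.map (MulAut.conj g).toMonoidHom)
      (U₀.map (MulAut.conj g).toMonoidHom) := by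
  obtain ⟨hn, hle, ρ, ψ, hr, hsum, hs, hk, ha⟩ := h
  have hi := (MulAut.conj g).injective
  let eE : ↥E ≃* ↥(E.map (MulAut.conj g).toMonoidHom) := E.equivMapOfInjective _ hi
  let eU : ↥U ≃* ↥(U.map (MulAut.conj g).toMonoidHom) := U.equivMapOfInjective _ hi
  refine ⟨?_, map_mono hle, ρ.comp eE.symm.toMonoidHom, ψ.comp eU.symm.toMonoidHom, ?_, fun u => hsum _,
    fun v hv => ?_, fun u => ?_, fun e u => ?_⟩
  · rw [SylowIn.normalizer_map_conj]; exact map_mono hn
  · rw [MonoidHom.range_comp, MonoidHom.range_eq_top.2 eE.symm.surjective, ← MonoidHom.range_eq_map, hr]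
  · obtain ⟨u, hu⟩ := hs v hv
    exact ⟨eU u, by show Multiplicative.toAdd (ψ (eU.symm (eU u))) = v; rw [eU.symm_apply_apply, hu]⟩
  · obtain ⟨v, rfl⟩ := eU.surjective u
    show ψ (eU.symm (eU v)) = 1 ↔ _
    rw [eU.symm_apply_apply, hk]
    exact (mem_map_iff_mem hi).symm
  · obtain ⟨v, rfl⟩ := eU.surjective u
    obtain ⟨x, rfl⟩ := eE.surjective e
    obtain ⟨w, hw, hw'⟩ := ha x v
    refine ⟨eU w, ?_, fun i => ?_⟩
    · show (MulAut.conj g) (w : G) = (MulAut.conj g) (x : G) * (MulAut.conj g) (v : G) * ((MulAut.conj g) (x : G))⁻¹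
      rw [hw, map_mul, map_mul, map_inv]
    · show Multiplicative.toAdd (ψ (eU.symm (eU w))) i = _
      rw [eU.symm_apply_apply, hw']
      show _ = Multiplicative.toAdd (ψ (eU.symm (eU v))) ((ρ (eE.symm (eE x)))⁻¹ i)
      rw [eE.symm_apply_apply, eU.symm_apply_apply]

theorem frattini_map_equiv {A B : Type*} [Group A] [Group B] (e : A ≃* B) :
    (frattini A).map e.toMonoidHom = frattini B := by
  refine le_antisymm (map_le_iff_le_comap.2 (frattini_le_comap_frattini_of_surjective e.surjective)) ?_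
  intro y hy
  exact ⟨e.symm y, frattini_le_comap_frattini_of_surjective (φ := e.symm.toMonoidHom) e.symm.surjective hy,
    e.apply_symm_apply y⟩

theorem quotient_map (E : Subgroup G) (g : G) :
    Nonempty (↥(E.map (MulAut.conj g).toMonoidHom) ⧸ Cfsg.pCore p ↥(E.map (MulAut.conj g).toMonoidHom) ≃*
      ↥E ⧸ Cfsg.pCore p ↥E) := by
  haveI := SylowIn.pCore_normal ↥E p
  haveI := SylowIn.pCore_normal ↥(E.map (MulAut.conj g).toMonoidHom) p
  refine ⟨(QuotientGroup.congr (Cfsg.pCore p ↥E) (Cfsg.pCore p ↥(E.map (MulAut.conj g).toMonoidHom))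
    (E.equivMapOfInjective _ (MulAut.conj g).injective) ?_).symm⟩
  exact CfsgLib.Solvable.Cores.map_pCore _ p

/-- A conjugate of a block is a block. -/
theorem block_map {T : Sylow p G} {E : Subgroup G} (hE : Cfsg.IsBaumannBlock p (T : Subgroup G) E) (g : G) :
    Cfsg.IsBaumannBlock p ((g • T : Sylow p G) : Subgroup G) (E.map (MulAut.conj g).toMonoidHom) := by
  have hi := (MulAut.conj g).injective
  have hB := BlockTrick.Exc.baumann_smul (p := p) g T
  have hQ : (Cfsg.pCoreOf p E).map (MulAut.conj g).toMonoidHom =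
      Cfsg.pCoreOf p (E.map (MulAut.conj g).toMonoidHom) := SylowIn.pCoreOf_map_conj E g
  have hU : (Cfsg.omegaOneCenter p (Cfsg.pCoreOf p E)).map (MulAut.conj g).toMonoidHom =
      Cfsg.omegaOneCenter p (Cfsg.pCoreOf p (E.map (MulAut.conj g).toMonoidHom)) := by
    rw [omegaOneCenter_map, hQ]
  have hEC : (E ⊓ centralizer (E : Set G)).map (MulAut.conj g).toMonoidHom =
      E.map (MulAut.conj g).toMonoidHom ⊓
        centralizer ((E.map (MulAut.conj g).toMonoidHom : Subgroup G) : Set G) := by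
    rw [Subgroup.map_inf _ _ _ hi, SylowIn.centralizer_map_conj]
  have hZ : (Cfsg.omegaOneCenter p (Cfsg.pCoreOf p E) ⊓ centralizer (E : Set G)).map (MulAut.conj g).toMonoidHom =
      Cfsg.omegaOneCenter p (Cfsg.pCoreOf p (E.map (MulAut.conj g).toMonoidHom)) ⊓
        centralizer ((E.map (MulAut.conj g).toMonoidHom : Subgroup G) : Set G) := by
    rw [Subgroup.map_inf _ _ _ hi, hU, SylowIn.centralizer_map_conj]
  obtain ⟨h1, h2, h3, h4, h5⟩ := hE
  refine ⟨pResidual_map h1 g, ?_, ?_, ?_, ?_⟩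
  · rw [hB, ← map_commutator, h2]
  · rw [← hQ, ← map_commutator, h3]
  · rw [show ((g • T : Sylow p G) : Subgroup G) = (T : Subgroup G).map (MulAut.conj g).toMonoidHom from rfl,
      ← omegaOneCenter_map, ← map_commutator]
    exact fun h => h4 ((map_eq_bot_iff_of_injective _ hi).1 h)
  rcases h5 with ⟨K, i1, i2, n, hn, hiso, hact, hc⟩ | ⟨hp2, m, hiso, hact, hc⟩
  · refine Or.inl ⟨K, i1, i2, n, hn, ⟨(quotient_map E g).some.trans hiso.some⟩, by
      have := sl2_map hact g; rwa [hZ, hU] at this, ?_⟩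
    rcases hc with hc | ⟨hp3, hq, hcomm, hfr, hcent, hcard, hquad⟩
    · exact Or.inl (hQ.symm.trans ((congrArg (Subgroup.map (MulAut.conj g).toMonoidHom) hc).trans hU))
    refine Or.inr ⟨hp3, by
      have := sl2_map hq g; rwa [hU, hQ] at this, ?_, ?_, ?_, ?_, fun b hb hbC => ?_⟩
    · rw [← hZ, ← hQ, ← map_commutator, hcomm]
    · rw [← hZ, ← hfr]
      set Q' := Cfsg.pCoreOf p (E.map (MulAut.conj g).toMonoidHom) with hQ'
      let e : ↥(Cfsg.pCoreOf p E) ≃* ↥Q' :=
        ((Cfsg.pCoreOf p E).equivMapOfInjective _ hi).trans (MulEquiv.subgroupCongr hQ)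
      rw [← frattini_map_equiv e, Subgroup.map_map, Subgroup.map_map]
      congr 1
    · rw [← hZ, ← hcent, hEC]
    · rw [← hEC, card_map_of_injective hi, hcard]
    · rw [hB] at hb
      obtain ⟨b', hb', rfl⟩ := hb
      rw [← hEC, ← hQ,
        show zpowers ((MulAut.conj g).toMonoidHom b') = (zpowers b').map (MulAut.conj g).toMonoidHom from
          (MonoidHom.map_zpowers _ _).symm, ← map_commutator, ← map_commutator, map_le_map_iff_of_injective hi]
      refine hquad b' hb' fun hbc => hbC ?_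
      rw [← hU, SylowIn.centralizer_map_conj]
      exact ⟨b', hbc, rfl⟩
  · refine Or.inr ⟨hp2, m, ⟨(quotient_map E g).some.trans hiso.some⟩, by
      have := alt_map hact g; rwa [hZ, hU] at this, ?_⟩
    exact hQ.symm.trans ((congrArg (Subgroup.map (MulAut.conj g).toMonoidHom) hc).trans hU)

end CfsgLib.LocalEvenB.BlockConj
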