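import Cfsg.Agent.Lib.LocalEvenB.BlockTrick
import Mathlib.RingTheory.IntegralDomain

/-!
Elementary abelian groups of semilinear maps of a plane over a finite field with a large fixed subgroup.
-/

set_option autoImplicit false
set_option linter.style.haveILetI false
set_option linter.unusedSectionVars false

namespace CfsgLib.LocalEvenB.BlockOffenderField

open Subgroup CfsgLib.LocalEvenB.BlockTrick CfsgLib.LocalEvenB.SympPlane

universe u

theorem card_le_of_fibre {A : Type*} [Group A] [Finite A] {X : Type*} [Finite X] (f : A → X) (K : Subgroup A)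
    (h : ∀ a b, f a = f b → a⁻¹ * b ∈ K) : Nat.card A ≤ Nat.card X * Nat.card K := by
  classical
  let r : X → A := fun x => if hx : ∃ a, f a = x then hx.choose else 1
  have hr : ∀ a, f (r (f a)) = f a := fun a => by
    have hx : ∃ b, f b = f a := ⟨a, rfl⟩
    simp only [r, dif_pos hx]
    exact hx.choose_spec
  rw [← Nat.card_prod]
  refine Nat.card_le_card_of_injective (fun a => (f a, (⟨(r (f a))⁻¹ * a, h _ _ (hr a)⟩ : K))) fun a b hab => ?_
  simp only [Prod.mk.injEq, Subtype.mk.injEq] at hab
  have h2 := hab.2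
  rw [hab.1] at h2
  exact mul_left_cancel h2

/-- A `p`-group of endomorphisms of a `p`-group fixes a nonzero vector. -/
theorem exists_fixed {A : Type*} [Group A] [Finite A] {p : ℕ} [Fact p.Prime] {V : Type*} [AddCommGroup V] [Finite V]
    (θ : A →* AddMonoid.End V) (hA : IsPGroup p A) (hV : p ∣ Nat.card V) : ∃ v : V, v ≠ 0 ∧ ∀ a, θ a v = v := by
  letI : MulAction A V :=
    { smul := fun a v => θ a v
      one_smul := fun v => by show θ 1 v = v; rw [map_one]; rfl
      mul_smul := fun a b v => by show θ (a * b) v = θ a (θ b v); rw [map_mul]; rfl }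
  obtain ⟨b, hb, hb0⟩ := hA.exists_fixed_point_of_prime_dvd_card_of_fixed_point V hV (a := (0 : V))
    fun a => map_zero (θ a)
  exact ⟨b, hb0.symm, fun a => hb a⟩

variable {F : Type} [Field F]

theorem exists_compl {v : Fin 2 → F} (hv : v ≠ 0) : ∃ w, det2 v w = 1 := by
  by_cases h0 : v 0 = 0
  · have h1 : v 1 ≠ 0 := fun h => hv (by ext i; fin_cases i <;> simp [h0, h])
    exact ⟨![-(v 1)⁻¹, 0], by simp [det2, h1]⟩
  · exact ⟨![0, (v 0)⁻¹], by simp [det2, h0]⟩

theorem decompose {v w : Fin 2 → F} (h : det2 v w = 1) (x : Fin 2 → F) :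
    x = det2 x w • v + det2 v x • w := by
  ext i
  fin_cases i <;> simp [det2] at * <;>
    first
    | linear_combination -(x 0) * h
    | linear_combination -(x 1) * h

theorem det2_smul_left (c : F) (a b : Fin 2 → F) : det2 (c • a) b = c * det2 a b := by simp [det2]; ring

theorem det2_smul_right (c : F) (a b : Fin 2 → F) : det2 a (c • b) = c * det2 a b := by simp [det2]; ring

theorem det2_add_right (a b c : Fin 2 → F) : det2 a (b + c) = det2 a b + det2 a c := by simp [det2]; ring

theorem det2_add_left (a b c : Fin 2 → F) : det2 (a + b) c = det2 a c + det2 b c := by simp [det2]; ring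

/-- A semilinear map multiplies the determinant form by a constant. -/
theorem exists_factor (g : AddMonoid.End (Fin 2 → F)) (τ : F →+* F) (h : ∀ (t : F) v, g (t • v) = τ t • g v) :
    ∃ d : F, ∀ u v, det2 (g u) (g v) = d * τ (det2 u v) := by
  refine ⟨det2 (g ![1, 0]) (g ![0, 1]), fun u v => ?_⟩
  have e : ∀ w : Fin 2 → F, g w = τ (w 0) • g ![1, 0] + τ (w 1) • g ![0, 1] := fun w => by
    rw [← h, ← h, ← map_add]
    congr 1
    ext i; fin_cases i <;> simp
  rw [e u, e v]
  simp [det2]
  ring

/-- A semilinear map preserving the form is linear. -/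
theorem linear_of_det (g : AddMonoid.End (Fin 2 → F)) (hg : Function.Surjective g)
    (h : ∀ u v, det2 (g u) (g v) = det2 u v) (t : F) (v : Fin 2 → F) : g (t • v) = t • g v := by
  refine eq_of_det2 fun w => ?_
  obtain ⟨w, rfl⟩ := hg w
  rw [h, det2_smul_left, det2_smul_left, h]

theorem eq_one_of_pow_prime_pow {p : ℕ} [Fact p.Prime] [CharP F p] {d : F} {k : ℕ} (h : d ^ p ^ k = 1) : d = 1 := by
  refine sub_eq_zero.1 (pow_eq_zero_iff (pow_ne_zero k (Fact.out : p.Prime).ne_zero) |>.1 ?_)
  rw [sub_pow_char_pow, h, one_pow, sub_self]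

variable {A : Type u} [Group A]

/-- A linear map of `p`-power order has determinant one. -/
theorem det_of_pow {p : ℕ} [Fact p.Prime] [CharP F p] (θ : A →* AddMonoid.End (Fin 2 → F)) {a : A} {k : ℕ}
    (hl : ∀ (t : F) v, θ a (t • v) = t • θ a v) (hp : a ^ p ^ k = 1) (u v : Fin 2 → F) :
    det2 (θ a u) (θ a v) = det2 u v := by
  obtain ⟨d, hd⟩ := exists_factor (θ a) (RingHom.id F) hl
  have hn : ∀ n : ℕ, ∀ u v, det2 (θ (a ^ n) u) (θ (a ^ n) v) = d ^ n * det2 u v := by
    intro n
    induction n with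
    | zero => intro u v; simp [end_one_apply]
    | succ n ih =>
      intro u v
      rw [pow_succ', map_mul, end_mul_apply, end_mul_apply, hd, ih, RingHom.id_apply, pow_succ']
      ring
  have h1 := hn (p ^ k) ![1, 0] ![0, 1]
  rw [hp, map_one, end_one_apply, end_one_apply] at h1
  simp [det2] at h1
  have h2 : d = 1 := eq_one_of_pow_prime_pow (p := p) h1.symm
  rw [hd, h2, one_mul, RingHom.id_apply]

section

variable [Finite A] [Finite F] {p : ℕ} [Fact p.Prime] [CharP F p]
variable (θ : A →* AddMonoid.End (Fin 2 → F))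

/-- The vectors fixed by all of `A`. -/
def fixed : AddSubgroup (Fin 2 → F) where
  carrier := {v | ∀ a, θ a v = v}
  zero_mem' a := map_zero _
  add_mem' hx hy a := by rw [map_add, hx a, hy a]
  neg_mem' hx a := by rw [map_neg, hx a]

theorem card_plane : Nat.card (Fin 2 → F) = Nat.card F * Nat.card F := by
  rw [Nat.card_fun]; simp [pow_two]

/-- A line has as many points as the field. -/
theorem card_le_of_line {X : AddSubgroup (Fin 2 → F)} {v : Fin 2 → F} (h : ∀ x ∈ X, ∃ c : F, x = c • v) :
    Nat.card X ≤ Nat.card F := by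
  refine Nat.card_le_card_of_injective (fun x => (h x x.2).choose) fun x y hxy => Subtype.ext ?_
  rw [(h x x.2).choose_spec, (h y y.2).choose_spec]
  simp only at hxy
  rw [hxy]

variable (hsemi : ∀ a, ∃ τ : F →+* F, ∀ (t : F) v, θ a (t • v) = τ t • θ a v)
  (hcomm : ∀ a b, θ a * θ b = θ b * θ a) (hexp : ∀ a : A, a ^ p = 1)
include hexp

theorem exists_common : ∃ v : Fin 2 → F, v ≠ 0 ∧ ∀ a, θ a v = v := by
  refine exists_fixed (p := p) θ (fun a => ⟨1, by rw [pow_one]; exact hexp a⟩) ?_
  cases nonempty_fintype F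
  obtain ⟨n, -, hn⟩ := FiniteField.card F p
  rw [card_plane, Nat.card_eq_fintype_card, hn]
  exact Dvd.dvd.mul_right (dvd_pow_self p n.pos.ne') _

/-- A linear member fixing `v` moves the complement along `v`. -/
theorem shear {v w₀ : Fin 2 → F} (hfix : ∀ a, θ a v = v) (hw : det2 v w₀ = 1) {a : A}
    (hl : ∀ (t : F) x, θ a (t • x) = t • θ a x) : θ a w₀ = w₀ + det2 (θ a w₀) w₀ • v := by
  have h := det_of_pow (p := p) θ (k := 1) hl (by rw [pow_one]; exact hexp a) v w₀
  rw [hfix, hw] at h
  conv_lhs => rw [decompose hw (θ a w₀), h, one_smul]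
  exact add_comm _ _

/-- A linear member is determined by its shear. -/
theorem eq_one_of_shear {v w₀ : Fin 2 → F} (hfix : ∀ a, θ a v = v) (hw : det2 v w₀ = 1) {a : A}
    (hl : ∀ (t : F) x, θ a (t • x) = t • θ a x) (h0 : det2 (θ a w₀) w₀ = 0) : θ a = 1 := by
  refine end_ext fun x => ?_
  have h := shear θ hexp hfix hw hl
  rw [h0, zero_smul, add_zero] at h
  rw [decompose hw x, map_add, hl, hl, hfix, h, end_one_apply]

/-- The fixed vectors lie on the common line when a linear member is nontrivial. -/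
theorem fixed_le_line {v w₀ : Fin 2 → F} (hfix : ∀ a, θ a v = v) (hw : det2 v w₀ = 1) {a : A}
    (hl : ∀ (t : F) x, θ a (t • x) = t • θ a x) (hne : θ a ≠ 1) {x : Fin 2 → F} (hx : θ a x = x) :
    x = det2 x w₀ • v := by
  conv_lhs => rw [decompose hw x]
  suffices det2 v x = 0 by rw [this, zero_smul, add_zero]
  by_contra h
  refine hne (eq_one_of_shear θ hexp hfix hw hl ?_)
  have hx' := hx
  conv_lhs at hx' => rw [decompose hw x, map_add, hl, hl, hfix, shear θ hexp hfix hw hl]
  have h2 := congrArg (fun y => det2 y w₀) hx'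
  simp only [det2_add_left, det2_smul_left, hw, det2_self, mul_zero, add_zero, mul_one] at h2
  have h3 := (mul_eq_zero.1 (add_left_cancel (h2.trans (add_zero _).symm))).resolve_left h
  rwa [zero_add] at h3

include hsemi hcomm

/-- If some member is not linear, `|A| |C(A)|` is less than `q² |C_A|`. -/
theorem nonlinear_lt (hnl : ∃ a, ¬ ∀ (t : F) x, θ a (t • x) = t • θ a x) :
    Nat.card A * Nat.card (fixed θ) < Nat.card F * Nat.card F * Nat.card θ.ker := by
  classical
  obtain ⟨a₀, ha₀⟩ := hnl
  obtain ⟨τ, hτ⟩ := hsemi a₀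
  obtain ⟨v, hv, hfix⟩ := exists_common θ hexp
  obtain ⟨w₀, hw⟩ := exists_compl hv
  let F₀ : AddSubgroup F :=
    { carrier := {t | τ t = t}
      zero_mem' := map_zero τ
      add_mem' := fun hs ht => by show τ _ = _; rw [map_add, hs, ht]
      neg_mem' := fun hs => by show τ _ = _; rw [map_neg, hs] }
  obtain ⟨t₁, ht₁⟩ : ∃ t, τ t ≠ t := by
    by_contra h
    push Not at h
    exact ha₀ fun t x => by rw [hτ, h]
  -- the fixed field is small
  have hq0 : Nat.card F₀ * Nat.card F₀ ≤ Nat.card F := by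
    rw [← Nat.card_prod]
    refine Nat.card_le_card_of_injective (fun st => (st.1 : F) + (st.2 : F) * t₁) fun x y hxy => ?_
    obtain ⟨⟨s, hs⟩, ⟨t, ht⟩⟩ := x
    obtain ⟨⟨s', hs'⟩, ⟨t', ht'⟩⟩ := y
    simp only at hxy
    have hs1 : τ s = s := hs
    have hs2 : τ s' = s' := hs'
    have ht1 : τ t = t := ht
    have ht2 : τ t' = t' := ht'
    have h2 := congrArg τ hxy
    simp only [map_add, map_mul, hs1, hs2, ht1, ht2] at h2
    have htt : t = t' := by
      have h3 : (t - t') * (τ t₁ - t₁) = 0 := by linear_combination h2 - hxy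
      exact sub_eq_zero.1 ((mul_eq_zero.1 h3).resolve_right (sub_ne_zero.2 ht₁))
    subst htt
    have hss : s = s' := by linear_combination hxy
    subst hss
    rfl
  have hτv : ∀ c : F, θ a₀ (c • v) = τ c • v := fun c => by rw [hτ, hfix]
  -- fixed vectors on the line are few
  have hline : ∀ X : AddSubgroup (Fin 2 → F), X ≤ fixed θ → (∀ x ∈ X, ∃ c : F, x = c • v) →
      Nat.card X ≤ Nat.card F₀ := by
    intro X hX hXl
    have hmem : ∀ x : X, (hXl x x.2).choose ∈ F₀ := fun x => by
      set c := (hXl x x.2).choose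
      have hc : (x : Fin 2 → F) = c • v := (hXl x x.2).choose_spec
      have h := hX x.2 a₀
      rw [hc, hτv] at h
      have := congrArg (fun y => det2 y w₀) h
      simp only [det2_smul_left, hw, mul_one] at this
      exact this
    refine Nat.card_le_card_of_injective (fun x => (⟨_, hmem x⟩ : F₀)) fun x y hxy => Subtype.ext ?_
    rw [(hXl x x.2).choose_spec, (hXl y y.2).choose_spec]
    rw [Subtype.ext_iff] at hxy
    simp only at hxy
    rw [hxy]
  let L : Subgroup A :=
    { carrier := {a | ∀ (t : F) x, θ a (t • x) = t • θ a x}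
      one_mem' := fun t x => by simp [end_one_apply]
      mul_mem' := fun {a b} ha hb t x => by
        rw [map_mul, end_mul_apply, end_mul_apply, hb, ha]
      inv_mem' := fun {a} ha t x => by
        have h : ∀ y, θ a⁻¹ (θ a y) = y := fun y => by
          rw [← end_mul_apply, ← map_mul, inv_mul_cancel, map_one, end_one_apply]
        have h' : ∀ y, θ a (θ a⁻¹ y) = y := fun y => by
          rw [← end_mul_apply, ← map_mul, mul_inv_cancel, map_one, end_one_apply]
        have := congrArg (θ a⁻¹) (ha t (θ a⁻¹ x))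
        rw [h, h'] at this
        exact this.symm }
  have hkL : θ.ker ≤ L := fun a (ha : θ a = 1) t x => by rw [ha]; simp [end_one_apply]
  -- the automorphisms involved are fewer than `q`
  have hAL : Nat.card A ≤ (Nat.card F - 1) * Nat.card L := by
    obtain ⟨g, hg⟩ := IsCyclic.exists_generator (α := Fˣ)
    choose T hT using hsemi
    have hcard : Nat.card Fˣ = Nat.card F - 1 := Nat.card_units F
    rw [← hcard]
    refine card_le_of_fibre (fun a => Units.map (T a).toMonoidHom g) L fun a b hab => ?_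
    have hval : T a (g : F) = T b (g : F) := congrArg Units.val hab
    have heq : ∀ s : F, T a s = T b s := fun s => by
      rcases eq_or_ne s 0 with rfl | hs
      · simp
      obtain ⟨k, hk⟩ := mem_powers_iff_mem_zpowers.2 (hg (Units.mk0 s hs))
      have hk' : (g : F) ^ k = s := by
        have := congrArg Units.val hk
        simpa using this
      rw [← hk', map_pow, map_pow, hval]
    intro t x
    have h1 : ∀ (c : A) y, θ c⁻¹ (θ c y) = y := fun c y => by
      rw [← end_mul_apply, ← map_mul, inv_mul_cancel, map_one, end_one_apply]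
    rw [map_mul, end_mul_apply, end_mul_apply, hT b, ← heq]
    obtain ⟨y, hy⟩ : ∃ y, θ b x = θ a y := ⟨θ a⁻¹ (θ b x), by
      rw [← end_mul_apply (θ a), ← map_mul θ a, mul_inv_cancel, map_one, end_one_apply]⟩
    rw [hy, ← hT a, h1, h1]
  have hkey : Nat.card L * Nat.card (fixed θ) ≤ Nat.card F₀ * Nat.card F₀ * Nat.card θ.ker := by
    by_cases hb : ∃ b ∈ L, θ b ≠ 1
    · obtain ⟨b, hbL, hb1⟩ := hb
      have h1 : Nat.card (fixed θ) ≤ Nat.card F₀ := hline _ le_rfl fun x hx =>
        ⟨_, fixed_le_line θ hexp hfix hw hbL hb1 (hx b)⟩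
      set c₀ := det2 (θ b w₀) w₀ with hc₀
      have hc0 : c₀ ≠ 0 := fun h => hb1 (eq_one_of_shear θ hexp hfix hw hbL h)
      set α := det2 v (θ a₀ w₀) with hα
      have hrel : ∀ d ∈ L, τ (det2 (θ d w₀) w₀) = α * det2 (θ d w₀) w₀ := by
        intro d hd
        set c := det2 (θ d w₀) w₀
        have hs : θ d w₀ = w₀ + c • v := shear θ hexp hfix hw hd
        have e := congrArg (fun f : AddMonoid.End _ => f w₀) (hcomm a₀ d)
        simp only [end_mul_apply] at e
        rw [hs, map_add, hτv] at e
        have e2 : θ d (θ a₀ w₀) = θ a₀ w₀ + (α * c) • v := by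
          conv_lhs => rw [decompose hw (θ a₀ w₀), map_add, hd, hd, hfix, hs]
          conv_rhs => rw [decompose hw (θ a₀ w₀)]
          rw [smul_add, smul_smul, ← hα]
          abel
        rw [e2] at e
        have := congrArg (fun y => det2 y w₀) (add_left_cancel e)
        simpa [det2_smul_left, hw] using this
      have hmem : ∀ d : L, det2 (θ (d : A) w₀) w₀ / c₀ ∈ F₀ := fun d => by
        show τ _ = _
        have hτ0 : τ c₀ = α * c₀ := hrel b hbL
        have hα0 : α ≠ 0 := fun h => (map_ne_zero τ).2 hc0 (by rw [hτ0, h, zero_mul])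
        rw [map_div₀, hrel d d.2, hτ0, mul_div_mul_left _ _ hα0]
      have h2 : Nat.card L ≤ Nat.card F₀ * Nat.card (θ.ker.subgroupOf L) := by
        refine card_le_of_fibre (fun d : L => (⟨_, hmem d⟩ : F₀)) _ fun d e hde => ?_
        rw [Subtype.ext_iff] at hde
        simp only [div_left_inj' hc0] at hde
        rw [mem_subgroupOf, MonoidHom.mem_ker]
        refine eq_one_of_shear θ hexp hfix hw (d⁻¹ * e : L).2 ?_
        have hd := shear θ hexp hfix hw (d : L).2
        have he := shear θ hexp hfix hw (e : L).2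
        have hinv : θ ((d : A)⁻¹) w₀ = w₀ - det2 (θ (d : A) w₀) w₀ • v := by
          have h3 := congrArg (θ ((d : A)⁻¹)) hd
          rw [← end_mul_apply, ← map_mul, inv_mul_cancel, map_one, end_one_apply, map_add,
            (inv_mem d.2 : ((d : A)⁻¹) ∈ L), hfix] at h3
          exact eq_sub_of_add_eq h3.symm
        simp only [Subgroup.coe_mul, Subgroup.coe_inv, map_mul, end_mul_apply]
        rw [he, map_add, (inv_mem d.2 : ((d : A)⁻¹) ∈ L), hfix, hinv, ← hde, sub_add_cancel, det2_self]
      have h3 : Nat.card (θ.ker.subgroupOf L) = Nat.card θ.ker :=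
        Nat.card_congr (subgroupOfEquivOfLe hkL).toEquiv
      rw [h3] at h2
      calc Nat.card L * Nat.card (fixed θ) ≤ Nat.card F₀ * Nat.card θ.ker * Nat.card F₀ :=
            Nat.mul_le_mul h2 h1
        _ = _ := by ring
    · push Not at hb
      have h1 : L = θ.ker := le_antisymm (fun a ha => hb a ha) hkL
      rw [h1]
      refine le_trans (Nat.mul_le_mul le_rfl ?_) (le_of_eq (mul_comm _ _))
      by_cases hoff : ∃ w ∈ fixed θ, det2 v w ≠ 0
      · obtain ⟨w, hwf, hvw⟩ := hoff
        have hw' : det2 v ((det2 v w)⁻¹ • w) = 1 := by rw [det2_smul_right, inv_mul_cancel₀ hvw]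
        have hτi : τ (det2 v w)⁻¹ ≠ 0 := (map_ne_zero τ).2 (inv_ne_zero hvw)
        rw [← Nat.card_prod]
        have hmem : ∀ x : fixed θ, ∃ st : F₀ × F₀, (x : Fin 2 → F) = (st.1 : F) • v + (st.2 : F) • w := fun x => by
          set s := det2 (x : Fin 2 → F) ((det2 v w)⁻¹ • w)
          set t := det2 v (x : Fin 2 → F) * (det2 v w)⁻¹
          have hx : (x : Fin 2 → F) = s • v + t • w := by
            conv_lhs => rw [decompose hw' (x : Fin 2 → F)]
            rw [smul_smul]
          have h := x.2 a₀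
          rw [hx, map_add, hτv, hτ, hwf a₀] at h
          have ht := congrArg (det2 v) h
          have hs := congrArg (fun y => det2 y w) h
          simp only [det2_add_right, det2_add_left, det2_smul_right, det2_smul_left, det2_self, mul_zero,
            zero_add, add_zero] at ht hs
          exact ⟨(⟨s, mul_right_cancel₀ hvw hs⟩, ⟨t, mul_right_cancel₀ hvw ht⟩), hx⟩
        refine Nat.card_le_card_of_injective (fun x => (hmem x).choose) fun x y hxy => Subtype.ext ?_
        simp only at hxy
        rw [(hmem x).choose_spec, (hmem y).choose_spec, hxy]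
      · push Not at hoff
        refine (hline _ le_rfl fun x hx => ⟨det2 x w₀, ?_⟩).trans (Nat.le_mul_of_pos_left _ Nat.card_pos)
        conv_lhs => rw [decompose hw x, hoff x hx, zero_smul, add_zero]
  have hq : 1 < Nat.card F := Finite.one_lt_card
  calc Nat.card A * Nat.card (fixed θ) ≤ (Nat.card F - 1) * Nat.card L * Nat.card (fixed θ) :=
        Nat.mul_le_mul hAL le_rfl
    _ ≤ (Nat.card F - 1) * (Nat.card F * Nat.card θ.ker) := by
      rw [mul_assoc]
      exact Nat.mul_le_mul le_rfl (hkey.trans (Nat.mul_le_mul hq0 le_rfl))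
    _ < Nat.card F * Nat.card F * Nat.card θ.ker := by
      rw [mul_assoc]
      refine Nat.mul_lt_mul_of_lt_of_le (by omega) le_rfl ?_
      exact Nat.mul_pos (by omega) Nat.card_pos

omit hsemi hcomm in
/-- The linear case. -/
theorem linear_le (hlin : ∀ a (t : F) x, θ a (t • x) = t • θ a x) {v w₀ : Fin 2 → F}
    (hfix : ∀ a, θ a v = v) (hw : det2 v w₀ = 1) :
    Nat.card A ≤ Nat.card F * Nat.card θ.ker ∧
      (Nat.card F * Nat.card θ.ker ≤ Nat.card A → ∀ c : F, ∃ a, θ a w₀ = w₀ + c • v) := by
  let f : A →* Multiplicative F :=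
    { toFun := fun a => Multiplicative.ofAdd (det2 (θ a w₀) w₀)
      map_one' := by simp [end_one_apply, det2_self]
      map_mul' := fun a b => by
        rw [map_mul, end_mul_apply, shear θ hexp hfix hw (hlin b), map_add, hlin, hfix, ← ofAdd_add,
          det2_add_left, det2_smul_left, hw, mul_one]
        rw [det2_add_left (w₀), det2_self, zero_add, det2_smul_left, hw, mul_one] }
  have hker : f.ker = θ.ker := by
    ext a
    rw [MonoidHom.mem_ker, MonoidHom.mem_ker]
    show Multiplicative.ofAdd (det2 (θ a w₀) w₀) = 1 ↔ _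
    rw [ofAdd_eq_one]
    exact ⟨fun h => eq_one_of_shear θ hexp hfix hw (hlin a) h, fun h => by rw [h, end_one_apply, det2_self]⟩
  have hcard : Nat.card f.range * Nat.card θ.ker = Nat.card A := by
    rw [← hker, ← index_ker, mul_comm, card_mul_index]
  have hF : Nat.card (Multiplicative F) = Nat.card F := Nat.card_congr Multiplicative.toAdd
  have hle : Nat.card f.range ≤ Nat.card F := hF ▸ (card_le_card_group f.range)
  refine ⟨hcard ▸ Nat.mul_le_mul hle le_rfl, fun h c => ?_⟩
  have htop : f.range = ⊤ := by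
    refine eq_top_of_le_card _ ?_
    rw [hF]
    rw [← hcard] at h
    exact Nat.le_of_mul_le_mul_right h Nat.card_pos
  obtain ⟨a, ha⟩ : Multiplicative.ofAdd c ∈ f.range := htop ▸ mem_top _
  have ha' : det2 (θ a w₀) w₀ = c := Multiplicative.ofAdd.injective ha
  exact ⟨a, ha' ▸ shear θ hexp hfix hw (hlin a)⟩

/-- The bound used to keep offenders from permuting blocks. -/
theorem bound : 2 * (Nat.card A * Nat.card (fixed θ)) <
    Nat.card F * Nat.card F * (Nat.card F * Nat.card F) * Nat.card θ.ker := by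
  have hq : 2 ≤ Nat.card F := Finite.one_lt_card
  have hk : 0 < Nat.card θ.ker := Nat.card_pos
  set q := Nat.card F with hqdef
  have h4 : 4 ≤ q * q := Nat.mul_le_mul hq hq
  by_cases hnl : ∃ a, ¬ ∀ (t : F) x, θ a (t • x) = t • θ a x
  · calc 2 * (Nat.card A * Nat.card (fixed θ)) < 2 * (q * q * Nat.card θ.ker) :=
          Nat.mul_lt_mul_of_pos_left (nonlinear_lt θ hsemi hcomm hexp hnl) two_pos
      _ ≤ _ := by
        rw [← mul_assoc 2]
        refine Nat.mul_le_mul ?_ le_rfl
        rw [mul_comm 2]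
        exact Nat.mul_le_mul le_rfl (by omega)
  · push Not at hnl
    obtain ⟨v, hv, hfix⟩ := exists_common θ hexp
    obtain ⟨w₀, hw⟩ := exists_compl hv
    obtain ⟨hA, -⟩ := linear_le θ hexp hnl hfix hw
    rw [← hqdef] at hA
    by_cases h1 : ∀ a, θ a = 1
    · have hk' : Nat.card θ.ker = Nat.card A := by
        rw [show θ.ker = ⊤ from (eq_top_iff' _).2 fun a => h1 a, card_top]
      have hfix' : Nat.card (fixed θ) ≤ q * q := (AddSubgroup.card_le_card_addGroup _).trans card_plane.le
      rw [hk'] at hk ⊢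
      calc 2 * (Nat.card A * Nat.card (fixed θ)) ≤ 2 * (Nat.card A * (q * q)) :=
            Nat.mul_le_mul le_rfl (Nat.mul_le_mul le_rfl hfix')
        _ < 4 * (Nat.card A * (q * q)) :=
            Nat.mul_lt_mul_of_pos_right (by norm_num) (Nat.mul_pos hk (by omega))
        _ ≤ q * q * (Nat.card A * (q * q)) := Nat.mul_le_mul h4 le_rfl
        _ = _ := by ring
    · push Not at h1
      obtain ⟨a, ha⟩ := h1
      have hfix' : Nat.card (fixed θ) ≤ q := card_le_of_line fun x hx =>
        ⟨_, fixed_le_line θ hexp hfix hw (hnl a) ha (hx a)⟩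
      calc 2 * (Nat.card A * Nat.card (fixed θ)) ≤ 2 * (q * Nat.card θ.ker * q) :=
            Nat.mul_le_mul le_rfl (Nat.mul_le_mul hA hfix')
        _ < 4 * (q * Nat.card θ.ker * q) :=
            Nat.mul_lt_mul_of_pos_right (by norm_num) (Nat.mul_pos (Nat.mul_pos (by omega) hk) (by omega))
        _ ≤ q * q * (q * Nat.card θ.ker * q) := Nat.mul_le_mul h4 le_rfl
        _ = _ := by ring

/-- An offender consists of all transvections of one line. -/
theorem offender (hne : ∃ a, θ a ≠ 1)
    (h : Nat.card F * Nat.card F * Nat.card θ.ker ≤ Nat.card A * Nat.card (fixed θ)) :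
    (∀ a (t : F) x, θ a (t • x) = t • θ a x) ∧ Nat.card A ≤ Nat.card F * Nat.card θ.ker ∧
      ∀ v w₀ : Fin 2 → F, (∀ a, θ a v = v) → det2 v w₀ = 1 →
        (∀ x ∈ fixed θ, ∃ c : F, x = c • v) ∧ ∀ c : F, ∃ a, θ a w₀ = w₀ + c • v := by
  have hlin : ∀ a (t : F) x, θ a (t • x) = t • θ a x := by
    by_contra hnl
    push Not at hnl
    obtain ⟨a, t, x, hax⟩ := hnl
    exact (nonlinear_lt θ hsemi hcomm hexp ⟨a, fun hh => hax (hh t x)⟩).not_ge h
  obtain ⟨v, hv, hfix⟩ := exists_common θ hexp
  obtain ⟨w₀, hw⟩ := exists_compl hv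
  refine ⟨hlin, (linear_le θ hexp hlin hfix hw).1, fun v' w' hfix' hw' => ?_⟩
  obtain ⟨a, ha⟩ := hne
  have hline : ∀ x ∈ fixed θ, ∃ c : F, x = c • v' := fun x hx =>
    ⟨_, fixed_le_line θ hexp hfix' hw' (hlin a) ha (hx a)⟩
  refine ⟨hline, (linear_le θ hexp hlin hfix' hw').2 ?_⟩
  refine Nat.le_of_mul_le_mul_left ?_ (Nat.card_pos (α := F))
  calc Nat.card F * (Nat.card F * Nat.card θ.ker) = Nat.card F * Nat.card F * Nat.card θ.ker := by ring
    _ ≤ Nat.card A * Nat.card (fixed θ) := h
    _ ≤ Nat.card A * Nat.card F := Nat.mul_le_mul le_rfl (card_le_of_line hline)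
    _ = Nat.card F * Nat.card A := mul_comm _ _

end

end CfsgLib.LocalEvenB.BlockOffenderField
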