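import Cfsg.Agent.Lib.LocalEvenB.BlockShape
import Cfsg.Agent.Lib.LocalEvenB.BlockOffenderField
import Mathlib.Data.Nat.Multiplicity

/-!
The action of the normaliser of a block of alternating type on its module.
-/

set_option autoImplicit false
set_option linter.style.haveILetI false
set_option linter.unusedSectionVars false

namespace CfsgLib.LocalEvenB.BlockShapeAlt

universe u

open Subgroup CfsgLib.LocalEven CfsgLib.LocalEvenB.BlockTrick CfsgLib.LocalEvenB.BlockCentralizer
  CfsgLib.LocalEvenB.BlockModule CfsgLib.LocalEvenB.BlockShape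
open scoped IsMulCommutative

section Vectors

variable {n : ℕ}

local notation "V" => (Fin n → ZMod 2)

/-- A permutation acting on vectors. -/
def permute (σ : Equiv.Perm (Fin n)) (v : V) : V := fun i => v (σ⁻¹ i)

theorem permute_add (σ : Equiv.Perm (Fin n)) (v w : V) : permute σ (v + w) = permute σ v + permute σ w := rfl

theorem permute_zero (σ : Equiv.Perm (Fin n)) : permute σ (0 : V) = 0 := rfl

theorem permute_one (v : V) : permute 1 v = v := rfl

theorem permute_mul (σ τ : Equiv.Perm (Fin n)) (v : V) : permute (σ * τ) v = permute σ (permute τ v) := by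
  funext i
  simp [permute, mul_inv_rev]

/-- The vector with two ones. -/
def pv (a b : Fin n) : V := Pi.single a 1 + Pi.single b 1

theorem permute_pv (σ : Equiv.Perm (Fin n)) (a b : Fin n) : permute σ (pv a b) = pv (σ a) (σ b) := by
  funext i
  simp only [permute, pv, Pi.add_apply, Pi.single_apply]
  congr 1 <;> congr 1 <;> exact propext Equiv.Perm.inv_eq_iff_eq

theorem sum_pv (a b : Fin n) : ∑ i, pv a b i = 0 := by
  simp only [pv, Pi.add_apply, Finset.sum_add_distrib, Finset.sum_pi_single', Finset.mem_univ, if_true]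
  decide

theorem sum_permute (σ : Equiv.Perm (Fin n)) (v : V) : ∑ i, permute σ v i = ∑ i, v i :=
  Equiv.sum_comp σ⁻¹ v

theorem pv_apply (a b i : Fin n) : pv a b i = (if i = a then 1 else 0) + (if i = b then 1 else 0) := by
  simp [pv, Pi.single_apply]

theorem pv_ne_zero {a b : Fin n} (h : a ≠ b) : pv a b ≠ 0 := fun e => by
  have := congrFun e a
  simp [pv_apply, h] at this

theorem pv_self (a : Fin n) : pv a a = 0 := by
  funext i
  show (Pi.single a 1 : V) i + (Pi.single a 1 : V) i = 0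
  rcases (by decide : ∀ z : ZMod 2, z = 0 ∨ z = 1) ((Pi.single a 1 : V) i) with e | e <;> rw [e] <;> decide

theorem pv_comm (a b : Fin n) : pv a b = pv b a := add_comm _ _

/-- The three-cycle `a ↦ b ↦ c ↦ a`. -/
def cyc (a b c : Fin n) : Equiv.Perm (Fin n) := Equiv.swap a b * Equiv.swap b c

theorem conj_cyc (σ : Equiv.Perm (Fin n)) (a b c : Fin n) :
    σ * cyc a b c * σ⁻¹ = cyc (σ a) (σ b) (σ c) := by
  simp [cyc, Equiv.swap_apply_apply, mul_assoc]

theorem cyc_apply {a b c : Fin n} (hab : a ≠ b) (hac : a ≠ c) (hbc : b ≠ c) :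
    cyc a b c a = b ∧ cyc a b c b = c ∧ cyc a b c c = a ∧ ∀ x, x ≠ a → x ≠ b → x ≠ c → cyc a b c x = x := by
  refine ⟨?_, ?_, ?_, fun x h1 h2 h3 => ?_⟩ <;> simp only [cyc, Equiv.Perm.mul_apply]
  · rw [Equiv.swap_apply_of_ne_of_ne hab hac, Equiv.swap_apply_left]
  · rw [Equiv.swap_apply_left, Equiv.swap_apply_of_ne_of_ne hac.symm hbc.symm]
  · rw [Equiv.swap_apply_right, Equiv.swap_apply_right]
  · rw [Equiv.swap_apply_of_ne_of_ne h2 h3, Equiv.swap_apply_of_ne_of_ne h1 h2]

theorem cyc_cube {a b c : Fin n} (hab : a ≠ b) (hac : a ≠ c) (hbc : b ≠ c) : cyc a b c ^ 3 = 1 := by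
  obtain ⟨h1, h2, h3, h4⟩ := cyc_apply hab hac hbc
  refine Equiv.ext fun x => ?_
  simp only [pow_succ, pow_zero, one_mul, Equiv.Perm.mul_apply, Equiv.Perm.one_apply]
  rcases eq_or_ne x a with rfl | e1
  · rw [h1, h2, h3]
  rcases eq_or_ne x b with rfl | e2
  · rw [h2, h3, h1]
  rcases eq_or_ne x c with rfl | e3
  · rw [h3, h1, h2]
  · rw [h4 x e1 e2 e3, h4 x e1 e2 e3, h4 x e1 e2 e3]

theorem cyc_mem {a b c : Fin n} (hab : a ≠ b) (hbc : b ≠ c) : cyc a b c ∈ alternatingGroup (Fin n) := by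
  rw [Equiv.Perm.mem_alternatingGroup, cyc, map_mul, Equiv.Perm.sign_swap hab, Equiv.Perm.sign_swap hbc]
  rfl

/-- An even vector supported on three points is `0` or a pair. -/
theorem support_three {a b c : Fin n} (hab : a ≠ b) (hac : a ≠ c) (hbc : b ≠ c) {v : V}
    (hs : ∑ i, v i = 0) (h : ∀ x, x ≠ a → x ≠ b → x ≠ c → v x = 0) :
    v = 0 ∨ v = pv a b ∨ v = pv b c ∨ v = pv a c := by
  have e : v a + v b + v c = 0 := by
    rw [← hs, ← Finset.sum_subset (Finset.subset_univ {a, b, c}) fun x _ hx => by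
      simp only [Finset.mem_insert, Finset.mem_singleton, not_or] at hx
      exact h x hx.1 hx.2.1 hx.2.2]
    rw [Finset.sum_insert (by simp [hab, hac]), Finset.sum_pair hbc, add_assoc]
  have key : ∀ w : V, (∀ x, x ≠ a → x ≠ b → x ≠ c → w x = 0) → v a = w a → v b = w b → v c = w c → v = w := by
    intro w hw ha hb hc
    funext x
    rcases eq_or_ne x a with rfl | e1
    · exact ha
    rcases eq_or_ne x b with rfl | e2
    · exact hb
    rcases eq_or_ne x c with rfl | e3
    · exact hc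
    · rw [h x e1 e2 e3, hw x e1 e2 e3]
  have h01 : ∀ x y z : ZMod 2, x + y + z = 0 →
      (x = 0 ∧ y = 0 ∧ z = 0) ∨ (x = 1 ∧ y = 1 ∧ z = 0) ∨ (x = 0 ∧ y = 1 ∧ z = 1) ∨ (x = 1 ∧ y = 0 ∧ z = 1) := by
    decide
  rcases h01 _ _ _ e with ⟨x, y, z⟩ | ⟨x, y, z⟩ | ⟨x, y, z⟩ | ⟨x, y, z⟩
  · exact Or.inl (key 0 (fun _ _ _ _ => rfl) x y z)
  · exact Or.inr (Or.inl (key (pv a b) (fun t h1 h2 _ => by simp [pv_apply, h1, h2])
      (by simp [pv_apply, x, hab]) (by simp [pv_apply, y, hab.symm]) (by simp [pv_apply, z, hac.symm, hbc.symm])))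
  · exact Or.inr (Or.inr (Or.inl (key (pv b c) (fun t _ h2 h3 => by simp [pv_apply, h2, h3])
      (by simp [pv_apply, x, hab, hac]) (by simp [pv_apply, y, hbc]) (by simp [pv_apply, z, hbc.symm]))))
  · exact Or.inr (Or.inr (Or.inr (key (pv a c) (fun t h1 _ h3 => by simp [pv_apply, h1, h3])
      (by simp [pv_apply, x, hac]) (by simp [pv_apply, y, hab.symm, hbc]) (by simp [pv_apply, z, hac.symm]))))

/-- An element of order three whose commutator module has at most four elements moves three points. -/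
theorem pair_of_small {σ : Equiv.Perm (Fin n)} (h3 : σ ^ 3 = 1) {x y v w : V}
    (hsub : ∀ u : V, ∑ i, u i = 0 →
      permute σ u + u = 0 ∨ permute σ u + u = x ∨ permute σ u + u = y ∨ permute σ u + u = x + y)
    (hws : ∑ i, w i = 0) (hv : permute σ w + w = v) (hv0 : v ≠ 0) : ∃ a b, a ≠ b ∧ v = pv a b := by
  classical
  obtain ⟨a, ha⟩ : ∃ a, σ a ≠ a := by
    by_contra h
    push Not at h
    refine hv0 (hv ▸ ?_)
    rw [show σ = 1 from Equiv.ext h, permute_one]
    funext i
    show w i + w i = 0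
    rcases (by decide : ∀ z : ZMod 2, z = 0 ∨ z = 1) (w i) with e | e <;> rw [e] <;> decide
  set b := σ a with hb
  set c := σ b with hc
  have hca : σ c = a := by
    have := congrArg (fun τ : Equiv.Perm (Fin n) => τ a) h3
    simpa [pow_succ, hc, hb] using this
  have hba : b ≠ a := ha
  have hcb : c ≠ b := fun e => hba (σ.injective e)
  have hac : a ≠ c := fun e => by
    rw [← e] at hca
    exact ha hca
  have hσi : ∀ t, t ≠ a → t ≠ b → t ≠ c → σ t ≠ a ∧ σ t ≠ b ∧ σ t ≠ c := fun t h1 h2 h3' =>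
    ⟨fun e => h3' (σ.injective (e.trans hca.symm)), fun e => h1 (σ.injective e), fun e => h2 (σ.injective e)⟩
  have e1 : permute σ (pv b c) + pv b c = pv a b := by
    funext i
    rw [permute_pv, ← hc, hca]
    simp only [Pi.add_apply, pv_apply]
    rcases eq_or_ne i a with rfl | h1
    · simp [hba.symm, hac]
    rcases eq_or_ne i b with rfl | h2
    · simp [hba, hcb.symm]
    rcases eq_or_ne i c with rfl | h3'
    · simp [h1, h2, show (1 : ZMod 2) + 1 = 0 by decide]
    · simp [h1, h2, h3']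
  have e2 : permute σ (pv c a) + pv c a = pv b c := by
    funext i
    rw [permute_pv, hca, ← hb]
    simp only [Pi.add_apply, pv_apply]
    rcases eq_or_ne i a with rfl | h1
    · simp [hba.symm, hac, show (1 : ZMod 2) + 1 = 0 by decide]
    rcases eq_or_ne i b with rfl | h2
    · simp [hba, hcb.symm]
    rcases eq_or_ne i c with rfl | h3'
    · simp [h1, h2]
    · simp [h1, h2, h3']
  have e3 : permute σ (pv a b) + pv a b = pv a c := by
    funext i
    rw [permute_pv, ← hb, ← hc]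
    simp only [Pi.add_apply, pv_apply]
    rcases eq_or_ne i a with rfl | h1
    · simp [hba.symm, hac]
    rcases eq_or_ne i b with rfl | h2
    · simp [hba, hcb.symm, show (1 : ZMod 2) + 1 = 0 by decide]
    rcases eq_or_ne i c with rfl | h3'
    · simp [h1, h2]
    · simp [h1, h2, h3']
  -- nothing else moves
  have hfix : ∀ d, d ≠ a → d ≠ b → d ≠ c → σ d = d := by
    intro d h1 h2 h3'
    by_contra hd
    obtain ⟨-, hd2, -⟩ := hσi d h1 h2 h3'
    have e4 : (permute σ (pv a d) + pv a d) d = 1 := by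
      rw [permute_pv, ← hb]
      simp [pv_apply, h1, h2, Ne.symm hd]
    set u := permute σ (pv a d) + pv a d
    let S : Finset (Fin n → ZMod 2) := {0, pv a b, pv b c, pv a c, u}
    let T : Finset (Fin n → ZMod 2) := {0, x, y, x + y}
    have hST : S ⊆ T := by
      intro t ht
      simp only [S, Finset.mem_insert, Finset.mem_singleton] at ht
      simp only [T, Finset.mem_insert, Finset.mem_singleton]
      rcases ht with rfl | rfl | rfl | rfl | rfl
      · exact Or.inl rfl
      · rw [← e1]; exact hsub _ (sum_pv _ _)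
      · rw [← e2]; exact hsub _ (sum_pv _ _)
      · rw [← e3]; exact hsub _ (sum_pv _ _)
      · exact hsub _ (sum_pv _ _)
    have hu : ∀ t : V, t d = 0 → t ≠ u := fun t ht e => by
      rw [e, e4] at ht
      exact one_ne_zero ht
    have n1 : pv a b ≠ pv b c := fun e => by
      have := congrFun e a
      simp [pv_apply, hba.symm, hac] at this
    have n2 : pv a b ≠ pv a c := fun e => by
      have := congrFun e b
      simp [pv_apply, hba, hcb.symm] at this
    have n3 : pv b c ≠ pv a c := fun e => by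
      have := congrFun e a
      simp [pv_apply, hba.symm, hac] at this
    have h5 : S.card = 5 := by
      simp only [S]
      rw [Finset.card_insert_of_notMem, Finset.card_insert_of_notMem, Finset.card_insert_of_notMem,
        Finset.card_insert_of_notMem, Finset.card_singleton]
      · simp only [Finset.mem_singleton]
        exact hu _ (by simp [pv_apply, h1, h3'])
      · simp only [Finset.mem_insert, Finset.mem_singleton, not_or]
        exact ⟨n3, hu _ (by simp [pv_apply, h2, h3'])⟩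
      · simp only [Finset.mem_insert, Finset.mem_singleton, not_or]
        exact ⟨n1, n2, hu _ (by simp [pv_apply, h1, h2])⟩
      · simp only [Finset.mem_insert, Finset.mem_singleton, not_or]
        exact ⟨(pv_ne_zero hba.symm).symm, (pv_ne_zero hcb.symm).symm, (pv_ne_zero hac).symm, hu _ rfl⟩
    have h4 : T.card ≤ 4 := Finset.card_le_four
    have := (Finset.card_le_card hST).trans h4
    omega
  have hsum : ∑ i, v i = 0 := by
    rw [← hv]
    simp only [Pi.add_apply, Finset.sum_add_distrib, sum_permute, hws, add_zero]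
  rcases support_three hba.symm hac hcb.symm hsum (fun t h1 h2 h3' => by
    rw [← hv]
    show w (σ⁻¹ t) + w t = 0
    rw [show σ⁻¹ t = t from Equiv.Perm.inv_eq_iff_eq.2 (hfix t h1 h2 h3').symm]
    rcases (by decide : ∀ z : ZMod 2, z = 0 ∨ z = 1) (w t) with e | e <;> rw [e] <;> decide) with h | h | h | h
  · exact absurd h hv0
  · exact ⟨a, b, hba.symm, h⟩
  · exact ⟨b, c, hcb.symm, h⟩
  · exact ⟨a, c, hac, h⟩

theorem exists_ne2 {m : ℕ} (hm : m ≠ 0) (a b : Fin (2 * m + 1)) : ∃ c, c ≠ a ∧ c ≠ b := by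
  by_contra h
  push Not at h
  have hsub : (Finset.univ : Finset (Fin (2 * m + 1))) ⊆ {a, b} := fun x _ => by
    rcases eq_or_ne x a with rfl | hx
    · simp
    · simp [h x hx]
  have := (Finset.card_le_card hsub).trans Finset.card_le_two
  rw [Finset.card_univ, Fintype.card_fin] at this
  omega

theorem one_add_one : (1 : ZMod 2) + 1 = 0 := by decide

theorem two_eq_zero : ((2 : ℕ) : ZMod 2) = 0 := by decide

theorem two_pow_lt {m k : ℕ} (hm : m ≠ 0) (h : 2 ^ k ∣ (2 * m + 1).factorial) : 2 ^ k < 2 ^ (2 * m) := by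
  rw [Nat.factorial_succ] at h
  have hco : Nat.Coprime (2 ^ k) (2 * m + 1) := Nat.Coprime.pow_left k (Nat.coprime_two_left.2 ⟨m, rfl⟩)
  have h1 := pow_dvd_iff_le_emultiplicity.1 (hco.dvd_of_dvd_mul_left h)
  exact Nat.pow_lt_pow_right one_lt_two
    (by exact_mod_cast lt_of_le_of_lt h1 (Nat.emultiplicity_two_factorial_lt (by omega)))

end Vectors

variable {G : Type u} [Group G] [Finite G]

/-- The natural section of a block of alternating type. -/
structure PSec (n : ℕ) (E W Z : Subgroup G) where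
  ρ : ↥E →* Equiv.Perm (Fin n)
  ψ : ↥W →* Multiplicative (Fin n → ZMod 2)
  range : ρ.range = alternatingGroup (Fin n)
  sum : ∀ w : ↥W, ∑ i, Multiplicative.toAdd (ψ w) i = 0
  surj : ∀ v : Fin n → ZMod 2, ∑ i, v i = 0 → ∃ w : ↥W, Multiplicative.toAdd (ψ w) = v
  ker : ∀ w : ↥W, ψ w = 1 ↔ (w : G) ∈ Z
  norm : E ≤ normalizer (W : Set G)
  act : ∀ (e : ↥E) (w : ↥W),
    Multiplicative.toAdd (ψ ⟨(e : G) * w * (e : G)⁻¹, (mem_normalizer_iff.1 (norm e.2) w).1 w.2⟩) =
      permute (ρ e) (Multiplicative.toAdd (ψ w))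

namespace PSec

variable {n : ℕ} {E W Z : Subgroup G} (S : PSec n E W Z)

def co (w : ↥W) : Fin n → ZMod 2 := Multiplicative.toAdd (S.ψ w)

theorem co_mul (u v : ↥W) : S.co (u * v) = S.co u + S.co v := by simp [co]

theorem co_inv (u : ↥W) : S.co u⁻¹ = -S.co u := by simp [co]

theorem co_one : S.co 1 = 0 := by simp [co]

theorem co_eq_zero (u : ↥W) : S.co u = 0 ↔ (u : G) ∈ Z := by rw [← S.ker, co, toAdd_eq_zero]

theorem co_eq_iff (u v : ↥W) : S.co u = S.co v ↔ (u : G) * (v : G)⁻¹ ∈ Z := by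
  rw [show (u : G) * (v : G)⁻¹ = ((u * v⁻¹ : ↥W) : G) from rfl, ← co_eq_zero, co_mul, co_inv,
    ← sub_eq_add_neg, sub_eq_zero]

end PSec

variable {p : ℕ} [hp : Fact p.Prime]

theorem pSec {T : Sylow p G} {E : Subgroup G} (hE : Cfsg.IsBaumannBlock p (T : Subgroup G) E) {n : ℕ}
    (h : Cfsg.ActsAsOddPermModuleOnSection n (alternatingGroup (Fin n)) E (U0 p E) (Z0 p E)) :
    Nonempty (PSec n E (W0 p E) (W0 p E ⊓ Z0 p E)) := by
  obtain ⟨-, -, ρ, ψ, hr, hsum, hs, hk, ha⟩ := h
  refine ⟨⟨ρ, ψ.comp (Subgroup.inclusion (W_le_U hE)), hr, fun w => hsum _, fun v hv => ?_, fun w => ?_,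
    le_normalizer.trans (normalizer_le_W hE), fun e w => ?_⟩⟩
  · obtain ⟨u, hu⟩ := hs v hv
    obtain ⟨w, hw, z, hz, hwz⟩ := U_dec hE u.2
    refine ⟨⟨w, hw⟩, ?_⟩
    have hz1 : ψ ⟨z, (mem_inf.1 hz).1⟩ = 1 := (hk _).2 hz
    rw [← hu, MonoidHom.comp_apply,
      show u = Subgroup.inclusion (W_le_U hE) ⟨w, hw⟩ * ⟨z, (mem_inf.1 hz).1⟩ from Subtype.ext hwz.symm,
      map_mul, hz1, mul_one]
  · rw [MonoidHom.comp_apply, hk]
    exact ⟨fun h => mem_inf.2 ⟨w.2, h⟩, fun h => (mem_inf.1 h).2⟩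
  · obtain ⟨x, hx, hx'⟩ := ha e (Subgroup.inclusion (W_le_U hE) w)
    have hmem : (e : G) * w * (e : G)⁻¹ ∈ W0 p E := conj_mem (normalizer_le_W hE (le_normalizer e.2)) w.2
    have hxe : Subgroup.inclusion (W_le_U hE) ⟨(e : G) * w * (e : G)⁻¹, hmem⟩ = x := Subtype.ext hx.symm
    funext i
    rw [MonoidHom.comp_apply, hxe]
    exact hx' i

variable {T : Sylow p G} {E : Subgroup G} (hE : Cfsg.IsBaumannBlock p (T : Subgroup G) E) {m : ℕ}
  (S : PSec (2 * m + 1) E (W0 p E) (W0 p E ⊓ Z0 p E))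

include hE

local notation "V" => (Fin (2 * m + 1) → ZMod 2)

/-- Conjugation on `W_E`. -/
def cj (g : ↥(normalizer (E : Set G))) : ↥(W0 p E) →* ↥(W0 p E) where
  toFun w := ⟨(g : G) * w * (g : G)⁻¹, conj_mem (normalizer_le_W hE g.2) w.2⟩
  map_one' := Subtype.ext (by simp)
  map_mul' a b := Subtype.ext (by simp [mul_assoc])

theorem cj_val (g : ↥(normalizer (E : Set G))) (w : ↥(W0 p E)) :
    (cj hE g w : G) = (g : G) * w * (g : G)⁻¹ := rfl

theorem cj_mul (g h : ↥(normalizer (E : Set G))) (w : ↥(W0 p E)) : cj hE (g * h) w = cj hE g (cj hE h w) :=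
  Subtype.ext (by simp [cj_val, mul_assoc])

theorem cj_congr (g : ↥(normalizer (E : Set G))) {u v : ↥(W0 p E)} (h : S.co u = S.co v) :
    S.co (cj hE g u) = S.co (cj hE g v) := by
  rw [S.co_eq_iff] at h ⊢
  have hn : (g : G) ∈ normalizer ((W0 p E ⊓ Z0 p E : Subgroup G) : Set G) :=
    le_normalizer_inf (normalizer_le_W hE) (normalizer_le_Z hE) g.2
  have := conj_mem hn h
  simpa [cj_val, mul_assoc] using this

theorem co_cj_mem (e : ↥E) (w : ↥(W0 p E)) :
    S.co (cj hE ⟨e, le_normalizer e.2⟩ w) = permute (S.ρ e) (S.co w) := S.act e w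

theorem exists_mem {σ : Equiv.Perm (Fin (2 * m + 1))} (h : σ ∈ alternatingGroup _) : ∃ e : ↥E, S.ρ e = σ := by
  rw [← S.range] at h; exact h

theorem exists_lift (a b : Fin (2 * m + 1)) : ∃ w : ↥(W0 p E), S.co w = pv a b := S.surj _ (sum_pv a b)

theorem co_delta (e : ↥E) (w : ↥(W0 p E)) :
    S.co (cj hE ⟨e, le_normalizer e.2⟩ w * w⁻¹) = permute (S.ρ e) (S.co w) + S.co w := by
  rw [S.co_mul, S.co_inv, co_cj_mem, show -S.co w = S.co w from funext fun i =>
    (by decide : ∀ z : ZMod 2, -z = z) _]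

theorem eq_of_permute {σ τ : Equiv.Perm (Fin (2 * m + 1))}
    (h : ∀ v : V, ∑ i, v i = 0 → permute σ v = permute τ v) : σ = τ := by
  have : τ⁻¹ * σ = 1 := BaumannModule.perm_eq_one_of_fix ⟨m, rfl⟩ fun v hv i => by
    show permute (τ⁻¹ * σ) v i = v i
    rw [permute_mul, h v hv, ← permute_mul, inv_mul_cancel, permute_one]
  exact (inv_mul_eq_one.1 this).symm

/-- Conjugation carries pairs to pairs. -/
theorem pair_conj (hm : m ≠ 0) (g : ↥(normalizer (E : Set G))) {a b : Fin (2 * m + 1)} (hab : a ≠ b)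
    {w : ↥(W0 p E)} (hw : S.co w = pv a b) : ∃ c d, c ≠ d ∧ S.co (cj hE g w) = pv c d := by
  obtain ⟨c, hca, hcb⟩ := exists_ne2 hm a b
  obtain ⟨e, he⟩ := exists_mem hE S (cyc_mem (c := c) hab hcb.symm)
  obtain ⟨h1, h2, h3, h4⟩ := cyc_apply hab hca.symm hcb.symm
  obtain ⟨X, hX⟩ := exists_lift hE S a b
  obtain ⟨Y, hY⟩ := exists_lift hE S b c
  have hd : ∀ u : ↥(W0 p E), S.co (cj hE ⟨e, le_normalizer e.2⟩ u * u⁻¹) = S.co 1 ∨
      S.co (cj hE ⟨e, le_normalizer e.2⟩ u * u⁻¹) = S.co X ∨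
      S.co (cj hE ⟨e, le_normalizer e.2⟩ u * u⁻¹) = S.co Y ∨
      S.co (cj hE ⟨e, le_normalizer e.2⟩ u * u⁻¹) = S.co (X * Y) := by
    intro u
    rw [co_delta, he, S.co_one, S.co_mul, hX, hY]
    have hac : pv a b + pv b c = pv a c := by
      show Pi.single a 1 + Pi.single b 1 + (Pi.single b 1 + Pi.single c 1) =
        (Pi.single a 1 + Pi.single c 1 : V)
      have : (Pi.single b 1 + Pi.single b 1 : V) = 0 := pv_self b
      calc _ = Pi.single a 1 + Pi.single c 1 + (Pi.single b 1 + Pi.single b 1 : V) := by abel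
        _ = _ := by rw [this, add_zero]
    rw [hac]
    refine support_three hab hca.symm hcb.symm ?_ fun x x1 x2 x3 => ?_
    · simp only [Pi.add_apply, Finset.sum_add_distrib, sum_permute]
      rw [show (∑ i, S.co u i) = 0 from S.sum u, add_zero]
    · show S.co u ((cyc a b c)⁻¹ x) + S.co u x = 0
      rw [show (cyc a b c)⁻¹ x = x from Equiv.Perm.inv_eq_iff_eq.2 (h4 x x1 x2 x3).symm]
      rcases (by decide : ∀ z : ZMod 2, z = 0 ∨ z = 1) (S.co u x) with k | k <;> rw [k] <;> decide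
  have hwY : S.co (cj hE ⟨e, le_normalizer e.2⟩ Y * Y⁻¹) = S.co w := by
    rw [co_delta, he, hY, hw, permute_pv, h2, h3]
    funext i
    simp only [Pi.add_apply, pv_apply]
    rcases eq_or_ne i c with rfl | k
    · simp [hca, hcb, show (1 : ZMod 2) + 1 = 0 by decide]
    · simp [k]
  -- move the element of order three
  set e' : ↥E := ⟨(g : G) * e * (g : G)⁻¹, conj_mem g.2 e.2⟩ with he'
  have hcom : ∀ u, cj hE ⟨e', le_normalizer e'.2⟩ (cj hE g u) = cj hE g (cj hE ⟨e, le_normalizer e.2⟩ u) :=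
    fun u => Subtype.ext (by simp [cj_val, e', mul_assoc])
  have hback : ∀ v : V, ∑ i, v i = 0 → ∃ u, S.co (cj hE g u) = v := fun v hv => by
    obtain ⟨x, hx⟩ := S.surj v hv
    exact ⟨cj hE g⁻¹ x, by rw [← cj_mul, mul_inv_cancel]; exact (congrArg S.co (Subtype.ext (by simp [cj_val]))).trans hx⟩
  have htr : ∀ u, S.co (cj hE g (cj hE ⟨e, le_normalizer e.2⟩ u * u⁻¹)) =
      permute (S.ρ e') (S.co (cj hE g u)) + S.co (cj hE g u) := fun u => by
    rw [map_mul, map_inv, ← hcom, co_delta]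
  have h3' : S.ρ e' ^ 3 = 1 := by
    refine eq_of_permute hE fun v hv => ?_
    obtain ⟨u, rfl⟩ := hback v hv
    rw [permute_one, ← map_pow, ← co_cj_mem,
      show (⟨((e' ^ 3 : ↥E) : G), le_normalizer (e' ^ 3).2⟩ : ↥(normalizer (E : Set G))) =
        g * ⟨((e ^ 3 : ↥E) : G), le_normalizer (e ^ 3).2⟩ * g⁻¹ from Subtype.ext (by simp [e', pow_succ, mul_assoc]),
      cj_mul, cj_mul, show cj hE g⁻¹ (cj hE g u) = u from Subtype.ext (by simp [cj_val, mul_assoc])]
    refine cj_congr hE S g ?_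
    rw [co_cj_mem, map_pow, he, cyc_cube hab hca.symm hcb.symm, permute_one]
  refine pair_of_small h3' (x := S.co (cj hE g X)) (y := S.co (cj hE g Y)) (w := S.co (cj hE g Y))
    (v := S.co (cj hE g w)) (fun v hv => ?_) (S.sum _) ?_ fun h0 => ?_
  · obtain ⟨u, rfl⟩ := hback v hv
    rw [← htr, ← S.co_mul, ← map_mul, ← S.co_one, ← map_one (cj hE g)]
    rcases hd u with k | k | k | k
    · exact Or.inl (cj_congr hE S g k)
    · exact Or.inr (Or.inl (cj_congr hE S g k))
    · exact Or.inr (Or.inr (Or.inl (cj_congr hE S g k)))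
    · exact Or.inr (Or.inr (Or.inr (cj_congr hE S g k)))
  · rw [← htr]
    exact cj_congr hE S g hwY
  · have := cj_congr hE S g⁻¹ (h0.trans S.co_one.symm)
    rw [← cj_mul, inv_mul_cancel, map_one, S.co_one] at this
    rw [show cj hE (1 : ↥(normalizer (E : Set G))) w = w from Subtype.ext (by simp [cj_val])] at this
    exact pv_ne_zero hab (hw.symm.trans this)

/-- Every element of `N(E)` permutes the points. -/
theorem exists_perm (hm : m ≠ 0) (g : ↥(normalizer (E : Set G))) :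
    ∃ σ : Equiv.Perm (Fin (2 * m + 1)), ∀ w, S.co (cj hE g w) = permute σ (S.co w) := by
  classical
  choose L hL using exists_lift hE S
  let f : Fin (2 * m + 1) → Fin (2 * m + 1) → V := fun a b => S.co (cj hE g (L a b))
  have h01 : ∀ z : ZMod 2, z = 0 ∨ z = 1 := by decide
  have hpair : ∀ {a b}, a ≠ b → ∃ c d, c ≠ d ∧ f a b = pv c d := fun hab => pair_conj hE S hm g hab (hL _ _)
  have hsymm : ∀ a b, f a b = f b a := fun a b => cj_congr hE S g (by rw [hL, hL, pv_comm])
  have hadd : ∀ a b c, f a b + f b c = f a c := fun a b c => by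
    show S.co _ + S.co _ = S.co _
    rw [← S.co_mul, ← map_mul]
    refine cj_congr hE S g ?_
    rw [S.co_mul, hL, hL, hL]
    show Pi.single a 1 + Pi.single b 1 + (Pi.single b 1 + Pi.single c 1) =
      (Pi.single a 1 + Pi.single c 1 : V)
    have : (Pi.single b 1 + Pi.single b 1 : V) = 0 := pv_self b
    calc _ = Pi.single a 1 + Pi.single c 1 + (Pi.single b 1 + Pi.single b 1 : V) := by abel
      _ = _ := by rw [this, add_zero]
  -- the image of a point
  have hpt : ∀ a, ∃ x, ∀ d, d ≠ a → f a d x = 1 := by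
    intro a
    obtain ⟨b, hb, -⟩ := exists_ne2 hm a a
    obtain ⟨c, hca, hcb⟩ := exists_ne2 hm a b
    obtain ⟨p₁, p₂, hp12, hfab⟩ := hpair hb.symm
    obtain ⟨q₁, q₂, hq12, hfac⟩ := hpair hca.symm
    obtain ⟨r₁, r₂, hr12, hfbc⟩ := hpair hcb.symm
    have hbc : f a b + f a c = f b c := by rw [hsymm a b]; exact hadd b a c
    -- a common point
    obtain ⟨x, hxb, hxc⟩ : ∃ x, f a b x = 1 ∧ f a c x = 1 := by
      by_contra h
      push Not at h
      have key : ∀ x, f b c x = 1 ∨ (f a b x = 0 ∧ f a c x = 0) := fun x => by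
        rw [← hbc, Pi.add_apply]
        rcases h01 (f a b x) with k1 | k1 <;> rcases h01 (f a c x) with k2 | k2 <;> rw [k1, k2]
        · exact Or.inr ⟨rfl, rfl⟩
        · exact Or.inl (by decide)
        · exact Or.inl (by decide)
        · exact absurd k2 (h x k1)
      have hin : ∀ x, f b c x = 1 → x = r₁ ∨ x = r₂ := fun x hx => by
        by_contra hne
        push Not at hne
        rw [hfbc] at hx
        simp [pv_apply, hne.1, hne.2] at hx
      have h4 : ∀ x, (x = p₁ ∨ x = p₂ ∨ x = q₁ ∨ x = q₂) → x = r₁ ∨ x = r₂ := fun x hx => by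
        refine hin x ((key x).resolve_right fun ⟨k1, k2⟩ => ?_)
        rw [hfab] at k1; rw [hfac] at k2
        rcases hx with rfl | rfl | rfl | rfl
        · simp [pv_apply, hp12] at k1
        · simp [pv_apply, hp12.symm] at k1
        · simp [pv_apply, hq12] at k2
        · simp [pv_apply, hq12.symm] at k2
      have hpq : p₁ ≠ q₁ ∧ p₁ ≠ q₂ ∧ p₂ ≠ q₁ ∧ p₂ ≠ q₂ := by
        refine ⟨?_, ?_, ?_, ?_⟩ <;> rintro rfl
        · exact h p₁ (by simp [hfab, pv_apply, hp12]) (by simp [hfac, pv_apply, hq12])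
        · exact h p₁ (by simp [hfab, pv_apply, hp12]) (by simp [hfac, pv_apply, hq12.symm])
        · exact h p₂ (by simp [hfab, pv_apply, hp12.symm]) (by simp [hfac, pv_apply, hq12])
        · exact h p₂ (by simp [hfab, pv_apply, hp12.symm]) (by simp [hfac, pv_apply, hq12.symm])
      rcases h4 p₁ (Or.inl rfl) with k1 | k1 <;> rcases h4 p₂ (Or.inr (Or.inl rfl)) with k2 | k2 <;>
        rcases h4 q₁ (Or.inr (Or.inr (Or.inl rfl))) with k3 | k3 <;>
        simp_all
    refine ⟨x, fun d hd => ?_⟩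
    rcases eq_or_ne d b with rfl | hdb
    · exact hxb
    rcases eq_or_ne d c with rfl | hdc
    · exact hxc
    by_contra hxd
    have hxd0 : f a d x = 0 := (h01 _).resolve_right hxd
    obtain ⟨y, hy⟩ : ∃ y, f a b = pv x y ∧ x ≠ y := by
      rw [hfab] at hxb ⊢
      by_cases k : x = p₁
      · exact ⟨p₂, by rw [k], k ▸ hp12⟩
      · by_cases k2 : x = p₂
        · exact ⟨p₁, by rw [k2, pv_comm], k2 ▸ hp12.symm⟩
        · simp [pv_apply, k, k2] at hxb
    obtain ⟨z, hz⟩ : ∃ z, f a c = pv x z ∧ x ≠ z := by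
      rw [hfac] at hxc ⊢
      by_cases k : x = q₁
      · exact ⟨q₂, by rw [k], k ▸ hq12⟩
      · by_cases k2 : x = q₂
        · exact ⟨q₁, by rw [k2, pv_comm], k2 ▸ hq12.symm⟩
        · simp [pv_apply, k, k2] at hxc
    obtain ⟨s₁, s₂, hs12, hfad⟩ := hpair hd.symm
    -- the pair of `a d` meets both pairs
    have hmeet : ∀ (e : Fin (2 * m + 1)) (y : Fin (2 * m + 1)), e ≠ d → f a e = pv x y → x ≠ y → f a d y = 1 := by
      intro e y hed hfe hxy
      by_contra hyd
      have hyd0 : f a d y = 0 := (h01 _).resolve_right hyd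
      obtain ⟨t₁, t₂, ht12, hfed⟩ := hpair hed
      have hsum : f a e + f a d = f e d := by rw [hsymm a e]; exact hadd e a d
      have h2 : ∀ u, f e d u = 1 → u = t₁ ∨ u = t₂ := fun u hu => by
        by_contra hne
        push Not at hne
        rw [hfed] at hu
        simp [pv_apply, hne.1, hne.2] at hu
      have hs1 : s₁ ≠ x ∧ s₁ ≠ y := by
        refine ⟨?_, ?_⟩ <;> rintro rfl
        · rw [hfad] at hxd0; simp [pv_apply, hs12] at hxd0
        · rw [hfad] at hyd0; simp [pv_apply, hs12] at hyd0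
      have u1 := h2 x (by rw [← hsum, Pi.add_apply, hxd0, add_zero, hfe]; simp [pv_apply, hxy])
      have u2 := h2 y (by rw [← hsum, Pi.add_apply, hyd0, add_zero, hfe]; simp [pv_apply, hxy.symm])
      have u3 := h2 s₁ (by rw [← hsum, Pi.add_apply, hfe, hfad]; simp [pv_apply, hs12, hs1.1, hs1.2])
      rcases u1 with k1 | k1 <;> rcases u2 with k2 | k2 <;> rcases u3 with k3 | k3 <;> simp_all
    have hy1 := hmeet b y hdb.symm hy.1 hy.2
    have hz1 := hmeet c z hdc.symm hz.1 hz.2
    have hyz : y ≠ z := fun k => by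
      have h1 : f b c = 0 := by
        rw [← hbc, hy.1, hz.1, k]
        funext i
        show pv x z i + pv x z i = 0
        rcases h01 (pv x z i) with e | e <;> rw [e] <;> decide
      rw [hfbc] at h1
      exact pv_ne_zero hr12 h1
    have hfyz : f a d = pv y z := by
      have ky : y = s₁ ∨ y = s₂ := by
        by_contra hne; push Not at hne
        rw [hfad] at hy1; simp [pv_apply, hne.1, hne.2] at hy1
      have kz : z = s₁ ∨ z = s₂ := by
        by_contra hne; push Not at hne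
        rw [hfad] at hz1; simp [pv_apply, hne.1, hne.2] at hz1
      rcases ky with rfl | rfl <;> rcases kz with rfl | rfl
      · exact absurd rfl hyz
      · exact hfad
      · rw [hfad, pv_comm]
      · exact absurd rfl hyz
    have hzero : S.co (cj hE g (L a d * (L a b * L a c))) = S.co (cj hE g 1) := by
      rw [map_mul, map_mul, S.co_mul, S.co_mul, map_one, S.co_one]
      show f a d + (f a b + f a c) = 0
      rw [hfyz, hy.1, hz.1]
      funext i
      simp only [Pi.add_apply, Pi.zero_apply, pv_apply]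
      generalize (if i = x then (1 : ZMod 2) else 0) = u1
      generalize (if i = y then (1 : ZMod 2) else 0) = u2
      generalize (if i = z then (1 : ZMod 2) else 0) = u3
      revert u1 u2 u3
      decide
    have := cj_congr hE S g⁻¹ hzero
    rw [← cj_mul, ← cj_mul, inv_mul_cancel,
      show cj hE (1 : ↥(normalizer (E : Set G))) (L a d * (L a b * L a c)) = L a d * (L a b * L a c) from
        Subtype.ext (by simp [cj_val]),
      show cj hE (1 : ↥(normalizer (E : Set G))) 1 = 1 from map_one _, S.co_mul, S.co_mul, S.co_one, hL, hL, hL] at this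
    have := congrFun this d
    simp [pv_apply, hd, hdb, hdc] at this
  choose σ₀ hσ₀ using hpt
  have hinj : Function.Injective σ₀ := by
    intro a b hab
    by_contra hne
    obtain ⟨c, hca, hcb⟩ := exists_ne2 hm a b
    have h1 := hσ₀ a b (Ne.symm hne)
    rw [← hadd a c b, hsymm c b, Pi.add_apply, hσ₀ a c hca, hab, hσ₀ b c hcb] at h1
    exact absurd h1 (by decide)
  let σ : Equiv.Perm (Fin (2 * m + 1)) := Equiv.ofBijective σ₀ (Finite.injective_iff_bijective.1 hinj)
  have hfσ : ∀ a b, f a b = pv (σ a) (σ b) := by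
    intro a b
    rcases eq_or_ne a b with rfl | hab
    · rw [pv_self, ← S.co_one]
      refine (cj_congr hE S g (v := 1) ?_).trans (congrArg S.co (map_one _))
      rw [hL, pv_self, S.co_one]
    obtain ⟨c, d, hcd, hfc⟩ := hpair hab
    have h1 : f a b (σ a) = 1 := hσ₀ a b hab.symm
    have h2 : f a b (σ b) = 1 := by rw [hsymm]; exact hσ₀ b a hab
    have hne : σ a ≠ σ b := σ.injective.ne hab
    rw [hfc] at h1 h2 ⊢
    have k1 : σ a = c ∨ σ a = d := by
      by_contra hh; push Not at hh; simp [pv_apply, hh.1, hh.2] at h1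
    have k2 : σ b = c ∨ σ b = d := by
      by_contra hh; push Not at hh; simp [pv_apply, hh.1, hh.2] at h2
    rcases k1 with k1 | k1 <;> rcases k2 with k2 | k2
    · exact absurd (k1.trans k2.symm) hne
    · rw [k1, k2]
    · rw [k1, k2, pv_comm]
    · exact absurd (k1.trans k2.symm) hne
  refine ⟨σ, fun w => ?_⟩
  let X : AddSubgroup V :=
    { carrier := {v | ∃ w : ↥(W0 p E), S.co w = v ∧ S.co (cj hE g w) = permute σ (S.co w)}
      zero_mem' := ⟨1, S.co_one, by rw [map_one, S.co_one, permute_zero]⟩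
      add_mem' := by
        rintro _ _ ⟨u, rfl, hu⟩ ⟨v, rfl, hv⟩
        exact ⟨u * v, S.co_mul u v, by rw [map_mul, S.co_mul, S.co_mul, hu, hv, permute_add]⟩
      neg_mem' := by
        rintro _ ⟨u, rfl, hu⟩
        exact ⟨u⁻¹, S.co_inv u, by rw [map_inv, S.co_inv, S.co_inv, hu]; rfl⟩ }
  have hmem : S.co w ∈ X := by
    have hdec : S.co w = ∑ i, S.co w i • pv (0 : Fin (2 * m + 1)) i := by
      funext y
      simp only [Finset.sum_apply, Pi.smul_apply, pv, Pi.add_apply, smul_eq_mul, mul_add,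
        Finset.sum_add_distrib, ← Finset.sum_mul, show ∑ i, S.co w i = 0 from S.sum w, zero_mul, zero_add]
      simp [Pi.single_apply]
    rw [hdec]
    refine sum_mem fun i _ => ?_
    rcases h01 (S.co w i) with k | k <;> rw [k]
    · rw [zero_smul]; exact zero_mem _
    · rw [one_smul]
      exact ⟨L 0 i, hL 0 i, by rw [hL, permute_pv]; exact hfσ 0 i⟩
  obtain ⟨u, hu, hu'⟩ := hmem
  rw [← hu, ← hu']
  exact cj_congr hE S g hu.symm

/-- The permutation induced by an element of `N(E)`. -/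
noncomputable def perm (hm : m ≠ 0) : ↥(normalizer (E : Set G)) →* Equiv.Perm (Fin (2 * m + 1)) :=
  MonoidHom.mk' (fun g => (exists_perm hE S hm g).choose) fun g h => eq_of_permute hE fun v hv => by
    obtain ⟨w, rfl⟩ := S.surj v hv
    have h1 := (exists_perm hE S hm (g * h)).choose_spec w
    have h2 := (exists_perm hE S hm g).choose_spec (cj hE h w)
    have h3 := (exists_perm hE S hm h).choose_spec w
    rw [← cj_mul, h1, h3, ← permute_mul] at h2
    exact h2

theorem perm_spec (hm : m ≠ 0) (g : ↥(normalizer (E : Set G))) (w : ↥(W0 p E)) :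
    S.co (cj hE g w) = permute (perm hE S hm g) (S.co w) := (exists_perm hE S hm g).choose_spec w

theorem perm_rho (hm : m ≠ 0) (e : ↥E) : perm hE S hm ⟨e, le_normalizer e.2⟩ = S.ρ e :=
  eq_of_permute hE fun v hv => by
    obtain ⟨w, rfl⟩ := S.surj v hv
    exact (perm_spec hE S hm _ w).symm.trans (co_cj_mem hE S e w)

theorem perm_ker (hm : m ≠ 0) (g : ↥(normalizer (E : Set G))) :
    perm hE S hm g = 1 ↔ (g : G) ∈ centralizer (W0 p E : Set G) := by
  constructor
  · intro h
    refine fix_of_trivial hE g.2 fun w hw => ?_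
    have h1 := perm_spec hE S hm g ⟨w, hw⟩
    rw [h, permute_one, S.co_eq_iff] at h1
    exact (mem_inf.1 h1).2
  · intro h
    refine eq_of_permute hE fun v hv => ?_
    obtain ⟨w, rfl⟩ := S.surj v hv
    show permute _ (S.co w) = permute 1 (S.co w)
    rw [← perm_spec, permute_one]
    congr 1
    exact Subtype.ext (by rw [cj_val, ← mem_centralizer_iff.1 h w w.2, mul_inv_cancel_right])

include S in
theorem m_ne_zero : m ≠ 0 := by
  rintro rfl
  obtain ⟨e, he, heQ⟩ := exists_not_mem_Q hE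
  refine heQ (inf_le_Q hE (mem_inf.2 ⟨he, fix_of_trivial hE (le_normalizer he) fun w hw => ?_⟩))
  have hz : ∀ v : ↥(W0 p E), S.co v = 0 := fun v => by
    funext i
    have := S.sum v
    rw [Fin.sum_univ_one] at this
    rw [show i = 0 from Fin.ext (by omega)]
    exact this
  exact (mem_inf.1 ((S.co_eq_iff (cj hE ⟨e, le_normalizer he⟩ ⟨w, hw⟩) ⟨w, hw⟩).1 (by rw [hz, hz]))).2

include S in
theorem card_W : 2 ^ (2 * m) * Nat.card ↥(W0 p E ⊓ Z0 p E) ≤ Nat.card ↥(W0 p E) := by
  classical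
  have hk : S.ψ.ker = (W0 p E ⊓ Z0 p E).subgroupOf (W0 p E) := by
    ext w; rw [MonoidHom.mem_ker, mem_subgroupOf, S.ker]
  have h2 := S.ψ.ker.card_mul_index
  rw [hk, Nat.card_congr (subgroupOfEquivOfLe (inf_le_left : W0 p E ⊓ Z0 p E ≤ W0 p E)).toEquiv, ← hk,
    index_ker] at h2
  rw [← h2, mul_comm]
  refine Nat.mul_le_mul le_rfl ?_
  have hcard : Nat.card (Fin (2 * m) → ZMod 2) = 2 ^ (2 * m) := by
    rw [Nat.card_fun, Nat.card_zmod, Nat.card_fin]
  rw [← hcard]
  let ext' : (Fin (2 * m) → ZMod 2) → V := fun v => Fin.cons (∑ i, v i) v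
  have hext : ∀ v, ∑ i, ext' v i = 0 := fun v => by
    rw [Fin.sum_univ_succ]
    simp only [ext', Fin.cons_zero, Fin.cons_succ]
    exact (by decide : ∀ z : ZMod 2, z + z = 0) _
  refine Nat.card_le_card_of_injective (fun v => (⟨S.ψ (S.surj _ (hext v)).choose, _, rfl⟩ : S.ψ.range))
    fun v w h => ?_
  have h' := congrArg (fun x : S.ψ.range => Multiplicative.toAdd (x : Multiplicative V)) h
  simp only [(S.surj _ (hext v)).choose_spec, (S.surj _ (hext w)).choose_spec] at h'
  exact (Fin.cons_inj.1 h').2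

variable (hp2 : p = 2)
include hp2

include S in
theorem coprime_mem {g : G} (hg : g ∈ normalizer (E : Set G)) (hco : (orderOf g).Coprime p) :
    g ∈ E ⊔ centralizer (W0 p E : Set G) := by
  subst hp2
  have hm := m_ne_zero hE S
  set k : ↥(normalizer (E : Set G)) := ⟨g, hg⟩
  have hodd : Odd (orderOf g) := Nat.coprime_two_right.1 hco
  have hsign : Equiv.Perm.sign (perm hE S hm k) = 1 := by
    have h1 : Equiv.Perm.sign (perm hE S hm k) ^ orderOf g = 1 := by
      rw [← map_pow, ← map_pow, show k ^ orderOf g = 1 from Subtype.ext (pow_orderOf_eq_one g), map_one, map_one]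
    obtain ⟨j, hj⟩ := hodd
    rcases Int.units_eq_one_or (Equiv.Perm.sign (perm hE S hm k)) with h | h
    · exact h
    · rw [h, hj, pow_add, pow_mul] at h1
      norm_num at h1
  obtain ⟨e, he⟩ := exists_mem hE S (Equiv.Perm.mem_alternatingGroup.2 hsign)
  have hc := (perm_ker hE S hm (⟨e, le_normalizer e.2⟩⁻¹ * k)).1
    (by rw [map_mul, map_inv, perm_rho, he, inv_mul_cancel])
  rw [show g = (e : G) * ((e : G)⁻¹ * g) from (mul_inv_cancel_left _ _).symm]
  exact mul_mem (mem_sup_left e.2) (mem_sup_right hc)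

include S in
theorem small {A : Subgroup G} (hAN : A ≤ normalizer (E : Set G)) (hA : Cfsg.IsElementaryAbelian p A)
    {K : Subgroup G} (hK : K ≤ W0 p E) (hKA : ∀ w ∈ K, ∀ a ∈ A, a * w * a⁻¹ * w⁻¹ ∈ Z0 p E) :
    2 * (Nat.card A * Nat.card K * Nat.card ↥(W0 p E ⊓ Z0 p E)) <
      Nat.card ↥(A ⊓ centralizer (W0 p E : Set G)) * (Nat.card ↥(W0 p E) * Nat.card ↥(W0 p E)) := by
  subst hp2
  have hm := m_ne_zero hE S
  have hW := card_W hE S
  set z := Nat.card ↥(W0 2 E ⊓ Z0 2 E) with hz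
  have hzpos : 0 < z := Nat.card_pos
  have h4 : 4 ≤ 2 ^ (2 * m) := by
    calc 4 = 2 ^ 2 := rfl
      _ ≤ _ := Nat.pow_le_pow_right two_pos (by omega)
  have hWpos : 0 < Nat.card ↥(W0 2 E) := Nat.card_pos
  by_cases hAC : A ≤ centralizer (W0 2 E : Set G)
  · rw [inf_eq_left.2 hAC]
    have hA0 : 0 < Nat.card A := Nat.card_pos
    calc 2 * (Nat.card A * Nat.card K * z) ≤ 2 * (Nat.card A * Nat.card ↥(W0 2 E) * z) :=
          Nat.mul_le_mul le_rfl (Nat.mul_le_mul (Nat.mul_le_mul le_rfl (card_le_of_le hK)) le_rfl)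
      _ = Nat.card A * (Nat.card ↥(W0 2 E) * (2 * z)) := by ring
      _ < Nat.card A * (Nat.card ↥(W0 2 E) * Nat.card ↥(W0 2 E)) := by
        refine Nat.mul_lt_mul_of_pos_left (Nat.mul_lt_mul_of_pos_left ?_ hWpos) hA0
        calc 2 * z < 2 ^ (2 * m) * z := Nat.mul_lt_mul_of_pos_right (by omega) hzpos
          _ ≤ _ := hW
  -- `K` is proper and the image of `A` is small
  have hKne : K ≠ W0 2 E := fun e => hAC fun a ha =>
    fix_of_trivial hE (hAN ha) fun w hw => hKA w (e ▸ hw) a ha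
  have hK2 : 2 * Nat.card K ≤ Nat.card ↥(W0 2 E) := by
    have h := (K.subgroupOf (W0 2 E)).card_mul_index
    rw [Nat.card_congr (subgroupOfEquivOfLe hK).toEquiv] at h
    have h1 : (K.subgroupOf (W0 2 E)).index ≠ 1 := fun e => by
      rw [index_eq_one, subgroupOf_eq_top] at e
      exact hKne (le_antisymm hK e)
    have h0 : (K.subgroupOf (W0 2 E)).index ≠ 0 := index_ne_zero_of_finite
    rw [← h, mul_comm 2]
    exact Nat.mul_le_mul le_rfl (by omega)
  let θ : ↥A →* Equiv.Perm (Fin (2 * m + 1)) := (perm hE S hm).comp (Subgroup.inclusion hAN)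
  have hker : Nat.card θ.ker = Nat.card ↥(A ⊓ centralizer (W0 2 E : Set G)) := by
    rw [show θ.ker = (A ⊓ centralizer (W0 2 E : Set G)).subgroupOf A from ?_]
    · exact Nat.card_congr (subgroupOfEquivOfLe inf_le_left).toEquiv
    · ext a
      rw [MonoidHom.mem_ker, mem_subgroupOf]
      exact ⟨fun h => mem_inf.2 ⟨a.2, (perm_ker hE S hm _).1 h⟩, fun h => (perm_ker hE S hm _).2 (mem_inf.1 h).2⟩
  obtain ⟨k, hk⟩ : ∃ k, Nat.card θ.range = 2 ^ k :=
    (IsPGroup.of_surjective (Fusion.Thompson.isPGroup_isEA hA) θ.rangeRestrict θ.rangeRestrict_surjective).exists_card_eq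
  have hH : Nat.card θ.range < 2 ^ (2 * m) := by
    rw [hk]
    refine two_pow_lt hm (hk ▸ ?_)
    have := card_subgroup_dvd_card θ.range
    rwa [Nat.card_perm, Nat.card_fin] at this
  have hAcard : Nat.card A = Nat.card θ.range * Nat.card θ.ker := by
    rw [← index_ker, mul_comm, card_mul_index]
  have hkpos : 0 < Nat.card θ.ker := Nat.card_pos
  rw [← hker, hAcard]
  calc 2 * (Nat.card θ.range * Nat.card θ.ker * Nat.card K * z)
      = Nat.card θ.ker * ((2 * Nat.card K) * (Nat.card θ.range * z)) := by ring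
    _ ≤ Nat.card θ.ker * (Nat.card ↥(W0 2 E) * (Nat.card θ.range * z)) :=
        Nat.mul_le_mul le_rfl (Nat.mul_le_mul hK2 le_rfl)
    _ < _ := by
      refine Nat.mul_lt_mul_of_pos_left (Nat.mul_lt_mul_of_pos_left ?_ hWpos) hkpos
      calc Nat.card θ.range * z < 2 ^ (2 * m) * z := Nat.mul_lt_mul_of_pos_right hH hzpos
        _ ≤ _ := hW

include S in
theorem exists_fixed {P : Subgroup G} (hP : IsPGroup p P) (hPN : P ≤ normalizer (E : Set G)) :
    ∃ z ∈ W0 p E, z ∉ Z0 p E ∧ ∀ s ∈ P, s * z * s⁻¹ = z := by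
  subst hp2
  classical
  have hm := m_ne_zero hE S
  haveI : IsMulCommutative ↥(W0 2 E) :=
    IsMulCommutative.of_comm fun a b => Subtype.ext (W_comm hE a.2 b.2)
  let π : ↥P →* Equiv.Perm (Fin (2 * m + 1)) := (perm hE S hm).comp (Subgroup.inclusion hPN)
  letI : MulAction ↥P (Fin (2 * m + 1)) := MulAction.compHom _ π
  obtain ⟨a, ha⟩ := hP.nonempty_fixed_point_of_prime_not_dvd_card (Fin (2 * m + 1)) (by simp)
  have ha' : ∀ s : ↥P, π s a = a := fun s => ha s
  obtain ⟨i₀, hi₀, -⟩ := exists_ne2 hm a a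
  let O : Finset (Fin (2 * m + 1)) := Finset.univ.filter fun i => ∃ s : ↥P, π s i₀ = i
  let IsL : Fin (2 * m + 1) → Fin (2 * m + 1) → Fin (2 * m + 1) → ↥(W0 2 E) → Prop := fun x y c l =>
    ∃ e : ↥E, ∃ w : ↥(W0 2 E), S.ρ e = cyc x y c ∧ S.co w = pv y c ∧
      l = cj hE ⟨e, le_normalizer e.2⟩ w * w⁻¹
  have huniq : ∀ x y c l l', IsL x y c l → IsL x y c l' → l = l' := by
    rintro x y c l l' ⟨e, w, he, hw, rfl⟩ ⟨e', w', he', hw', rfl⟩
    have hc : ((e : G))⁻¹ * e' ∈ centralizer (W0 2 E : Set G) := by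
      refine (perm_ker hE S hm (⟨e, le_normalizer e.2⟩⁻¹ * ⟨e', le_normalizer e'.2⟩)).1 ?_
      rw [map_mul, map_inv, perm_rho, perm_rho, he, he', inv_mul_cancel]
    have hcj : cj hE ⟨e', le_normalizer e'.2⟩ w' = cj hE ⟨e, le_normalizer e.2⟩ w' :=
      Subtype.ext (conj_eq hc w'.2).symm
    have hfix : cj hE ⟨e, le_normalizer e.2⟩ (w * w'⁻¹) = w * w'⁻¹ :=
      Subtype.ext (Z_conj hE e.2 ((S.co_eq_iff w w').1 (hw.trans hw'.symm)))
    rw [hcj, mul_inv_eq_iff_eq_mul, mul_assoc, mul_comm w'⁻¹ w, ← hfix, map_mul, map_inv, mul_left_comm,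
      mul_inv_cancel, mul_one]
  let ell : Fin (2 * m + 1) → Fin (2 * m + 1) → Fin (2 * m + 1) → ↥(W0 2 E) := fun x y c =>
    if h : ∃ l, IsL x y c l then h.choose else 1
  have hell : ∀ {x y c}, x ≠ y → y ≠ c → IsL x y c (ell x y c) := by
    intro x y c hxy hyc
    have h : ∃ l, IsL x y c l := by
      obtain ⟨e, he⟩ := exists_mem hE S (cyc_mem (c := c) hxy hyc)
      obtain ⟨w, hw⟩ := exists_lift hE S y c
      exact ⟨_, e, w, he, hw, rfl⟩
    simp only [ell, dif_pos h]
    exact h.choose_spec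
  let C : Fin (2 * m + 1) → Finset (Fin (2 * m + 1)) := fun i => (Finset.univ.erase a).erase i
  let zi : Fin (2 * m + 1) → ↥(W0 2 E) := fun i => ∏ c ∈ C i, ell a i c
  have hOa : ∀ i ∈ O, i ≠ a := fun i hi e => by
    obtain ⟨s, hs⟩ := (Finset.mem_filter.1 hi).2
    exact hi₀ ((π s).injective (hs.trans (e.trans (ha' s).symm)))
  -- the image in the module
  let coH : ↥(W0 2 E) →* Multiplicative V := S.ψ
  have hell_co : ∀ i ∈ O, ∀ c ∈ C i, S.co (ell a i c) = pv a i := by
    intro i hi c hc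
    simp only [C, Finset.mem_erase] at hc
    obtain ⟨e, w, he, hw, hl⟩ := hell (hOa i hi).symm (Ne.symm hc.1)
    obtain ⟨h1, h2, h3, -⟩ := cyc_apply (hOa i hi).symm (Ne.symm hc.2.1) (Ne.symm hc.1)
    rw [hl, co_delta, he, hw, permute_pv, h2, h3]
    funext x
    simp only [Pi.add_apply, pv_apply]
    rcases eq_or_ne x c with rfl | k
    · simp [hc.1, hc.2.1, one_add_one]
    · simp [k]
  have hzi : ∀ i ∈ O, S.co (zi i) = pv a i := by
    intro i hi
    show Multiplicative.toAdd (S.ψ (∏ c ∈ C i, ell a i c)) = _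
    rw [map_prod, toAdd_prod]
    rw [Finset.sum_congr rfl fun c hc => show Multiplicative.toAdd (S.ψ (ell a i c)) = pv a i from hell_co i hi c hc,
      Finset.sum_const]
    have hcard : (C i).card = 2 * m - 1 := by
      rw [Finset.card_erase_of_mem (by simp [hOa i hi]), Finset.card_erase_of_mem (by simp)]
      simp
    rw [hcard]
    funext x
    rw [Pi.smul_apply, nsmul_eq_mul]
    have : ((2 * m - 1 : ℕ) : ZMod 2) = 1 := by
      obtain ⟨j, rfl⟩ : ∃ j, m = j + 1 := ⟨m - 1, by omega⟩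
      rw [show 2 * (j + 1) - 1 = 2 * j + 1 by omega, Nat.cast_succ, Nat.cast_mul,
        two_eq_zero, zero_mul, zero_add]
    rw [this, one_mul]
  refine ⟨(∏ i ∈ O, zi i : ↥(W0 2 E)), Subtype.property _, fun hz => ?_, fun s hs => ?_⟩
  · have h0 : S.co (∏ i ∈ O, zi i) = 0 := (S.co_eq_zero _).2 (mem_inf.2 ⟨Subtype.property _, hz⟩)
    have h1 : S.co (∏ i ∈ O, zi i) = ∑ i ∈ O, pv a i := by
      show Multiplicative.toAdd (S.ψ (∏ i ∈ O, zi i)) = _
      rw [map_prod, toAdd_prod]
      exact Finset.sum_congr rfl hzi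
    rw [h1] at h0
    have h2 := congrFun h0 i₀
    rw [Finset.sum_apply, Finset.sum_eq_single i₀ (fun i _ hne => by simp [pv_apply, hi₀, Ne.symm hne])
      (fun h => absurd (Finset.mem_filter.2 ⟨Finset.mem_univ _, 1, by rw [map_one]; rfl⟩) h)] at h2
    simp [pv_apply, hi₀] at h2
  · set σ := π ⟨s, hs⟩ with hσ
    set g : ↥(normalizer (E : Set G)) := ⟨s, hPN hs⟩ with hg
    have hσa : σ a = a := ha' ⟨s, hs⟩
    have hO : ∀ i, i ∈ O ↔ σ i ∈ O := fun i => by
      simp only [O, Finset.mem_filter, Finset.mem_univ, true_and]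
      constructor
      · rintro ⟨t, rfl⟩
        exact ⟨⟨s, hs⟩ * t, by rw [map_mul, Equiv.Perm.mul_apply]⟩
      · rintro ⟨t, ht⟩
        refine ⟨⟨s, hs⟩⁻¹ * t, ?_⟩
        rw [map_mul, Equiv.Perm.mul_apply, ht, map_inv, ← hσ]
        exact σ.symm_apply_apply i
    have hcjell : ∀ i ∈ O, ∀ c ∈ C i, cj hE g (ell a i c) = ell a (σ i) (σ c) := by
      intro i hi c hc
      simp only [C, Finset.mem_erase] at hc
      obtain ⟨e, w, he, hw, hl⟩ := hell (hOa i hi).symm (Ne.symm hc.1)
      refine huniq a (σ i) (σ c) _ _ ?_ (hell (hOa _ ((hO i).1 hi)).symm (σ.injective.ne (Ne.symm hc.1)))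
      refine ⟨⟨(g : G) * e * (g : G)⁻¹, conj_mem g.2 e.2⟩, cj hE g w, ?_, ?_, ?_⟩
      · rw [← perm_rho hE S hm]
        rw [show (⟨(g : G) * e * (g : G)⁻¹, le_normalizer (conj_mem g.2 e.2)⟩ : ↥(normalizer (E : Set G))) =
          g * ⟨e, le_normalizer e.2⟩ * g⁻¹ from rfl, map_mul, map_mul, map_inv, perm_rho, he,
          show perm hE S hm g = σ from rfl, conj_cyc, hσa]
      · rw [perm_spec hE S hm, hw, permute_pv]; rfl
      · rw [hl, map_mul, map_inv]
        congr 1
        exact Subtype.ext (by simp [cj_val, g, mul_assoc])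
    have hC : ∀ i c, c ∈ C i ↔ σ c ∈ C (σ i) := fun i c => by
      simp only [C, Finset.mem_erase, Finset.mem_univ, and_true, σ.injective.ne_iff]
      conv_rhs => rw [← hσa, σ.injective.ne_iff]
    show ((cj hE g (∏ i ∈ O, zi i) : ↥(W0 2 E)) : G) = _
    congr 1
    rw [map_prod]
    refine Finset.prod_equiv σ hO fun i hi => ?_
    show cj hE g (∏ c ∈ C i, ell a i c) = _
    rw [map_prod]
    exact Finset.prod_equiv σ (hC i) fun c hc => hcjell i hi c hc

theorem shape (hSS : PSec (2 * m + 1) E (W0 p E) (W0 p E ⊓ Z0 p E)) :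
    Shape p E (normalizer (E : Set G)) where
  le := le_rfl
  norm := le_normalizer
  coprime_mem := fun _ hg hco => coprime_mem hE hSS hp2 hg hco
  conj_le := fun _ _ _ h => h
  index := by
    refine le_trans (Nat.mul_le_mul ?_ le_rfl) (card_W hE hSS)
    have := m_ne_zero hE hSS
    calc 4 = 2 ^ 2 := rfl
      _ ≤ _ := Nat.pow_le_pow_right two_pos (by omega)
  small := fun _ h1 h2 _ h3 h4 => small hE hSS hp2 h1 h2 h3 h4
  baumann_le := fun _ _ _ => inf_le_right
  exists_fixed := fun _ _ _ _ h3 h4 _ => exists_fixed hE hSS hp2 h3 h4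

end CfsgLib.LocalEvenB.BlockShapeAlt
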