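import Cfsg.Agent.Lib.LocalEvenB.BlockShapeSL2
import Cfsg.Agent.Lib.LocalEvenB.BlockShapeAlt
import Cfsg.Agent.Lib.LocalEvenB.BlockConj

/-!
Conjugates of a subnormal block commute with it or are equal to it.
-/

set_option autoImplicit false
set_option linter.style.haveILetI false
set_option linter.unusedSectionVars false

namespace CfsgLib.LocalEvenB.BlockClass

universe u

open Subgroup CfsgLib.LocalEven CfsgLib.LocalEvenB.BlockTrick CfsgLib.LocalEvenB.BlockCentralizer
  CfsgLib.LocalEvenB.BlockModule CfsgLib.LocalEvenB.BlockShape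
open scoped Pointwise commutatorElement

variable {G : Type u} [Group G] [Finite G] {p : ℕ} [hp : Fact p.Prime]

/-- Every block has a shape. -/
theorem shape_of_block {T : Sylow p G} {E : Subgroup G} (hE : Cfsg.IsBaumannBlock p (T : Subgroup G) E) :
    ∃ lin, Shape p E lin := by
  rcases hE.2.2.2.2 with ⟨F, i1, i2, n, hcard, -, hW, -⟩ | ⟨hp2, m, -, hW, -⟩
  · haveI : Finite F := Finite.of_fintype F
    obtain ⟨SU⟩ := Sec.nonempty hW
    obtain ⟨S⟩ := BlockShapeSL2.secW hE SU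
    have hc : ∃ n, Nat.card F = p ^ n := ⟨n, by rw [Nat.card_eq_fintype_card, hcard]⟩
    haveI : CharP F p := BlockShapeSL2.charP_field hc
    exact ⟨_, BlockShapeSL2.shape hE S hc⟩
  · obtain ⟨S⟩ := BlockShapeAlt.pSec hE hW
    exact ⟨_, BlockShapeAlt.shape hE hp2 S⟩

/-- Conjugate of a subgroup. -/
abbrev cs (y : G) (E : Subgroup G) : Subgroup G := E.map (MulAut.conj y).toMonoidHom

theorem mem_cs {y x : G} {E : Subgroup G} (hx : x ∈ E) : y * x * y⁻¹ ∈ cs y E := ⟨x, hx, rfl⟩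

theorem cs_cs (a b : G) (E : Subgroup G) : cs a (cs b E) = cs (a * b) E := SylowIn.map_conj_conj E a b

theorem cs_one (E : Subgroup G) : cs 1 E = E := SylowIn.map_conj_one E

theorem cs_eq_of_mem {y : G} {E : Subgroup G} (h : y ∈ normalizer (E : Set G)) : cs y E = E :=
  SylowIn.map_conj_eq_iff.2 h

theorem cs_le {y : G} {E M : Subgroup G} (h : E ≤ M) (hy : y ∈ normalizer (M : Set G)) : cs y E ≤ M :=
  (map_mono h).trans (cs_eq_of_mem hy).le

theorem card_cs (y : G) (E : Subgroup G) : Nat.card ↥(cs y E) = Nat.card E :=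
  card_map_of_injective (MulAut.conj y).injective

theorem Q_cs (y : G) (E : Subgroup G) : Q0 p (cs y E) = cs y (Q0 p E) := (SylowIn.pCoreOf_map_conj E y).symm

theorem U_cs (y : G) (E : Subgroup G) : U0 p (cs y E) = cs y (U0 p E) := by
  show Cfsg.omegaOneCenter p (Q0 p (cs y E)) = _
  rw [Q_cs]
  exact (BlockConj.omegaOneCenter_map _ _).symm

theorem W_cs (y : G) (E : Subgroup G) : W0 p (cs y E) = cs y (W0 p E) := by
  show ⁅U0 p (cs y E), cs y E⁆ = _
  rw [U_cs]
  exact (map_commutator _ _ _).symm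

theorem Z_cs (y : G) (E : Subgroup G) : Z0 p (cs y E) = cs y (Z0 p E) := by
  show U0 p (cs y E) ⊓ centralizer ((cs y E : Subgroup G) : Set G) = _
  rw [U_cs, cs, cs, cs, Subgroup.map_inf _ _ _ (MulAut.conj y).injective, SylowIn.centralizer_map_conj]

theorem WZ_cs (y : G) (E : Subgroup G) : W0 p (cs y E) ⊓ Z0 p (cs y E) = cs y (W0 p E ⊓ Z0 p E) := by
  rw [W_cs, Z_cs]
  exact (Subgroup.map_inf _ _ _ (MulAut.conj y).injective).symm

theorem commute_cs {y : G} {D E : Subgroup G} (h : ⁅D, E⁆ = ⊥) : ⁅cs y D, cs y E⁆ = ⊥ := by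
  rw [← map_commutator, h, Subgroup.map_bot]

theorem isSubnormal_cs {E : Subgroup G} (h : E.IsSubnormal) (y : G) : (cs y E).IsSubnormal :=
  h.map (MulAut.conj y).surjective

/-- Two conjugates are equal or commute. -/
theorem pairwise {M E : Subgroup G} (hIH : ∀ y ∈ M, cs y E = E ∨ ⁅cs y E, E⁆ = ⊥) {a b : G} (ha : a ∈ M)
    (hb : b ∈ M) : cs a E = cs b E ∨ ⁅cs a E, cs b E⁆ = ⊥ := by
  rcases hIH (b⁻¹ * a) (mul_mem (inv_mem hb) ha) with h | h
  · left
    have := congrArg (cs b) h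
    rwa [cs_cs, mul_inv_cancel_left] at this
  · right
    have := commute_cs (y := b) h
    rwa [cs_cs, mul_inv_cancel_left] at this

theorem le_centralizer_of_commute {D E : Subgroup G} (h : ⁅D, E⁆ = ⊥) : D ≤ centralizer (E : Set G) :=
  commutator_eq_bot_iff_le_centralizer.1 h

/-- The join of the conjugates under `M`. -/
def hull (M A : Subgroup G) : Subgroup G := ⨆ y : M, cs (y : G) A

theorem le_hull {M A : Subgroup G} {y : G} (hy : y ∈ M) : cs y A ≤ hull M A :=
  le_iSup (fun y : M => cs (y : G) A) ⟨y, hy⟩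

theorem self_le_hull (M A : Subgroup G) : A ≤ hull M A := (cs_one A).symm.le.trans (le_hull (one_mem M))

theorem le_normalizer_hull (M A : Subgroup G) : M ≤ normalizer (hull M A : Set G) := by
  intro m hm
  refine SylowIn.map_conj_eq_iff.1 (eq_of_le_of_card_ge ?_ (card_map_of_injective (MulAut.conj m).injective).ge)
  rw [hull, Subgroup.map_iSup]
  refine iSup_le fun y => ?_
  rw [show (cs (y : G) A).map (MulAut.conj m).toMonoidHom = cs (m * y) A from cs_cs m y A]
  exact le_hull (mul_mem hm y.2)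

section Block

variable {T : Sylow p G} {E : Subgroup G} (hE : Cfsg.IsBaumannBlock p (T : Subgroup G) E)
include hE

theorem W_not_le_Z : ¬ W0 p E ≤ Z0 p E := fun h => by
  obtain ⟨e, he, heQ⟩ := exists_not_mem_Q hE
  have hbot : ⁅W0 p E, E⁆ = ⊥ := commutator_eq_bot_iff_le_centralizer.2 (h.trans inf_le_right)
  refine heQ (inf_le_Q hE (mem_inf.2 ⟨he, mem_centralizer_iff.2 fun w hw => ?_⟩))
  rw [W_eq hE] at hbot
  rw [hbot] at hw
  rw [mem_bot.1 hw, one_mul, mul_one]

theorem eq_inf_Z_of_normalized {X : Subgroup G} (hX : X ≤ W0 p E) (hE' : E ≤ normalizer (X : Set G))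
    (hne : X ≠ W0 p E) : X ≤ Z0 p E := (W_irr hE hX hE').resolve_right hne

/-- A block moving nothing outside `Z` in a module inside `Ω₁(Z(O_p(G)))` centralises it. -/
theorem centralizes_of_small (hG : centralizer (Cfsg.pCore p G : Set G) ≤ Cfsg.pCore p G) {X : Subgroup G}
    (hX : X ≤ Vc p G) (hEX : E ≤ normalizer (X : Set G)) (hsmall : W0 p E ⊓ X ≤ Z0 p E) :
    E ≤ centralizer (X : Set G) := by
  refine le_of_coprime_mem hE.1 fun e he hco => mem_centralizer_iff.2 fun x hx => ?_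
  refine (mul_inv_eq_iff_eq_mul.1 ?_).symm
  refine commute_of_coprime ((isPGroup_U hE).to_le (inf_le_left.trans (W_le_U hE)) : IsPGroup p ↥(W0 p E ⊓ X))
    hco (mem_inf.2 ⟨stab_apply (V_comm hE hG he) (hX hx), mul_mem (conj_mem (hEX he) hx) (inv_mem hx)⟩)
    fun y hy => Z_fixed he (hsmall hy)

end Block

/-- A block of the class of `F` normalises `E`. -/
theorem normalizes (hG : centralizer (Cfsg.pCore p G : Set G) ≤ Cfsg.pCore p G) {T T' : Sylow p G}
    {M E F : Subgroup G} (hE : Cfsg.IsBaumannBlock p (T : Subgroup G) E)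
    (hF : Cfsg.IsBaumannBlock p (T' : Subgroup G) F) (hEM : E ≤ M) (hFM : F ≤ M)
    (hIE : ∀ y ∈ M, cs y E = E ∨ ⁅cs y E, E⁆ = ⊥) (hIF : ∀ y ∈ M, cs y F = F ∨ ⁅cs y F, F⁆ = ⊥)
    (hidx : Nat.card ↥(W0 p E) * Nat.card ↥(W0 p F ⊓ Z0 p F) = Nat.card ↥(W0 p F) * Nat.card ↥(W0 p E ⊓ Z0 p E)) :
    F ≤ normalizer (E : Set G) := by
  haveI := Vc_normal (p := p) (G := G)
  -- elements of distinct conjugates commute
  have hdist : ∀ {a b : G}, a ∈ M → b ∈ M → cs a E ≠ cs b E → ∀ {x e : G}, x ∈ cs a E → e ∈ cs b E →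
      e * x * e⁻¹ = x := by
    intro a b ha hb hne x e hx he
    have h := le_centralizer_of_commute ((pairwise hIE ha hb).resolve_left hne) hx
    rw [mem_centralizer_iff.1 h e he, mul_inv_cancel_right]
  have hWcs : ∀ {a : G} {w : G}, w ∈ W0 p (cs a E) → w ∈ cs a E := fun {a w} hw =>
    W_le_E (BlockConj.block_map hE a) hw
  set Y := hull M (W0 p E) with hY
  have hYV : Y ≤ Vc p G := iSup_le fun y => cs_le (BaumannBlockW.w_le hG hE)
    (BaumannBlockW.le_normalizer_of_normal _ M y.2)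
  have hYn : M ≤ normalizer (Y : Set G) := le_normalizer_hull M _
  by_contra hnot
  obtain ⟨f, hf, hfE⟩ := Set.not_subset.1 hnot
  have hfM : f ∈ M := hFM hf
  have hfne : cs f E ≠ E := fun h => hfE (SylowIn.map_conj_eq_iff.1 h)
  -- `W_F` lies in `Y`
  have hWFY : W0 p F ≤ Y := by
    rcases W_irr hF (X := W0 p F ⊓ Y) inf_le_left
      (le_normalizer_inf (le_normalizer.trans (normalizer_le_W hF)) (hFM.trans hYn)) with h | h
    · exfalso
      have hc := centralizes_of_small hF hG hYV (hFM.trans hYn) h hf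
      refine W_not_le_Z hE fun w hw => mem_inf.2 ⟨W_le_U hE hw, mem_centralizer_iff.2 fun e he => ?_⟩
      have hfw : f * w * f⁻¹ = w := by
        rw [← mem_centralizer_iff.1 hc w (self_le_hull M _ hw), mul_inv_cancel_right]
      have := hdist hfM (one_mem M) (by rw [cs_one]; exact hfne) (mem_cs (y := f) (W_le_E hE hw))
        ((cs_one E).symm ▸ he)
      rw [hfw] at this
      exact mul_inv_eq_iff_eq_mul.1 this
    · exact h.symm.le.trans inf_le_right
  -- the points fixed by the class of `F` are fixed by the class of `E`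
  set C := Y ⊓ centralizer (hull M F : Set G) with hC
  have hCn : M ≤ normalizer (C : Set G) := le_normalizer_inf hYn
    ((le_normalizer_hull M F).trans (BaumannBlockW.normalizer_le_normalizer_centralizer _))
  have hZFC : W0 p F ⊓ Z0 p F ≤ C := by
    refine le_inf (inf_le_left.trans hWFY) (Subgroup.le_centralizer_iff.1 (iSup_le fun y => ?_))
    rcases hIF y y.2 with h | h
    · rw [h]
      exact Subgroup.le_centralizer_iff.1 (inf_le_right.trans inf_le_right)
    · exact (le_centralizer_of_commute h).trans (centralizer_le (inf_le_left.trans (W_le_E hF)))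
  set Lc := hull M E with hLc
  have hCL : C ≤ centralizer (Lc : Set G) := by
    refine Subgroup.le_centralizer_iff.1 (iSup_le fun y => ?_)
    have hD := BlockConj.block_map hE (y : G)
    have hDM : cs (y : G) E ≤ M := cs_le hEM (le_normalizer y.2)
    refine centralizes_of_small hD hG (inf_le_left.trans hYV) (hDM.trans hCn) ?_
    refine eq_inf_Z_of_normalized hD inf_le_left
      (le_normalizer_inf (le_normalizer.trans (normalizer_le_W hD)) (hDM.trans hCn)) fun h => ?_
    have hWC : cs (y : G) (W0 p E) ≤ C := by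
      rw [← W_cs]; exact h.symm.le.trans inf_le_right
    have hall : Y ≤ C := iSup_le fun z => by
      have := cs_le hWC (hCn (mul_mem z.2 (inv_mem y.2)))
      rwa [cs_cs, inv_mul_cancel_right] at this
    refine W_not_le_Z hF fun w hw => mem_inf.2 ⟨W_le_U hF hw, ?_⟩
    exact centralizer_le (self_le_hull M F) ((mem_inf.1 (hall (hWFY hw))).2)
  have hLn : M ≤ normalizer (centralizer (Lc : Set G) : Set G) :=
    (le_normalizer_hull M E).trans (BaumannBlockW.normalizer_le_normalizer_centralizer _)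
  -- `W_F` is the image of `W_E` under `f`, modulo the fixed points
  have hstabF : ∀ {g : G}, g ∈ F → ∀ {v : G}, v ∈ Vc p G → g * v * g⁻¹ * v⁻¹ ∈ W0 p F := fun hg _ hv =>
    stab_apply (V_comm hF hG hg) hv
  have hWV : W0 p E ≤ Vc p G := BaumannBlockW.w_le hG hE
  have hVcomm : ∀ {a b : G}, a ∈ Vc p G → b ∈ Vc p G → a * b = b * a := fun ha hb =>
    Vc_central hb (Vc_le ha)
  let φ : ↥(W0 p E) →* ↥(W0 p F) :=
    { toFun := fun w => ⟨f * w * f⁻¹ * (w : G)⁻¹, hstabF hf (hWV w.2)⟩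
      map_one' := Subtype.ext (by simp)
      map_mul' := fun a b => Subtype.ext (by
        show f * ((a : G) * b) * f⁻¹ * ((a : G) * b)⁻¹ = (f * (a : G) * f⁻¹ * (a : G)⁻¹) * (f * (b : G) * f⁻¹ * (b : G)⁻¹)
        have h : (f * (b : G) * f⁻¹ * (b : G)⁻¹) * (a : G)⁻¹ = (a : G)⁻¹ * (f * (b : G) * f⁻¹ * (b : G)⁻¹) :=
          hVcomm (BaumannBlockW.w_le hG hF (hstabF hf (hWV b.2))) (inv_mem (hWV a.2))
        calc f * ((a : G) * b) * f⁻¹ * ((a : G) * b)⁻¹
            = f * (a : G) * f⁻¹ * ((f * (b : G) * f⁻¹ * (b : G)⁻¹) * (a : G)⁻¹) := by group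
          _ = _ := by rw [h]; group) }
  have hfW : ∀ {w : G}, w ∈ W0 p E → f * w * f⁻¹ ∈ cs f E := fun hw => mem_cs (W_le_E hE hw)
  have hfix_of_C : ∀ {w : G}, w ∈ W0 p E → f * w * f⁻¹ * w⁻¹ ∈ centralizer (Lc : Set G) → w ∈ Z0 p E := by
    intro w hw h
    refine mem_inf.2 ⟨W_le_U hE hw, mem_centralizer_iff.2 fun e he => ?_⟩
    have h1 := mem_centralizer_iff.1 h e (self_le_hull M E he)
    have h2 := hdist hfM (one_mem M) (by rw [cs_one]; exact hfne) (hfW hw) ((cs_one E).symm ▸ he)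
    rw [mul_inv_eq_iff_eq_mul] at h2
    have h3 : w = (f * w * f⁻¹ * w⁻¹)⁻¹ * (f * w * f⁻¹) := by group
    have h4 : Commute e (f * w * f⁻¹ * w⁻¹)⁻¹ := Commute.inv_right h1
    rw [h3]
    exact (h4.mul_right h2).eq
  obtain ⟨w₀, hw₀, hw₀Z⟩ := SetLike.not_le_iff_exists.1 (W_not_le_Z hE)
  have hIZ : W0 p F ⊓ centralizer (Lc : Set G) ≤ Z0 p F := by
    refine eq_inf_Z_of_normalized hF inf_le_left
      (le_normalizer_inf (le_normalizer.trans (normalizer_le_W hF)) (hFM.trans hLn)) fun h => ?_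
    exact hw₀Z (hfix_of_C hw₀ (mem_inf.1 (h.symm.le (φ ⟨w₀, hw₀⟩).2)).2)
  have hrep : ∀ u ∈ W0 p F, ∃ w ∈ W0 p E, (f * w * f⁻¹ * w⁻¹)⁻¹ * u ∈ centralizer (Lc : Set G) := by
    haveI : ((W0 p F ⊓ Z0 p F).subgroupOf (W0 p F)).Normal := ⟨fun z hz u => by
      rw [mem_subgroupOf] at hz ⊢
      have : (u : G) * z = z * u := W_comm hF u.2 z.2
      rw [Subgroup.coe_mul, Subgroup.coe_mul, Subgroup.coe_inv, this, mul_inv_cancel_right]
      exact hz⟩
    let π := (QuotientGroup.mk' ((W0 p F ⊓ Z0 p F).subgroupOf (W0 p F))).comp φ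
    have hk : π.ker ≤ (W0 p E ⊓ Z0 p E).subgroupOf (W0 p E) := fun w hw => by
      rw [MonoidHom.mem_ker, MonoidHom.comp_apply, QuotientGroup.mk'_apply, QuotientGroup.eq_one_iff,
        mem_subgroupOf] at hw
      exact mem_subgroupOf.2 (mem_inf.2 ⟨w.2, hfix_of_C w.2 (hCL (hZFC hw))⟩)
    have hsurj : π.range = ⊤ := by
      refine eq_top_of_le_card _ ?_
      rw [← index_ker, ← index_eq_card]
      have h1 := Nat.le_of_dvd (Nat.pos_of_ne_zero index_ne_zero_of_finite) (index_dvd_of_le hk)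
      refine le_trans (le_of_eq ?_) h1
      have hEc := ((W0 p E ⊓ Z0 p E).subgroupOf (W0 p E)).card_mul_index
      have hFc := ((W0 p F ⊓ Z0 p F).subgroupOf (W0 p F)).card_mul_index
      rw [Nat.card_congr (subgroupOfEquivOfLe (inf_le_left : W0 p E ⊓ Z0 p E ≤ W0 p E)).toEquiv] at hEc
      rw [Nat.card_congr (subgroupOfEquivOfLe (inf_le_left : W0 p F ⊓ Z0 p F ≤ W0 p F)).toEquiv] at hFc
      rw [← hEc, ← hFc] at hidx
      refine Nat.eq_of_mul_eq_mul_left
        (Nat.mul_pos (Nat.card_pos (α := ↥(W0 p E ⊓ Z0 p E))) (Nat.card_pos (α := ↥(W0 p F ⊓ Z0 p F)))) ?_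
      linarith
    intro u hu
    obtain ⟨w, hw⟩ : (QuotientGroup.mk' _ ⟨u, hu⟩) ∈ π.range := hsurj ▸ mem_top _
    rw [MonoidHom.comp_apply, QuotientGroup.mk'_apply, QuotientGroup.mk'_apply, QuotientGroup.eq,
      mem_subgroupOf] at hw
    exact ⟨w, w.2, hCL (hZFC hw)⟩
  -- `F` has orbit `{E, E'}`
  have horb : ∀ g ∈ F, cs g E = E ∨ cs g E = cs f E := by
    intro g hg
    by_contra hne
    push Not at hne
    refine W_not_le_Z hE fun w hw => mem_inf.2 ⟨W_le_U hE hw, mem_centralizer_iff.2 fun e he => ?_⟩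
    obtain ⟨w₂, hw₂, hc⟩ := hrep _ (hstabF hg (hWV hw))
    set e' := g * e * g⁻¹ with he'
    have he'E : e' ∈ cs g E := mem_cs he
    have k1 : Commute e' w := by
      have := hdist (one_mem M) (hFM hg) (by rw [cs_one]; exact hne.1.symm) ((cs_one E).symm ▸ W_le_E hE hw) he'E
      exact mul_inv_eq_iff_eq_mul.1 this
    have k2 : Commute e' w₂ := by
      have := hdist (one_mem M) (hFM hg) (by rw [cs_one]; exact hne.1.symm) ((cs_one E).symm ▸ W_le_E hE hw₂) he'E
      exact mul_inv_eq_iff_eq_mul.1 this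
    have k3 : Commute e' (f * w₂ * f⁻¹) :=
      mul_inv_eq_iff_eq_mul.1 (hdist hfM (hFM hg) hne.2.symm (hfW hw₂) he'E)
    have k4 : Commute e' ((f * w₂ * f⁻¹ * w₂⁻¹)⁻¹ * (g * w * g⁻¹ * w⁻¹)) :=
      mem_centralizer_iff.1 hc e' (le_hull (hFM hg) he'E)
    have k5 : Commute e' (g * w * g⁻¹) := by
      have h := ((k3.mul_right k2.inv_right).mul_right k4).mul_right k1
      rwa [mul_inv_cancel_left, inv_mul_cancel_right] at h
    have := congrArg (fun x => g⁻¹ * x * g) k5.eq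
    simpa [he', mul_assoc] using this
  have hfix : ∀ g ∈ F, cs g E = E → g ∈ centralizer (W0 p E : Set G) := by
    intro g hg hgE
    have hgN : g ∈ normalizer (E : Set G) := SylowIn.map_conj_eq_iff.1 hgE
    refine fix_of_trivial hE hgN fun w hw => ?_
    obtain ⟨w₂, hw₂, hc⟩ := hrep _ (hstabF hg (hWV hw))
    set x := g * w * g⁻¹ * w⁻¹ with hx
    have hxW : x ∈ W0 p E := mul_mem (conj_mem (normalizer_le_W hE hgN) hw) (inv_mem hw)
    have hne' : E ≠ cs f E := hfne.symm
    refine mem_inf.2 ⟨W_le_U hE hxW, mem_centralizer_iff.2 fun e he => ?_⟩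
    -- `w₂` is central in `E`
    have hw₂Z : w₂ ∈ centralizer (E : Set G) := mem_centralizer_iff.2 fun d hd => by
      set d' := f * d * f⁻¹ with hd'
      have hd'E : d' ∈ cs f E := mem_cs hd
      have j1 : ∀ {v : G}, v ∈ W0 p E → Commute d' v := fun hv => mul_inv_eq_iff_eq_mul.1
        (hdist (one_mem M) hfM (by rw [cs_one]; exact hne') ((cs_one E).symm ▸ W_le_E hE hv) hd'E)
      have j2 : Commute d' ((f * w₂ * f⁻¹ * w₂⁻¹)⁻¹ * x) := mem_centralizer_iff.1 hc d' (le_hull hfM hd'E)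
      have j3 : Commute d' (f * w₂ * f⁻¹) := by
        have h := ((j1 hxW).mul_right j2.inv_right).mul_right (j1 hw₂)
        rwa [mul_inv_rev, inv_inv, mul_inv_cancel_left, inv_mul_cancel_right] at h
      have := congrArg (fun y => f⁻¹ * y * f) j3.eq
      simpa [hd', mul_assoc] using this
    have i1 : Commute e (f * w₂ * f⁻¹) :=
      mul_inv_eq_iff_eq_mul.1 (hdist hfM (one_mem M) (by rw [cs_one]; exact hfne) (hfW hw₂) ((cs_one E).symm ▸ he))
    have i2 : Commute e w₂ := mem_centralizer_iff.1 hw₂Z e he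
    have i3 : Commute e ((f * w₂ * f⁻¹ * w₂⁻¹)⁻¹ * x) := mem_centralizer_iff.1 hc e (self_le_hull M E he)
    have h := (i1.mul_right i2.inv_right).mul_right i3
    rwa [mul_inv_cancel_left] at h
  -- so every square of `F` centralises `W_F`
  obtain ⟨h₀, hh₀, hh₀Q⟩ := exists_sq_not_mem hF
  refine hh₀Q (inf_le_Q hF (mem_inf.2 ⟨mul_mem hh₀ hh₀, ?_⟩))
  set g := h₀ * h₀ with hgdef
  have hg : g ∈ F := mul_mem hh₀ hh₀
  have hgE : cs g E = E := by
    rcases horb h₀ hh₀ with h | h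
    · rw [hgdef, ← cs_cs, h, h]
    rcases horb g hg with h' | h'
    · exact h'
    exfalso
    refine hfne ?_
    rw [hgdef, ← cs_cs, ← h] at h'
    have := congrArg (cs h₀⁻¹) h'
    rw [cs_cs, cs_cs, cs_cs, inv_mul_cancel, one_mul, cs_one] at this
    rw [← h, this]
  have hg' : cs (f⁻¹ * g * f) E = E := by
    rcases horb (g * f) (mul_mem hg hf) with h | h
    · exfalso
      rw [← cs_cs] at h
      have := congrArg (cs g⁻¹) (h.trans hgE.symm)
      rw [cs_cs, cs_cs, cs_cs, inv_mul_cancel, one_mul, cs_one] at this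
      exact hfne this
    · have := congrArg (cs f⁻¹) h
      rwa [cs_cs, cs_cs, inv_mul_cancel, cs_one, ← mul_assoc] at this
  have hc1 := hfix g hg hgE
  have hc2 : ∀ v ∈ W0 p E, g * (f * v * f⁻¹) * g⁻¹ = f * v * f⁻¹ := fun v hv => by
    have h := mem_centralizer_iff.1 (hfix _ (mul_mem (mul_mem (inv_mem hf) hg) hf) hg') v hv
    calc g * (f * v * f⁻¹) * g⁻¹ = f * ((f⁻¹ * g * f) * v) * f⁻¹ * g⁻¹ := by group
      _ = f * (v * (f⁻¹ * g * f)) * f⁻¹ * g⁻¹ := by rw [h]
      _ = f * v * f⁻¹ := by group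
  refine fix_of_trivial hF (le_normalizer hg) fun u hu => ?_
  obtain ⟨w, hw, hc⟩ := hrep u hu
  refine hIZ (mem_inf.2 ⟨mul_mem (conj_mem (le_normalizer.trans (normalizer_le_W hF) hg) hu) (inv_mem hu), ?_⟩)
  set a := f * w * f⁻¹ * w⁻¹ with ha
  set c := a⁻¹ * u with hcdef
  have hga : g * a * g⁻¹ = a := by
    have h1 := mem_centralizer_iff.1 hc1 w hw
    calc g * a * g⁻¹ = (g * (f * w * f⁻¹) * g⁻¹) * (g * w * g⁻¹)⁻¹ := by rw [ha]; group
      _ = a := by rw [hc2 w hw, ← h1, mul_inv_cancel_right, ha]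
  have hgc : g * c * g⁻¹ ∈ centralizer (Lc : Set G) := conj_mem (hLn (hFM hg)) hc
  have hcV : c ∈ Vc p G := mul_mem (inv_mem (BaumannBlockW.w_le hG hF (hstabF hf (hWV hw))))
    (BaumannBlockW.w_le hG hF hu)
  have hgcV : g * c * g⁻¹ ∈ Vc p G := (inferInstance : (Vc p G).Normal).conj_mem c hcV g
  have haV : a ∈ Vc p G := BaumannBlockW.w_le hG hF (hstabF hf (hWV hw))
  rw [show u = a * c by rw [hcdef, mul_inv_cancel_left],
    show g * (a * c) * g⁻¹ * (a * c)⁻¹ = (g * a * g⁻¹) * ((g * c * g⁻¹) * c⁻¹) * a⁻¹ by group, hga,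
    hVcomm haV (mul_mem hgcV (inv_mem hcV)), mul_inv_cancel_right]
  exact mul_mem hgc (inv_mem hc)

/-- Two conjugate blocks normalising each other are equal or commute. -/
theorem eq_or_commute (hG : centralizer (Cfsg.pCore p G : Set G) ≤ Cfsg.pCore p G) {T : Sylow p G}
    {E : Subgroup G} (hE : Cfsg.IsBaumannBlock p (T : Subgroup G) E) (hEs : E.IsSubnormal) (x : G)
    (h1 : cs x E ≤ normalizer (E : Set G)) (h2 : E ≤ normalizer (cs x E : Set G)) :
    cs x E = E ∨ ⁅cs x E, E⁆ = ⊥ := by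
  have hF := BlockConj.block_map hE x
  have hQE := Q_le_R_of_subnormal hE hEs
  have hQF := Q_le_R_of_subnormal hF (isSubnormal_cs hEs x)
  rcases commutes_or_le hG hE hF hQE h1 with h | hW1
  · exact Or.inr h
  rcases commutes_or_le hG hF hE hQF h2 with h | hW2
  · exact Or.inr (by rw [commutator_comm]; exact h)
  have hW : W0 p (cs x E) = W0 p E := le_antisymm hW1 hW2
  have hxW : x ∈ normalizer (W0 p E : Set G) := SylowIn.map_conj_eq_iff.1 ((W_cs x E).symm.trans hW)
  have hxZ : x ∈ normalizer ((W0 p E ⊓ Z0 p E : Subgroup G) : Set G) := by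
    refine SylowIn.map_conj_eq_iff.1 ?_
    rw [show (W0 p E ⊓ Z0 p E).map (MulAut.conj x).toMonoidHom = W0 p (cs x E) ⊓ Z0 p (cs x E) from (WZ_cs x E).symm]
    refine (eq_of_le_of_card_ge (le_inf (hW ▸ inf_le_left) ?_) ?_).symm
    · refine eq_inf_Z_of_normalized hF (hW ▸ inf_le_left) ?_ fun h => W_not_le_Z hE ?_
      · exact h1.trans (le_normalizer_inf (normalizer_le_W hE) (normalizer_le_Z hE))
      · exact hW.symm.le.trans (h.symm.le.trans inf_le_right)
    · rw [WZ_cs, card_cs]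
  obtain ⟨lin, hS⟩ := shape_of_block hE
  have hle : cs x E ≤ E ⊔ centralizer (W0 p E : Set G) := le_of_coprime_mem hF.1 fun g hg hco =>
    hS.coprime_mem g (hS.conj_le x hxW hxZ h1 hg) hco
  exact Or.inl (eq_of_le_of_card_ge (le_of_le_sup hG hE hF hQE h1 hW.le hle) (card_cs x E).ge)

theorem class_commute_aux (hG : centralizer (Cfsg.pCore p G : Set G) ≤ Cfsg.pCore p G) :
    ∀ (n : ℕ) (N : Subgroup G), Nat.card N < n → ∀ (T : Sylow p G) (E : Subgroup G),
      Cfsg.IsBaumannBlock p (T : Subgroup G) E → E.IsSubnormal → E ≤ N →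
      ∀ x ∈ N, cs x E = E ∨ ⁅cs x E, E⁆ = ⊥ := by
  intro n
  induction n with
  | zero => intro N h; omega
  | succ n ih =>
    intro N hN T E hE hEs hEN x hx
    rcases (hEs.subgroupOf (K := N)).lt_normal with htop | ⟨K, hKn, hEK, hK⟩
    · rw [subgroupOf_eq_top] at htop
      exact Or.inl (cs_eq_of_mem (le_normalizer (htop hx)))
    set M := K.map N.subtype with hM
    have hMN : M ≤ N := map_subtype_le K
    have hNM : N ≤ normalizer (M : Set G) := by
      have := normalizer_eq_top_iff.2 hKn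
      intro y hy
      refine mem_norm fun z hz => ?_
      obtain ⟨k, hk, rfl⟩ := hz
      exact ⟨⟨y, hy⟩ * k * ⟨y, hy⟩⁻¹, hKn.conj_mem k hk _, rfl⟩
    have hEM : E ≤ M := fun e he => ⟨⟨e, hEN he⟩, hEK (mem_subgroupOf.2 he), rfl⟩
    have hMcard : Nat.card M < n := by
      refine lt_of_lt_of_le ?_ (Nat.lt_succ_iff.1 hN)
      rw [hM, card_map_of_injective N.subtype_injective]
      by_contra hle
      exact hK.ne (eq_top_of_le_card K (not_lt.1 hle))
    have hFM : cs x E ≤ M := cs_le hEM (hNM hx)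
    have hF := BlockConj.block_map hE x
    have hFs := isSubnormal_cs hEs x
    have hIE := ih M hMcard T E hE hEs hEM
    have hIF := ih M hMcard (x • T) (cs x E) hF hFs hFM
    have hidx : Nat.card ↥(W0 p E) * Nat.card ↥(W0 p (cs x E) ⊓ Z0 p (cs x E)) =
        Nat.card ↥(W0 p (cs x E)) * Nat.card ↥(W0 p E ⊓ Z0 p E) := by
      rw [WZ_cs, W_cs, card_cs, card_cs]
    exact eq_or_commute hG hE hEs x (normalizes hG hE hF hEM hFM hIE hIF hidx)
      (normalizes hG hF hE hFM hEM hIF hIE hidx.symm)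

/-- The conjugates of a subnormal block commute with it or are equal to it. -/
theorem class_commute (hG : centralizer (Cfsg.pCore p G : Set G) ≤ Cfsg.pCore p G) {T : Sylow p G}
    {E : Subgroup G} (hE : Cfsg.IsBaumannBlock p (T : Subgroup G) E) (hEs : E.IsSubnormal) (x : G) :
    cs x E = E ∨ ⁅cs x E, E⁆ = ⊥ :=
  class_commute_aux hG (Nat.card (⊤ : Subgroup G) + 1) ⊤ (Nat.lt_succ_self _) T E hE hEs le_top x (mem_top x)

end CfsgLib.LocalEvenB.BlockClass
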