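import Cfsg.Agent.Lib.LocalEvenB.BlockTrick
import Cfsg.Agent.Lib.KnownA.PSLMultiplier

/-!
Additive maps of `F²` commuting with, or normalising, `SL₂(F)'` are scalar, respectively semilinear.
-/

set_option autoImplicit false
set_option linter.style.haveILetI false
set_option linter.unusedSectionVars false

namespace CfsgLib.LocalEvenB.SL2Semilinear

open Matrix CfsgLib.LocalEvenB.BlockTrick

variable {F : Type} [Field F] [Finite F]

local notation "SL₂" => Matrix.SpecialLinearGroup (Fin 2) F

theorem commutator_top (hq : 4 ≤ Nat.card F) : _root_.commutator SL₂ = ⊤ := by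
  cases nonempty_fintype F
  exact CfsgLib.KnownA.PSLMultiplier.sl_two_perfect (by rwa [← Nat.card_eq_fintype_card])

/-- A prime field is made of multiples of one. -/
theorem exists_nsmul_one (hq : Nat.card F < 4) (x : F) : ∃ m : ℕ, x = m • (1 : F) := by
  cases nonempty_fintype F
  obtain ⟨k, hc, hk⟩ := FiniteField.card F (ringChar F)
  have hk1 : (k : ℕ) = 1 := by
    rcases Nat.eq_or_lt_of_le k.pos with h | h
    · exact h.symm
    · have : 2 ^ 2 ≤ ringChar F ^ (k : ℕ) :=
        (Nat.pow_le_pow_left hc.two_le 2).trans (Nat.pow_le_pow_right hc.pos h)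
      rw [Nat.card_eq_fintype_card, hk] at hq; omega
  rw [hk1, pow_one] at hk
  haveI := ringChar.charP F
  haveI : Fact (Nat.Prime (ringChar F)) := ⟨hc⟩
  let f := ZMod.castHom (dvd_refl (ringChar F)) F
  have hf : Function.Surjective f := ((Nat.bijective_iff_injective_and_card _).2
    ⟨ZMod.castHom_injective F, by rw [Nat.card_eq_fintype_card, Nat.card_eq_fintype_card, ZMod.card, hk]⟩).2
  obtain ⟨y, rfl⟩ := hf x
  obtain ⟨m, rfl⟩ := ZMod.natCast_zmod_surjective y
  exact ⟨m, by rw [map_natCast, nsmul_one]⟩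

/-- Scalar multiplication is a combination of products of unipotent elements. -/
theorem smul_eq (t : F) (v : Fin 2 → F) :
    t • v =
      ((BaumannModule.up t).1.mulVec ((BaumannModule.low 1).1.mulVec v) - (BaumannModule.up t).1.mulVec v -
          (BaumannModule.low 1).1.mulVec v + v) +
        ((BaumannModule.low 1).1.mulVec ((BaumannModule.up t).1.mulVec v) - (BaumannModule.low 1).1.mulVec v -
          (BaumannModule.up t).1.mulVec v + v) := by
  ext i
  fin_cases i <;> simp [BaumannModule.up, BaumannModule.low, Matrix.mulVec, Matrix.vecHead, Matrix.vecTail] <;>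
    ring

/-- An additive map commuting with `SL₂(F)'` is linear. -/
theorem linear_of_comm (A : AddMonoid.End (Fin 2 → F))
    (hA : ∀ M ∈ _root_.commutator SL₂, ∀ v, A (M.1.mulVec v) = M.1.mulVec (A v)) (t : F) (v : Fin 2 → F) :
    A (t • v) = t • A v := by
  rcases lt_or_ge (Nat.card F) 4 with h | h
  · obtain ⟨m, rfl⟩ := exists_nsmul_one h t
    rw [smul_assoc, smul_assoc, one_smul, one_smul, map_nsmul]
  · have hm : ∀ M : SL₂, M ∈ _root_.commutator SL₂ := fun M => commutator_top h ▸ Subgroup.mem_top M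
    rw [smul_eq t v, smul_eq t (A v)]
    simp only [map_add, map_sub, hA _ (hm _)]

/-- An additive map commuting with `SL₂(F)'` is scalar, for more than two elements. -/
theorem scalar_of_comm (hq : 3 ≤ Nat.card F) (A : AddMonoid.End (Fin 2 → F))
    (hA : ∀ M ∈ _root_.commutator SL₂, ∀ v, A (M.1.mulVec v) = M.1.mulVec (A v)) :
    ∃ c : F, ∀ v, A v = c • v := by
  refine ⟨A ![1, 0] 0, fun v => ?_⟩
  have hlin := linear_of_comm A hA
  have hv : v = v 0 • ![(1 : F), 0] + v 1 • ![(0 : F), 1] := by
    ext i; fin_cases i <;> simp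
  set a := A ![1, 0] 0 with ha
  suffices h : A ![1, 0] = ![a, 0] ∧ A ![0, 1] = ![0, a] by
    conv_lhs => rw [hv, map_add, hlin, hlin, h.1, h.2]
    conv_rhs => rw [hv]
    ext i; fin_cases i <;> simp [mul_comm]
  have heta : ∀ w : Fin 2 → F, w = ![w 0, w 1] := fun w => by ext i; fin_cases i <;> rfl
  rcases lt_or_ge (Nat.card F) 4 with h | h
  · have h3 : Nat.card F = 3 := by omega
    haveI : CharP F 3 := by
      cases nonempty_fintype F
      exact charP_of_card_eq_prime (hp := ⟨Nat.prime_three⟩) (by rw [← Nat.card_eq_fintype_card, h3])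
    have hI := hA _ SympPlane.Setup.qI_mem ![1, 0]
    have hJ := hA _ SympPlane.Setup.qJ_mem ![1, 0]
    rw [heta (A ![1, 0]), ← ha,
      show (SympPlane.Setup.qI (F := F)).1.mulVec ![1, 0] = -![(0 : F), 1] by
        ext i; fin_cases i <;> simp [SympPlane.Setup.qI, Matrix.mulVec, Matrix.vecHead, Matrix.vecTail],
      map_neg] at hI
    rw [heta (A ![1, 0]), ← ha,
      show (SympPlane.Setup.qJ (F := F)).1.mulVec ![1, 0] = ![(1 : F), 0] + ![(0 : F), 1] by
        ext i; fin_cases i <;> simp [SympPlane.Setup.qJ, Matrix.mulVec, Matrix.vecHead, Matrix.vecTail],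
      map_add] at hJ
    have i0 := congrFun hI 0
    have i1 := congrFun hI 1
    have j0 := congrFun hJ 0
    simp [SympPlane.Setup.qI, SympPlane.Setup.qJ, Matrix.mulVec, Matrix.vecHead, Matrix.vecTail] at i0 i1 j0
    have hb : A ![1, 0] 1 = 0 := by
      have e : 2 * A ![1, 0] 1 = 0 := by linear_combination -(1 : F) * j0 - i0
      exact (mul_eq_zero.1 e).resolve_left SympPlane.Setup.two_ne
    refine ⟨by rw [heta (A ![1, 0]), hb], ?_⟩
    rw [heta (A ![0, 1])]
    ext i; fin_cases i <;> simp
    · linear_combination -i0 - hb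
    · linear_combination i1
  · have hm : ∀ M : SL₂, M ∈ _root_.commutator SL₂ := fun M => commutator_top h ▸ Subgroup.mem_top M
    have hu := hA _ (hm (BaumannModule.up 1)) ![1, 0]
    have hl := hA _ (hm (BaumannModule.low 1)) ![1, 0]
    rw [show (BaumannModule.up (1 : F)).1.mulVec ![1, 0] = ![(1 : F), 0] by
      ext i; fin_cases i <;> simp [BaumannModule.up, Matrix.mulVec, Matrix.vecHead, Matrix.vecTail],
      heta (A ![1, 0]), ← ha] at hu
    have u0 := congrFun hu 0
    simp [BaumannModule.up, Matrix.mulVec, Matrix.vecHead, Matrix.vecTail] at u0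
    have h1 : A ![1, 0] = ![a, 0] := by rw [heta (A ![1, 0]), u0, ← ha]
    refine ⟨h1, ?_⟩
    rw [show (BaumannModule.low (1 : F)).1.mulVec ![1, 0] = ![(1 : F), 0] + ![(0 : F), 1] by
      ext i; fin_cases i <;> simp [BaumannModule.low, Matrix.mulVec, Matrix.vecHead, Matrix.vecTail],
      map_add, h1] at hl
    have l0 := congrFun hl 0
    have l1 := congrFun hl 1
    simp [BaumannModule.low, Matrix.mulVec, Matrix.vecHead, Matrix.vecTail] at l0 l1
    rw [heta (A ![0, 1])]
    ext i; fin_cases i <;> simp [l0, l1]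

/-- A bijective additive map normalising `SL₂(F)'` is semilinear. -/
theorem exists_twist (g : AddMonoid.End (Fin 2 → F)) (hg : Function.Surjective g)
    (hn : ∀ M ∈ _root_.commutator SL₂, ∃ M' ∈ _root_.commutator SL₂, ∀ v, g (M.1.mulVec v) = M'.1.mulVec (g v))
    (hn' : ∀ M' ∈ _root_.commutator SL₂, ∃ M ∈ _root_.commutator SL₂, ∀ v, g (M.1.mulVec v) = M'.1.mulVec (g v))
    (t : F) : ∃ s : F, ∀ v, g (t • v) = s • g v := by
  rcases lt_or_ge (Nat.card F) 4 with h | h
  · obtain ⟨m, rfl⟩ := exists_nsmul_one h t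
    exact ⟨m • 1, fun v => by rw [smul_assoc, smul_assoc, one_smul, one_smul, map_nsmul]⟩
  · have hm : ∀ M : SL₂, M ∈ _root_.commutator SL₂ := fun M => commutator_top h ▸ Subgroup.mem_top M
    obtain ⟨U, -, hU⟩ := hn _ (hm (BaumannModule.up t))
    obtain ⟨L, -, hL⟩ := hn _ (hm (BaumannModule.low 1))
    let K : AddMonoid.End (Fin 2 → F) := AddMonoidHom.mk'
      (fun w => (U.1.mulVec (L.1.mulVec w) - U.1.mulVec w - L.1.mulVec w + w) +
        (L.1.mulVec (U.1.mulVec w) - L.1.mulVec w - U.1.mulVec w + w))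
      fun a b => by simp only [Matrix.mulVec_add]; abel
    have hK : ∀ v, g (t • v) = K (g v) := fun v => by
      rw [smul_eq t v]
      simp only [map_add, map_sub, hU, hL]
      rfl
    obtain ⟨c, hc⟩ := scalar_of_comm (by omega) K fun M' hM' w => by
      obtain ⟨M, -, hMM⟩ := hn' M' hM'
      obtain ⟨v, rfl⟩ := hg w
      rw [← hMM, ← hK, ← hK, ← hMM, Matrix.mulVec_smul]
    exact ⟨c, fun v => by rw [hK, hc]⟩

end CfsgLib.LocalEvenB.SL2Semilinear
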