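import Cfsg.Agent.Lib.LocalEvenB.BlockCentralizer
import Cfsg.Agent.Lib.LocalEvenB.SL2Semilinear

/-!
The module `W_E` of a block and the subgroups acting on it.
-/

set_option autoImplicit false
set_option linter.style.haveILetI false
set_option linter.unusedSectionVars false

namespace CfsgLib.LocalEvenB.BlockModule

universe u

open Subgroup CfsgLib.LocalEven CfsgLib.LocalEvenB.BlockTrick CfsgLib.LocalEvenB.BlockCentralizer
open scoped Pointwise commutatorElement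

variable {G : Type u} [Group G] [Finite G] {p : ℕ} [hp : Fact p.Prime]

/-- The `p'`-elements of `E ⊔ K` lie in `E = O^p(E)` when the `p`-group `K` normalises it. -/
theorem mem_of_coprime_sup {E K : Subgroup G} (hK : IsPGroup p K) (hKE : K ≤ normalizer (E : Set G)) {g : G}
    (hg : g ∈ E ⊔ K) (hco : (orderOf g).Coprime p) : g ∈ E := by
  set X := E ⊔ K with hX
  haveI : (E.subgroupOf X).Normal :=
    (normal_subgroupOf_iff_le_normalizer le_sup_left).2 (sup_le le_normalizer hKE)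
  have hg' : g ∈ ((E : Set G) * (K : Set G)) := by
    rw [← coe_mul_of_right_le_normalizer_left E K hKE]; exact hg
  obtain ⟨e, he, r, hr, rfl⟩ := hg'
  let e' : X := ⟨e, mem_sup_left he⟩
  let r' : X := ⟨r, mem_sup_right hr⟩
  have h1 : QuotientGroup.mk' (E.subgroupOf X) (e' * r') = QuotientGroup.mk' (E.subgroupOf X) r' := by
    rw [map_mul, show QuotientGroup.mk' (E.subgroupOf X) e' = 1 from
      (QuotientGroup.eq_one_iff e').2 (mem_subgroupOf.2 he), one_mul]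
  obtain ⟨k, hk⟩ := IsPGroup.iff_orderOf.1 hK ⟨r, hr⟩
  rw [orderOf_mk] at hk
  have h2 : orderOf (QuotientGroup.mk' (E.subgroupOf X) r') ∣ p ^ k := by
    refine (orderOf_map_dvd _ r').trans ?_
    rw [← orderOf_coe, show (r' : G) = r from rfl, hk]
  have h3 : orderOf (QuotientGroup.mk' (E.subgroupOf X) r') ∣ orderOf (e * r) := by
    rw [← h1]
    refine (orderOf_map_dvd _ (e' * r')).trans ?_
    rw [← orderOf_coe]; rfl
  have h4 : orderOf (QuotientGroup.mk' (E.subgroupOf X) r') = 1 :=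
    Nat.dvd_one.1 ((hco.pow_right k) ▸ Nat.dvd_gcd h3 h2)
  exact mul_mem he (mem_subgroupOf.1 ((QuotientGroup.eq_one_iff r').1 (orderOf_eq_one_iff.1 h4)))

/-- `Ω₁(Z(O_p(G)))`. -/
abbrev Vc (p : ℕ) (G : Type u) [Group G] : Subgroup G := Cfsg.omegaOneCenter p (Cfsg.pCore p G)

theorem Vc_le : Vc p G ≤ Cfsg.pCore p G := (BaumannBlockW.omegaOneCenter_le _).trans inf_le_left

theorem Vc_central {v r : G} (hv : v ∈ Vc p G) (hr : r ∈ Cfsg.pCore p G) : r * v = v * r :=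
  mem_centralizer_iff.1 (mem_inf.1 (BaumannBlockW.omegaOneCenter_le _ hv)).2 r hr

theorem mem_omegaOneCenter {X : Subgroup G} {x : G} (hx : x ∈ X) (hc : ∀ y ∈ X, y * x = x * y)
    (hpow : x ^ p = 1) : x ∈ Cfsg.omegaOneCenter p X :=
  subset_closure ⟨mem_inf.2 ⟨hx, mem_centralizer_iff.2 hc⟩, hpow⟩

theorem Vc_normal : (Vc p G).Normal := by
  haveI := SylowIn.pCore_normal G p
  rw [← normalizer_eq_top_iff, eq_top_iff]
  exact (BaumannBlockW.le_normalizer_of_normal (Cfsg.pCore p G) ⊤).trans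
    (BaumannBlockW.normalizer_le_normalizer_omegaOneCenter _)

section Block

variable {T : Sylow p G} {E : Subgroup G} (hE : Cfsg.IsBaumannBlock p (T : Subgroup G) E)
include hE

theorem exc_or_generic : Q0 p E = U0 p E ∨
    ∃ (F : Type) (_ : Field F) (_ : Finite F), Nonempty (Exc F p (T : Subgroup G) E) := by
  rcases hE.2.2.2.2 with ⟨F, i1, i2, n, hcard, -, hW, h⟩ | ⟨-, m, -, -, h⟩
  · rcases h with h | ⟨hp3, hQ, hcomm, -, hcent, hZ, hquad⟩
    · exact Or.inl h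
    obtain ⟨SW⟩ := Sec.nonempty hW
    obtain ⟨SQ⟩ := Sec.nonempty hQ
    have hc : ∃ k : ℕ, Nat.card F = p ^ k ∧ Nat.card (Z0 p E) = p ^ k := ⟨n, by
      rw [Nat.card_eq_fintype_card, hcard], by
        show Nat.card ↥(U0 p E ⊓ centralizer (E : Set G)) = _; rw [← hcent, hZ, hp3]⟩
    exact Or.inr ⟨F, i1, Finite.of_fintype F, ⟨hE, hp3, SW, SQ, hcomm, hcent, hc, hquad⟩⟩
  · exact Or.inl h

theorem Q_comm_U {q u : G} (hq : q ∈ Q0 p E) (hu : u ∈ U0 p E) : q * u = u * q :=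
  mem_centralizer_iff.1 (mem_inf.1 ((BaumannBlockW.omegaOneCenter_le _) hu)).2 q hq

theorem U_comm {u v : G} (hu : u ∈ U0 p E) (hv : v ∈ U0 p E) : u * v = v * u :=
  Q_comm_U hE ((BaumannBlockW.omegaOneCenter_le _).trans inf_le_left hu) hv

omit hE in
theorem Z_fixed {e z : G} (he : e ∈ E) (hz : z ∈ Z0 p E) : e * z * e⁻¹ = z := by
  rw [mem_centralizer_iff.1 (mem_inf.1 hz).2 e he, mul_inv_cancel_right]

theorem U_eq_W_of_generic (h : Q0 p E = U0 p E) : U0 p E = W0 p E := by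
  refine le_antisymm ?_ (W_le_U hE)
  exact le_of_eq (h.symm.trans (hE.2.2.1.symm.trans (congrArg (fun X : Subgroup G => ⁅X, E⁆) h)))

theorem U_dec {u : G} (hu : u ∈ U0 p E) : ∃ w ∈ W0 p E, ∃ z ∈ Z0 p E, w * z = u := by
  rcases exc_or_generic hE with h | ⟨F, i1, i2, ⟨D⟩⟩
  · exact ⟨u, (U_eq_W_of_generic hE h) ▸ hu, 1, one_mem _, mul_one u⟩
  · exact D.exists_wz hu

theorem W_eq : ⁅W0 p E, E⁆ = W0 p E := by
  refine le_antisymm (commutator_mono (W_le_U hE) le_rfl) (commutator_le.2 fun u hu e he => ?_)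
  obtain ⟨w, hw, z, hz, rfl⟩ := U_dec hE hu
  have : ⁅w * z, e⁆ = ⁅w, e⁆ := by
    have h1 : z * e * z⁻¹ = e := by
      rw [← mem_centralizer_iff.1 (mem_inf.1 hz).2 e he, mul_inv_cancel_right]
    simp only [commutatorElement_def]
    calc w * z * e * (w * z)⁻¹ * e⁻¹ = w * (z * e * z⁻¹) * w⁻¹ * e⁻¹ := by group
      _ = w * e * w⁻¹ * e⁻¹ := by rw [h1]
  rw [this]
  exact commutator_mem_commutator hw he

/-- `W_E / (W_E ∩ C(E))` is irreducible. -/
theorem W_irr {X : Subgroup G} (hXW : X ≤ W0 p E) (hEX : E ≤ normalizer (X : Set G)) :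
    X ≤ Z0 p E ∨ X = W0 p E := by
  have hEZ : E ≤ normalizer (Z0 p E : Set G) := le_normalizer_inf
    (le_normalizer.trans (normalizer_le_U hE))
    (le_normalizer.trans (BaumannBlockW.normalizer_le_normalizer_centralizer E))
  rcases (BaumannModule.good_of_block hE).irr (X ⊔ Z0 p E) le_sup_right
    (sup_le (hXW.trans (W_le_U hE)) inf_le_left)
    ((le_inf hEX hEZ).trans (BaumannBlockW.normalizer_inf_le_normalizer_sup _ _)) with h | h
  · exact Or.inl (le_sup_left.trans h.le)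
  · refine Or.inr (le_antisymm hXW (commutator_le.2 fun u hu e he => ?_))
    have hn : Z0 p E ≤ normalizer (X : Set G) := fun z hz => centralizer_le_normalizer _
      (mem_centralizer_iff.2 fun x hx => U_comm hE (W_le_U hE (hXW hx)) (mem_inf.1 hz).1)
    have hu' : u ∈ (X : Set G) * (Z0 p E : Set G) := by
      rw [← coe_mul_of_right_le_normalizer_left _ _ hn, h]; exact hu
    obtain ⟨x, hx, z, hz, rfl⟩ := hu'
    rw [commutatorElement_def]
    have h1 : z * e * z⁻¹ = e := by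
      rw [← mem_centralizer_iff.1 (mem_inf.1 hz).2 e he, mul_inv_cancel_right]
    rw [show x * z * e * (x * z)⁻¹ * e⁻¹ = x * ((z * e * z⁻¹) * x⁻¹ * e⁻¹) by group, h1]
    exact mul_mem hx (conj_mem (hEX he) (inv_mem hx))

theorem Q_le_C : Q0 p E ≤ centralizer (W0 p E : Set G) := fun _ hq =>
  mem_centralizer_iff.2 fun _ hw => (Q_comm_U hE hq (W_le_U hE hw)).symm

theorem inf_le_Q : E ⊓ centralizer (W0 p E : Set G) ≤ Q0 p E := by
  rintro e ⟨he, hec⟩
  refine (BaumannModule.good_of_block hE).ker e he fun u hu => ?_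
  obtain ⟨w, hw, z, hz, rfl⟩ := U_dec hE hu
  have h1 : e * (w * z) * e⁻¹ * (w * z)⁻¹ = 1 := by
    calc e * (w * z) * e⁻¹ * (w * z)⁻¹ = (e * w * e⁻¹) * (e * z * e⁻¹) * (z⁻¹ * w⁻¹) := by group
      _ = 1 := by
        rw [Z_fixed he hz, ← mem_centralizer_iff.1 hec w hw, mul_inv_cancel_right]
        group
  rw [h1]
  exact one_mem _

theorem normalizer_le_Z : normalizer (E : Set G) ≤ normalizer (Z0 p E : Set G) :=
  le_normalizer_inf (normalizer_le_U hE) (BaumannBlockW.normalizer_le_normalizer_centralizer E)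

/-- An element of `N(E)` trivial on `W_E` modulo `C(E)` centralises `W_E`. -/
theorem fix_of_trivial {g : G} (hg : g ∈ normalizer (E : Set G))
    (h : ∀ w ∈ W0 p E, g * w * g⁻¹ * w⁻¹ ∈ Z0 p E) : g ∈ centralizer (W0 p E : Set G) := by
  have hgW := normalizer_le_W hE hg
  suffices hle : W0 p E ≤ centralizer ({g} : Set G) from
    mem_centralizer_iff.2 fun w hw => mem_centralizer_singleton_iff.1 (hle hw)
  refine le_of_eq_of_le (W_eq hE).symm (commutator_le.2 fun w hw e he => mem_centralizer_singleton_iff.2 ?_)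
  set e' := g * e * g⁻¹ with he'
  have he'E : e' ∈ E := conj_mem hg he
  have hq : e⁻¹ * e' ∈ Q0 p E := by
    refine (BaumannModule.good_of_block hE).ker _ (mul_mem (inv_mem he) he'E) fun u hu => ?_
    obtain ⟨v, hv, z, hz, rfl⟩ := U_dec hE hu
    set a := e⁻¹ * e' with ha
    have haE : a ∈ E := mul_mem (inv_mem he) he'E
    rw [show a * (v * z) * a⁻¹ * (v * z)⁻¹ = (a * v * a⁻¹) * (a * z * a⁻¹) * (z⁻¹ * v⁻¹) by group,
      Z_fixed haE hz, mul_assoc, ← mul_assoc z, mul_inv_cancel, one_mul]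
    set z₁ := g⁻¹ * v * g * v⁻¹ with hz₁
    have hz₁Z : z₁ ∈ Z0 p E := by
      have h1 := h _ (conj_mem' hgW hv)
      have h2 := conj_mem' (normalizer_le_Z hE hg) h1
      have h3 := inv_mem (conj_mem (normalizer_le_Z hE hg) h2)
      rw [show (g * (g⁻¹ * (g * (g⁻¹ * v * g) * g⁻¹ * (g⁻¹ * v * g)⁻¹) * g) * g⁻¹)⁻¹ = g⁻¹ * v * g * v⁻¹ by group] at h3
      exact h3
    have hx : e * v * e⁻¹ ∈ W0 p E := conj_mem (normalizer_le_W hE (le_normalizer he)) hv
    have h4 : g * z₁ * g⁻¹ ∈ Z0 p E := conj_mem (normalizer_le_Z hE hg) hz₁Z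
    have h5 := h _ hx
    have e1 : e' * v * e'⁻¹ = (g * z₁ * g⁻¹) * (g * (e * v * e⁻¹) * g⁻¹ * (e * v * e⁻¹)⁻¹) * (e * v * e⁻¹) := by
      calc e' * v * e'⁻¹ = g * (e * (z₁ * v) * e⁻¹) * g⁻¹ := by rw [he', hz₁]; group
        _ = g * ((e * z₁ * e⁻¹) * (e * v * e⁻¹)) * g⁻¹ := by group
        _ = _ := by rw [Z_fixed he hz₁Z]; group
    have e2 : a * v * a⁻¹ * v⁻¹ = e⁻¹ * ((e' * v * e'⁻¹) * (e * v * e⁻¹)⁻¹) * e := by rw [ha]; group
    rw [e2, e1, mul_inv_cancel_right]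
    exact conj_mem' (normalizer_le_Z hE (le_normalizer he)) (mul_mem h4 h5)
  have hz := h w hw
  set z := g * w * g⁻¹ * w⁻¹ with hzdef
  have hw' : w⁻¹ ∈ W0 p E := inv_mem hw
  suffices e : g * ⁅w, e⁆ * g⁻¹ = ⁅w, e⁆ by exact (mul_inv_eq_iff_eq_mul.1 e).symm
  simp only [commutatorElement_def]
  calc g * (w * e * w⁻¹ * e⁻¹) * g⁻¹ = z * w * e' * w⁻¹ * z⁻¹ * e'⁻¹ := by rw [hzdef, he']; group
    _ = z * w * e' * w⁻¹ * e'⁻¹ * (e' * z⁻¹ * e'⁻¹) := by group
    _ = z * (w * e' * w⁻¹ * e'⁻¹) * z⁻¹ := by rw [Z_fixed he'E (inv_mem hz)]; group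
    _ = w * e' * w⁻¹ * e'⁻¹ := by
      rw [U_comm hE (mem_inf.1 hz).1 (W_le_U hE ?_), mul_inv_cancel_right]
      rw [show w * e' * w⁻¹ * e'⁻¹ = w * (e' * w⁻¹ * e'⁻¹) by group]
      exact mul_mem hw (conj_mem (normalizer_le_W hE (le_normalizer he'E)) hw')
    _ = w * e * ((e⁻¹ * e') * w⁻¹ * (e⁻¹ * e')⁻¹) * e⁻¹ := by group
    _ = w * e * w⁻¹ * e⁻¹ := by rw [Q_comm_U hE hq (W_le_U hE hw'), mul_inv_cancel_right]

omit hE in
theorem eq_one_of_isPGroup_residual (hres : Cfsg.pResidualOf p E = E) (h : IsPGroup p E) : E = ⊥ := by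
  refine le_bot_iff.1 (le_of_coprime_mem hres fun e he hco => mem_bot.2 ?_)
  obtain ⟨k, hk⟩ := IsPGroup.iff_orderOf.1 h ⟨e, he⟩
  rw [orderOf_mk] at hk
  exact orderOf_eq_one_iff.1 (Nat.eq_one_of_dvd_coprimes (hco.pow_right k) dvd_rfl (hk ▸ dvd_rfl))

theorem exists_not_mem_Q : ∃ e ∈ E, e ∉ Q0 p E := by
  by_contra hne
  push Not at hne
  refine hE.2.2.2.1 ?_
  rw [eq_one_of_isPGroup_residual hE.1 ((SylowIn.isPGroup_pCoreOf E).to_le hne)]
  exact commutator_bot_left _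

theorem exists_sec (hp2 : p ≠ 2) : ∃ (F : Type) (_ : Field F) (_ : Finite F),
    Nonempty (Sec F E (U0 p E) (Z0 p E)) ∧ ∃ n : ℕ, Nat.card F = p ^ n := by
  rcases hE.2.2.2.2 with ⟨F, i1, i2, n, hcard, -, hW, -⟩ | ⟨h, -⟩
  · exact ⟨F, i1, Finite.of_fintype F, Sec.nonempty hW, n, by rw [Nat.card_eq_fintype_card, hcard]⟩
  · exact absurd h hp2

omit hE in
theorem Sec.not_one_of_range {F : Type} [Field F] {U Z : Subgroup G} (S : Sec F E U Z) (hQU : ∀ q ∈ Q0 p E,
    ∀ u ∈ U, q * u = u * q) (e : ↥E) (he : (e : G) ∈ Q0 p E) : S.ρ e = 1 :=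
  S.rho_eq_one fun u => by
    rw [hQU _ he u u.2, mul_inv_cancel_right, mul_inv_cancel]
    exact one_mem _

/-- Some commutator of `E` lies outside `O_p(E)`, in odd characteristic. -/
theorem exists_comm_not_mem (hp2 : p ≠ 2) : ∃ a ∈ E, ∃ b ∈ E, a * b * a⁻¹ * b⁻¹ ∉ Q0 p E := by
  obtain ⟨F, i1, i2, ⟨S⟩, n, hn⟩ := exists_sec hE hp2
  have hQU : ∀ q ∈ Q0 p E, ∀ u ∈ U0 p E, q * u = u * q := fun q hq u hu => Q_comm_U hE hq hu
  have h2 : (2 : F) ≠ 0 := by
    intro h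
    cases nonempty_fintype F
    obtain ⟨k, hc, hk⟩ := FiniteField.card F (ringChar F)
    haveI := ringChar.charP F
    have h' : ((2 : ℕ) : F) = 0 := by exact_mod_cast h
    have hd := (CharP.cast_eq_zero_iff F (ringChar F) 2).1 h'
    rw [Nat.prime_dvd_prime_iff_eq hc Nat.prime_two] at hd
    rw [Nat.card_eq_fintype_card, hk, hd] at hn
    have : 2 ∣ p ^ n := hn ▸ dvd_pow_self 2 k.pos.ne'
    exact hp2 ((Nat.prime_dvd_prime_iff_eq Nat.prime_two hp.out).1 (Nat.prime_two.dvd_of_dvd_pow this)).symm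
  by_contra hne
  push Not at hne
  have hcomm : ∀ A ∈ S.ρ.range, ∀ B ∈ S.ρ.range, A * B = B * A := by
    rintro _ ⟨a, rfl⟩ _ ⟨b, rfl⟩
    have h := Sec.not_one_of_range S hQU (a * b * a⁻¹ * b⁻¹) (hne _ a.2 _ b.2)
    rw [map_mul, map_mul, map_mul, map_inv, map_inv, mul_inv_eq_one, mul_inv_eq_iff_eq_mul] at h
    exact h
  have hbot : ∀ x ∈ _root_.commutator (Matrix.SpecialLinearGroup (Fin 2) F),
      ∀ y ∈ _root_.commutator (Matrix.SpecialLinearGroup (Fin 2) F), x * y = y * x := fun x hx y hy =>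
    hcomm x (S.range ▸ hx) y (S.range ▸ hy)
  rcases lt_or_ge (Nat.card F) 4 with h4 | h4
  · have h3 : Nat.card F = 3 := by
      rcases n with - | - | n
      · have := Finite.one_lt_card (α := F); simp at hn; omega
      · have h2p : 2 ≤ p := hp.out.two_le
        simp at hn; omega
      · have h2p : 2 ≤ p := hp.out.two_le
        have h22 : p ^ 2 ≤ p ^ (n + 1 + 1) := Nat.pow_le_pow_right (by omega) (by omega)
        have h44 : 2 * 2 ≤ p * p := Nat.mul_le_mul h2p h2p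
        rw [pow_two] at h22
        rw [hn] at h4; omega
    cases nonempty_fintype F
    haveI : CharP F 3 := charP_of_card_eq_prime (hp := ⟨Nat.prime_three⟩) (by rw [← Nat.card_eq_fintype_card, h3])
    have h := hbot _ SympPlane.Setup.qI_mem _ SympPlane.Setup.qJ_mem
    have h00 := congrFun (congrFun (congrArg Subtype.val h) 0) 0
    change ((SympPlane.Setup.qI (F := F)).1 * (SympPlane.Setup.qJ (F := F)).1) 0 0 =
      ((SympPlane.Setup.qJ (F := F)).1 * (SympPlane.Setup.qI (F := F)).1) 0 0 at h00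
    simp [SympPlane.Setup.qI, SympPlane.Setup.qJ, Matrix.mul_apply, Fin.sum_univ_two] at h00
    exact SympPlane.Setup.two_ne (F := F) (by linear_combination h00)
  · have htop := SL2Semilinear.commutator_top h4
    have h := hbot (BaumannModule.up 1) (htop ▸ mem_top _) (BaumannModule.low 1) (htop ▸ mem_top _)
    have h00 := congrFun (congrFun (congrArg Subtype.val h) 0) 0
    change ((BaumannModule.up (1 : F)).1 * (BaumannModule.low (1 : F)).1) 0 0 =
      ((BaumannModule.low (1 : F)).1 * (BaumannModule.up (1 : F)).1) 0 0 at h00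
    simp [BaumannModule.up, BaumannModule.low, Matrix.mul_apply, Fin.sum_univ_two] at h00

/-- Not every square of `E` lies in `O_p(E)`. -/
theorem exists_sq_not_mem : ∃ e ∈ E, e * e ∉ Q0 p E := by
  by_contra hne
  push Not at hne
  by_cases hp2 : p = 2
  · obtain ⟨e, he, heQ⟩ := exists_not_mem_Q hE
    refine heQ (le_of_coprime_mem hE.1 (fun g hg hco => ?_) he)
    obtain ⟨m, hm⟩ := exists_pow_eq_self_of_coprime (x := g) (n := 2) (by rw [← hp2]; exact hco.symm)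
    rw [← hm]
    exact pow_mem (by rw [pow_two]; exact hne g hg) m
  · obtain ⟨a, ha, b, hb, hab⟩ := exists_comm_not_mem hE hp2
    refine hab ?_
    rw [show a * b * a⁻¹ * b⁻¹ = (a * a) * ((a⁻¹ * b) * (a⁻¹ * b)) * (b * b)⁻¹ by group]
    exact mul_mem (mul_mem (hne a ha) (hne _ (mul_mem (inv_mem ha) hb))) (inv_mem (hne b hb))

/-- `Ω₁(Z(O_p(G)))` is moved by `E` only inside `W_E`. -/
theorem V_comm (hG : centralizer (Cfsg.pCore p G : Set G) ≤ Cfsg.pCore p G) :
    E ≤ stab (Vc p G) (W0 p E) := by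
  haveI := Vc_normal (p := p) (G := G)
  refine le_stab_W hE (BaumannBlockW.le_normalizer_of_normal _ E) fun e he v hv => ?_
  set d := e * v * e⁻¹ * v⁻¹ with hd
  have hdQ : d ∈ Q0 p E := conj_pCore_mem hE he (Vc_le hv)
  have hdV : d ∈ Vc p G := mul_mem ((inferInstance : (Vc p G).Normal).conj_mem v hv e) (inv_mem hv)
  rcases exc_or_generic hE with h | ⟨F, i1, i2, ⟨D⟩⟩
  · rw [← h]; exact hdQ
  by_cases hs : ∀ e ∈ E, ∀ r ∈ Cfsg.pCore p G, e * r * e⁻¹ * r⁻¹ ∈ U0 p E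
  · exact hs e he v (Vc_le hv)
  · exact mem_omegaOneCenter hdQ (fun q hq => Vc_central hdV (Q_le_R D hG hs hq))
      (BaumannBlockW.pow_eq_one_of_mem _ hdV)

theorem Q_le_R_of_subnormal (hs : E.IsSubnormal) : Q0 p E ≤ Cfsg.pCore p G := by
  refine Residual.le_pCore_of_isSubnormal (IsSubnormal.step _ E (SylowIn.pCoreOf_le E) hs ?_)
    (SylowIn.isPGroup_pCoreOf E)
  exact (normal_subgroupOf_iff_le_normalizer (SylowIn.pCoreOf_le E)).2
    (le_normalizer.trans (BaumannBlockW.normalizer_le_normalizer_pCoreOf E))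

theorem not_small (hQR : Q0 p E ≤ Cfsg.pCore p G) (hne : Q0 p E ≠ U0 p E) :
    ¬ ∀ e ∈ E, ∀ r ∈ Cfsg.pCore p G, e * r * e⁻¹ * r⁻¹ ∈ U0 p E := fun h => by
  refine hne (le_antisymm ?_ ((BaumannBlockW.omegaOneCenter_le _).trans inf_le_left))
  refine le_of_eq_of_le hE.2.2.1.symm (commutator_le.2 fun q hq e he => ?_)
  have := inv_mem (h e he q (hQR hq))
  rw [commutatorElement_def]
  simpa [mul_assoc] using this

end Block

/-! ### Exceptional blocks -/

section Exceptional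

variable {F : Type} [Field F] [Finite F] {T : Sylow p G} {E : Subgroup G}
variable (D : Exc F p (T : Subgroup G) E)
include D

theorem Exc.Q_ne_U : Q0 p E ≠ U0 p E := fun h => by
  obtain ⟨v, hv⟩ : ∃ v : Fin 2 → F, v ≠ 0 := exists_ne 0
  obtain ⟨q, hq⟩ := D.SQ.exists_co v
  exact hv (hq ▸ (D.SQ.co_eq_zero q).2 (h ▸ q.2))

theorem Exc.three_le : 3 ≤ Nat.card F := by
  obtain ⟨n, hn, -⟩ := D.card
  rw [D.p_eq] at hn
  rcases n with - | n
  · have := Finite.one_lt_card (α := F); omega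
  · rw [hn, pow_succ]; exact Nat.le_mul_of_pos_left _ (by positivity)

/-- An element trivial on `Q / U` fixes `[Q, Q]`. -/
theorem Exc.fix_Z {g : G} (hg : g ∈ normalizer (E : Set G))
    (h : ∀ x ∈ Q0 p E, g * x * g⁻¹ * x⁻¹ ∈ U0 p E) {z : G} (hz : z ∈ Z0 p E) : g * z * g⁻¹ = z := by
  have hle : Z0 p E ≤ centralizer ({g} : Set G) := by
    rw [← D.comm]
    refine commutator_le.2 fun x hx y hy => mem_centralizer_singleton_iff.2 ?_
    suffices e : g * ⁅x, y⁆ * g⁻¹ = ⁅x, y⁆ by exact (mul_inv_eq_iff_eq_mul.1 e).symm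
    have hgQ := BaumannBlockW.normalizer_le_normalizer_pCoreOf (p := p) E hg
    set a := g * x * g⁻¹ * x⁻¹ with ha
    set b := g * y * g⁻¹ * y⁻¹ with hb
    have haU := h x hx
    have hbU := h y hy
    rw [show g * ⁅x, y⁆ * g⁻¹ = ⁅a * x, b * y⁆ by rw [ha, hb]; simp only [commutatorElement_def]; group]
    have hUR : ∀ u ∈ U0 p E, ∀ r ∈ Q0 p E, r * u = u * r := fun u hu r hr => D.Q_comm_U hr hu
    have hcQ : ∀ s ∈ Q0 p E, ∀ t ∈ Q0 p E, ⁅s, t⁆ ∈ U0 p E := fun s hs t ht =>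
      (mem_inf.1 (D.comm.le (commutator_mem_commutator hs ht))).1
    have h1 : ∀ s ∈ Q0 p E, ∀ u ∈ U0 p E, ⁅u, s⁆ = 1 ∧ ⁅s, u⁆ = 1 := fun s hs u hu =>
      ⟨commutatorElement_eq_one_iff_mul_comm.2 (D.Q_comm_U hs hu).symm,
        commutatorElement_eq_one_iff_mul_comm.2 (D.Q_comm_U hs hu)⟩
    rw [com_mul_left hUR D.U_le (D.U_le haU) (hcQ _ (D.U_le haU) _ (mul_mem (D.U_le hbU) hy))
      (hcQ _ hx _ (mul_mem (D.U_le hbU) hy)), (h1 _ (mul_mem (D.U_le hbU) hy) a haU).1, one_mul,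
      com_mul_right hUR (D.U_le hbU) (hcQ _ hx _ hy), (h1 x hx b hbU).2, one_mul]
  rw [mul_inv_eq_iff_eq_mul]
  exact (mem_centralizer_singleton_iff.1 (hle hz)).symm

theorem Exc.exists_scalar {g : G} (hg : g ∈ normalizer (E : Set G))
    (hc : ∀ e ∈ E, g * e * g⁻¹ * e⁻¹ ∈ Q0 p E) :
    ∃ c : F, ∀ v, D.SQ.actHom ⟨g, (D.normalizer_E_le hg).2⟩ v = c • v := by
  refine SL2Semilinear.scalar_of_comm (Exc.three_le D) _ fun M hM v => ?_
  obtain ⟨e, rfl⟩ := D.SQ.mem_range M hM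
  have h : g * e * g⁻¹ ∈ E := conj_mem hg e.2
  rw [← D.SQ.actHom_equivariant ⟨g, (D.normalizer_E_le hg).2⟩ e h]
  refine congrArg (fun M : Matrix.SpecialLinearGroup (Fin 2) F => M.1.mulVec _) ?_
  rw [← mul_inv_eq_one, ← map_inv, ← map_mul, D.rhoQ_eq_one_iff]
  exact hc e e.2

variable (hG : centralizer (Cfsg.pCore p G : Set G) ≤ Cfsg.pCore p G)
include hG

/-- A `p'`-element of `C(W_E)` commuting with `E` modulo `Q` and fixing `Z(E)` centralises `Q`. -/
theorem Exc.centralises {g : G} (hg : g ∈ normalizer (E : Set G))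
    (hgW : g ∈ centralizer (W0 p E : Set G)) (hco : (orderOf g).Coprime p)
    (hc : ∀ e ∈ E, g * e * g⁻¹ * e⁻¹ ∈ Q0 p E) (hZ : ∀ z ∈ Z0 p E, g * z * g⁻¹ = z) :
    ∀ x ∈ Q0 p E, g * x * g⁻¹ = x := by
  haveI := D.charP
  obtain ⟨c, hc'⟩ := Exc.exists_scalar D hg hc
  obtain ⟨ζ, -, -, hdet⟩ := exists_form D
  set gn : D.SQ.nrm := ⟨g, (D.normalizer_E_le hg).2⟩
  have hcc : c * c = 1 := by
    obtain ⟨x, hx⟩ := D.SQ.exists_co ![1, 0]
    obtain ⟨y, hy⟩ := D.SQ.exists_co ![0, 1]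
    have h1 := hdet (D.SQ.conjU gn x) (D.SQ.conjU gn y)
    have hxy : ⁅(x : G), (y : G)⁆ ∈ Z0 p E := D.comm.le (commutator_mem_commutator x.2 y.2)
    have e : ⁅((D.SQ.conjU gn x : ↥(Q0 p E)) : G), ((D.SQ.conjU gn y : ↥(Q0 p E)) : G)⁆ =
        g * ⁅(x : G), (y : G)⁆ * g⁻¹ := by
      simp only [commutatorElement_def, Sec.conjU, gn]; group
    rw [e, hZ _ hxy, hdet, ← D.SQ.actHom_co, ← D.SQ.actHom_co, hc', hc', hx, hy] at h1
    simp [SympPlane.det2] at h1
    exact h1.symm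
  have hU : ∀ u ∈ U0 p E, g * u * g⁻¹ = u := fun u hu => by
    obtain ⟨w, hw, z, hz, rfl⟩ := D.exists_wz hu
    rw [show g * (w * z) * g⁻¹ = (g * w * g⁻¹) * (g * z * g⁻¹) by group, hZ z hz,
      ← mem_centralizer_iff.1 hgW w hw, mul_inv_cancel_right]
  rcases mul_self_eq_one_iff.1 hcc with h | h
  · intro x hx
    refine commute_of_coprime ((SylowIn.isPGroup_pCoreOf E).to_le D.U_le) hco ?_ hU
    have h1 : D.SQ.actHom gn = 1 := end_ext fun v => by rw [hc', h, one_smul, end_one_apply]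
    exact D.SQ.mem_of_actHom_eq_one h1 ⟨x, hx⟩
  · refine (D.no_inverter hG hgW hg fun x hx => ?_).elim
    refine (D.SQ.co_eq_zero (D.SQ.conjU gn ⟨x, hx⟩ * ⟨x, hx⟩)).1 ?_
    rw [Sec.co_mul, ← D.SQ.actHom_co, hc', h, neg_one_smul, neg_add_cancel]

end Exceptional

/-! ### A block normalising another -/

section Pair

variable {T T' : Sylow p G} {E F : Subgroup G} (hG : centralizer (Cfsg.pCore p G : Set G) ≤ Cfsg.pCore p G)
  (hE : Cfsg.IsBaumannBlock p (T : Subgroup G) E) (hF : Cfsg.IsBaumannBlock p (T' : Subgroup G) F)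
  (hQE : Q0 p E ≤ Cfsg.pCore p G) (hFE : F ≤ normalizer (E : Set G))
include hG hE hF hQE hFE

/-- Either `F` centralises `E`, or `W_F ≤ W_E`. -/
theorem commutes_or_le : ⁅F, E⁆ = ⊥ ∨ W0 p F ≤ W0 p E := by
  have hFW : F ≤ normalizer (W0 p E : Set G) := hFE.trans (normalizer_le_W hE)
  have hWV : W0 p E ≤ Vc p G := BaumannBlockW.w_le hG hE
  have hcomm : ∀ f ∈ F, ∀ w ∈ W0 p E, f * w * f⁻¹ * w⁻¹ ∈ W0 p E ⊓ W0 p F := fun f hf w hw =>
    mem_inf.2 ⟨mul_mem (conj_mem (hFW hf) hw) (inv_mem hw), stab_apply (V_comm hF hG hf) (hWV hw)⟩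
  rcases W_irr hF (X := W0 p E ⊓ W0 p F) inf_le_right
    (le_normalizer_inf hFW (le_normalizer.trans (normalizer_le_W hF))) with hI | hI
  swap
  · exact Or.inr (hI ▸ inf_le_left)
  left
  set C := centralizer (W0 p E : Set G) with hC
  -- `F` centralises `W_E`
  have hFC : F ≤ C := le_of_coprime_mem hF.1 fun f hf hco => mem_centralizer_iff.2 fun w hw => by
    refine (mul_inv_eq_iff_eq_mul.1 ?_).symm
    refine commute_of_coprime ((isPGroup_U hE).to_le (W_le_U hE)) hco (mem_inf.1 (hcomm f hf w hw)).1 ?_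
    intro y hy
    refine commute_of_coprime ((isPGroup_U hE).to_le (inf_le_left.trans (W_le_U hE))) hco (hcomm f hf y hy) ?_
    intro z hz
    exact Z_fixed hf (hI hz)
  have hcQ : ∀ f ∈ F, ∀ e ∈ E, f * e * f⁻¹ * e⁻¹ ∈ Q0 p E := fun f hf e he => by
    refine inf_le_Q hE (mem_inf.2 ⟨mul_mem (conj_mem (hFE hf) he) (inv_mem he), ?_⟩)
    rw [show f * e * f⁻¹ * e⁻¹ = f * (e * f⁻¹ * e⁻¹) by group]
    exact mul_mem (hFC hf) (conj_mem (normalizer_le_C hE (le_normalizer he)) (inv_mem (hFC hf)))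
  have hQfix : ∀ f ∈ F, (orderOf f).Coprime p → ∀ x ∈ Q0 p E, f * x * f⁻¹ = x := by
    intro f hf hco
    rcases exc_or_generic hE with h | ⟨K, i1, i2, ⟨D⟩⟩
    · intro x hx
      rw [mul_inv_eq_iff_eq_mul]
      exact (mem_centralizer_iff.1 (hFC hf) x ((h.trans (U_eq_W_of_generic hE h)).le hx)).symm
    have hbig := not_small hE hQE (Exc.Q_ne_U D)
    have hZV : ∀ z ∈ Z0 p E, z ∈ Vc p G := fun z hz => mem_omegaOneCenter
      (U_le_R D hG hbig (mem_inf.1 hz).1) (fun r hr => U_central D hG hbig (mem_inf.1 hz).1 hr)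
      (BaumannBlockW.pow_eq_one_of_mem _ (mem_inf.1 hz).1)
    have hZn : F ≤ normalizer (Z0 p E : Set G) := hFE.trans (normalizer_le_Z hE)
    rcases W_irr hF (X := Z0 p E ⊓ W0 p F) inf_le_right
      (le_normalizer_inf hZn (le_normalizer.trans (normalizer_le_W hF))) with hJ | hJ
    · refine Exc.centralises D hG (hFE hf) (hFC hf) hco (hcQ f hf) fun z hz => ?_
      refine commute_of_coprime ((isPGroup_U hE).to_le (inf_le_left.trans inf_le_left) :
        IsPGroup p ↥(Z0 p E ⊓ W0 p F)) hco (mem_inf.2 ⟨mul_mem (conj_mem (hZn hf) hz) (inv_mem hz),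
          stab_apply (V_comm hF hG hf) (hZV z hz)⟩) fun y hy => Z_fixed hf (hJ hy)
    · exfalso
      obtain ⟨a, ha, b, hb, hab⟩ := exists_comm_not_mem hF (by rw [D.p_eq]; decide)
      refine hab (inf_le_Q hF (mem_inf.2
        ⟨mul_mem (mul_mem (mul_mem ha hb) (inv_mem ha)) (inv_mem hb), mem_centralizer_iff.2 fun w hw => ?_⟩))
      obtain ⟨c₁, h₁⟩ := Exc.exists_scalar D (hFE ha) (hcQ a ha)
      obtain ⟨c₂, h₂⟩ := Exc.exists_scalar D (hFE hb) (hcQ b hb)
      set na : D.SQ.nrm := ⟨a, (D.normalizer_E_le (hFE ha)).2⟩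
      set nb : D.SQ.nrm := ⟨b, (D.normalizer_E_le (hFE hb)).2⟩
      have hcomm' : D.SQ.actHom (na * nb * na⁻¹ * nb⁻¹) = 1 := by
        have hab' : D.SQ.actHom na * D.SQ.actHom nb = D.SQ.actHom nb * D.SQ.actHom na := end_ext fun v => by
          rw [end_mul_apply, end_mul_apply, h₁, h₂, h₁, h₂, smul_comm]
        simp only [map_mul]
        rw [hab', mul_assoc (D.SQ.actHom nb), ← map_mul, mul_inv_cancel, map_one, mul_one,
          ← map_mul, mul_inv_cancel, map_one]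
      have hwZ : w ∈ Z0 p E := (mem_inf.1 (hJ.symm.le hw)).1
      refine (mul_inv_eq_iff_eq_mul.1 (Exc.fix_Z D ?_ (fun x hx => ?_) hwZ)).symm
      · exact hFE (mul_mem (mul_mem (mul_mem ha hb) (inv_mem ha)) (inv_mem hb))
      · exact D.SQ.mem_of_actHom_eq_one hcomm' ⟨x, hx⟩
  refine commutator_eq_bot_iff_le_centralizer.2 (le_of_coprime_mem hF.1 fun f hf hco =>
    mem_centralizer_iff.2 fun e he => ?_)
  exact (mul_inv_eq_iff_eq_mul.1 (commute_of_coprime (SylowIn.isPGroup_pCoreOf E) hco (hcQ f hf e he)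
    (hQfix f hf hco))).symm

/-- If `W_F ≤ W_E` and `F ≤ E C(W_E)`, then `F ≤ E`. -/
theorem le_of_le_sup (hW : W0 p F ≤ W0 p E) (hle : F ≤ E ⊔ centralizer (W0 p E : Set G)) : F ≤ E := by
  haveI := SylowIn.pCore_normal G p
  set R := Cfsg.pCore p G with hR
  set C := centralizer (W0 p E : Set G) with hC
  have hCE : C ≤ normalizer (E : Set G) := centralizer_le_normalizer_block hG hE
  have hCF : C ≤ normalizer (F : Set G) :=
    (centralizer_le hW).trans (centralizer_le_normalizer_block hG hF)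
  set E' := E ⊓ (F ⊔ C) with hE'
  have hXE : F ⊔ E' ≤ normalizer (E : Set G) := sup_le hFE (inf_le_left.trans le_normalizer)
  have hXF : F ⊔ E' ≤ normalizer (F : Set G) := sup_le le_normalizer (inf_le_right.trans (sup_le le_normalizer hCF))
  set X := C ⊓ (F ⊔ E') with hX
  -- the part of `O_p(F)` below `O_p(G)` reached by `F`
  obtain ⟨QF, hQFR, hQFn, hQFs, hQFfix⟩ : ∃ QF : Subgroup G, QF ≤ R ∧
      normalizer (F : Set G) ≤ normalizer (QF : Set G) ∧ (∀ f ∈ F, ∀ r ∈ R, f * r * f⁻¹ * r⁻¹ ∈ QF) ∧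
      ∀ c ∈ X, (orderOf c).Coprime p → ∀ x ∈ QF, c * x * c⁻¹ = x := by
    by_cases hs : ∀ f ∈ F, ∀ r ∈ R, f * r * f⁻¹ * r⁻¹ ∈ U0 p F
    · refine ⟨W0 p F, W_le_core hF hG, normalizer_le_W hF, fun f hf r hr => ?_, fun c hc _ x hx => ?_⟩
      · exact stab_apply (le_stab_W hF (BaumannBlockW.le_normalizer_of_normal R F) hs hf) hr
      · rw [mul_inv_eq_iff_eq_mul]
        exact (mem_centralizer_iff.1 (mem_inf.1 hc).1 x (hW hx)).symm
    rcases exc_or_generic hF with h | ⟨K, i1, i2, ⟨D⟩⟩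
    · exact absurd (fun f hf r hr => h ▸ conj_pCore_mem hF hf hr) hs
    refine ⟨Q0 p F, Q_le_R D hG hs, BaumannBlockW.normalizer_le_normalizer_pCoreOf F,
      fun f hf r hr => conj_pCore_mem hF hf hr, fun c hc hco => ?_⟩
    obtain ⟨hcC, hcX⟩ := mem_inf.1 hc
    have hcN := hXF hcX
    refine Exc.centralises D hG hcN (centralizer_le hW hcC) hco (fun f hf => ?_) fun z hz => ?_
    · refine inf_le_Q hF (mem_inf.2 ⟨mul_mem (conj_mem hcN hf) (inv_mem hf), ?_⟩)
      rw [show c * f * c⁻¹ * f⁻¹ = c * (f * c⁻¹ * f⁻¹) by group]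
      exact mul_mem (centralizer_le hW hcC)
        (conj_mem (normalizer_le_C hF (le_normalizer hf)) (inv_mem (centralizer_le hW hcC)))
    have hZV : z ∈ Vc p G := mem_omegaOneCenter
      (U_le_R D hG hs (mem_inf.1 hz).1) (fun r hr => U_central D hG hs (mem_inf.1 hz).1 hr)
      (BaumannBlockW.pow_eq_one_of_mem _ (mem_inf.1 hz).1)
    set J := W0 p E ⊓ Z0 p F with hJ
    have hJn : F ⊔ E' ≤ normalizer (J : Set G) := le_normalizer_inf (hXE.trans (normalizer_le_W hE))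
      (hXF.trans (normalizer_le_Z hF))
    have hle' : F ⊔ E' ≤ stab (Z0 p F) J := sup_le
      (fun f hf => mem_stab (normalizer_le_Z hF (le_normalizer hf)) (hJn (mem_sup_left hf)) fun y hy => by
        rw [Z_fixed hf hy, mul_inv_cancel]; exact one_mem _)
      (fun e he => by
        have heN : e ∈ normalizer (Z0 p F : Set G) := normalizer_le_Z hF (hXF (mem_sup_right he))
        refine mem_stab heN (hJn (mem_sup_right he)) fun y hy =>
          mem_inf.2 ⟨stab_apply (V_comm hE hG (mem_inf.1 he).1) ?_, mul_mem (conj_mem heN hy) (inv_mem hy)⟩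
        exact mem_omegaOneCenter (U_le_R D hG hs (mem_inf.1 hy).1)
          (fun r hr => U_central D hG hs (mem_inf.1 hy).1 hr) (BaumannBlockW.pow_eq_one_of_mem _ (mem_inf.1 hy).1))
    refine commute_of_coprime ((isPGroup_U hE).to_le (inf_le_left.trans (W_le_U hE)) : IsPGroup p J) hco
      (stab_apply (hle' hcX) hz) fun y hy => ?_
    rw [mul_inv_eq_iff_eq_mul]
    exact (mem_centralizer_iff.1 hcC y (mem_inf.1 hy).1).symm
  set H := Q0 p E ⊔ QF with hH
  have hHn : F ⊔ E' ≤ normalizer (H : Set G) :=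
    (le_inf (hXE.trans (BaumannBlockW.normalizer_le_normalizer_pCoreOf E)) (hXF.trans hQFn)).trans
      (BaumannBlockW.normalizer_inf_le_normalizer_sup _ _)
  have hst : F ⊔ E' ≤ stab R H := sup_le
    (fun f hf => mem_stab (BaumannBlockW.le_normalizer_of_normal R F hf) (hHn (mem_sup_left hf))
      fun r hr => mem_sup_right (hQFs f hf r hr))
    (fun e he => mem_stab (BaumannBlockW.le_normalizer_of_normal R E' he) (hHn (mem_sup_right he))
      fun r hr => mem_sup_left (conj_pCore_mem hE (mem_inf.1 he).1 hr))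
  have hXp : IsPGroup p X := isPGroup_of_coprime fun c hc hco => by
    obtain ⟨hcC, hcX⟩ := mem_inf.1 hc
    have hfixQ : ∀ x ∈ Q0 p E, c * x * c⁻¹ = x := by
      rcases exc_or_generic hE with h | ⟨K, i1, i2, ⟨D⟩⟩
      · intro x hx
        rw [mul_inv_eq_iff_eq_mul]
        exact (mem_centralizer_iff.1 hcC x ((h.trans (U_eq_W_of_generic hE h)).le hx)).symm
      have hbig := not_small hE hQE (Exc.Q_ne_U D)
      refine Exc.centralises D hG (hXE hcX) hcC hco (fun e he => ?_) fun z hz => ?_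
      · refine inf_le_Q hE (mem_inf.2 ⟨mul_mem (conj_mem (hXE hcX) he) (inv_mem he), ?_⟩)
        rw [show c * e * c⁻¹ * e⁻¹ = c * (e * c⁻¹ * e⁻¹) by group]
        exact mul_mem hcC (conj_mem (normalizer_le_C hE (le_normalizer he)) (inv_mem hcC))
      have hle' : F ⊔ E' ≤ centralizer (Z0 p E : Set G) := sup_le (fun f hf => by
          refine mem_centralizer_iff.2 fun y hy => ?_
          have hyV : y ∈ Vc p G := mem_omegaOneCenter (U_le_R D hG hbig (mem_inf.1 hy).1)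
            (fun r hr => U_central D hG hbig (mem_inf.1 hy).1 hr) (BaumannBlockW.pow_eq_one_of_mem _ (mem_inf.1 hy).1)
          have h0 : f * y * f⁻¹ * y⁻¹ ∈ W0 p E ⊓ Z0 p E := mem_inf.2 ⟨hW (stab_apply (V_comm hF hG hf) hyV),
            mul_mem (conj_mem (normalizer_le_Z hE (hFE hf)) hy) (inv_mem hy)⟩
          rw [D.disjoint, mem_bot, mul_inv_eq_one, mul_inv_eq_iff_eq_mul] at h0
          exact h0.symm)
        (inf_le_left.trans (Subgroup.le_centralizer_iff.1 inf_le_right))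
      rw [mul_inv_eq_iff_eq_mul]
      exact (mem_centralizer_iff.1 (hle' hcX) z hz).symm
    have hfixH : H ≤ centralizer ({c} : Set G) := sup_le
      (fun x hx => mem_centralizer_singleton_iff.2 (mul_inv_eq_iff_eq_mul.1 (hfixQ x hx)).symm)
      (fun x hx => mem_centralizer_singleton_iff.2 (mul_inv_eq_iff_eq_mul.1 (hQFfix c hc hco x hx)).symm)
    have hHR : H ≤ R := sup_le hQE hQFR
    have hfix : ∀ x ∈ H, c * x * c⁻¹ = x := fun x hx => by
      rw [mul_inv_eq_iff_eq_mul]; exact (mem_centralizer_singleton_iff.1 (hfixH hx)).symm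
    exact eq_one_of_stab (SylowIn.isPGroup_pCore G p) hG hHR hHR hHR hco hfix
      (fun x hx => by rw [hfix x hx, mul_inv_cancel]; exact one_mem _)
      (fun x hx => by rw [hfix x hx, mul_inv_cancel]; exact one_mem _)
      fun r hr => stab_apply (hst hcX) hr
  have hFX : F ≤ E ⊔ X := by
    intro f hf
    have h : f ∈ (E : Set G) * (C : Set G) := by
      rw [← coe_mul_of_right_le_normalizer_left E C hCE]; exact hle hf
    obtain ⟨e, he, c, hc, rfl⟩ := h
    have he' : e ∈ E' := mem_inf.2 ⟨he, by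
      simpa using mul_mem (mem_sup_left (T := C) hf) (inv_mem (mem_sup_right (S := F) hc))⟩
    refine mul_mem (mem_sup_left he) (mem_sup_right (mem_inf.2 ⟨hc, ?_⟩))
    simpa using mul_mem (inv_mem (mem_sup_right (S := F) he')) (mem_sup_left (T := E') hf)
  exact le_of_coprime_mem hF.1 fun f hf hco =>
    mem_of_coprime_sup hXp (inf_le_left.trans hCE) (hFX hf) hco

end Pair

end CfsgLib.LocalEvenB.BlockModule
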