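import Cfsg.Agent.Lib.LocalEvenB.BlockModule

/-!
What is used of the action of the normaliser of a block on its module, and general lemmas on that module.
-/

set_option autoImplicit false
set_option linter.style.haveILetI false
set_option linter.unusedSectionVars false

namespace CfsgLib.LocalEvenB.BlockShape

universe u

open Subgroup CfsgLib.LocalEven CfsgLib.LocalEvenB.BlockTrick CfsgLib.LocalEvenB.BlockCentralizer
  CfsgLib.LocalEvenB.BlockModule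
open scoped Pointwise

variable {G : Type u} [Group G] [Finite G] {p : ℕ} [hp : Fact p.Prime]

/-- The properties of the action of `N(E)` on `W_E`. -/
structure Shape (p : ℕ) (E lin : Subgroup G) : Prop where
  le : lin ≤ normalizer (E : Set G)
  norm : normalizer (E : Set G) ≤ normalizer (lin : Set G)
  coprime_mem : ∀ g ∈ lin, (orderOf g).Coprime p → g ∈ E ⊔ centralizer (W0 p E : Set G)
  conj_le : ∀ x ∈ normalizer (W0 p E : Set G), x ∈ normalizer ((W0 p E ⊓ Z0 p E : Subgroup G) : Set G) →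
    E.map (MulAut.conj x).toMonoidHom ≤ normalizer (E : Set G) → E.map (MulAut.conj x).toMonoidHom ≤ lin
  index : 4 * Nat.card ↥(W0 p E ⊓ Z0 p E) ≤ Nat.card ↥(W0 p E)
  small : ∀ A ≤ normalizer (E : Set G), Cfsg.IsElementaryAbelian p A → ∀ K ≤ W0 p E,
    (∀ w ∈ K, ∀ a ∈ A, a * w * a⁻¹ * w⁻¹ ∈ Z0 p E) →
    2 * (Nat.card A * Nat.card K * Nat.card ↥(W0 p E ⊓ Z0 p E)) <
      Nat.card ↥(A ⊓ centralizer (W0 p E : Set G)) * (Nat.card ↥(W0 p E) * Nat.card ↥(W0 p E))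
  baumann_le : ∀ T' : Sylow p G, Cfsg.thompsonSubgroupOf p (T' : Subgroup G) ≤ normalizer (E : Set G) →
    ¬ Cfsg.thompsonSubgroupOf p (T' : Subgroup G) ≤ centralizer (W0 p E : Set G) →
    Cfsg.baumannSubgroupOf p (T' : Subgroup G) ⊓ normalizer (E : Set G) ≤ lin
  exists_fixed : ∀ T' : Sylow p G, Cfsg.thompsonSubgroupOf p (T' : Subgroup G) ≤ normalizer (E : Set G) →
    ¬ Cfsg.thompsonSubgroupOf p (T' : Subgroup G) ≤ centralizer (W0 p E : Set G) →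
    ∀ S : Subgroup G, IsPGroup p S → S ≤ normalizer (E : Set G) →
      Cfsg.thompsonSubgroupOf p (T' : Subgroup G) ≤ S → ∃ z ∈ W0 p E, z ∉ Z0 p E ∧ ∀ s ∈ S, s * z * s⁻¹ = z

theorem isEA_sup {X Y : Subgroup G} (hX : Cfsg.IsElementaryAbelian p X) (hY : Cfsg.IsElementaryAbelian p Y)
    (h : ∀ x ∈ X, ∀ y ∈ Y, x * y = y * x) : Cfsg.IsElementaryAbelian p (X ⊔ Y : Subgroup G) := by
  have hn : Y ≤ normalizer (X : Set G) := fun y hy => centralizer_le_normalizer _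
    (mem_centralizer_iff.2 fun x hx => h x hx y hy)
  have hmem : ∀ g ∈ X ⊔ Y, ∃ x ∈ X, ∃ y ∈ Y, x * y = g := fun g hg => by
    have : g ∈ (X : Set G) * (Y : Set G) := by rw [← coe_mul_of_right_le_normalizer_left X Y hn]; exact hg
    obtain ⟨x, hx, y, hy, rfl⟩ := this
    exact ⟨x, hx, y, hy, rfl⟩
  have hX' : ∀ a ∈ X, ∀ b ∈ X, Commute a b := fun a ha b hb => Fusion.Thompson.mul_comm_of_isEA hX ha hb
  have hY' : ∀ a ∈ Y, ∀ b ∈ Y, Commute a b := fun a ha b hb => Fusion.Thompson.mul_comm_of_isEA hY ha hb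
  refine ⟨IsMulCommutative.of_comm fun a b => Subtype.ext ?_, fun g hg => ?_⟩
  · obtain ⟨x, hx, y, hy, hxy⟩ := hmem a a.2
    obtain ⟨x', hx', y', hy', hxy'⟩ := hmem b b.2
    simp only [Subgroup.coe_mul, ← hxy, ← hxy']
    exact ((hX' x hx x' hx').mul_right (h x hx y' hy')).mul_left
      ((show Commute y x' from (h x' hx' y hy).symm).mul_right (hY' y hy y' hy')) |>.eq
  · obtain ⟨x, hx, y, hy, rfl⟩ := hmem g hg
    rw [(show Commute x y from h x hx y hy).mul_pow, hX.2 x hx, hY.2 y hy, one_mul]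

theorem isEA_of_comm {X : Subgroup G} (hc : ∀ a ∈ X, ∀ b ∈ X, a * b = b * a) (hpow : ∀ a ∈ X, a ^ p = 1) :
    Cfsg.IsElementaryAbelian p X :=
  ⟨IsMulCommutative.of_comm fun a b => Subtype.ext (hc a a.2 b b.2), hpow⟩

/-- A maximal elementary abelian subgroup weighs at least as much as a module it normalises. -/
theorem weight {A V : Subgroup G} (hA : A ∈ Cfsg.maxElementaryAbelianSubgroups p G)
    (hV : Cfsg.IsElementaryAbelian p V) :
    Nat.card ↥(A ⊓ centralizer (V : Set G)) * Nat.card V ≤ Nat.card A * Nat.card ↥(V ⊓ centralizer (A : Set G)) := by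
  set B := A ⊓ centralizer (V : Set G) with hB
  have hBV : ∀ v ∈ V, ∀ b ∈ B, v * b = b * v := fun v hv b hb => mem_centralizer_iff.1 (mem_inf.1 hb).2 v hv
  have hea := isEA_sup hV (Fusion.Thompson.isEA_le hA.1 (inf_le_left : B ≤ A)) hBV
  have hn : B ≤ normalizer (V : Set G) := inf_le_right.trans (centralizer_le_normalizer _)
  calc Nat.card B * Nat.card V = Nat.card ↥(V ⊔ B) * Nat.card ↥(V ⊓ B) := by
        rw [Fusion.Thompson.card_sup_mul_card_inf hn, mul_comm]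
    _ ≤ Nat.card A * Nat.card ↥(V ⊓ centralizer (A : Set G)) := by
      refine Nat.mul_le_mul (hA.2 _ hea) (card_le_of_le fun x hx => mem_inf.2 ⟨hx.1, mem_centralizer_iff.2 ?_⟩)
      exact fun a ha => Fusion.Thompson.mul_comm_of_isEA hA.1 ha (mem_inf.1 hx.2).1

/-- Conjugation by elements congruent modulo the centraliser agrees. -/
theorem conj_eq {X : Subgroup G} {g h x : G} (hgh : g⁻¹ * h ∈ centralizer (X : Set G)) (hx : x ∈ X) :
    g * x * g⁻¹ = h * x * h⁻¹ := by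
  have h1 := mem_centralizer_iff.1 hgh x hx
  calc g * x * g⁻¹ = g * (x * (g⁻¹ * h)) * h⁻¹ := by group
    _ = g * (g⁻¹ * h * x) * h⁻¹ := by rw [h1]
    _ = h * x * h⁻¹ := by group

section Block

variable {T : Sylow p G} {E : Subgroup G} (hE : Cfsg.IsBaumannBlock p (T : Subgroup G) E)
include hE

theorem W_pow {w : G} (hw : w ∈ W0 p E) : w ^ p = 1 :=
  BaumannBlockW.pow_eq_one_of_mem _ (W_le_U hE hw)

theorem W_comm {v w : G} (hv : v ∈ W0 p E) (hw : w ∈ W0 p E) : v * w = w * v :=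
  U_comm hE (W_le_U hE hv) (W_le_U hE hw)

theorem W_isEA : Cfsg.IsElementaryAbelian p (W0 p E) :=
  isEA_of_comm (fun _ ha _ hb => W_comm hE ha hb) fun _ ha => W_pow hE ha

theorem W_le_E : W0 p E ≤ E :=
  (W_le_U hE).trans ((BaumannBlockW.omegaOneCenter_le _).trans (inf_le_left.trans (SylowIn.pCoreOf_le E)))

theorem Z_conj {e z : G} (he : e ∈ E) (hz : z ∈ W0 p E ⊓ Z0 p E) : e * z * e⁻¹ = z :=
  Z_fixed he (mem_inf.1 hz).2

/-- A fixed point of a `p`-group in the moved part of a subgroup `X` of `W_E`. -/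
theorem exists_fixed_of_torus {X S : Subgroup G} {t : G} (hXW : X ≤ W0 p E) (hte : t ∈ E)
    (htX : t ∈ normalizer (X : Set G)) (hinj : ∀ x ∈ X, t * x * t⁻¹ * x⁻¹ ∈ Z0 p E → x ∈ Z0 p E)
    (hXZ : ¬ X ≤ Z0 p E) (hS : IsPGroup p S) (hSE : S ≤ normalizer (E : Set G)) (hSX : S ≤ normalizer (X : Set G))
    (hcomm : ∀ s ∈ S, ∀ x ∈ X, (s * t * s⁻¹ * t) * x * (s * t * s⁻¹ * t)⁻¹ =
      (t * (s * t * s⁻¹)) * x * (t * (s * t * s⁻¹))⁻¹) :
    ∃ z ∈ W0 p E, z ∉ Z0 p E ∧ ∀ s ∈ S, s * z * s⁻¹ = z := by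
  haveI : IsMulCommutative X := IsMulCommutative.of_comm fun a b => Subtype.ext (W_comm hE (hXW a.2) (hXW b.2))
  let d : ∀ u : G, u ∈ normalizer (X : Set G) → ↥X →* ↥X := fun u hu =>
    { toFun := fun x => ⟨u * x * u⁻¹ * (x : G)⁻¹, mul_mem (conj_mem hu x.2) (inv_mem x.2)⟩
      map_one' := Subtype.ext (by simp)
      map_mul' := fun a b => Subtype.ext (by
        show u * ((a : G) * (b : G)) * u⁻¹ * ((a : G) * (b : G))⁻¹ = (u * (a : G) * u⁻¹ * (a : G)⁻¹) * (u * (b : G) * u⁻¹ * (b : G)⁻¹)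
        have h : (u * ↑b * u⁻¹ * (↑b : G)⁻¹) * (↑a : G)⁻¹ = (↑a : G)⁻¹ * (u * ↑b * u⁻¹ * (↑b : G)⁻¹) :=
          W_comm hE (hXW (mul_mem (conj_mem hu b.2) (inv_mem b.2))) (hXW (inv_mem a.2))
        calc u * (↑a * ↑b) * u⁻¹ * (↑a * ↑b)⁻¹ = u * ↑a * u⁻¹ * ((u * ↑b * u⁻¹ * (↑b : G)⁻¹) * (↑a : G)⁻¹) := by group
          _ = _ := by rw [h]; group) }
  set δ := d t htX with hδ
  have hdd : ∀ (u : G) (hu : u ∈ normalizer (X : Set G)) (x : ↥X), ((d u hu x : ↥X) : G) = u * x * u⁻¹ * (x : G)⁻¹ :=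
    fun _ _ _ => rfl
  -- the kernel is the fixed part
  have hker : ∀ x : ↥X, δ x = 1 ↔ (x : G) ∈ Z0 p E := fun x => by
    constructor
    · intro h
      exact hinj x x.2 (by rw [← hdd t htX, ← hδ, h]; exact one_mem _)
    · intro h
      exact Subtype.ext (by rw [hδ, hdd t htX, Z_fixed hte h, mul_inv_cancel]; rfl)
  have hres : ∀ x : ↥X, (δ x : G) ∈ Z0 p E → δ x = 1 := fun x h => (hker x).2 (hinj x x.2 h)
  -- it is onto its image
  have hsurj : ∀ a : ↥X, ∃ b, δ a = δ (δ b) := by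
    intro a
    let r : δ.range → δ.range := fun y => ⟨δ (y : ↥X), _, rfl⟩
    have hinj' : Function.Injective r := fun y y' hyy => by
      obtain ⟨_, x, rfl⟩ := y
      obtain ⟨_, x', rfl⟩ := y'
      have h1 : δ (δ x) = δ (δ x') := congrArg Subtype.val hyy
      have h2 : δ (δ (x * x'⁻¹)) = 1 := by rw [map_mul, map_mul, map_inv, map_inv, h1, mul_inv_cancel]
      have h3 := hres _ ((hker _).1 h2)
      rw [map_mul, map_inv, mul_inv_eq_one] at h3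
      exact Subtype.ext h3
    obtain ⟨⟨y, b, rfl⟩, hy⟩ := (Finite.injective_iff_surjective.1 hinj') ⟨δ a, _, rfl⟩
    exact ⟨b, (congrArg Subtype.val hy).symm⟩
  let Λ : Subgroup G := δ.range.map X.subtype
  have hΛX : Λ ≤ X := map_subtype_le _
  have hΛS : S ≤ normalizer (Λ : Set G) := fun s hs => mem_norm fun y hy => by
    obtain ⟨_, ⟨a, rfl⟩, rfl⟩ := hy
    set t' := s * t * s⁻¹ with ht'
    have ht'E : t' ∈ E := conj_mem (hSE hs) hte
    have ht'X : t' ∈ normalizer (X : Set G) := mul_mem (mul_mem (hSX hs) htX) (inv_mem (hSX hs))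
    let a' : ↥X := ⟨s * a * s⁻¹, conj_mem (hSX hs) a.2⟩
    obtain ⟨b, hb⟩ := hsurj a'
    set c : ↥X := a' * (δ b)⁻¹ with hc
    have hcZ : (c : G) ∈ Z0 p E := (hker c).1 (by rw [map_mul, map_inv, hb, mul_inv_cancel])
    have hc' : d t' ht'X c = 1 := Subtype.ext (by rw [hdd t' ht'X, Z_fixed ht'E hcZ, mul_inv_cancel]; rfl)
    have hswap : d t' ht'X (δ b) = δ (d t' ht'X b) := Subtype.ext (by
      have h1 := hcomm s hs b b.2
      rw [← ht'] at h1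
      simp only [hδ, hdd]
      have hV1 : ((t * ↑b * t⁻¹) * (t' * ↑b * t'⁻¹)⁻¹ : G) = (t' * ↑b * t'⁻¹)⁻¹ * (t * ↑b * t⁻¹) :=
        W_comm hE (hXW (conj_mem htX b.2)) (hXW (inv_mem (conj_mem ht'X b.2)))
      calc t' * (t * ↑b * t⁻¹ * (↑b)⁻¹) * t'⁻¹ * (t * ↑b * t⁻¹ * (↑b)⁻¹)⁻¹
          = (t' * t * ↑b * (t' * t)⁻¹) * ((t' * ↑b * t'⁻¹)⁻¹ * ↑b) * (t * ↑b * t⁻¹)⁻¹ := by group
        _ = (t * t' * ↑b * (t * t')⁻¹) * ((t' * ↑b * t'⁻¹)⁻¹ * ↑b) * (t * ↑b * t⁻¹)⁻¹ := by rw [h1]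
        _ = (t * t' * ↑b * (t * t')⁻¹) * (((t' * ↑b * t'⁻¹)⁻¹ * ↑b) * (t * ↑b * t⁻¹)⁻¹) := by group
        _ = (t * t' * ↑b * (t * t')⁻¹) * ((t * ↑b * t⁻¹)⁻¹ * ((t' * ↑b * t'⁻¹)⁻¹ * ↑b)) := by
          rw [W_comm hE (hXW (mul_mem (inv_mem (conj_mem ht'X b.2)) b.2)) (hXW (inv_mem (conj_mem htX b.2)))]
        _ = t * (t' * ↑b * t'⁻¹ * (↑b)⁻¹) * t⁻¹ * (t' * ↑b * t'⁻¹ * (↑b)⁻¹)⁻¹ := by
          rw [W_comm hE (hXW (inv_mem (conj_mem ht'X b.2))) (hXW b.2)]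
          group)
    refine ⟨δ (d t' ht'X b), ⟨_, rfl⟩, ?_⟩
    rw [← hswap, show δ b = c⁻¹ * a' by
      rw [hc, mul_inv_rev, inv_inv, mul_assoc, inv_mul_cancel, mul_one], map_mul, map_inv, hc', inv_one, one_mul]
    show (d t' ht'X a' : G) = s * (δ a : G) * s⁻¹
    simp only [hδ, hdd, a', ht']
    group
  -- the fixed point
  have hΛne : 1 < Nat.card Λ := by
    rw [one_lt_card_iff_ne_bot, Ne, eq_bot_iff_forall]
    intro h
    refine hXZ fun x hx => (hker ⟨x, hx⟩).1 (Subtype.ext (h _ ?_))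
    exact ⟨δ ⟨x, hx⟩, ⟨_, rfl⟩, rfl⟩
  letI : MulAction S Λ :=
    { smul := fun s y => ⟨(s : G) * y * (s : G)⁻¹, conj_mem (hΛS s.2) y.2⟩
      one_smul := fun y => Subtype.ext (by show (1 : G) * y * (1 : G)⁻¹ = y; simp)
      mul_smul := fun a b y => Subtype.ext (by
        show ((a : G) * b) * y * ((a : G) * b)⁻¹ = (a : G) * ((b : G) * y * (b : G)⁻¹) * (a : G)⁻¹
        group) }
  have hΛp : IsPGroup p Λ := ((isPGroup_U hE).to_le (W_le_U hE)).to_le (hΛX.trans hXW)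
  have hdvd : p ∣ Nat.card Λ := by
    obtain ⟨k, hk⟩ := hΛp.exists_card_eq
    rcases k with - | k
    · rw [hk] at hΛne; simp at hΛne
    · rw [hk]; exact dvd_pow_self p k.succ_ne_zero
  obtain ⟨⟨z, hz⟩, hzfix, hz1⟩ := hS.exists_fixed_point_of_prime_dvd_card_of_fixed_point Λ hdvd (a := 1)
    fun s => Subtype.ext (by show (s : G) * (1 : G) * (s : G)⁻¹ = 1; simp)
  refine ⟨z, hXW (hΛX hz), fun hzZ => hz1 ?_, fun s hs => congrArg Subtype.val (hzfix ⟨s, hs⟩)⟩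
  obtain ⟨_, ⟨x, rfl⟩, hxz⟩ := hz
  refine Subtype.ext ?_
  show (1 : G) = z
  rw [← hxz]
  exact (congrArg (X.subtype) (hres x (by rw [show (δ x : G) = z from hxz]; exact hzZ))).symm.trans rfl |>.trans rfl

end Block

end CfsgLib.LocalEvenB.BlockShape
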