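import Cfsg.Agent.Lib.LocalEvenB.BlockShape
import Cfsg.Agent.Lib.LocalEvenB.BlockOffenderField
import Cfsg.Agent.Lib.Classical.SL2Sylow

/-!
The action of the normaliser of a block of type `SL₂` on its module.
-/

set_option autoImplicit false
set_option linter.style.haveILetI false
set_option linter.unusedSectionVars false

namespace CfsgLib.LocalEvenB.BlockShapeSL2

universe u

open Subgroup CfsgLib.LocalEven CfsgLib.LocalEvenB.BlockTrick CfsgLib.LocalEvenB.BlockCentralizer
  CfsgLib.LocalEvenB.BlockModule CfsgLib.LocalEvenB.BlockShape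
open CfsgLib.LocalEvenB.SympPlane (det2 det2_self eq_of_det2)
open scoped commutatorElement

section Matrix

variable {F : Type} [Field F]

local notation "SL₂" => Matrix.SpecialLinearGroup (Fin 2) F

theorem det2_mulVec (M : Matrix (Fin 2) (Fin 2) F) (u v : Fin 2 → F) :
    det2 (M.mulVec u) (M.mulVec v) = M.det * det2 u v := by
  simp [det2, Matrix.det_fin_two, Matrix.mulVec, dotProduct, Fin.sum_univ_two]
  ring

/-- A linear map preserving the form is a special linear matrix. -/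
theorem exists_sl (g : AddMonoid.End (Fin 2 → F)) (hl : ∀ (t : F) x, g (t • x) = t • g x)
    (hd : ∀ u v, det2 (g u) (g v) = det2 u v) : ∃ M : SL₂, ∀ x, g x = M.1.mulVec x := by
  refine ⟨⟨!![g ![1, 0] 0, g ![0, 1] 0; g ![1, 0] 1, g ![0, 1] 1], ?_⟩, fun x => ?_⟩
  · have := hd ![1, 0] ![0, 1]
    simp [det2] at this
    simp [Matrix.det_fin_two]
    linear_combination this
  · have e : g x = x 0 • g ![1, 0] + x 1 • g ![0, 1] := by
      rw [← hl, ← hl, ← map_add]
      congr 1
      ext i; fin_cases i <;> simp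
    rw [e]
    ext i
    fin_cases i <;> simp [Matrix.mulVec, dotProduct, Fin.sum_univ_two] <;> ring

variable {p : ℕ} [Fact p.Prime] [CharP F p]

/-- The `p`-th powers lie in the derived subgroup of `SL₂`. -/
theorem pow_mem_commutator [Finite F] (M : SL₂) : M ^ p ∈ _root_.commutator SL₂ := by
  let π : SL₂ →* Abelianization SL₂ := Abelianization.of
  have hH : ((powMonoidHom p).comp π).ker = ⊤ := by
    refine CfsgLib.Classical.sl_subgroup_eq_top _ fun i j hij c => ?_
    rw [MonoidHom.mem_ker, MonoidHom.comp_apply, powMonoidHom_apply, ← map_pow]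
    have hn : ∀ n : ℕ, (Matrix.SpecialLinearGroup.transvection hij c : SL₂) ^ n =
        Matrix.SpecialLinearGroup.transvection hij ((n : F) * c) := by
      intro n
      induction n with
      | zero => rw [pow_zero, Nat.cast_zero, zero_mul]; exact Subtype.ext (by simp)
      | succ n ih => rw [pow_succ, ih, Nat.cast_succ, add_mul, one_mul, Matrix.SpecialLinearGroup.transvection_add]
    rw [hn p, CharP.cast_eq_zero, zero_mul]
    rw [show (Matrix.SpecialLinearGroup.transvection hij (0 : F) : SL₂) = 1 from Subtype.ext (by simp), map_one]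
  have := MonoidHom.mem_ker.1 (hH ▸ mem_top M : M ∈ ((powMonoidHom p).comp π).ker)
  rw [MonoidHom.comp_apply, powMonoidHom_apply, ← map_pow, ← MonoidHom.mem_ker, Abelianization.ker_of] at this
  exact this

/-- A pair of endomorphisms of a finite field commute. -/
theorem twist_comm [Finite F] (σ τ : F →+* F) (s : F) : σ (τ s) = τ (σ s) := by
  obtain ⟨g, hg⟩ := IsCyclic.exists_generator (α := Fˣ)
  have h : ∀ u : Fˣ, ∃ k : ℕ, g ^ k = u := fun u => mem_powers_iff_mem_zpowers.2 (hg u)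
  obtain ⟨a, ha⟩ := h (Units.map σ.toMonoidHom g)
  obtain ⟨b, hb⟩ := h (Units.map τ.toMonoidHom g)
  have ha' : σ (g : F) = (g : F) ^ a := by
    have := congrArg Units.val ha
    simpa using this.symm
  have hb' : τ (g : F) = (g : F) ^ b := by
    have := congrArg Units.val hb
    simpa using this.symm
  rcases eq_or_ne s 0 with rfl | hs
  · simp
  obtain ⟨k, hk⟩ := h (Units.mk0 s hs)
  have hk' : (g : F) ^ k = s := by
    have := congrArg Units.val hk
    simpa using this
  rw [← hk', map_pow, map_pow, map_pow, map_pow, ha', hb', map_pow, map_pow, ha', hb', pow_right_comm (g : F) a b]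

theorem small_two_gen : ∀ A B : Matrix (Fin 2) (Fin 2) (ZMod 2), A.det = 1 → B.det = 1 →
    (A * B * A.adjugate * B.adjugate) 0 1 = (A * B * A.adjugate * B.adjugate) 1 0 ∧
    (A * B * A.adjugate * B.adjugate) 1 1 =
      (A * B * A.adjugate * B.adjugate) 0 0 + (A * B * A.adjugate * B.adjugate) 0 1 := by
  decide +kernel

theorem small_two_comm : ∀ A B : Matrix (Fin 2) (Fin 2) (ZMod 2), A 0 1 = A 1 0 → A 1 1 = A 0 0 + A 0 1 →
    B 0 1 = B 1 0 → B 1 1 = B 0 0 + B 0 1 → A * B = B * A := by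
  decide +kernel

/-- The derived subgroup of `SL₂(2)` is commutative. -/
theorem commutator_comm [Finite F] (h2 : Nat.card F = 2) {M M' : SL₂} (hM : M ∈ _root_.commutator SL₂)
    (hM' : M' ∈ _root_.commutator SL₂) : M * M' = M' * M := by
  cases nonempty_fintype F
  haveI : CharP F 2 := charP_of_card_eq_prime (hp := ⟨Nat.prime_two⟩) (by rw [← Nat.card_eq_fintype_card, h2])
  let f := ZMod.castHom (dvd_refl 2) F
  have hf : Function.Bijective f := (Nat.bijective_iff_injective_and_card _).2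
    ⟨ZMod.castHom_injective F, by rw [Nat.card_eq_fintype_card, ZMod.card, h2]⟩
  let e : F →+* ZMod 2 := (RingEquiv.ofBijective f hf).symm.toRingHom
  let μ := Matrix.SpecialLinearGroup.map (n := Fin 2) e
  have hμ : Function.Injective μ := fun A B h => Subtype.ext (by
    ext i j
    exact (RingEquiv.ofBijective f hf).symm.injective (congrFun (congrFun (congrArg Subtype.val h) i) j))
  let K : Set (Matrix.SpecialLinearGroup (Fin 2) (ZMod 2)) :=
    {A | A.1 0 1 = A.1 1 0 ∧ A.1 1 1 = A.1 0 0 + A.1 0 1}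
  let S : Set (Matrix.SpecialLinearGroup (Fin 2) (ZMod 2)) := {g | ∃ a b : Matrix.SpecialLinearGroup (Fin 2) (ZMod 2), ⁅a, b⁆ = g}
  have hS : S ⊆ K := by
    rintro g ⟨a, b, rfl⟩
    have := small_two_gen a.1 b.1 a.2 b.2
    simpa [K, commutatorElement_def] using this
  have hc : ∀ a ∈ Subgroup.closure S, ∀ b ∈ Subgroup.closure S, a * b = b * a := by
    have h1 : Subgroup.closure S ≤ centralizer (Subgroup.closure S : Set (Matrix.SpecialLinearGroup (Fin 2) (ZMod 2))) := by
      rw [centralizer_closure, closure_le]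
      intro a ha
      exact mem_centralizer_iff.2 fun b hb => Subtype.ext
        (small_two_comm b.1 a.1 (hS hb).1 (hS hb).2 (hS ha).1 (hS ha).2)
    exact fun a ha b hb => mem_centralizer_iff.1 (h1 hb) a ha
  have hmap : ∀ A ∈ _root_.commutator SL₂, μ A ∈ Subgroup.closure S := by
    intro A hA
    have : (_root_.commutator SL₂).map μ ≤ Subgroup.closure S := by
      rw [_root_.commutator_def, map_commutator, commutator_le]
      exact fun a _ b _ => subset_closure ⟨a, b, rfl⟩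
    exact this ⟨A, hA, rfl⟩
  refine hμ ?_
  rw [map_mul, map_mul, hc _ (hmap _ hM) _ (hmap _ hM')]

end Matrix

variable {G : Type u} [Group G] [Finite G] {p : ℕ} [hp : Fact p.Prime] {F : Type} [Field F] [Finite F]

/-- The section `W / W ∩ Z`. -/
theorem secW {T : Sylow p G} {E : Subgroup G} (hE : Cfsg.IsBaumannBlock p (T : Subgroup G) E)
    (S : Sec F E (U0 p E) (Z0 p E)) : Nonempty (Sec F E (W0 p E) (W0 p E ⊓ Z0 p E)) := by
  refine ⟨⟨S.ρ, S.ψ.comp (Subgroup.inclusion (W_le_U hE)), S.range, fun v => ?_, fun w => ?_,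
    le_normalizer.trans (normalizer_le_W hE), inf_le_left, fun e w => ?_⟩⟩
  · obtain ⟨u, hu⟩ := S.surj v
    obtain ⟨w, hw, z, hz, hwz⟩ := U_dec hE u.2
    refine ⟨⟨w, hw⟩, ?_⟩
    rw [← hu]
    have hz1 : S.ψ ⟨z, (mem_inf.1 hz).1⟩ = 1 := (S.ker _).2 hz
    rw [MonoidHom.comp_apply,
      show u = Subgroup.inclusion (W_le_U hE) ⟨w, hw⟩ * ⟨z, (mem_inf.1 hz).1⟩ from Subtype.ext hwz.symm,
      map_mul, hz1, mul_one]
  · rw [MonoidHom.comp_apply, S.ker]
    exact ⟨fun h => mem_inf.2 ⟨w.2, h⟩, fun h => (mem_inf.1 h).2⟩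
  · exact S.act e (Subgroup.inclusion (W_le_U hE) w)

variable {T : Sylow p G} {E : Subgroup G} (hE : Cfsg.IsBaumannBlock p (T : Subgroup G) E)
  (S : Sec F E (W0 p E) (W0 p E ⊓ Z0 p E))

local notation "N" => normalizer (E : Set G)

include hE

theorem le_nrm : N ≤ S.nrm :=
  le_inf (normalizer_le_W hE) (le_normalizer_inf (normalizer_le_W hE) (normalizer_le_Z hE))

/-- The action of `N(E)`. -/
noncomputable def φ : ↥(normalizer (E : Set G)) →* AddMonoid.End (Fin 2 → F) :=
  S.actHom.comp (Subgroup.inclusion (le_nrm hE S))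

theorem φ_co (g : ↥(normalizer (E : Set G))) (w : ↥(W0 p E)) :
    φ hE S g (S.co w) = S.co ⟨(g : G) * w * (g : G)⁻¹, conj_mem (normalizer_le_W hE g.2) w.2⟩ :=
  S.actHom_co _ w

theorem φ_ker (g : ↥(normalizer (E : Set G))) :
    φ hE S g = 1 ↔ (g : G) ∈ centralizer (W0 p E : Set G) := by
  constructor
  · intro h
    exact fix_of_trivial hE g.2 fun w hw =>
      (mem_inf.1 (S.mem_of_actHom_eq_one (g := Subgroup.inclusion (le_nrm hE S) g) h ⟨w, hw⟩)).2
  · intro h
    refine S.actHom_eq_one_of_forall fun w => ?_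
    show (g : G) * w * (g : G)⁻¹ * (w : G)⁻¹ ∈ _
    rw [← mem_centralizer_iff.1 h w w.2, mul_inv_cancel_right, mul_inv_cancel]
    exact one_mem _

theorem φ_rho (e : ↥E) (v : Fin 2 → F) : φ hE S ⟨e, le_normalizer e.2⟩ v = (S.ρ e).1.mulVec v :=
  S.actHom_of_mem v

theorem φ_inv (g : ↥(normalizer (E : Set G))) (v : Fin 2 → F) : φ hE S g⁻¹ (φ hE S g v) = v := by
  rw [← end_mul_apply, ← map_mul, inv_mul_cancel, map_one, end_one_apply]

theorem φ_inv' (g : ↥(normalizer (E : Set G))) (v : Fin 2 → F) : φ hE S g (φ hE S g⁻¹ v) = v := by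
  rw [← end_mul_apply, ← map_mul, mul_inv_cancel, map_one, end_one_apply]

theorem φ_surj (g : ↥(normalizer (E : Set G))) : Function.Surjective (φ hE S g) :=
  fun v => ⟨_, φ_inv' hE S g v⟩

/-- Every element of `N(E)` is semilinear. -/
theorem twist (g : ↥(normalizer (E : Set G))) :
    ∃ τ : F →+* F, ∀ (t : F) v, φ hE S g (t • v) = τ t • φ hE S g v := by
  have hn : ∀ (g : ↥(normalizer (E : Set G))), ∀ M ∈ _root_.commutator (Matrix.SpecialLinearGroup (Fin 2) F),
      ∃ M' ∈ _root_.commutator (Matrix.SpecialLinearGroup (Fin 2) F),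
        ∀ v, φ hE S g (M.1.mulVec v) = M'.1.mulVec (φ hE S g v) := by
    intro g M hM
    obtain ⟨e, rfl⟩ := S.mem_range M hM
    have h : (g : G) * e * (g : G)⁻¹ ∈ E := conj_mem g.2 e.2
    exact ⟨S.ρ ⟨_, h⟩, S.range ▸ ⟨_, rfl⟩, fun v =>
      (S.actHom_equivariant (Subgroup.inclusion (le_nrm hE S) g) e h v).symm⟩
  have hn' : ∀ M' ∈ _root_.commutator (Matrix.SpecialLinearGroup (Fin 2) F),
      ∃ M ∈ _root_.commutator (Matrix.SpecialLinearGroup (Fin 2) F),
        ∀ v, φ hE S g (M.1.mulVec v) = M'.1.mulVec (φ hE S g v) := by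
    intro M' hM'
    obtain ⟨M, hM, hMM⟩ := hn g⁻¹ M' hM'
    exact ⟨M, hM, fun v => by
      have := congrArg (φ hE S g) (hMM (φ hE S g v))
      rw [φ_inv', φ_inv] at this
      exact this.symm⟩
  have hs := SL2Semilinear.exists_twist (φ hE S g) (φ_surj hE S g) (hn g) hn'
  choose f hf using hs
  obtain ⟨v₁, hv₁⟩ : ∃ v : Fin 2 → F, φ hE S g v ≠ 0 := by
    obtain ⟨w, hw⟩ := exists_ne (0 : Fin 2 → F)
    exact ⟨φ hE S g⁻¹ w, by rwa [φ_inv']⟩
  have huniq : ∀ {a b : F}, a • φ hE S g v₁ = b • φ hE S g v₁ → a = b := fun h => smul_left_injective F hv₁ h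
  refine ⟨{ toFun := f, map_one' := ?_, map_mul' := fun a b => ?_, map_zero' := ?_, map_add' := fun a b => ?_ }, hf⟩
  · exact huniq (by rw [← hf, one_smul, one_smul])
  · refine huniq ?_
    rw [← hf, mul_smul, hf, hf, smul_smul]
  · exact huniq (by rw [← hf, zero_smul, zero_smul, map_zero])
  · exact huniq (by rw [← hf, add_smul, map_add, hf, hf, ← add_smul])

/-- The linear elements. -/
def Lin : Subgroup ↥(normalizer (E : Set G)) where
  carrier := {g | ∀ (t : F) v, φ hE S g (t • v) = t • φ hE S g v}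
  one_mem' t v := by simp [end_one_apply]
  mul_mem' {a b} ha hb t v := by rw [map_mul, end_mul_apply, end_mul_apply, hb, ha]
  inv_mem' {a} ha t v := by
    have := congrArg (φ hE S a⁻¹) (ha t (φ hE S a⁻¹ v))
    rw [φ_inv, φ_inv'] at this
    exact this.symm

/-- The elements preserving the form. -/
def Pres : Subgroup ↥(normalizer (E : Set G)) where
  carrier := {g | ∀ u v, det2 (φ hE S g u) (φ hE S g v) = det2 u v}
  one_mem' u v := by simp [end_one_apply]
  mul_mem' {a b} ha hb u v := by rw [map_mul, end_mul_apply, end_mul_apply, ha, hb]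
  inv_mem' {a} ha u v := by rw [← ha, φ_inv', φ_inv']

theorem pres_le_lin : Pres hE S ≤ Lin hE S := fun g hg =>
  BlockOffenderField.linear_of_det _ (φ_surj hE S g) hg

theorem ker_le_pres {g : ↥(normalizer (E : Set G))} (h : (g : G) ∈ centralizer (W0 p E : Set G)) :
    g ∈ Pres hE S := fun u v => by rw [(φ_ker hE S g).2 h]; simp [end_one_apply]

theorem E_mem_pres {g : ↥(normalizer (E : Set G))} (h : (g : G) ∈ E) : g ∈ Pres hE S := fun u v => by
  rw [show g = ⟨_, le_normalizer (⟨(g : G), h⟩ : ↥E).2⟩ from rfl, φ_rho, φ_rho, det2_mulVec,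
    (S.ρ _).2, one_mul]

theorem comm_linear (a b : ↥(normalizer (E : Set G))) : a * b * a⁻¹ * b⁻¹ ∈ Lin hE S := by
  intro t v
  obtain ⟨σ, hσ⟩ := twist hE S a
  obtain ⟨τ, hτ⟩ := twist hE S b
  have key : ∀ s w, φ hE S (a * b) (s • w) = σ (τ s) • φ hE S (a * b) w := fun s w => by
    rw [map_mul, end_mul_apply, end_mul_apply, hτ, hσ]
  have key' : ∀ s w, φ hE S (b * a) (s • w) = σ (τ s) • φ hE S (b * a) w := fun s w => by
    rw [map_mul, end_mul_apply, end_mul_apply, hσ, hτ, twist_comm σ τ]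
  rw [show a * b * a⁻¹ * b⁻¹ = (a * b) * (b * a)⁻¹ by group, map_mul, end_mul_apply, end_mul_apply]
  obtain ⟨s, rfl⟩ : ∃ s, σ (τ s) = t :=
    ((Finite.injective_iff_surjective).1 ((σ.comp τ).injective)) t
  have h1 := congrArg (φ hE S (b * a)⁻¹) (key' s (φ hE S (b * a)⁻¹ v))
  rw [φ_inv, φ_inv'] at h1
  rw [← h1, key]

theorem comm_pres {a b : ↥(normalizer (E : Set G))} (ha : a ∈ Lin hE S) (hb : b ∈ Lin hE S) :
    a * b * a⁻¹ * b⁻¹ ∈ Pres hE S := by
  intro u v
  obtain ⟨c, hc⟩ := BlockOffenderField.exists_factor (φ hE S a) (RingHom.id F) ha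
  obtain ⟨d, hd⟩ := BlockOffenderField.exists_factor (φ hE S b) (RingHom.id F) hb
  obtain ⟨c', hc'⟩ := BlockOffenderField.exists_factor (φ hE S a⁻¹) (RingHom.id F) (inv_mem ha)
  obtain ⟨d', hd'⟩ := BlockOffenderField.exists_factor (φ hE S b⁻¹) (RingHom.id F) (inv_mem hb)
  simp only [RingHom.id_apply] at hc hd hc' hd'
  have h0 : det2 (![1, 0] : Fin 2 → F) ![0, 1] = 1 := by simp [det2]
  have e1 : c * c' = 1 := by
    have := hc (φ hE S a⁻¹ ![1, 0]) (φ hE S a⁻¹ ![0, 1])
    rw [φ_inv', φ_inv', hc', h0, mul_one] at this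
    exact this.symm
  have e2 : d * d' = 1 := by
    have := hd (φ hE S b⁻¹ ![1, 0]) (φ hE S b⁻¹ ![0, 1])
    rw [φ_inv', φ_inv', hd', h0, mul_one] at this
    exact this.symm
  rw [map_mul, map_mul, map_mul, end_mul_apply, end_mul_apply, end_mul_apply, end_mul_apply, end_mul_apply,
    end_mul_apply, hc, hd, hc', hd']
  calc c * (d * (c' * (d' * det2 u v))) = (c * c') * (d * d') * det2 u v := by ring
    _ = det2 u v := by rw [e1, e2, one_mul, one_mul]

/-- The elements preserving the form, in the group. -/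
def lin : Subgroup G := (Pres hE S).map (normalizer (E : Set G)).subtype

theorem mem_lin {g : G} (hg : g ∈ normalizer (E : Set G)) :
    g ∈ lin hE S ↔ ∀ u v, det2 (φ hE S ⟨g, hg⟩ u) (φ hE S ⟨g, hg⟩ v) = det2 u v :=
  ⟨fun ⟨x, hx, hxg⟩ => by subst hxg; exact hx, fun h => ⟨⟨g, hg⟩, h, rfl⟩⟩

theorem lin_le : lin hE S ≤ N := map_subtype_le _

theorem lin_norm : N ≤ normalizer (lin hE S : Set G) := fun h hh => mem_norm fun g hg => by
  have hgN := lin_le hE S hg
  refine ⟨⟨h, hh⟩ * ⟨g, hgN⟩ * ⟨h, hh⟩⁻¹, fun u v => ?_, rfl⟩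
  set k : ↥(normalizer (E : Set G)) := ⟨h, hh⟩
  obtain ⟨τ, hτ⟩ := twist hE S k
  obtain ⟨d, hd⟩ := BlockOffenderField.exists_factor (φ hE S k) τ hτ
  have h1 := hd (φ hE S k⁻¹ u) (φ hE S k⁻¹ v)
  rw [φ_inv', φ_inv'] at h1
  rw [map_mul, map_mul, end_mul_apply, end_mul_apply, end_mul_apply, end_mul_apply, hd,
    (mem_lin hE S hgN).1 hg, h1]

omit hE in
include hp in
theorem charP_field (hc : ∃ n, Nat.card F = p ^ n) : CharP F p := by
  obtain ⟨n, hn⟩ := hc
  cases nonempty_fintype F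
  obtain ⟨m, hcp, he⟩ := FiniteField.card F (ringChar F)
  haveI := ringChar.charP F
  rw [Nat.card_eq_fintype_card, he] at hn
  have h3 : ringChar F ∣ p ^ n := hn ▸ dvd_pow_self _ m.pos.ne'
  have := hcp.dvd_of_dvd_pow h3
  rw [Nat.prime_dvd_prime_iff_eq hcp hp.out] at this
  rw [← this]
  infer_instance

variable [CharP F p]

theorem coprime_mem {g : G} (hg : g ∈ lin hE S) (hco : (orderOf g).Coprime p) :
    g ∈ E ⊔ centralizer (W0 p E : Set G) := by
  have hgN := lin_le hE S hg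
  set k : ↥(normalizer (E : Set G)) := ⟨g, hgN⟩
  have hpres := (mem_lin hE S hgN).1 hg
  obtain ⟨M, hM⟩ := exists_sl (φ hE S k) (BlockOffenderField.linear_of_det _ (φ_surj hE S k) hpres) hpres
  have hpow : ∀ n x, φ hE S (k ^ n) x = (M ^ n).1.mulVec x := by
    intro n
    induction n with
    | zero => intro x; simp [end_one_apply]
    | succ n ih =>
      intro x
      rw [pow_succ', pow_succ', map_mul, end_mul_apply, ih, hM, Matrix.SpecialLinearGroup.coe_mul,
        Matrix.mulVec_mulVec]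
  have hMo : orderOf M ∣ orderOf g := by
    refine orderOf_dvd_of_pow_eq_one (BaumannModule.eq_one_of_fix fun x => ?_)
    rw [← hpow, show k ^ orderOf g = 1 from Subtype.ext (pow_orderOf_eq_one g), map_one, end_one_apply]
  obtain ⟨m, hm⟩ := exists_pow_eq_self_of_coprime (x := M) (n := p) (hco.coprime_dvd_left hMo).symm
  obtain ⟨e, he⟩ := S.mem_range M (hm ▸ pow_mem (pow_mem_commutator (p := p) M) m)
  have hc : φ hE S (⟨e, le_normalizer e.2⟩⁻¹ * k) = 1 := end_ext fun x => by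
    rw [map_mul, end_mul_apply, hM, ← he, ← φ_rho hE S e x, φ_inv, end_one_apply]
  have hc' := (φ_ker hE S _).1 hc
  have : g = (e : G) * ((e : G)⁻¹ * g) := (mul_inv_cancel_left _ _).symm
  rw [this]
  exact mul_mem (mem_sup_left e.2) (mem_sup_right hc')

theorem conj_le {x : G} (hxW : x ∈ normalizer (W0 p E : Set G))
    (hxZ : x ∈ normalizer ((W0 p E ⊓ Z0 p E : Subgroup G) : Set G))
    (hF : E.map (MulAut.conj x).toMonoidHom ≤ N) : E.map (MulAut.conj x).toMonoidHom ≤ lin hE S := by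
  set E' := E.map (MulAut.conj x).toMonoidHom with hE'
  rcases lt_or_ge (Nat.card F) 4 with hq | hq
  · -- the prime field: everything is linear
    rintro _ ⟨e, he, rfl⟩
    have hfN : x * e * x⁻¹ ∈ N := hF ⟨e, he, rfl⟩
    rw [show (MulAut.conj x).toMonoidHom e = x * e * x⁻¹ from rfl]
    refine (mem_lin hE S hfN).2 fun u v => ?_
    let xn : S.nrm := ⟨x, mem_inf.2 ⟨hxW, hxZ⟩⟩
    let en : S.nrm := ⟨e, S.le_nrm he⟩
    have hlin : ∀ (t : F) y, S.actHom xn (t • y) = t • S.actHom xn y := fun t y => by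
      obtain ⟨m, rfl⟩ := SL2Semilinear.exists_nsmul_one hq t
      rw [smul_assoc, smul_assoc, one_smul, one_smul, map_nsmul]
    obtain ⟨d, hd⟩ := BlockOffenderField.exists_factor (S.actHom xn) (RingHom.id F) hlin
    have hφ : φ hE S ⟨x * e * x⁻¹, hfN⟩ = S.actHom xn * S.actHom en * S.actHom xn⁻¹ := by
      rw [← map_mul, ← map_mul]; rfl
    have h1 := hd (S.actHom xn⁻¹ u) (S.actHom xn⁻¹ v)
    simp only [← end_mul_apply, ← map_mul, mul_inv_cancel, map_one, end_one_apply, RingHom.id_apply] at h1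
    have he' : ∀ y, S.actHom en y = (S.ρ ⟨e, he⟩).1.mulVec y := fun y => S.actHom_of_mem (e := ⟨e, he⟩) y
    rw [hφ, end_mul_apply, end_mul_apply, end_mul_apply, end_mul_apply, he', he', hd, RingHom.id_apply,
      det2_mulVec, (S.ρ _).2, one_mul, h1]
  · -- otherwise `E` is perfect modulo the centraliser
    have hperf : ∀ e ∈ E, ∃ c ∈ ⁅E, E⁆, c⁻¹ * e ∈ centralizer (W0 p E : Set G) := by
      intro e he
      have hmem : S.ρ ⟨e, he⟩ ∈ (_root_.commutator ↥E).map S.ρ := by
        rw [_root_.commutator_def, map_commutator, ← MonoidHom.range_eq_map, S.range,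
          SL2Semilinear.commutator_top hq, ← _root_.commutator_def, SL2Semilinear.commutator_top hq]
        exact mem_top _
      obtain ⟨c, hc, hce⟩ := hmem
      refine ⟨c, ?_, ?_⟩
      · rw [_root_.commutator_def] at hc
        have := mem_map_of_mem E.subtype hc
        rwa [map_commutator, ← MonoidHom.range_eq_map, range_subtype] at this
      · refine (φ_ker hE S ⟨(c : G)⁻¹ * e, mul_mem (inv_mem (le_normalizer c.2)) (le_normalizer he)⟩).1
          (end_ext fun y => ?_)
        rw [show (⟨(c : G)⁻¹ * e, mul_mem (inv_mem (le_normalizer c.2)) (le_normalizer he)⟩ :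
          ↥(normalizer (E : Set G))) = ⟨_, le_normalizer (c⁻¹ * ⟨e, he⟩ : ↥E).2⟩ from rfl, φ_rho, map_mul, map_inv,
          hce, inv_mul_cancel, end_one_apply]
        simp
    have hstep : ∀ X : Subgroup ↥(normalizer (E : Set G)),
        (∀ g : ↥(normalizer (E : Set G)), (g : G) ∈ centralizer (W0 p E : Set G) → g ∈ X) →
        ⁅E', E'⁆ ≤ X.map (normalizer (E : Set G)).subtype → E' ≤ X.map (normalizer (E : Set G)).subtype := by
      intro X hker hcom f hf
      obtain ⟨e, he, rfl⟩ := hf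
      obtain ⟨c, hc, hk⟩ := hperf e he
      have hc' : (MulAut.conj x).toMonoidHom c ∈ ⁅E', E'⁆ := by
        rw [hE', ← map_commutator]; exact mem_map_of_mem _ hc
      have hk' : (MulAut.conj x).toMonoidHom (c⁻¹ * e) ∈ centralizer (W0 p E : Set G) :=
        conj_mem (BaumannBlockW.normalizer_le_normalizer_centralizer _ hxW) hk
      have hkN : (MulAut.conj x).toMonoidHom (c⁻¹ * e) ∈ N :=
        hF ⟨c⁻¹ * e, mul_mem (inv_mem (commutator_le_self E hc)) he, rfl⟩
      rw [show e = c * (c⁻¹ * e) by group, map_mul]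
      exact mul_mem (hcom hc') ⟨⟨_, hkN⟩, hker _ hk', rfl⟩
    have h1 : E' ≤ (Lin hE S).map (normalizer (E : Set G)).subtype :=
      hstep _ (fun g hg => pres_le_lin hE S (ker_le_pres hE S hg)) (commutator_le.2 fun a ha b hb =>
        mem_map.2 ⟨_, comm_linear hE S ⟨a, hF ha⟩ ⟨b, hF hb⟩, by simp [commutatorElement_def]⟩)
    refine hstep _ (fun g hg => ker_le_pres hE S hg) (commutator_le.2 fun a ha b hb => ?_)
    obtain ⟨a', ha', rfl⟩ := h1 ha
    obtain ⟨b', hb', rfl⟩ := h1 hb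
    exact mem_map.2 ⟨_, comm_pres hE S ha' hb', by simp [commutatorElement_def]⟩

omit hE in
include S in
theorem card_W : Nat.card ↥(W0 p E) = Nat.card F * Nat.card F * Nat.card ↥(W0 p E ⊓ Z0 p E) := by
  have hk : S.ψ.ker = (W0 p E ⊓ Z0 p E).subgroupOf (W0 p E) := by
    ext w; rw [MonoidHom.mem_ker, mem_subgroupOf, S.ker]
  have h1 : S.ψ.ker.index = Nat.card F * Nat.card F := by
    rw [index_ker, MonoidHom.range_eq_top.2 S.surj, card_top, Nat.card_congr Multiplicative.toAdd,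
      BlockOffenderField.card_plane]
  have h2 := S.ψ.ker.card_mul_index
  rw [h1, hk, Nat.card_congr (subgroupOfEquivOfLe (inf_le_left : W0 p E ⊓ Z0 p E ≤ W0 p E)).toEquiv] at h2
  rw [← h2, mul_comm]

omit hE in
theorem card_le_image {X : Subgroup G} (hX : X ≤ W0 p E) {Y : AddSubgroup (Fin 2 → F)}
    (hY : ∀ w (hw : w ∈ X), S.co ⟨w, hX hw⟩ ∈ Y) :
    Nat.card X ≤ Nat.card Y * Nat.card ↥(W0 p E ⊓ Z0 p E) := by
  refine (BlockOffenderField.card_le_of_fibre (fun x : X => (⟨_, hY x x.2⟩ : Y))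
    ((W0 p E ⊓ Z0 p E).subgroupOf X) fun a b hab => ?_).trans (Nat.mul_le_mul le_rfl ?_)
  · simp only [Subtype.mk.injEq] at hab
    rw [mem_subgroupOf]
    refine (S.co_eq_zero ⟨_, hX (a⁻¹ * b).2⟩).1 ?_
    rw [show (⟨((a⁻¹ * b : X) : G), hX (a⁻¹ * b).2⟩ : ↥(W0 p E)) = ⟨a, hX a.2⟩⁻¹ * ⟨b, hX b.2⟩ from rfl,
      Sec.co_mul, Sec.co_inv, hab, neg_add_cancel]
  · refine Nat.card_le_card_of_injective (fun a => (⟨((a : X) : G), mem_subgroupOf.1 a.2⟩ : ↥(W0 p E ⊓ Z0 p E)))
      fun a b h => ?_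
    exact Subtype.ext (Subtype.ext (congrArg Subtype.val h :))

section Abelian

variable {A : Subgroup G} (hAN : A ≤ normalizer (E : Set G))

/-- The action of `A`. -/
noncomputable def θ : ↥A →* AddMonoid.End (Fin 2 → F) := (φ hE S).comp (Subgroup.inclusion hAN)

theorem θ_ker (a : ↥A) : θ hE S hAN a = 1 ↔ (a : G) ∈ centralizer (W0 p E : Set G) :=
  φ_ker hE S (Subgroup.inclusion hAN a)

theorem card_ker : Nat.card (θ hE S hAN).ker = Nat.card ↥(A ⊓ centralizer (W0 p E : Set G)) := by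
  rw [show (θ hE S hAN).ker = (A ⊓ centralizer (W0 p E : Set G)).subgroupOf A from ?_]
  · exact Nat.card_congr (subgroupOfEquivOfLe inf_le_left).toEquiv
  · ext a
    rw [MonoidHom.mem_ker, θ_ker, mem_subgroupOf]
    exact ⟨fun h => mem_inf.2 ⟨a.2, h⟩, fun h => (mem_inf.1 h).2⟩

variable (hA : Cfsg.IsElementaryAbelian p A)
include hA

theorem θ_comm (a b : ↥A) : θ hE S hAN a * θ hE S hAN b = θ hE S hAN b * θ hE S hAN a := by
  rw [← map_mul, ← map_mul]
  exact congrArg _ (Subtype.ext (Fusion.Thompson.mul_comm_of_isEA hA a.2 b.2))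

omit hE in
theorem θ_exp (a : ↥A) : a ^ p = 1 := Subtype.ext (hA.2 a a.2)

omit hA in
theorem θ_semi (a : ↥A) : ∃ τ : F →+* F, ∀ (t : F) v, θ hE S hAN a (t • v) = τ t • θ hE S hAN a v :=
  twist hE S _

end Abelian

include S in
theorem small {A : Subgroup G} (hAN : A ≤ normalizer (E : Set G)) (hA : Cfsg.IsElementaryAbelian p A)
    {K : Subgroup G} (hK : K ≤ W0 p E) (hKA : ∀ w ∈ K, ∀ a ∈ A, a * w * a⁻¹ * w⁻¹ ∈ Z0 p E) :
    2 * (Nat.card A * Nat.card K * Nat.card ↥(W0 p E ⊓ Z0 p E)) <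
      Nat.card ↥(A ⊓ centralizer (W0 p E : Set G)) * (Nat.card ↥(W0 p E) * Nat.card ↥(W0 p E)) := by
  have hb := BlockOffenderField.bound (θ hE S hAN) (θ_semi hE S hAN) (θ_comm hE S hAN hA) (θ_exp hA)
  rw [card_ker] at hb
  have hK' := card_le_image S hK (Y := BlockOffenderField.fixed (θ hE S hAN)) fun w hw a => by
    show φ hE S (Subgroup.inclusion hAN a) _ = _
    rw [φ_co]
    exact S.co_eq _ _ (mem_inf.2 ⟨mul_mem (conj_mem (normalizer_le_W hE (hAN a.2)) (hK hw)) (inv_mem (hK hw)),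
      hKA w hw a a.2⟩)
  set z := Nat.card ↥(W0 p E ⊓ Z0 p E) with hz
  have hzpos : 0 < z * z := Nat.mul_pos Nat.card_pos Nat.card_pos
  calc 2 * (Nat.card A * Nat.card K * z)
      ≤ 2 * (Nat.card A * (Nat.card (BlockOffenderField.fixed (θ hE S hAN)) * z) * z) :=
        Nat.mul_le_mul le_rfl (Nat.mul_le_mul (Nat.mul_le_mul le_rfl hK') le_rfl)
    _ = 2 * (Nat.card A * Nat.card (BlockOffenderField.fixed (θ hE S hAN))) * (z * z) := by ring
    _ < Nat.card F * Nat.card F * (Nat.card F * Nat.card F) *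
          Nat.card ↥(A ⊓ centralizer (W0 p E : Set G)) * (z * z) := Nat.mul_lt_mul_of_pos_right hb hzpos
    _ = _ := by rw [card_W S, ← hz]; ring

omit hE in
/-- The preimage of a line. -/
def line (v : Fin 2 → F) : Subgroup G where
  carrier := {w | ∃ h : w ∈ W0 p E, det2 v (S.co ⟨w, h⟩) = 0}
  one_mem' := ⟨one_mem _, by
    rw [show (⟨1, one_mem _⟩ : ↥(W0 p E)) = 1 from rfl, (S.co_eq_zero 1).2 (one_mem _)]; simp [det2]⟩
  mul_mem' := by
    rintro a b ⟨ha, ha'⟩ ⟨hb, hb'⟩
    refine ⟨mul_mem ha hb, ?_⟩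
    rw [show (⟨a * b, mul_mem ha hb⟩ : ↥(W0 p E)) = ⟨a, ha⟩ * ⟨b, hb⟩ from rfl, Sec.co_mul,
      BlockOffenderField.det2_add_right, ha', hb', add_zero]
  inv_mem' := by
    rintro a ⟨ha, ha'⟩
    refine ⟨inv_mem ha, ?_⟩
    rw [show (⟨a⁻¹, inv_mem ha⟩ : ↥(W0 p E)) = ⟨a, ha⟩⁻¹ from rfl, Sec.co_inv]
    simp [det2] at ha' ⊢
    linear_combination -ha'

omit hE in
theorem line_le (v : Fin 2 → F) : line S v ≤ W0 p E := fun _ h => h.1

omit hE in
theorem card_line_le {v w₀ : Fin 2 → F} (hw : det2 v w₀ = 1) :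
    Nat.card (line S v) ≤ Nat.card F * Nat.card ↥(W0 p E ⊓ Z0 p E) := by
  let L : AddSubgroup (Fin 2 → F) :=
    { carrier := {x | det2 v x = 0}
      zero_mem' := by simp [det2]
      add_mem' := fun {a b} (ha : det2 v a = 0) (hb : det2 v b = 0) => by
        show det2 v (a + b) = 0; rw [BlockOffenderField.det2_add_right, ha, hb, add_zero]
      neg_mem' := fun {a} (ha : det2 v a = 0) => by
        show det2 v (-a) = 0; simp [det2] at ha ⊢; linear_combination -ha }
  refine (card_le_image S (line_le S v) (Y := L) fun w hw' => hw'.2).trans (Nat.mul_le_mul ?_ le_rfl)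
  refine BlockOffenderField.card_le_of_line (v := v) fun x (hx : det2 v x = 0) => ⟨det2 x w₀, ?_⟩
  conv_lhs => rw [BlockOffenderField.decompose hw x, hx, zero_smul, add_zero]

omit hE in
theorem mem_thompson {T' : Sylow p G} {A : Subgroup G} (hA : A ∈ Cfsg.maxElementaryAbelianSubgroups p G)
    (hAT : A ≤ (T' : Subgroup G)) : A ≤ Cfsg.thompsonSubgroupOf p (T' : Subgroup G) := by
  rw [Fusion.Thompson.thompsonSubgroupOf_eq hA hAT]
  exact le_sSup ⟨hA, hAT⟩

/-- The common line of the offenders in a Thompson subgroup. -/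
theorem offender_data {T' : Sylow p G}
    (hJN : Cfsg.thompsonSubgroupOf p (T' : Subgroup G) ≤ normalizer (E : Set G))
    (hJC : ¬ Cfsg.thompsonSubgroupOf p (T' : Subgroup G) ≤ centralizer (W0 p E : Set G))
    {P : Subgroup G} (hP : IsPGroup p P) (hPN : P ≤ normalizer (E : Set G))
    (hJP : Cfsg.thompsonSubgroupOf p (T' : Subgroup G) ≤ P) :
    ∃ v w₀ : Fin 2 → F, det2 v w₀ = 1 ∧ (∀ (s : G) (hs : s ∈ P), φ hE S ⟨s, hPN hs⟩ v = v) ∧
      line S v ≤ centralizer (Cfsg.thompsonSubgroupOf p (T' : Subgroup G) : Set G) ∧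
      ∀ g ∈ Pres hE S, φ hE S g v = v → ∀ x ∈ line S v, (g : G) * x * (g : G)⁻¹ = x := by
  obtain ⟨v, hv, hfix⟩ := BlockOffenderField.exists_fixed (p := p) ((φ hE S).comp (Subgroup.inclusion hPN)) hP (by
    cases nonempty_fintype F
    obtain ⟨n, -, hn⟩ := FiniteField.card F p
    rw [BlockOffenderField.card_plane, Nat.card_eq_fintype_card, hn]
    exact Dvd.dvd.mul_right (dvd_pow_self p n.pos.ne') _)
  obtain ⟨w₀, hw⟩ := BlockOffenderField.exists_compl hv
  refine ⟨v, w₀, hw, fun s hs => hfix ⟨s, hs⟩, ?_⟩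
  obtain ⟨A₁, hA₁, hA₁T⟩ := Fusion.Thompson.exists_maxEA_le_sylow T'
  set J := Cfsg.thompsonSubgroupOf p (T' : Subgroup G) with hJ
  have hJeq := Fusion.Thompson.thompsonSubgroupOf_eq hA₁ hA₁T
  -- every offender is the transvection group of the line
  have key : ∀ A ∈ Cfsg.maxElementaryAbelianSubgroups p G, A ≤ (T' : Subgroup G) →
      ¬ A ≤ centralizer (W0 p E : Set G) →
      line S v ≤ centralizer (A : Set G) ∧ ∀ c : F, ∃ a ∈ A, ∃ h : a ∈ N,
        φ hE S ⟨a, h⟩ w₀ = w₀ + c • v ∧ φ hE S ⟨a, h⟩ v = v ∧ (⟨a, h⟩ : ↥(normalizer (E : Set G))) ∈ Lin hE S := by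
    intro A hA hAT hAC
    have hAJ : A ≤ J := mem_thompson hA hAT
    have hAN : A ≤ N := hAJ.trans hJN
    set θA := θ hE S hAN
    have hfixA : ∀ a, θA a v = v := fun a => hfix ⟨a, hJP (hAJ a.2)⟩
    have hne : ∃ a, θA a ≠ 1 := by
      by_contra h
      push Not at h
      exact hAC fun a ha => (θ_ker hE S hAN ⟨a, ha⟩).1 (h _)
    have hwt := BlockShape.weight hA (W_isEA hE)
    have hfx : ∀ w (hw' : w ∈ W0 p E ⊓ centralizer (A : Set G)),
        S.co ⟨w, (mem_inf.1 hw').1⟩ ∈ BlockOffenderField.fixed θA := fun w hw' a => by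
      show φ hE S (Subgroup.inclusion hAN a) _ = _
      rw [φ_co]
      congr 1
      refine Subtype.ext ?_
      show (a : G) * w * (a : G)⁻¹ = w
      rw [mem_centralizer_iff.1 (mem_inf.1 hw').2 a a.2, mul_inv_cancel_right]
    have hCW := card_le_image S (inf_le_left : W0 p E ⊓ centralizer (A : Set G) ≤ W0 p E) hfx
    have hoff : Nat.card F * Nat.card F * Nat.card θA.ker ≤ Nat.card A * Nat.card (BlockOffenderField.fixed θA) := by
      refine Nat.le_of_mul_le_mul_right ?_ (Nat.card_pos (α := ↥(W0 p E ⊓ Z0 p E)))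
      calc Nat.card F * Nat.card F * Nat.card θA.ker * Nat.card ↥(W0 p E ⊓ Z0 p E)
          = Nat.card ↥(A ⊓ centralizer (W0 p E : Set G)) * Nat.card ↥(W0 p E) := by
            rw [card_ker, card_W S]; ring
        _ ≤ Nat.card A * Nat.card ↥(W0 p E ⊓ centralizer (A : Set G)) := hwt
        _ ≤ Nat.card A * (Nat.card (BlockOffenderField.fixed θA) * Nat.card ↥(W0 p E ⊓ Z0 p E)) :=
            Nat.mul_le_mul le_rfl hCW
        _ = _ := by ring
    obtain ⟨hlin, hAle, hline⟩ :=
      BlockOffenderField.offender θA (θ_semi hE S hAN) (θ_comm hE S hAN hA.1) (θ_exp hA.1) hne hoff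
    obtain ⟨hfixed, htrans⟩ := hline v w₀ hfixA hw
    refine ⟨?_, fun c => ?_⟩
    · have hle : W0 p E ⊓ centralizer (A : Set G) ≤ line S v := fun w hw' => ⟨(mem_inf.1 hw').1, by
        obtain ⟨c, hc⟩ := hfixed _ (hfx w hw')
        rw [hc, BlockOffenderField.det2_smul_right, det2_self, mul_zero]⟩
      have hge : Nat.card F * Nat.card ↥(W0 p E ⊓ Z0 p E) ≤ Nat.card ↥(W0 p E ⊓ centralizer (A : Set G)) := by
        refine Nat.le_of_mul_le_mul_left ?_ (Nat.mul_pos (Nat.card_pos (α := F)) (Nat.card_pos (α := θA.ker)))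
        calc Nat.card F * Nat.card θA.ker * (Nat.card F * Nat.card ↥(W0 p E ⊓ Z0 p E))
            = Nat.card ↥(A ⊓ centralizer (W0 p E : Set G)) * Nat.card ↥(W0 p E) := by
              rw [card_ker, card_W S]; ring
          _ ≤ Nat.card A * Nat.card ↥(W0 p E ⊓ centralizer (A : Set G)) := hwt
          _ ≤ _ := Nat.mul_le_mul hAle le_rfl
      rw [← eq_of_le_of_card_ge hle ((card_line_le S hw).trans hge)]
      exact inf_le_right
    · obtain ⟨a, ha⟩ := htrans c
      exact ⟨a, a.2, hAN a.2, ha, hfixA a, hlin a⟩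
  constructor
  · suffices J ≤ centralizer (line S v : Set G) from fun x hx =>
      mem_centralizer_iff.2 fun j hj => (mem_centralizer_iff.1 (this hj) x hx).symm
    rw [hJ, hJeq]
    refine sSup_le fun A hA => ?_
    by_cases hAC : A ≤ centralizer (W0 p E : Set G)
    · exact hAC.trans (centralizer_le (line_le S v))
    · exact fun a ha => mem_centralizer_iff.2 fun x hx =>
        (mem_centralizer_iff.1 ((key A hA.1 hA.2 hAC).1 hx) a ha).symm
  · intro g hg hgv x hx
    obtain ⟨A₀, ⟨hA₀, hA₀T⟩, hA₀C⟩ : ∃ A, (A ∈ Cfsg.maxElementaryAbelianSubgroups p G ∧ A ≤ (T' : Subgroup G)) ∧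
        ¬ A ≤ centralizer (W0 p E : Set G) := by
      by_contra h
      push Not at h
      refine hJC ?_
      rw [hJ, hJeq]
      exact sSup_le fun A hA => h A hA
    obtain ⟨hcen, htr⟩ := key A₀ hA₀ hA₀T hA₀C
    have h1 : det2 v (φ hE S g w₀) = 1 := by
      have := hg v w₀
      rwa [hgv, hw] at this
    have hgw : φ hE S g w₀ = w₀ + det2 (φ hE S g w₀) w₀ • v := by
      conv_lhs => rw [BlockOffenderField.decompose hw (φ hE S g w₀), h1, one_smul]
      exact add_comm _ _
    obtain ⟨a, ha, haN, haw, hav, hal⟩ := htr (det2 (φ hE S g w₀) w₀)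
    have heq : φ hE S g = φ hE S ⟨a, haN⟩ := end_ext fun y => by
      rw [BlockOffenderField.decompose hw y, map_add, map_add, pres_le_lin hE S hg, pres_le_lin hE S hg, hal, hal,
        hgv, hav, hgw, haw]
    have hc : φ hE S (g⁻¹ * ⟨a, haN⟩) = 1 := end_ext fun y => by
      rw [map_mul, end_mul_apply, ← heq, φ_inv, end_one_apply]
    rw [conj_eq ((φ_ker hE S _).1 hc) (line_le S v hx), mem_centralizer_iff.1 (hcen hx) a ha, mul_inv_cancel_right]

theorem baumann_le {T' : Sylow p G} (hJN : Cfsg.thompsonSubgroupOf p (T' : Subgroup G) ≤ N)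
    (hJC : ¬ Cfsg.thompsonSubgroupOf p (T' : Subgroup G) ≤ centralizer (W0 p E : Set G)) :
    Cfsg.baumannSubgroupOf p (T' : Subgroup G) ⊓ N ≤ lin hE S := by
  have hJp : IsPGroup p ↥(Cfsg.thompsonSubgroupOf p (T' : Subgroup G)) :=
    T'.isPGroup'.to_le (Fusion.Thompson.thompsonSubgroupOf_le _)
  obtain ⟨v, w₀, hw, -, hline, -⟩ := offender_data hE S hJN hJC hJp hJN le_rfl
  intro g hg
  obtain ⟨hgB, hgN⟩ := mem_inf.1 hg
  obtain ⟨hgT, hgC⟩ := mem_inf.1 hgB
  refine (mem_lin hE S hgN).2 ?_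
  set k : ↥(normalizer (E : Set G)) := ⟨g, hgN⟩
  obtain ⟨A₁, hA₁, hA₁T⟩ := Fusion.Thompson.exists_maxEA_le_sylow T'
  have hfixline : ∀ c : F, φ hE S k (c • v) = c • v := by
    intro c
    obtain ⟨w, hwc⟩ := S.exists_co (c • v)
    have hwl : (w : G) ∈ line S v := ⟨w.2, by
      rw [show (⟨(w : G), w.2⟩ : ↥(W0 p E)) = w from rfl, hwc, BlockOffenderField.det2_smul_right, det2_self,
        mul_zero]⟩
    have hwJ := hline hwl
    have hwA : (w : G) ∈ A₁ := Fusion.Thompson.mem_of_pow_eq_one_of_centralizes hA₁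
      (centralizer_le (mem_thompson hA₁ hA₁T) hwJ) (W_pow hE w.2)
    have hwΩ : (w : G) ∈ Cfsg.omegaOne p (Cfsg.centerThompsonOf p (T' : Subgroup G)) :=
      subset_closure ⟨mem_inf.2 ⟨mem_thompson hA₁ hA₁T hwA, hwJ⟩, W_pow hE w.2⟩
    rw [← hwc, φ_co]
    congr 1
    refine Subtype.ext ?_
    show g * (w : G) * g⁻¹ = w
    rw [← mem_centralizer_iff.1 hgC _ hwΩ, mul_inv_cancel_right]
  have hlin : ∀ (t : F) y, φ hE S k (t • y) = t • φ hE S k y := by
    intro t y
    obtain ⟨τ, hτ⟩ := twist hE S k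
    have h1 : φ hE S k v = v := by simpa using hfixline 1
    have h2 := hfixline t
    rw [hτ, h1] at h2
    have h3 : τ t = t := by
      have := congrArg (fun y => det2 y w₀) h2
      simpa [BlockOffenderField.det2_smul_left, hw] using this
    rw [hτ, h3]
  obtain ⟨n, hn⟩ := IsPGroup.iff_orderOf.1 T'.isPGroup' ⟨g, hgT⟩
  rw [orderOf_mk] at hn
  exact BlockOffenderField.det_of_pow (p := p) (φ hE S) (k := n) hlin
    (Subtype.ext (by rw [SubgroupClass.coe_pow, OneMemClass.coe_one, ← hn]; exact pow_orderOf_eq_one g))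

include S in
theorem exists_fixed {T' : Sylow p G} (hJN : Cfsg.thompsonSubgroupOf p (T' : Subgroup G) ≤ N)
    (hJC : ¬ Cfsg.thompsonSubgroupOf p (T' : Subgroup G) ≤ centralizer (W0 p E : Set G))
    {P : Subgroup G} (hP : IsPGroup p P) (hPN : P ≤ N)
    (hJP : Cfsg.thompsonSubgroupOf p (T' : Subgroup G) ≤ P) :
    ∃ z ∈ W0 p E, z ∉ Z0 p E ∧ ∀ s ∈ P, s * z * s⁻¹ = z := by
  have hco0 : ∀ w : ↥(W0 p E), S.co w = 0 → (w : G) ∈ Z0 p E := fun w h => (mem_inf.1 ((S.co_eq_zero w).1 h)).2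
  rcases lt_or_ge (Nat.card F) 3 with hq | hq
  · have h2 : Nat.card F = 2 := by have := Finite.one_lt_card (α := F); omega
    set M := BaumannModule.up (1 : F) * BaumannModule.low 1 * (BaumannModule.up (1 : F))⁻¹ *
      (BaumannModule.low (1 : F))⁻¹ with hMdef
    obtain ⟨e, he⟩ := S.mem_range M (BaumannModule.comm_mem _ _)
    refine exists_fixed_of_torus hE (X := W0 p E) (t := e) le_rfl e.2 (normalizer_le_W hE (le_normalizer e.2))
      (fun x hx hd => ?_) (fun h => ?_) hP hPN (hPN.trans (normalizer_le_W hE)) fun s hs x hx => ?_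
    · refine hco0 ⟨x, hx⟩ ?_
      have h1 : φ hE S ⟨e, le_normalizer e.2⟩ (S.co ⟨x, hx⟩) = S.co ⟨x, hx⟩ := by
        rw [φ_co]
        exact S.co_eq _ _ (mem_inf.2 ⟨mul_mem (conj_mem (normalizer_le_W hE (le_normalizer e.2)) hx) (inv_mem hx), hd⟩)
      rw [φ_rho, he, BaumannModule.comm_up_low] at h1
      set y := S.co ⟨x, hx⟩
      have y0 := congrFun h1 0
      have y1 := congrFun h1 1
      simp [Matrix.mulVec, dotProduct, Fin.sum_univ_two] at y0 y1
      funext i; fin_cases i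
      · show y 0 = 0; linear_combination y0 - y1
      · show y 1 = 0; linear_combination y0 - 2 * y1
    · obtain ⟨w, hw⟩ := S.exists_co ![1, 0]
      have : S.co w = 0 := (S.co_eq_zero w).2 (mem_inf.2 ⟨w.2, h w.2⟩)
      rw [hw] at this
      exact one_ne_zero (congrFun this 0)
    · have ht' : s * (e : G) * s⁻¹ ∈ E := conj_mem (hPN hs) e.2
      refine conj_eq ?_ hx
      have hmem : (s * (e : G) * s⁻¹ * e)⁻¹ * (e * (s * (e : G) * s⁻¹)) ∈ E :=
        mul_mem (inv_mem (mul_mem ht' e.2)) (mul_mem e.2 ht')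
      refine (φ_ker hE S ⟨_, le_normalizer hmem⟩).1 (end_ext fun y => ?_)
      rw [show (⟨_, le_normalizer hmem⟩ : ↥(normalizer (E : Set G))) =
        ⟨_, le_normalizer ((⟨_, ht'⟩ * e)⁻¹ * (e * ⟨_, ht'⟩) : ↥E).2⟩ from rfl, φ_rho, end_one_apply, map_mul,
        map_inv, map_mul, map_mul, commutator_comm h2 (M := S.ρ e) (M' := S.ρ ⟨_, ht'⟩)
          (by rw [← S.range]; exact ⟨_, rfl⟩) (by rw [← S.range]; exact ⟨_, rfl⟩), inv_mul_cancel]
      simp
  · obtain ⟨v, w₀, hw, hPfix, -, hcen⟩ := offender_data hE S hJN hJC hP hPN hJP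
    obtain ⟨a, ha0, ha1, hM⟩ : ∃ a : F, a ≠ 0 ∧ a ≠ 1 ∧
        ∃ M ∈ _root_.commutator (Matrix.SpecialLinearGroup (Fin 2) F), M.1.mulVec v = a • v := by
      rcases lt_or_ge (Nat.card F) 4 with h4 | h4
      · have h3 : Nat.card F = 3 := by omega
        cases nonempty_fintype F
        haveI : CharP F 3 := charP_of_card_eq_prime (hp := ⟨Nat.prime_three⟩) (by rw [← Nat.card_eq_fintype_card, h3])
        refine ⟨-1, neg_ne_zero.2 one_ne_zero, fun h => ?_, -1, SympPlane.Setup.neg_one_mem, ?_⟩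
        · exact SympPlane.Setup.two_ne (F := F) (by linear_combination -h)
        · ext i; fin_cases i <;> simp [Matrix.mulVec, dotProduct, Fin.sum_univ_two]
      · obtain ⟨a, ha0, ha1⟩ : ∃ a : F, a ≠ 0 ∧ a ≠ 1 := by
          by_contra h
          push Not at h
          classical
          cases nonempty_fintype F
          have : (Finset.univ : Finset F) ⊆ {0, 1} := fun x _ => by
            rcases eq_or_ne x 0 with rfl | hx
            · simp
            · simp [h x hx]
          have := (Finset.card_le_card this).trans Finset.card_le_two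
          rw [Finset.card_univ, ← Nat.card_eq_fintype_card] at this
          omega
        let g : AddMonoid.End (Fin 2 → F) := AddMonoidHom.mk'
          (fun x => (a * det2 x w₀) • v + (a⁻¹ * det2 v x) • w₀) fun x y => by
            rw [BlockOffenderField.det2_add_left, BlockOffenderField.det2_add_right, mul_add, mul_add, add_smul,
              add_smul]
            abel
        have hgd : ∀ x, g x = (a * det2 x w₀) • v + (a⁻¹ * det2 v x) • w₀ := fun x => rfl
        obtain ⟨M, hM⟩ := exists_sl g (fun t x => by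
            rw [hgd, hgd, BlockOffenderField.det2_smul_left, BlockOffenderField.det2_smul_right, smul_add,
              smul_smul, smul_smul]
            ring_nf) fun x y => by
          rw [hgd, hgd]
          have hxy : det2 x y = det2 x w₀ * det2 v y - det2 v x * det2 y w₀ := by
            conv_lhs => rw [BlockOffenderField.decompose hw x, BlockOffenderField.decompose hw y]
            simp [det2] at hw ⊢
            linear_combination ((x 0 * w₀ 1 - x 1 * w₀ 0) * (v 0 * y 1 - v 1 * y 0) -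
              (v 0 * x 1 - v 1 * x 0) * (y 0 * w₀ 1 - y 1 * w₀ 0)) * hw
          rw [hxy]
          have hwv : det2 w₀ v = -1 := by
            simp [det2] at hw ⊢
            linear_combination -hw
          simp only [BlockOffenderField.det2_add_left, BlockOffenderField.det2_add_right,
            BlockOffenderField.det2_smul_left, BlockOffenderField.det2_smul_right, det2_self, hw, hwv]
          field_simp
          ring
        refine ⟨a, ha0, ha1, M, SL2Semilinear.commutator_top h4 ▸ mem_top _, ?_⟩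
        rw [← hM, hgd, hw, det2_self, mul_one, mul_zero, zero_smul, add_zero]
    obtain ⟨M, hMc, hMv⟩ := hM
    obtain ⟨e, rfl⟩ := S.mem_range M hMc
    have hev : φ hE S ⟨e, le_normalizer e.2⟩ v = a • v := by rw [φ_rho, hMv]
    have hlinE : ∀ (f : ↥(normalizer (E : Set G))), (f : G) ∈ E → ∀ (t : F) y,
        φ hE S f (t • y) = t • φ hE S f y := fun f hf => pres_le_lin hE S (E_mem_pres hE S hf)
    have hXn : ∀ (g : ↥(normalizer (E : Set G))) (b : F), φ hE S g v = b • v →
        (g : G) ∈ normalizer (line S v : Set G) := by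
      intro g b hgb
      refine mem_norm fun x hx => ⟨conj_mem (normalizer_le_W hE g.2) hx.1, ?_⟩
      obtain ⟨hxW, hxl⟩ := hx
      rw [← φ_co hE S g ⟨x, hxW⟩]
      obtain ⟨τ, hτ⟩ := twist hE S g
      rw [BlockOffenderField.decompose hw (S.co ⟨x, hxW⟩), hxl, zero_smul, add_zero, hτ, hgb, smul_smul,
        BlockOffenderField.det2_smul_right, det2_self, mul_zero]
    refine exists_fixed_of_torus hE (line_le S v) e.2 (hXn ⟨e, le_normalizer e.2⟩ a hev) (fun x hx hd => ?_)
      (fun h => ?_) hP hPN (fun s hs => hXn ⟨s, hPN hs⟩ 1 (by rw [one_smul]; exact hPfix s hs)) fun s hs x hx => ?_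
    · obtain ⟨hxW, hxl⟩ := hx
      refine hco0 ⟨x, hxW⟩ ?_
      have h1 : φ hE S ⟨e, le_normalizer e.2⟩ (S.co ⟨x, hxW⟩) = S.co ⟨x, hxW⟩ := by
        rw [φ_co]
        exact S.co_eq _ _ (mem_inf.2
          ⟨mul_mem (conj_mem (normalizer_le_W hE (le_normalizer e.2)) hxW) (inv_mem hxW), hd⟩)
      have hx' : S.co ⟨x, hxW⟩ = det2 (S.co ⟨x, hxW⟩) w₀ • v := by
        conv_lhs => rw [BlockOffenderField.decompose hw (S.co ⟨x, hxW⟩), hxl, zero_smul, add_zero]
      rw [hx', hlinE _ e.2, hev] at h1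
      have h2 := congrArg (fun y => det2 y w₀) h1
      simp only [BlockOffenderField.det2_smul_left, hw, mul_one] at h2
      have : det2 (S.co ⟨x, hxW⟩) w₀ = 0 := by
        by_contra h
        exact ha1 (mul_left_cancel₀ h (by rw [h2, mul_one]))
      rw [hx', this, zero_smul]
    · obtain ⟨w, hw'⟩ := S.exists_co v
      have hwl : (w : G) ∈ line S v := ⟨w.2, by
        rw [show (⟨(w : G), w.2⟩ : ↥(W0 p E)) = w from rfl, hw', det2_self]⟩
      have : S.co w = 0 := (S.co_eq_zero w).2 (mem_inf.2 ⟨w.2, h hwl⟩)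
      rw [hw'] at this
      rw [this] at hw
      simp [det2] at hw
    · have ht' : s * (e : G) * s⁻¹ ∈ E := conj_mem (hPN hs) e.2
      obtain ⟨τ, hτ⟩ := twist hE S ⟨s, hPN hs⟩
      set t₁ : ↥(normalizer (E : Set G)) := ⟨s, hPN hs⟩ * ⟨e, le_normalizer e.2⟩ * ⟨s, hPN hs⟩⁻¹ with ht₁
      set t₂ : ↥(normalizer (E : Set G)) := ⟨e, le_normalizer e.2⟩
      have h1 : φ hE S t₁ v = τ a • v := by
        have hsi : φ hE S (⟨s, hPN hs⟩⁻¹) v = v := by
          conv_lhs => rw [← hPfix s hs]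
          exact φ_inv hE S _ _
        rw [ht₁, map_mul, map_mul, end_mul_apply, end_mul_apply, hsi, hev, hτ, hPfix s hs]
      have hmem : (((t₁ * t₂)⁻¹ * (t₂ * t₁) : ↥(normalizer (E : Set G))) : G) ∈ E :=
        mul_mem (inv_mem (mul_mem ht' e.2)) (mul_mem e.2 ht')
      have hfix : φ hE S ((t₁ * t₂)⁻¹ * (t₂ * t₁)) v = v := by
        have hA : φ hE S (t₂ * t₁) v = φ hE S (t₁ * t₂) v := by
          rw [map_mul (φ hE S) t₂ t₁, map_mul (φ hE S) t₁ t₂, end_mul_apply, end_mul_apply, h1, hev, hlinE t₁ ht', h1,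
            hlinE t₂ e.2, hev, smul_comm]
        rw [map_mul, end_mul_apply, hA, φ_inv]
      have h2 := hcen _ (E_mem_pres hE S hmem) hfix x hx
      calc s * (e : G) * s⁻¹ * e * x * (s * (e : G) * s⁻¹ * e)⁻¹
          = (s * (e : G) * s⁻¹ * e) * ((((s * (e : G) * s⁻¹ * e)⁻¹ * (e * (s * (e : G) * s⁻¹)))) * x *
              (((s * (e : G) * s⁻¹ * e)⁻¹ * (e * (s * (e : G) * s⁻¹))))⁻¹) * (s * (e : G) * s⁻¹ * e)⁻¹ := by
            congr 2
            exact h2.symm
        _ = _ := by group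

theorem shape (hc : ∃ n, Nat.card F = p ^ n) : Shape p E (lin hE S) where
  le := lin_le hE S
  norm := lin_norm hE S
  coprime_mem := fun _ hg hco => coprime_mem hE S hg hco
  conj_le := fun _ h1 h2 h3 => conj_le hE S h1 h2 h3
  index := by
    have hq : 2 ≤ Nat.card F := Finite.one_lt_card
    rw [card_W S]
    exact Nat.mul_le_mul (Nat.mul_le_mul hq hq) le_rfl
  small := fun _ h1 h2 _ h3 h4 => small hE S h1 h2 h3 h4
  baumann_le := fun _ h1 h2 => baumann_le hE S h1 h2
  exists_fixed := fun _ h1 h2 _ h3 h4 h5 => exists_fixed hE S h1 h2 h3 h4 h5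

end CfsgLib.LocalEvenB.BlockShapeSL2
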