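import Cfsg.Agent.Lib.LocalEvenB.BlockClass
import Cfsg.Agent.Lib.LocalEvenB.SubnormalSylow
import Cfsg.Agent.Lib.Solvable.Cores

/-!
Subnormal blocks and the Baumann subgroup.
-/

set_option autoImplicit false
set_option linter.style.haveILetI false
set_option linter.unusedSectionVars false

namespace CfsgLib.LocalEvenB.BlockSubnormal

universe u

open Subgroup CfsgLib.LocalEven CfsgLib.LocalEvenB.BlockTrick CfsgLib.LocalEvenB.BlockCentralizer
  CfsgLib.LocalEvenB.BlockModule CfsgLib.LocalEvenB.BlockShape CfsgLib.LocalEvenB.BlockClass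
open scoped Pointwise commutatorElement IsMulCommutative

variable {G : Type u} [Group G] [Finite G] {p : ℕ} [hp : Fact p.Prime]

theorem count_contra {k z W C A K : ℕ} (hk : 2 ≤ k) (hz : 0 < z) (hW : 4 * z ≤ W)
    (hsmall : 2 * (A * K * z) < C * (W * W)) (hweight : C * W ^ k ≤ k * A * (K * z ^ (k - 1))) : False := by
  obtain ⟨j, rfl⟩ : ∃ j, k = j + 2 := ⟨k - 2, by omega⟩
  have hj : j + 2 ≤ 2 * 4 ^ j := by
    clear hweight hk
    induction j with
    | zero => simp
    | succ i ih => rw [pow_succ]; omega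
  rw [show j + 2 - 1 = j + 1 by omega] at hweight
  have h1 : 2 * (C * W ^ (j + 2)) < 2 * (C * W ^ (j + 2)) :=
    calc 2 * (C * W ^ (j + 2)) ≤ 2 * ((j + 2) * A * (K * z ^ (j + 1))) := Nat.mul_le_mul le_rfl hweight
      _ = (j + 2) * z ^ j * (2 * (A * K * z)) := by ring
      _ < (j + 2) * z ^ j * (C * (W * W)) :=
          Nat.mul_lt_mul_of_pos_left hsmall (Nat.mul_pos (by omega) (pow_pos hz j))
      _ ≤ 2 * 4 ^ j * z ^ j * (C * (W * W)) := Nat.mul_le_mul (Nat.mul_le_mul hj le_rfl) le_rfl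
      _ = 2 * ((4 * z) ^ j * (C * (W * W))) := by ring
      _ ≤ 2 * (W ^ j * (C * (W * W))) :=
          Nat.mul_le_mul le_rfl (Nat.mul_le_mul (Nat.pow_le_pow_left hW j) le_rfl)
      _ = 2 * (C * W ^ (j + 2)) := by ring
  exact lt_irrefl _ h1

variable (hG : centralizer (Cfsg.pCore p G : Set G) ≤ Cfsg.pCore p G)
include hG

/-- A maximal elementary abelian subgroup does not permute the blocks. -/
theorem maxEA_le_normalizer {T : Sylow p G} {D : Subgroup G} (hD : Cfsg.IsBaumannBlock p (T : Subgroup G) D)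
    (hDs : D.IsSubnormal) {A : Subgroup G} (hA : A ∈ Cfsg.maxElementaryAbelianSubgroups p G) :
    A ≤ normalizer (D : Set G) := by
  classical
  by_contra hnot
  obtain ⟨lin, hS⟩ := shape_of_block hD
  haveI := Vc_normal (p := p) (G := G)
  haveI hVm : IsMulCommutative ↥(Vc p G) :=
    IsMulCommutative.of_comm fun a b => Subtype.ext (Vc_central b.2 (Vc_le a.2))
  set W := W0 p D with hW
  set A1 := A ⊓ normalizer (D : Set G) with hA1
  set H : Subgroup ↥A := A1.subgroupOf A with hH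
  letI : Fintype (↥A ⧸ H) := Fintype.ofFinite _
  let rep : ↥A ⧸ H → G := fun q => ((q.out : ↥A) : G)
  have hrepA : ∀ q, rep q ∈ A := fun q => q.out.2
  have hAc : ∀ {a b : G}, a ∈ A → b ∈ A → a * b = b * a := fun ha hb => Fusion.Thompson.mul_comm_of_isEA hA.1 ha hb
  have hdist : ∀ q q', q ≠ q' → ⁅cs (rep q) D, cs (rep q') D⁆ = ⊥ := by
    intro q q' hne
    refine (pairwise (M := ⊤) (fun y _ => class_commute hG hD hDs y) (mem_top _) (mem_top _)).resolve_left
      fun h => hne ?_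
    have h' := congrArg (cs (rep q')⁻¹) h
    rw [cs_cs, cs_cs, inv_mul_cancel, cs_one] at h'
    rw [← QuotientGroup.out_eq' q, ← QuotientGroup.out_eq' q', eq_comm, QuotientGroup.eq]
    exact mem_subgroupOf.2 (mem_inf.2 ⟨mul_mem (inv_mem (hrepA q')) (hrepA q), SylowIn.map_conj_eq_iff.1 h'⟩)
  have hWV : W ≤ Vc p G := BaumannBlockW.w_le hG hD
  let ζ : ↥A ⧸ H → ↥W →* ↥(Vc p G) := fun q =>
    { toFun := fun w => ⟨rep q * w * (rep q)⁻¹, (inferInstance : (Vc p G).Normal).conj_mem _ (hWV w.2) _⟩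
      map_one' := Subtype.ext (by simp)
      map_mul' := fun a b => Subtype.ext (by simp [mul_assoc]) }
  let Φ : (↥A ⧸ H → ↥W) →* ↥(Vc p G) :=
    { toFun := fun f => ∏ q, ζ q (f q)
      map_one' := by simp
      map_mul' := fun f g => by
        rw [← Finset.prod_mul_distrib]
        exact Finset.prod_congr rfl fun q _ => map_mul (ζ q) _ _ }
  set z := Nat.card ↥(W ⊓ Z0 p D) with hz
  -- the kernel is small
  have hker : ∀ f, Φ f = 1 → ∀ q, (f q : G) ∈ Z0 p D := by
    intro f hf q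
    refine mem_inf.2 ⟨W_le_U hD (f q).2, mem_centralizer_iff.2 fun d hd => ?_⟩
    have h1 : ζ q (f q) * ∏ r ∈ Finset.univ.erase q, ζ r (f r) = 1 := by
      rw [Finset.mul_prod_erase _ (fun r => ζ r (f r)) (Finset.mem_univ q)]; exact hf
    have h2 : (∏ r ∈ Finset.univ.erase q, ζ r (f r)) ∈
        (centralizer (cs (rep q) D : Set G)).comap (Vc p G).subtype := by
      refine prod_mem fun r hr => ?_
      exact le_centralizer_of_commute (hdist r q (Finset.ne_of_mem_erase hr)) (mem_cs (W_le_E hD (f r).2))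
    rw [eq_inv_of_mul_eq_one_right h1, inv_mem_iff] at h2
    have h3 := mem_centralizer_iff.1 h2 _ (mem_cs hd)
    have h4 : rep q * d * (rep q)⁻¹ * (rep q * (f q : G) * (rep q)⁻¹) =
        rep q * (f q : G) * (rep q)⁻¹ * (rep q * d * (rep q)⁻¹) := h3
    have h5 := congrArg (fun x => (rep q)⁻¹ * x * rep q) h4
    simpa [mul_assoc] using h5
  -- the fixed points
  let ψ : (↥A ⧸ H → ↥W) →* G := (Vc p G).subtype.comp Φ
  have hψker : ψ.ker = Φ.ker := MonoidHom.ker_comp_of_injective _ _ (Vc p G).subtype_injective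
    |> fun h => h
  set P : Subgroup (↥A ⧸ H → ↥W) := (centralizer (A : Set G)).comap ψ with hP
  have hrel : ∀ f ∈ P, ∀ (a : ↥A) (q : ↥A ⧸ H), ∃ r ∈ A1, r = (rep q)⁻¹ * a * rep (a⁻¹ • q) ∧
      r * (f (a⁻¹ • q) : G) * r⁻¹ * (f q : G)⁻¹ ∈ Z0 p D := by
    intro f hf a q
    have hr : ∀ q : ↥A ⧸ H, (rep q)⁻¹ * a * rep (a⁻¹ • q) ∈ A1 := fun q => by
      have h1 : (QuotientGroup.mk (a * (a⁻¹ • q).out : ↥A) : ↥A ⧸ H) = QuotientGroup.mk q.out := by
        rw [QuotientGroup.out_eq' q]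
        show a • (QuotientGroup.mk ((a⁻¹ • q).out) : ↥A ⧸ H) = q
        rw [QuotientGroup.out_eq', smul_inv_smul]
      have h2 := mem_subgroupOf.1 (QuotientGroup.eq.1 h1.symm)
      simpa [rep, mul_assoc] using h2
    have hrW : ∀ q, (rep q)⁻¹ * a * rep (a⁻¹ • q) ∈ normalizer (W : Set G) := fun q =>
      normalizer_le_W hD (mem_inf.1 (hr q)).2
    let f' : ↥A ⧸ H → ↥W := fun q => ⟨(rep q)⁻¹ * a * rep (a⁻¹ • q) * (f (a⁻¹ • q) : G) *
      ((rep q)⁻¹ * a * rep (a⁻¹ • q))⁻¹, conj_mem (hrW q) (f (a⁻¹ • q)).2⟩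
    let ca : ↥(Vc p G) →* ↥(Vc p G) :=
      { toFun := fun v => ⟨(a : G) * v * (a : G)⁻¹, (inferInstance : (Vc p G).Normal).conj_mem _ v.2 _⟩
        map_one' := Subtype.ext (by simp)
        map_mul' := fun x y => Subtype.ext (by simp [mul_assoc]) }
    have hΦ : Φ f' = Φ f := by
      have h1 : Φ f' = ca (Φ f) := by
        show ∏ q, ζ q (f' q) = ca (∏ q, ζ q (f q))
        rw [map_prod]
        refine Fintype.prod_equiv (MulAction.toPerm a⁻¹) _ _ fun q => Subtype.ext ?_
        show rep q * ((rep q)⁻¹ * a * rep (a⁻¹ • q) * (f (a⁻¹ • q) : G) * ((rep q)⁻¹ * a * rep (a⁻¹ • q))⁻¹) *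
          (rep q)⁻¹ = (a : G) * (rep (a⁻¹ • q) * (f (a⁻¹ • q) : G) * (rep (a⁻¹ • q))⁻¹) * (a : G)⁻¹
        group
      rw [h1]
      refine Subtype.ext ?_
      show (a : G) * (Φ f : G) * (a : G)⁻¹ = (Φ f : G)
      have hfc : (Φ f : G) ∈ centralizer (A : Set G) := hf
      rw [mem_centralizer_iff.1 hfc a a.2, mul_inv_cancel_right]
    refine ⟨_, hr q, rfl, ?_⟩
    have := hker (f' * f⁻¹) (by rw [map_mul, map_inv, hΦ, mul_inv_cancel]) q
    simpa [f'] using this
  set q₀ : ↥A ⧸ H := QuotientGroup.mk 1 with hq₀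
  let K : Subgroup G :=
    { carrier := {w | w ∈ W ∧ ∀ a ∈ A1, a * w * a⁻¹ * w⁻¹ ∈ Z0 p D}
      one_mem' := ⟨one_mem _, fun a _ => by simp⟩
      mul_mem' := by
        rintro u v ⟨hu, hu'⟩ ⟨hv, hv'⟩
        refine ⟨mul_mem hu hv, fun a ha => ?_⟩
        have haW := normalizer_le_W hD (mem_inf.1 ha).2
        have h : (a * v * a⁻¹ * v⁻¹) * u⁻¹ = u⁻¹ * (a * v * a⁻¹ * v⁻¹) :=
          W_comm hD (mul_mem (conj_mem haW hv) (inv_mem hv)) (inv_mem hu)
        rw [show a * (u * v) * a⁻¹ * (u * v)⁻¹ = a * u * a⁻¹ * ((a * v * a⁻¹ * v⁻¹) * u⁻¹) by group, h,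
          ← mul_assoc]
        exact mul_mem (hu' a ha) (hv' a ha)
      inv_mem' := by
        rintro u ⟨hu, hu'⟩
        refine ⟨inv_mem hu, fun a ha => ?_⟩
        have haW := normalizer_le_W hD (mem_inf.1 ha).2
        rw [show a * u⁻¹ * a⁻¹ * u⁻¹⁻¹ = (a * u * a⁻¹)⁻¹ * u by group,
          W_comm hD (inv_mem (conj_mem haW hu)) hu, show u * (a * u * a⁻¹)⁻¹ = (a * u * a⁻¹ * u⁻¹)⁻¹ by group]
        exact inv_mem (hu' a ha) }
  have hfK : ∀ f ∈ P, (f q₀ : G) ∈ K := fun f hf => ⟨(f q₀).2, fun a ha => by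
    set b : ↥A := ⟨a, (mem_inf.1 ha).1⟩
    have hfix : b⁻¹ • q₀ = q₀ := by
      rw [hq₀]
      show (QuotientGroup.mk (b⁻¹ * 1) : ↥A ⧸ H) = QuotientGroup.mk 1
      rw [mul_one, QuotientGroup.eq, inv_inv, mul_one]
      exact mem_subgroupOf.2 ha
    obtain ⟨r, -, hr, hrZ⟩ := hrel f hf b q₀
    rw [hfix] at hr hrZ
    have : r = a := by
      rw [hr, mul_assoc, hAc (mem_inf.1 ha).1 (hrepA q₀), inv_mul_cancel_left]
    rwa [this] at hrZ⟩
  let P₀ : Subgroup ↥P := ((Pi.evalMonoidHom (fun _ : ↥A ⧸ H => ↥W) q₀).comp P.subtype).ker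
  have hP₀ : ∀ f : P₀, ∀ q, ((f : ↥P) : ↥A ⧸ H → ↥W) q ∈ (Z0 p D).subgroupOf W := fun f q => by
    have hf : ((f : ↥P) : ↥A ⧸ H → ↥W) q₀ = 1 := f.2
    set a : ↥A := q.out * q₀.out⁻¹
    have hq : a⁻¹ • q = q₀ := by
      conv_lhs => rw [← QuotientGroup.out_eq' q]
      show (QuotientGroup.mk (a⁻¹ * q.out) : ↥A ⧸ H) = q₀
      rw [show a⁻¹ * q.out = q₀.out by simp [a], QuotientGroup.out_eq']
    obtain ⟨r, -, -, hrZ⟩ := hrel _ (f : ↥P).2 a q
    rw [hq, hf] at hrZ
    simp only [OneMemClass.coe_one, mul_one, mul_inv_cancel, one_mul] at hrZ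
    exact mem_subgroupOf.2 (inv_mem_iff.1 hrZ)
  set k := Nat.card (↥A ⧸ H) with hk
  have hPcard : Nat.card P ≤ Nat.card K * z ^ (k - 1) := by
    refine (BlockOffenderField.card_le_of_fibre (fun f : ↥P => (⟨_, hfK f f.2⟩ : K)) P₀ fun f g hfg => ?_).trans
      (Nat.mul_le_mul le_rfl ?_)
    · rw [MonoidHom.mem_ker]
      simp only [Subtype.mk.injEq] at hfg
      show ((f : ↥A ⧸ H → ↥W) q₀)⁻¹ * (g : ↥A ⧸ H → ↥W) q₀ = 1
      rw [Subtype.ext hfg, inv_mul_cancel]
    · have hcard : Nat.card ({q : ↥A ⧸ H // q ≠ q₀} → ↥(W ⊓ Z0 p D)) = z ^ (k - 1) := by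
        rw [Nat.card_fun, ← hz, hk, Nat.card_eq_fintype_card, Nat.card_eq_fintype_card (α := ↥A ⧸ H)]
        congr 1
        rw [Fintype.card_subtype_compl, Fintype.card_subtype_eq]
      rw [← hcard]
      refine Nat.card_le_card_of_injective (fun f q => (⟨(((f : ↥P) : ↥A ⧸ H → ↥W) q : G),
        mem_inf.2 ⟨(((f : ↥P) : ↥A ⧸ H → ↥W) q).2, mem_subgroupOf.1 (hP₀ f q)⟩⟩ : ↥(W ⊓ Z0 p D)))
        fun f g hfg => Subtype.ext (Subtype.ext (funext fun q => ?_))
      rcases eq_or_ne q q₀ with rfl | hne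
      · exact (show _ = (1 : ↥W) from f.2).trans (show _ = (1 : ↥W) from g.2).symm
      · exact Subtype.ext (congrArg Subtype.val (congrFun hfg ⟨q, hne⟩) :)
  -- weights
  set Y := ψ.range with hY
  have hYV : Y ≤ Vc p G := by
    rintro _ ⟨f, rfl⟩
    exact (Φ f).2
  have hYea : Cfsg.IsElementaryAbelian p Y := isEA_of_comm
    (fun a ha b hb => Vc_central (hYV hb) (Vc_le (hYV ha))) fun a ha => BaumannBlockW.pow_eq_one_of_mem _ (hYV ha)
  have hwt := BlockShape.weight hA hYea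
  have hdom : Nat.card Y * Nat.card ψ.ker = Nat.card W ^ k := by
    rw [hY, ← index_ker, mul_comm, card_mul_index, Nat.card_fun, hk]
  have hYC : Nat.card ↥(Y ⊓ centralizer (A : Set G)) * Nat.card ψ.ker = Nat.card P := by
    have hk' : ψ.ker ≤ P := fun f (hf : ψ f = 1) => by
      show ψ f ∈ centralizer (A : Set G)
      rw [hf]; exact one_mem _
    rw [show Y ⊓ centralizer (A : Set G) = P.map ψ by rw [hP, map_comap_eq, hY]]
    have := SubnormalSylow.card_map_mul ψ P
    rwa [inf_eq_left.2 hk'] at this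
  have hC : Nat.card ↥(A1 ⊓ centralizer (W : Set G)) ≤ Nat.card ↥(A ⊓ centralizer (Y : Set G)) := by
    refine card_le_of_le (le_inf (inf_le_left.trans inf_le_left) fun a ha => mem_centralizer_iff.2 ?_)
    have haA : a ∈ A := (mem_inf.1 (mem_inf.1 ha).1).1
    suffices Y ≤ centralizer ({a} : Set G) from fun y hy => (mem_centralizer_singleton_iff.1 (this hy))
    rintro _ ⟨f, rfl⟩
    have h2 : Φ f ∈ (centralizer ({a} : Set G)).comap (Vc p G).subtype := by
      refine prod_mem fun q _ => mem_centralizer_singleton_iff.2 ?_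
      show rep q * (f q : G) * (rep q)⁻¹ * a = a * (rep q * (f q : G) * (rep q)⁻¹)
      have hac := hAc haA (hrepA q)
      have haw := mem_centralizer_iff.1 (mem_inf.1 ha).2 _ (f q).2
      have hai := hAc haA (inv_mem (hrepA q))
      calc rep q * (f q : G) * (rep q)⁻¹ * a = rep q * (f q : G) * (a * (rep q)⁻¹) := by rw [hai]; group
        _ = rep q * ((f q : G) * a) * (rep q)⁻¹ := by group
        _ = (rep q * a) * (f q : G) * (rep q)⁻¹ := by rw [haw]; group
        _ = a * (rep q * (f q : G) * (rep q)⁻¹) := by rw [← hac]; group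
    exact h2
  have hA1card : Nat.card A = k * Nat.card A1 := by
    rw [hk, ← index_eq_card, mul_comm, ← Nat.card_congr (subgroupOfEquivOfLe (inf_le_left : A1 ≤ A)).toEquiv]
    exact (card_mul_index H).symm
  have hk2 : 2 ≤ k := by
    rw [hk, ← index_eq_card]
    have h1 : H.index ≠ 1 := fun e => by
      rw [index_eq_one, hH, subgroupOf_eq_top] at e
      exact hnot (e.trans inf_le_right)
    have h0 : H.index ≠ 0 := index_ne_zero_of_finite
    omega
  refine count_contra hk2 Nat.card_pos hS.index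
    (hS.small A1 inf_le_right (Fusion.Thompson.isEA_le hA.1 inf_le_left) K (fun w hw => hw.1)
      fun w hw a ha => hw.2 a ha) ?_
  calc Nat.card ↥(A1 ⊓ centralizer (W : Set G)) * Nat.card W ^ k
      ≤ Nat.card ↥(A ⊓ centralizer (Y : Set G)) * (Nat.card Y * Nat.card ψ.ker) := by
        rw [hdom]; exact Nat.mul_le_mul hC le_rfl
    _ ≤ Nat.card A * Nat.card ↥(Y ⊓ centralizer (A : Set G)) * Nat.card ψ.ker := by
        rw [← mul_assoc]; exact Nat.mul_le_mul hwt le_rfl
    _ = k * Nat.card A1 * Nat.card P := by rw [mul_assoc, hYC, hA1card]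
    _ ≤ _ := Nat.mul_le_mul le_rfl hPcard

omit hG in
theorem le_kernel_iff {E : Subgroup G} {x : G} :
    x ∈ (⨅ y : G, normalizer (cs y E : Set G)) ↔ ∀ y, x ∈ normalizer (cs y E : Set G) := mem_iInf

omit hG in
theorem kernel_normal (E : Subgroup G) : (⨅ y : G, normalizer (cs y E : Set G)).Normal := by
  refine ⟨fun x hx g => mem_iInf.2 fun y => ?_⟩
  have h := SylowIn.map_conj_eq_iff.2 (mem_iInf.1 hx (g⁻¹ * y))
  refine SylowIn.map_conj_eq_iff.1 ?_
  have h' : cs x (cs (g⁻¹ * y) E) = cs (g⁻¹ * y) E := h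
  rw [cs_cs] at h'
  have h'' := congrArg (cs g) h'
  rw [cs_cs, cs_cs, mul_inv_cancel_left] at h''
  show cs (g * x * g⁻¹) (cs y E) = cs y E
  rw [cs_cs, show g * x * g⁻¹ * y = g * (x * (g⁻¹ * y)) by group]
  exact h''

omit hG in
theorem baumann_normal : (Cfsg.baumannSubgroup p G).Normal := by
  rw [← normalizer_eq_top_iff, eq_top_iff]
  intro g _
  refine SylowIn.map_conj_eq_iff.1 (eq_of_le_of_card_ge ?_ (card_map_of_injective (MulAut.conj g).injective).ge)
  rw [Cfsg.baumannSubgroup, Subgroup.map_iSup]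
  refine iSup_le fun S => ?_
  rw [← BlockTrick.Exc.baumann_smul (p := p) g S]
  exact le_iSup (fun T : Sylow p G => Cfsg.baumannSubgroupOf p (T : Subgroup G)) (g • S)

/-- A subnormal block: it is normal in the Baumann subgroup, it is a block for every Sylow subgroup, and every
block is contained in it or commutes with it. -/
theorem main {T : Sylow p G} {E : Subgroup G} (hE : Cfsg.IsBaumannBlock p (T : Subgroup G) E)
    (hEs : E.IsSubnormal) :
    E ≤ Cfsg.baumannSubgroup p G ∧ Cfsg.baumannSubgroup p G ≤ normalizer (E : Set G) ∧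
      (∀ T' : Sylow p G, Cfsg.IsBaumannBlock p (T' : Subgroup G) E) ∧
      ∀ F : Subgroup G, (∃ T' : Sylow p G, Cfsg.IsBaumannBlock p (T' : Subgroup G) F) →
        F ≤ E ∨ ⁅F, E⁆ = ⊥ := by
  haveI := Vc_normal (p := p) (G := G)
  haveI hBn := baumann_normal (G := G) (p := p)
  set K := ⨅ y : G, normalizer (cs y E : Set G) with hKdef
  haveI hKn : K.Normal := kernel_normal E
  have hmax : ∀ A ∈ Cfsg.maxElementaryAbelianSubgroups p G, A ≤ K := fun A hA => le_iInf fun y =>
    maxEA_le_normalizer hG (BlockConj.block_map hE y) (isSubnormal_cs hEs y) hA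
  have hKE : K ≤ normalizer (E : Set G) := (iInf_le _ 1).trans (by rw [cs_one])
  obtain ⟨A₁, hA₁, hA₁T⟩ := Fusion.Thompson.exists_maxEA_le_sylow T
  set J := Cfsg.thompsonSubgroupOf p (T : Subgroup G) with hJdef
  have hJeq := Fusion.Thompson.thompsonSubgroupOf_eq hA₁ hA₁T
  have hJK : J ≤ K := by
    rw [hJdef, hJeq]
    exact sSup_le fun A hA => hmax A hA.1
  have hJp : IsPGroup p ↥J := T.isPGroup'.to_le (Fusion.Thompson.thompsonSubgroupOf_le _)
  have hnc : ∀ {D : Subgroup G} {S : Sylow p G}, Cfsg.IsBaumannBlock p (S : Subgroup G) D →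
      ¬ Cfsg.thompsonSubgroupOf p (S : Subgroup G) ≤ centralizer (W0 p D : Set G) := fun hD h =>
    BaumannBlockW.w_moved hD (commutator_eq_bot_iff_le_centralizer.2 (Subgroup.le_centralizer_iff.1 h))
  obtain ⟨lin, hS⟩ := shape_of_block hE
  -- `C(Ω₁(Z(J(T))))` normalises `E`
  set C := centralizer (Cfsg.omegaOne p (Cfsg.centerThompsonOf p (T : Subgroup G)) : Set G) with hCdef
  have hCE : C ≤ normalizer (E : Set G) := by
    intro c hc
    obtain ⟨z, hzW, hzZ, hzfix⟩ := hS.exists_fixed T (hJK.trans hKE) (hnc hE) J hJp (hJK.trans hKE) le_rfl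
    have hzJ : z ∈ centralizer (J : Set G) :=
      mem_centralizer_iff.2 fun j hj => mul_inv_eq_iff_eq_mul.1 (hzfix j hj)
    have hA₁J : A₁ ≤ J := by rw [hJdef, hJeq]; exact le_sSup ⟨hA₁, hA₁T⟩
    have hzA := Fusion.Thompson.mem_of_pow_eq_one_of_centralizes hA₁ (centralizer_le hA₁J hzJ) (W_pow hE hzW)
    have hzΩ : z ∈ Cfsg.omegaOne p (Cfsg.centerThompsonOf p (T : Subgroup G)) :=
      subset_closure ⟨mem_inf.2 ⟨hA₁J hzA, hzJ⟩, W_pow hE hzW⟩
    rcases class_commute hG hE hEs c with h | h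
    · exact SylowIn.map_conj_eq_iff.1 h
    refine absurd (mem_inf.2 ⟨W_le_U hE hzW, ?_⟩) hzZ
    have : c * z * c⁻¹ = z := by
      rw [← mem_centralizer_iff.1 hc z hzΩ, mul_inv_cancel_right]
    rw [← this]
    exact le_centralizer_of_commute h (mem_cs (W_le_E hE hzW))
  -- representatives of the conjugates normalising `T ∩ K`
  have hPsyl : SylowIn.IsSylowIn p ((T : Subgroup G) ⊓ K) K := SylowIn.IsSylowIn.of_card inf_le_right
    (T.isPGroup'.to_le inf_le_left) fun P => by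
      rw [SubnormalSylow.card_inf_sylow T hKn.isSubnormal, P.card_eq_multiplicity]
  have hrep : ∀ y : G, ∃ n ∈ normalizer (((T : Subgroup G) ⊓ K : Subgroup G) : Set G), cs y E = cs n E := by
    intro y
    obtain ⟨l, hl, n, hn, rfl⟩ := SylowIn.frattini_argument hPsyl (H := ⊤)
      (BaumannBlockW.le_normalizer_of_normal K ⊤) le_top (g := y) (mem_top y)
    refine ⟨n, (mem_inf.1 hn).2, ?_⟩
    rw [← cs_cs]
    exact cs_eq_of_mem (mem_iInf.1 hl n)
  have hJP : J = Cfsg.thompsonSubgroupOf p ((T : Subgroup G) ⊓ K) := by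
    rw [hJdef, hJeq, Fusion.Thompson.thompsonSubgroupOf_eq hA₁ (le_inf hA₁T (hmax A₁ hA₁))]
    exact le_antisymm (sSup_le fun A hA => le_sSup ⟨hA.1, le_inf hA.2 (hmax A hA.1)⟩)
      (sSup_le fun A hA => le_sSup ⟨hA.1, hA.2.trans inf_le_left⟩)
  have hNJ : normalizer (((T : Subgroup G) ⊓ K : Subgroup G) : Set G) ≤ normalizer (J : Set G) := by
    rw [hJP]; exact Fusion.Thompson.normalizer_le_normalizer_thompsonOf _
  have hNC : normalizer (((T : Subgroup G) ⊓ K : Subgroup G) : Set G) ≤ normalizer (C : Set G) :=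
    hNJ.trans (BaumannBlock.normalizer_le_normalizer_centerThompson _)
  have hCK : C ≤ K := le_iInf fun y => by
    obtain ⟨n, hn, h⟩ := hrep y
    rw [h, cs, SylowIn.normalizer_map_conj, ← SylowIn.map_conj_eq_iff.2 (hNC hn)]
    exact map_mono hCE
  set B := Cfsg.baumannSubgroupOf p (T : Subgroup G) with hBdef
  have hBK : B ≤ K := inf_le_right.trans hCK
  have hBGK : Cfsg.baumannSubgroup p G ≤ K := iSup_le fun S => by
    obtain ⟨g, hg⟩ := MulAction.exists_smul_eq G T S
    rw [← hg, BlockTrick.Exc.baumann_smul (p := p) g T]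
    exact (map_mono hBK).trans (SylowIn.map_conj_eq_iff.2 (normalizer_eq_top_iff.2 hKn ▸ mem_top g)).le
  have hNB : normalizer (((T : Subgroup G) ⊓ K : Subgroup G) : Set G) ≤ normalizer (B : Set G) := by
    rw [show B = ((T : Subgroup G) ⊓ K) ⊓ C by
      rw [inf_assoc, inf_eq_right.2 hCK]; rfl]
    exact le_normalizer_inf le_rfl hNC
  -- every conjugate is a block for `T`
  have hblock : ∀ y, Cfsg.IsBaumannBlock p (T : Subgroup G) (cs y E) := by
    intro y
    obtain ⟨n, hn, h⟩ := hrep y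
    rw [h]
    obtain ⟨h1, h2, h3, -, h5⟩ := BlockConj.block_map hE n
    have hBn' : Cfsg.baumannSubgroupOf p ((n • T : Sylow p G) : Subgroup G) = B := by
      rw [BlockTrick.Exc.baumann_smul (p := p) n T]
      exact SylowIn.map_conj_eq_iff.2 (hNB hn)
    refine ⟨h1, by rw [hBn'] at h2; exact h2, h3, fun h4 => ?_, by rw [hBn'] at h5; exact h5⟩
    set D := cs n E with hDdef
    have hD := BlockConj.block_map hE n
    have hDs := isSubnormal_cs hEs n
    obtain ⟨lin', hS'⟩ := shape_of_block hD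
    have hJn : Cfsg.thompsonSubgroupOf p ((n • T : Sylow p G) : Subgroup G) = J := by
      rw [Fusion.Thompson.thompsonSubgroupOf_smul]
      exact SylowIn.map_conj_eq_iff.2 (hNJ hn)
    have hKD : K ≤ normalizer (D : Set G) := iInf_le _ n
    set S := (T : Subgroup G) ⊓ normalizer (D : Set G) with hSdef
    obtain ⟨z, hzW, hzZ, hzfix⟩ := hS'.exists_fixed (n • T) (hJn ▸ hJK.trans hKD) (hnc hD) S
      (T.isPGroup'.to_le inf_le_left) inf_le_right
      (hJn ▸ le_inf (Fusion.Thompson.thompsonSubgroupOf_le _) (hJK.trans hKD))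
    haveI hVm : IsMulCommutative ↥(Vc p G) :=
      IsMulCommutative.of_comm fun a b => Subtype.ext (Vc_central b.2 (Vc_le a.2))
    set TS := S.subgroupOf (T : Subgroup G) with hTS
    letI : Fintype (↥(T : Subgroup G) ⧸ TS) := Fintype.ofFinite _
    let ζ : ↥(T : Subgroup G) → ↥(Vc p G) := fun t =>
      ⟨(t : G) * z * (t : G)⁻¹, (inferInstance : (Vc p G).Normal).conj_mem _ (BaumannBlockW.w_le hG hD hzW) _⟩
    have hζ : ∀ t t' : ↥(T : Subgroup G), t⁻¹ * t' ∈ TS → ζ t' = ζ t := fun t t' ht => Subtype.ext (by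
      have := hzfix _ (mem_subgroupOf.1 ht)
      show (t' : G) * z * (t' : G)⁻¹ = (t : G) * z * (t : G)⁻¹
      conv_rhs => rw [← this]
      simp [mul_assoc])
    set Pr := ∏ q : ↥(T : Subgroup G) ⧸ TS, ζ q.out with hPr
    have hPc : ∀ t : ↥(T : Subgroup G), (t : G) * (Pr : G) * (t : G)⁻¹ = Pr := by
      intro t
      let ct : ↥(Vc p G) →* ↥(Vc p G) :=
        { toFun := fun v => ⟨(t : G) * v * (t : G)⁻¹, (inferInstance : (Vc p G).Normal).conj_mem _ v.2 _⟩
          map_one' := Subtype.ext (by simp)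
          map_mul' := fun x y => Subtype.ext (by simp [mul_assoc]) }
      show (ct Pr : G) = Pr
      congr 1
      rw [hPr, map_prod]
      refine Fintype.prod_equiv (MulAction.toPerm t) _ _ fun q => ?_
      refine Eq.trans ?_ (hζ (t * q.out) _ ?_).symm
      · exact Subtype.ext (by simp [ct, ζ, mul_assoc])
      · show (t * q.out)⁻¹ * (t • q).out ∈ TS
        rw [← QuotientGroup.eq, QuotientGroup.out_eq']
        show (QuotientGroup.mk (t * q.out) : _ ⧸ TS) = t • q
        conv_rhs => rw [← QuotientGroup.out_eq' q]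
        rfl
    have hPΩ : (Pr : G) ∈ Cfsg.omegaOneCenter p (T : Subgroup G) :=
      mem_omegaOneCenter (CfsgLib.Solvable.Cores.pCore_le_sylow T (Vc_le Pr.2))
        (fun t ht => mul_inv_eq_iff_eq_mul.1 (hPc ⟨t, ht⟩)) (BaumannBlockW.pow_eq_one_of_mem _ Pr.2)
    have hDc : cs n E ≤ centralizer (Cfsg.omegaOneCenter p (T : Subgroup G) : Set G) :=
      commutator_eq_bot_iff_le_centralizer.1 h4
    refine hzZ (mem_inf.2 ⟨W_le_U hD hzW, mem_centralizer_iff.2 fun d hd => ?_⟩)
    have hd' : Commute d (Pr : G) := (mem_centralizer_iff.1 (hDc hd) _ hPΩ).symm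
    classical
    set q₀ : ↥(T : Subgroup G) ⧸ TS := QuotientGroup.mk 1 with hq₀
    have hq0 : ζ q₀.out = ζ 1 := hζ 1 _ (by
      rw [inv_one, one_mul]
      have h := QuotientGroup.eq.1 ((QuotientGroup.out_eq' q₀).trans hq₀)
      simpa using inv_mem h)
    have hothers : Commute d ((∏ q ∈ Finset.univ.erase q₀, ζ q.out : ↥(Vc p G)) : G) := by
      have hmem : (∏ q ∈ Finset.univ.erase q₀, ζ q.out) ∈
          (centralizer (D : Set G)).comap (Vc p G).subtype := by
        refine prod_mem fun q hq => ?_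
        have hne := Finset.ne_of_mem_erase hq
        rcases class_commute hG hD hDs (q.out : G) with h' | h'
        · refine absurd ?_ hne
          rw [hq₀, ← QuotientGroup.out_eq' q, QuotientGroup.eq, mul_one, inv_mem_iff]
          refine mem_subgroupOf.2 ?_
          exact mem_inf.2 ⟨q.out.2, SylowIn.map_conj_eq_iff.1 h'⟩
        · exact le_centralizer_of_commute h' (mem_cs (W_le_E hD hzW))
      exact mem_centralizer_iff.1 hmem d hd
    have hsplit : (Pr : G) = z * ((∏ q ∈ Finset.univ.erase q₀, ζ q.out : ↥(Vc p G)) : G) := by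
      rw [hPr, ← Finset.mul_prod_erase _ _ (Finset.mem_univ q₀), Subgroup.coe_mul, hq0]
      congr 1
      simp [ζ]
    have := hd'.mul_right hothers.inv_right
    rwa [hsplit, mul_inv_cancel_right] at this
  have hall : ∀ T' : Sylow p G, Cfsg.IsBaumannBlock p (T' : Subgroup G) E := fun T' => by
    obtain ⟨g, rfl⟩ := MulAction.exists_smul_eq G T T'
    have := BlockConj.block_map (hblock g⁻¹) g
    rwa [show (cs g⁻¹ E).map (MulAut.conj g).toMonoidHom = E by
      rw [show (cs g⁻¹ E).map (MulAut.conj g).toMonoidHom = cs g (cs g⁻¹ E) from rfl, cs_cs, mul_inv_cancel, cs_one]]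
      at this
  have hBGE : Cfsg.baumannSubgroup p G ≤ normalizer (E : Set G) := hBGK.trans hKE
  have hin : ∀ (S : Sylow p G) (F : Subgroup G), Cfsg.IsBaumannBlock p (S : Subgroup G) F →
      F ≤ Cfsg.baumannSubgroup p G := fun S F hF => by
    rw [← hF.2.1]
    have hle : Cfsg.baumannSubgroupOf p (S : Subgroup G) ≤ Cfsg.baumannSubgroup p G :=
      le_iSup (fun T : Sylow p G => Cfsg.baumannSubgroupOf p (T : Subgroup G)) S
    exact (commutator_mono le_rfl hle).trans (commutator_le_right F (Cfsg.baumannSubgroup p G))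
  refine ⟨hin T E hE, hBGE, hall, ?_⟩
  rintro F ⟨T', hF⟩
  have hFE : F ≤ normalizer (E : Set G) := (hin T' F hF).trans hBGE
  have hE' := hall T'
  have hQE := Q_le_R_of_subnormal hE' hEs
  rcases commutes_or_le hG hE' hF hQE hFE with h | hW
  · exact Or.inr h
  refine Or.inl (le_of_le_sup hG hE' hF hQE hFE hW (le_of_coprime_mem hF.1 fun f hf hco => ?_))
  have hB' : Cfsg.baumannSubgroupOf p (T' : Subgroup G) ≤ normalizer (E : Set G) :=
    (le_iSup (fun T : Sylow p G => Cfsg.baumannSubgroupOf p (T : Subgroup G)) T').trans hBGE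
  have hJ' := BaumannBlock.thompson_le_baumann (p := p) (T' : Subgroup G)
  have hBlin : Cfsg.baumannSubgroupOf p (T' : Subgroup G) ≤ lin :=
    (le_inf le_rfl hB').trans (hS.baumann_le T' (hJ'.trans hB') (hnc hE'))
  have hFlin : F ≤ lin := by
    rw [← hF.2.1]
    refine commutator_le.2 fun x hx b hb => ?_
    rw [commutatorElement_def]
    exact mul_mem (conj_mem (hS.norm (hFE hx)) (hBlin hb)) (inv_mem (hBlin hb))
  exact hS.coprime_mem f (hFlin hf) hco

end CfsgLib.LocalEvenB.BlockSubnormal
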