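import Cfsg.Agent.Lib.Perm.Quad.SL2Normal
import Cfsg.Agent.Lib.LocalEvenB.BaumannModule

/-!
# Symplectic planes in characteristic three

A group acts by isometries on a biadditive alternating form and, through a second homomorphism,
on a natural `SL₂(F)`-plane. If no element trivial in the second action inverts the plane and the
translates of the plane span, those elements act trivially.
-/

set_option autoImplicit false
set_option linter.unusedSectionVars false

namespace CfsgLib.LocalEvenB.SympPlane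

open Matrix CfsgLib.LocalEvenB.BaumannModule

variable {F : Type*} [Field F]

def det2 (a b : Fin 2 → F) : F := a 0 * b 1 - a 1 * b 0

theorem det2_self (a : Fin 2 → F) : det2 a a = 0 := by simp [det2, mul_comm]

theorem det2_swap (a b : Fin 2 → F) : det2 a b = -det2 b a := by simp [det2]; ring

theorem eq_of_det2 {a b : Fin 2 → F} (h : ∀ w, det2 a w = det2 b w) : a = b := by
  ext i; fin_cases i
  · simpa [det2] using h ![0, 1]
  · simpa [det2] using h ![1, 0]

/-- The transvection `z ↦ z + a [u, z] u`. -/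
def tv (u : Fin 2 → F) (a : F) : Matrix.SpecialLinearGroup (Fin 2) F :=
  ⟨!![1 - a * u 1 * u 0, a * u 0 * u 0; -(a * u 1 * u 1), 1 + a * u 0 * u 1],
    by simp [Matrix.det_fin_two]; ring⟩

theorem tv_mulVec (u : Fin 2 → F) (a : F) (z : Fin 2 → F) :
    (tv u a).1.mulVec z = z + (a * det2 u z) • u := by
  ext i
  fin_cases i <;> simp [tv, det2, Matrix.mulVec, Matrix.vecHead, Matrix.vecTail] <;> ring

theorem tv_add (u : Fin 2 → F) (a b : F) : tv u a * tv u b = tv u (a + b) := by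
  refine Subtype.ext ?_
  rw [Matrix.SpecialLinearGroup.coe_mul]
  simp only [tv, Matrix.mul_fin_two]
  ext i j; fin_cases i <;> fin_cases j <;> simp <;> ring

theorem tv_ne_one {u : Fin 2 → F} (hu : u ≠ 0) {c : F} (hc : c ≠ 0) : tv u c ≠ 1 := by
  intro h
  have e := congrArg Subtype.val h
  have h1 := congrFun (congrFun e 0) 1
  have h2 := congrFun (congrFun e 1) 0
  simp [tv, hc] at h1 h2
  exact hu (by ext i; fin_cases i <;> simp [h1, h2])

structure Setup (Ω V : Type*) [Group Ω] [AddCommGroup V] (F : Type*) [Field F] where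
  act : Ω → V →+ V
  act_one : ∀ x, act 1 x = x
  act_mul : ∀ g h x, act (g * h) x = act g (act h x)
  β : V →+ V →+ F
  alt : ∀ x, β x x = 0
  iso : ∀ g x y, β (act g x) (act g y) = β x y
  ι : (Fin 2 → F) →+ V
  p : V →+ (Fin 2 → F)
  adj : ∀ x z, β x (ι z) = det2 (p x) z
  pι : ∀ z, p (ι z) = z
  ψ : Ω →* Matrix.SpecialLinearGroup (Fin 2) F
  lift : ∀ e ∈ _root_.commutator (Matrix.SpecialLinearGroup (Fin 2) F), ∃ g, ψ g = e ∧
    ∀ x, act g x = x + ι (e.1.mulVec (p x) - p x)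
  no_neg : ∀ h, ψ h = 1 → ¬ ∀ z, act h (ι z) = -ι z
  gen : ∀ x, (∀ g, ψ g = 1 → ∀ z, β (act g (ι z)) x = 0) → x = 0

namespace Setup

variable {Ω V : Type*} [Group Ω] [AddCommGroup V] (S : Setup Ω V F)

theorem skew (x y : V) : S.β y x = -S.β x y := by
  have h := S.alt (x + y)
  simp [S.alt] at h
  linear_combination h

theorem inv_act (g : Ω) (x : V) : S.act g⁻¹ (S.act g x) = x := by
  rw [← S.act_mul, inv_mul_cancel, S.act_one]

theorem act_inv (g : Ω) (x : V) : S.act g (S.act g⁻¹ x) = x := by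
  rw [← S.act_mul, mul_inv_cancel, S.act_one]

theorem iso_inv (g : Ω) (x y : V) : S.β (S.act g x) y = S.β x (S.act g⁻¹ y) := by
  conv_lhs => rw [← S.act_inv g y, S.iso]

def T (g : Ω) (z : Fin 2 → F) : Fin 2 → F := S.p (S.act g (S.ι z))

theorem det2_T (g : Ω) (z w : Fin 2 → F) : det2 (S.T g z) w = det2 z (S.T g⁻¹ w) := by
  rw [T, ← S.adj, S.iso_inv, S.skew, S.adj, det2_swap z, T]

def mat (g : Ω) : Matrix (Fin 2) (Fin 2) F :=
  !![S.T g ![1, 0] 0, S.T g ![0, 1] 0; S.T g ![1, 0] 1, S.T g ![0, 1] 1]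

theorem T_eq (g : Ω) (z : Fin 2 → F) : S.T g z = (S.mat g).mulVec z := by
  refine eq_of_det2 fun w => ?_
  have h0 := S.det2_T g ![1, 0] w
  have h1 := S.det2_T g ![0, 1] w
  rw [S.det2_T g z w]
  simp [det2, mat, Matrix.mulVec, Matrix.vecHead, Matrix.vecTail] at h0 h1 ⊢
  linear_combination -(z 0) * h0 - z 1 * h1

theorem mat_inv (g : Ω) : S.mat g⁻¹ = (S.mat g).adjugate := by
  have h00 := S.det2_T g ![0, 1] ![1, 0]
  have h11 := S.det2_T g ![1, 0] ![0, 1]
  have h01 := S.det2_T g ![0, 1] ![0, 1]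
  have h10 := S.det2_T g ![1, 0] ![1, 0]
  rw [Matrix.adjugate_fin_two]
  simp [det2] at h00 h11 h01 h10
  ext i j; fin_cases i <;> fin_cases j <;> simp [mat]
  · linear_combination -h00
  · linear_combination h01
  · linear_combination -h10
  · linear_combination -h11

theorem mat_ext {g : Ω} {M : Matrix (Fin 2) (Fin 2) F} (h : ∀ z, S.T g z = M.mulVec z) : S.mat g = M := by
  refine Matrix.ext_of_mulVec_single fun i => ?_
  rw [← h, T_eq]

theorem lift_ι {g : Ω} {e : Matrix.SpecialLinearGroup (Fin 2) F}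
    (h : ∀ x, S.act g x = x + S.ι (e.1.mulVec (S.p x) - S.p x)) (z : Fin 2 → F) :
    S.act g (S.ι z) = S.ι (e.1.mulVec z) := by
  rw [h, S.pι, map_sub, add_sub_cancel]

theorem act_conj {g : Ω} {e : Matrix.SpecialLinearGroup (Fin 2) F}
    (h : ∀ x, S.act g x = x + S.ι (e.1.mulVec (S.p x) - S.p x)) (d : Ω) (x : V) :
    S.act (d * g * d⁻¹) x =
      x + S.act d (S.ι (e.1.mulVec (S.p (S.act d⁻¹ x)) - S.p (S.act d⁻¹ x))) := by
  rw [S.act_mul, S.act_mul, h, map_add, act_inv]

section CharThree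

variable [CharP F 3]

theorem three : (3 : F) = 0 := by exact_mod_cast CharP.cast_eq_zero F 3

theorem two_ne : (2 : F) ≠ 0 := by
  intro h
  exact one_ne_zero (show (1 : F) = 0 by linear_combination (three (F := F)) - h)

/-- The quaternion generators. -/
def qI : Matrix.SpecialLinearGroup (Fin 2) F := ⟨!![0, 1; -1, 0], by simp [Matrix.det_fin_two]⟩
def qJ : Matrix.SpecialLinearGroup (Fin 2) F :=
  ⟨!![1, 1; 1, -1], by
    simp [Matrix.det_fin_two]; linear_combination -(three (F := F))⟩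

theorem qI_mem : qI (F := F) ∈ _root_.commutator (Matrix.SpecialLinearGroup (Fin 2) F) := by
  have h3 := three (F := F)
  suffices h : qI (F := F) = (up 1 * low 1 * (up (1 : F))⁻¹ * (low (1 : F))⁻¹)⁻¹ from
    h ▸ inv_mem (comm_mem _ _)
  refine Subtype.ext ?_
  rw [Matrix.SpecialLinearGroup.coe_inv, comm_up_low, Matrix.adjugate_fin_two]
  ext i j; fin_cases i <;> fin_cases j <;> simp [qI, h3]

theorem qJ_mem : qJ (F := F) ∈ _root_.commutator (Matrix.SpecialLinearGroup (Fin 2) F) := by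
  have h3 := three (F := F)
  suffices h : qJ (F := F) = low (-1) * qI * (low (-1))⁻¹ from
    h ▸ (inferInstance : (_root_.commutator _).Normal).conj_mem _ qI_mem _
  refine Subtype.ext ?_
  rw [inv_low]
  simp only [Matrix.SpecialLinearGroup.coe_mul]
  ext i j; fin_cases i <;> fin_cases j <;> simp [qI, qJ, low, Matrix.mul_apply, Fin.sum_univ_two]
  all_goals linear_combination h3

theorem neg_one_mem : (-1 : Matrix.SpecialLinearGroup (Fin 2) F) ∈ _root_.commutator _ := by
  suffices h : (-1 : Matrix.SpecialLinearGroup (Fin 2) F) = qI * qI from h ▸ mul_mem qI_mem qI_mem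
  refine Subtype.ext ?_
  simp only [Matrix.SpecialLinearGroup.coe_mul]
  ext i j; fin_cases i <;> fin_cases j <;> simp [qI, Matrix.mul_apply, Fin.sum_univ_two]

theorem exists_neg : ∃ n, S.ψ n = -1 ∧ ∀ x, S.act n x = x - S.ι (S.p x + S.p x) := by
  obtain ⟨n, hn, hn'⟩ := S.lift (-1) neg_one_mem
  refine ⟨n, hn, fun x => ?_⟩
  rw [hn', Matrix.SpecialLinearGroup.coe_neg, Matrix.SpecialLinearGroup.coe_one, Matrix.neg_mulVec,
    Matrix.one_mulVec]
  simp only [map_sub, map_add, map_neg]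
  abel

/-- No translate of the plane is orthogonal to it. -/
theorem not_perp {h : Ω} (hh : S.ψ h = 1) (h0 : ∀ z, S.T h z = 0) : False := by
  obtain ⟨n, hn, hn'⟩ := S.exists_neg
  refine S.no_neg (h * n * h⁻¹ * n) (by simp [hh, hn]) fun z => ?_
  have hM : S.mat h = 0 := S.mat_ext fun z => by rw [h0, Matrix.zero_mulVec]
  have hzero : S.p (S.act h⁻¹ (S.ι z)) = 0 := by
    rw [← T, T_eq, mat_inv, hM]
    simp
  rw [S.act_mul, hn' (S.ι z), S.pι, map_add, S.act_mul, S.act_mul, sub_add_eq_sub_sub, sub_self,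
    zero_sub, map_neg, hn', map_neg, hzero]
  simp [S.act_inv]

theorem det_eq_one_of_card (hF : ∀ x : F, x = 0 ∨ x = 1 ∨ x = -1) {g : Ω} (hg : S.ψ g = 1) :
    (S.mat g).det = 1 := by
  have h3 := three (F := F)
  obtain ⟨n, hn, hn'⟩ := S.exists_neg
  have hneg : ∀ z, S.act n (S.ι z) = -S.ι z := fun z => by rw [hn', S.pι, map_add]; abel
  have hconj : ∀ x, S.act (g * n * g⁻¹) x =
      x - S.act g (S.ι (S.p (S.act g⁻¹ x) + S.p (S.act g⁻¹ x))) := fun x => by
    rw [S.act_mul, S.act_mul, hn', map_sub, act_inv]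
  have hAT : ∀ z, S.T g⁻¹ (S.T g z) = (S.mat g).det • z := fun z => by
    rw [T_eq, T_eq, mat_inv, Matrix.mulVec_mulVec, Matrix.adjugate_mul, Matrix.smul_mulVec, Matrix.one_mulVec]
  have hTA : ∀ z, S.T g (S.T g⁻¹ z) = (S.mat g).det • z := fun z => by
    rw [T_eq, T_eq, mat_inv, Matrix.mulVec_mulVec, Matrix.mul_adjugate, Matrix.smul_mulVec, Matrix.one_mulVec]
  rcases hF (S.mat g).det with h | h | h
  · exfalso
    refine S.not_perp (h := g * n * g⁻¹ * n * g) (by simp [hg, hn]) fun z => ?_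
    show S.p (S.act (g * n * g⁻¹ * n * g) (S.ι z)) = 0
    rw [S.act_mul, S.act_mul, hn', map_sub, hconj, hconj, inv_act, S.pι]
    have e : ∀ w, S.p (S.act g (S.ι w)) = S.T g w := fun _ => rfl
    have e' : ∀ w, S.p (S.act g⁻¹ (S.ι w)) = S.T g⁻¹ w := fun _ => rfl
    simp only [map_sub, map_add, S.pι, e, e', hAT, h, zero_smul, add_zero, map_zero, sub_zero]
    ext i; simp; linear_combination -(S.T g z i) * h3
  · exact h
  · exfalso
    refine S.not_perp (h := g * n * g⁻¹ * n) (by simp [hg, hn]) fun z => ?_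
    show S.p (S.act (g * n * g⁻¹ * n) (S.ι z)) = 0
    rw [S.act_mul, hneg, map_neg, hconj]
    have e : ∀ w, S.p (S.act g (S.ι w)) = S.T g w := fun _ => rfl
    have e' : ∀ w, S.p (S.act g⁻¹ (S.ι w)) = S.T g⁻¹ w := fun _ => rfl
    simp only [map_sub, map_add, map_neg, S.pι, e, e', hTA, h]
    ext i; simp; linear_combination -(z i) * h3

/-- Determinant one on all translates forces every translate into the plane. -/
theorem ι_eq_of_det (hdet : ∀ g, S.ψ g = 1 → (S.mat g).det = 1) {g : Ω} (hg : S.ψ g = 1)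
    (z : Fin 2 → F) : S.act g (S.ι z) = S.ι (S.T g z) := by
  have h3 := three (F := F)
  rw [← sub_eq_zero]
  refine S.gen _ fun d hd w => ?_
  set r := S.act g (S.ι z) - S.ι (S.T g z) with hr
  -- compare determinants
  set A := S.mat d⁻¹ with hA
  set B := S.mat g with hB
  set C := S.mat (d⁻¹ * g) with hC
  have hkey : ∀ e ∈ _root_.commutator (Matrix.SpecialLinearGroup (Fin 2) F),
      (A * e.1 * B + (C - A * B)).det = 1 := by
    intro e he
    obtain ⟨k, hk, hk'⟩ := S.lift e he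
    have hk1 : S.ψ (d⁻¹ * (k * g * k⁻¹)) = 1 := by simp [hd, hg]
    have hm : S.mat (d⁻¹ * (k * g * k⁻¹)) * e.1 = A * e.1 * B + (C - A * B) := by
      refine Matrix.ext_of_mulVec_single fun i => ?_
      set v : Fin 2 → F := Pi.single i 1
      rw [← Matrix.mulVec_mulVec, ← T_eq, T, S.act_mul, S.act_mul, S.act_mul,
        ← S.lift_ι hk', inv_act, hk']
      simp only [Matrix.add_mulVec, Matrix.sub_mulVec, ← Matrix.mulVec_mulVec, hA, hB, hC, ← T_eq]
      simp only [T, map_add, map_sub, S.act_mul]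
      abel
    have := hdet _ hk1
    rw [← hm, Matrix.det_mul, this, e.2, one_mul]
  have hA1 : A.det = 1 := hdet _ (by simp [hd])
  have hB1 : B.det = 1 := hdet _ hg
  have hCAB : C = A * B := by
    set K := A.adjugate * (C - A * B) * B.adjugate with hK
    have hK1 : ∀ e ∈ _root_.commutator (Matrix.SpecialLinearGroup (Fin 2) F), (e.1 + K).det = 1 := by
      intro e he
      have e1 : A * e.1 * B + (C - A * B) = A * (e.1 + K) * B := by
        have e2 : A * K * B = C - A * B := by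
          rw [hK, ← Matrix.mul_assoc, ← Matrix.mul_assoc, Matrix.mul_adjugate, hA1, one_smul, Matrix.one_mul,
            Matrix.mul_assoc, Matrix.adjugate_mul, hB1, one_smul, Matrix.mul_one]
        rw [Matrix.mul_add, Matrix.add_mul, e2]
      have := hkey e he
      rwa [e1, Matrix.det_mul, Matrix.det_mul, hA1, hB1, one_mul, mul_one] at this
    have h1 := hK1 1 (one_mem _)
    have h2 := hK1 (-1) neg_one_mem
    have h4 := hK1 qI qI_mem
    have h5 := hK1 (-qI) (neg_one_mul (qI (F := F)) ▸ mul_mem neg_one_mem qI_mem)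
    have h6 := hK1 qJ qJ_mem
    have h7 := hK1 (-qJ) (neg_one_mul (qJ (F := F)) ▸ mul_mem neg_one_mem qJ_mem)
    rw [Matrix.SpecialLinearGroup.coe_neg] at h2 h5 h7
    simp [Matrix.det_fin_two, qI, qJ] at h1 h2 h4 h5 h6 h7
    have h2n := two_ne (F := F)
    have had : K 1 1 = -K 0 0 := by
      refine mul_left_cancel₀ h2n ?_
      linear_combination h1 - h2
    have hbc : K 0 1 = K 1 0 := by
      refine mul_left_cancel₀ h2n ?_
      linear_combination h4 - h5
    have hab : K 0 1 = -K 0 0 := by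
      refine mul_left_cancel₀ h2n ?_
      refine mul_left_cancel₀ h2n ?_
      linear_combination h7 - h6 + 2 * had + 2 * hbc
    have ha : K 0 0 = 0 := by
      refine mul_self_eq_zero.1 ?_
      have h11 := h1
      rw [had, ← hbc, hab] at h11
      linear_combination h11 + (K 0 0 * K 0 0) * h3
    have hK0 : K = 0 := by
      ext i j; fin_cases i <;> fin_cases j <;> simp [ha, had, hab, ← hbc]
    have h0 : A * K * B = 0 := by rw [hK0, Matrix.mul_zero, Matrix.zero_mul]
    rw [hK, ← Matrix.mul_assoc, ← Matrix.mul_assoc, Matrix.mul_adjugate, hA1, one_smul, Matrix.one_mul,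
      Matrix.mul_assoc, Matrix.adjugate_mul, hB1, one_smul, Matrix.mul_one, sub_eq_zero] at h0
    exact h0
  have hzero : S.p (S.act d⁻¹ r) = 0 := by
    rw [hr, map_sub, map_sub, ← S.act_mul, sub_eq_zero]
    show S.T _ z = S.T _ _
    rw [T_eq, T_eq, T_eq, ← hA, ← hB, ← hC, hCAB, Matrix.mulVec_mulVec]
  rw [S.iso_inv, S.skew, S.adj, hzero]
  simp [det2]

section Transvection

variable (hcomm : _root_.commutator (Matrix.SpecialLinearGroup (Fin 2) F) = ⊤)
include hcomm

/-- A transvection along a translate of the plane. -/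
theorem exists_tv {d : Ω} (hd : S.ψ d = 1) (u : Fin 2 → F) (a : F) :
    ∃ X, S.ψ X = tv u a ∧ ∀ x, S.act X x =
      x + S.act d (S.ι ((a * S.β (S.act d (S.ι u)) x) • u)) := by
  obtain ⟨g, hg, hg'⟩ := S.lift (tv u a) (hcomm ▸ Subgroup.mem_top _)
  refine ⟨d * g * d⁻¹, by simp [hd, hg], fun x => ?_⟩
  rw [S.act_conj hg', tv_mulVec, add_sub_cancel_left, S.iso_inv, S.skew _ (S.ι u), S.adj, ← det2_swap]

/-- The kernel of the action is in the kernel of the second action. -/
theorem ker_le (hF : 5 ≤ Nat.card F) {g : Ω} (hg : ∀ x, S.act g x = x) : S.ψ g = 1 := by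
  let K : Subgroup Ω :=
    { carrier := {k | ∀ x, S.act k x = x}
      one_mem' := S.act_one
      mul_mem' := fun {a b} ha hb x => by rw [S.act_mul, hb, ha]
      inv_mem' := fun {a} ha x => by
        conv_lhs => rw [← ha x]
        exact S.inv_act a x }
  have hN : (K.map S.ψ).Normal := by
    refine ⟨fun n hn e => ?_⟩
    obtain ⟨k, hk, rfl⟩ := hn
    obtain ⟨c, hc, -⟩ := S.lift e (hcomm ▸ Subgroup.mem_top _)
    refine ⟨c * k * c⁻¹, fun x => ?_, by simp [hc]⟩
    rw [S.act_mul, S.act_mul, hk, S.act_inv]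
  have hneg : (-1 : Matrix.SpecialLinearGroup (Fin 2) F) ∉ K.map S.ψ := by
    rintro ⟨k, hk, hk1⟩
    obtain ⟨n, hn, hn'⟩ := S.exists_neg
    refine S.no_neg (k * n) (by simp [hk1, hn]) fun z => ?_
    rw [S.act_mul, hk, hn', S.pι, map_add]
    abel
  by_contra hne
  have hmem : S.ψ g ∈ K.map S.ψ := ⟨g, hg, rfl⟩
  by_cases hns : (S.ψ g).1 0 1 ≠ 0 ∨ (S.ψ g).1 1 0 ≠ 0 ∨ (S.ψ g).1 0 0 ≠ (S.ψ g).1 1 1
  · exact hneg (CfsgLib.Perm.Quad.SL2Normal.eq_top (Or.inr hF) (two_ne (F := F)) hN hmem hns ▸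
      Subgroup.mem_top _)
  · push Not at hns
    obtain ⟨h01, h10, h11⟩ := hns
    have hd := (S.ψ g).2
    rw [Matrix.det_fin_two, h01, ← h11, zero_mul, sub_zero] at hd
    rcases mul_self_eq_one_iff.1 hd with h | h
    · exact hne (Subtype.ext (by ext i j; fin_cases i <;> fin_cases j <;> simp [h01, h10, ← h11, h]))
    · refine hneg ((?_ : S.ψ g = -1) ▸ hmem)
      exact Subtype.ext (by ext i j; fin_cases i <;> fin_cases j <;> simp [h01, h10, ← h11, h])

/-- The braid relation of two transvections. -/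
theorem braid {f g : F →+ V} {m a : F} (ha : a ≠ 0) (hm : m ≠ 0) (hff : ∀ x y, S.β (f x) (f y) = 0)
    (hgg : ∀ x y, S.β (g x) (g y) = 0) (hfg : ∀ x y, S.β (f x) (g y) = x * y * m) {X Y : Ω}
    (hX : ∀ x, S.act X x = x + f (a * S.β (f 1) x))
    (hY : ∀ x, S.act Y x = x + g ((a * m * m)⁻¹ * S.β (g 1) x)) (x : V) :
    S.act ((X * Y * X) ^ 4) x = x := by
  have hgf : ∀ x y, S.β (g y) (f x) = -(x * y * m) := fun x y => by rw [S.skew, hfg]
  have hM : ∀ x, S.act (X * Y * X) x = x + f (a * S.β (f 1) x + S.β (g 1) x / m) +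
        g ((a * m * m)⁻¹ * (S.β (g 1) x - a * S.β (f 1) x * m)) ∧
      S.β (f 1) (S.act (X * Y * X) x) = S.β (g 1) x / (a * m) ∧
      S.β (g 1) (S.act (X * Y * X) x) = -(a * S.β (f 1) x * m) := by
    intro x
    have e : S.act (X * Y * X) x = x + f (a * S.β (f 1) x + S.β (g 1) x / m) +
        g ((a * m * m)⁻¹ * (S.β (g 1) x - a * S.β (f 1) x * m)) := by
      rw [S.act_mul, S.act_mul, hX x, hY, hX]
      simp only [map_add, hff, hgf, hfg]
      have e1 : ∀ A B B' C C', B = B' → C = C' → x + f A + g C + f B = x + (f A + f B') + g C' := by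
        rintro A B _ C _ rfl rfl; abel
      refine e1 _ _ _ _ _ ?_ ?_
      · field_simp; ring
      · ring
    refine ⟨e, ?_, ?_⟩ <;> rw [e] <;> simp only [map_add, hff, hgg, hgf, hfg] <;> field_simp <;> ring
  obtain ⟨e1, s1, r1⟩ := hM x
  set y := S.act (X * Y * X) x
  obtain ⟨e2, s2, r2⟩ := hM y
  set z := S.act (X * Y * X) y
  obtain ⟨e3, s3, r3⟩ := hM z
  set w := S.act (X * Y * X) z
  obtain ⟨e4, -, -⟩ := hM w
  rw [pow_succ, pow_succ, pow_succ, pow_one, S.act_mul, S.act_mul, S.act_mul]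
  show S.act (X * Y * X) w = x
  rw [e4, s3, r3, e3, s2, r2, e2, s1, r1, e1]
  have hsum : ∀ (A B C D P Q R T : F), A + B + C + D = 0 → P + Q + R + T = 0 →
      x + f A + g P + f B + g Q + f C + g R + f D + g T = x := by
    intro A B C D P Q R T h1 h2
    calc _ = x + f (A + B + C + D) + g (P + Q + R + T) := by simp only [map_add]; abel
      _ = x := by rw [h1, h2, map_zero, map_zero, add_zero, add_zero]
  refine hsum _ _ _ _ _ _ _ _ ?_ ?_ <;> field_simp <;> ring

theorem scalar_of_large (hF : 5 ≤ Nat.card F) {d : Ω} (hd : S.ψ d = 1) :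
    S.mat d = 1 ∨ S.mat d = -1 := by
  have h3 := three (F := F)
  have hker : ∀ g, (∀ x, S.act g x = x) → S.ψ g = 1 := fun g => S.ker_le hcomm hF
  let f : (Fin 2 → F) → Ω → F →+ V := fun u g =>
    AddMonoidHom.mk' (fun c => S.act g (S.ι (c • u))) fun a b => by rw [add_smul, map_add, map_add]
  have h1f : ∀ u g, f u g 1 = S.act g (S.ι u) := fun u g => by simp [f]
  have hff : ∀ u g (x y : F), S.β (f u g x) (f u g y) = 0 := fun u g x y => by
    simp [f, S.iso, S.adj, S.pι, det2]; ring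
  have hfg : ∀ u u' (x y : F), S.β (f u 1 x) (f u' d y) = x * y * det2 u (S.T d u') := by
    intro u u' x y
    simp only [f, AddMonoidHom.mk'_apply, S.act_one]
    rw [S.skew, S.adj, show S.p (S.act d (S.ι (y • u'))) = S.T d (y • u') from rfl, T_eq, T_eq, Matrix.mulVec_smul]
    simp [det2]; ring
  have hX : ∀ u g (a : F), S.ψ g = 1 → ∃ X, S.ψ X = tv u a ∧ ∀ x, S.act X x = x + f u g (a * S.β (f u g 1) x) := by
    intro u g a hg
    obtain ⟨X, h1, h2⟩ := S.exists_tv hcomm hg u a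
    exact ⟨X, h1, fun x => by rw [h2, h1f]; rfl⟩
  -- translates of a vector are orthogonal to it
  have hm : ∀ u, det2 u (S.T d u) = 0 := by
    classical
    intro u
    by_contra hm
    have hu : u ≠ 0 := fun h => hm (by simp [h, det2])
    obtain ⟨a, ha⟩ := CfsgLib.Perm.Quad.SL2Normal.exists_avoid (Or.inr hF) ({0, 1, -1} : Finset F)
      (by refine le_trans (Finset.card_insert_le _ _) ?_; refine le_trans (Nat.succ_le_succ (Finset.card_insert_le _ _)) ?_; simp)
    simp at ha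
    have key : ∀ a : F, a ≠ 0 → a * a * (det2 u (S.T d u) * det2 u (S.T d u)) = 1 := by
      intro a ha0
      obtain ⟨X, hX1, hX2⟩ := hX u 1 a (map_one _)
      obtain ⟨Y, hY1, hY2⟩ := hX u d (a * det2 u (S.T d u) * det2 u (S.T d u))⁻¹ hd
      have h := hker _ (S.braid hcomm ha0 hm (hff u 1) (hff u d) (hfg u u) hX2 hY2)
      rw [map_pow, map_mul, map_mul, hX1, hY1, tv_add, tv_add, pow_succ, pow_succ, pow_succ, pow_one,
        tv_add, tv_add, tv_add] at h
      have h0 := by_contra fun hc => tv_ne_one hu hc h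
      field_simp at h0
      linear_combination -h0 + (a * a * (det2 u (S.T d u) * det2 u (S.T d u)) * 3 + 1) * h3
    have e1 := key 1 one_ne_zero
    have e2 := key a ha.1
    have : a * a = 1 := by
      rw [one_mul, one_mul] at e1
      rwa [e1, mul_one] at e2
    rcases mul_self_eq_one_iff.1 this with h | h
    · exact ha.2.1 h
    · exact ha.2.2 h
  -- the projection is a unit
  set k := det2 ![(0 : F), 1] (S.T d ![1, 0]) with hk
  obtain ⟨X, hX1, hX2⟩ := hX ![0, 1] 1 1 (map_one _)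
  have hk0 : k ≠ 0 := by
    intro h0
    obtain ⟨Y, hY1, hY2⟩ := hX ![1, 0] d 1 hd
    have hc : ∀ x, S.act (X * Y * X⁻¹ * Y⁻¹) x = x := by
      intro x
      have e : ∀ x, S.act (X * Y) x = S.act (Y * X) x := fun x => by
        rw [S.act_mul, S.act_mul, hX2, hY2, hY2, hX2]
        have e1 : S.β (f ![0, 1] 1 1) (f ![1, 0] d (1 * S.β (f ![1, 0] d 1) x)) = 0 := by
          rw [hfg, ← hk, h0, mul_zero]
        have e2 : S.β (f ![1, 0] d 1) (f ![0, 1] 1 (1 * S.β (f ![0, 1] 1 1) x)) = 0 := by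
          rw [S.skew, hfg, ← hk, h0, mul_zero, neg_zero]
        simp only [map_add, e1, e2, add_zero]
        abel
      rw [show X * Y * X⁻¹ * Y⁻¹ = X * Y * (Y * X)⁻¹ by group, S.act_mul, e, S.act_inv]
    have h := hker _ hc
    rw [map_mul, map_mul, map_mul, map_inv, map_inv, hX1, hY1, mul_inv_eq_one, mul_inv_eq_iff_eq_mul] at h
    have h' := congrArg Subtype.val h
    rw [Matrix.SpecialLinearGroup.coe_mul, Matrix.SpecialLinearGroup.coe_mul] at h'
    have := congrFun (congrFun h' 0) 0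
    simp [tv, Matrix.mul_apply, Fin.sum_univ_two] at this
  have hk2 : k * k = 1 := by
    obtain ⟨Y, hY1, hY2⟩ := hX ![1, 0] d (1 * k * k)⁻¹ hd
    have h := hker _ (S.braid hcomm one_ne_zero hk0 (hff ![0, 1] 1) (hff ![1, 0] d) (hfg ![0, 1] ![1, 0]) hX2 hY2)
    rw [map_pow, map_mul, map_mul, hX1, hY1] at h
    set c := (1 * k * k)⁻¹ with hc
    have hM : ((tv ![(0 : F), 1] 1 * tv ![1, 0] c * tv ![0, 1] 1 : Matrix.SpecialLinearGroup (Fin 2) F) :
        Matrix (Fin 2) (Fin 2) F) = !![1 - c, c; c - 2, 1 - c] := by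
      rw [Matrix.SpecialLinearGroup.coe_mul, Matrix.SpecialLinearGroup.coe_mul]
      simp only [tv, Matrix.mul_fin_two]
      ext i j; fin_cases i <;> fin_cases j <;> simp <;> ring
    have h' := congrArg Subtype.val h
    rw [Matrix.SpecialLinearGroup.coe_pow, hM, Matrix.SpecialLinearGroup.coe_one,
      show (4 : ℕ) = 2 * 2 from rfl, pow_mul, pow_two, pow_two, Matrix.mul_fin_two, Matrix.mul_fin_two,
      Matrix.one_fin_two] at h'
    have e00 := congrFun (congrFun h' 0) 0
    have e01 := congrFun (congrFun h' 0) 1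
    simp at e00 e01
    set P := (1 - c) * (1 - c) + c * (c - 2) with hP
    have hc0 : c ≠ 0 := inv_ne_zero (by simp [hk0])
    have hprod : P * (c * (1 - c)) = 0 := by
      have h22 : (2 : F) * 2 ≠ 0 := mul_ne_zero two_ne two_ne
      refine mul_left_cancel₀ h22 ?_
      rw [mul_zero, hP]
      linear_combination e01
    rcases mul_eq_zero.1 hprod with hp | hp
    · exfalso
      have hsq : (1 - c) * (1 - c) = -1 := by rw [hP] at hp; linear_combination -hp + (1 - c) * (1 - c) * h3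
      have hcc : c * (c - 2) = 1 := by rw [hP] at hp; linear_combination hp - hsq
      refine two_ne (F := F) ?_
      have : (4 : F) * ((1 - c) * (1 - c)) * (c * (c - 2)) = 1 := by
        rw [hP] at hp
        linear_combination e00 - ((1 - c) * (1 - c) + c * (c - 2)) * hp
      rw [hsq, hcc] at this
      linear_combination -this - h3
    · rcases mul_eq_zero.1 hp with h | h
      · exact absurd h hc0
      · rw [sub_eq_zero] at h
        rw [hc, one_mul, eq_comm, inv_eq_one] at h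
        exact h
  -- the matrix is scalar
  have e0 := hm ![1, 0]
  have e1 := hm ![0, 1]
  have e2 := hm ![1, 1]
  simp [det2, T_eq, Matrix.mulVec, Matrix.vecHead, Matrix.vecTail] at e0 e1 e2
  rw [e0, e1, zero_add, add_zero, sub_eq_zero] at e2
  have hk' : k = -S.mat d 0 0 := by simp [hk, det2, mat, T]
  rw [hk', neg_mul_neg] at hk2
  rcases mul_self_eq_one_iff.1 hk2 with h | h
  · left; ext i j; fin_cases i <;> fin_cases j <;> simp [e0, e1, e2, h]
  · right; ext i j; fin_cases i <;> fin_cases j <;> simp [e0, e1, e2, h]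

end Transvection

section Small

theorem small_matrix : ∀ a b c d : ZMod 3, a * d - b * c = 1 →
    let M := !![a, b; c, d]
    let cI := fun N : Matrix (Fin 2) (Fin 2) (ZMod 3) => N * !![0, 1; -1, 0] * N.adjugate * !![0, -1; 1, 0]
    let cJ := fun N : Matrix (Fin 2) (Fin 2) (ZMod 3) => N * !![1, 1; 1, -1] * N.adjugate * !![-1, -1; -1, 1]
    M = 1 ∨ M = -1 ∨ cI M = -1 ∨ cJ M = -1 ∨ cI (cI M) = -1 ∨ cI (cJ M) = -1 ∨ cJ (cI M) = -1 ∨ cJ (cJ M) = -1 := by
  decide

theorem scalar_of_small (hcard : Nat.card F = 3) (hdet : ∀ g, S.ψ g = 1 → (S.mat g).det = 1)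
    {d : Ω} (hd : S.ψ d = 1) : S.mat d = 1 ∨ ∃ h, S.ψ h = 1 ∧ S.mat h = -1 := by
  have : Finite F := Nat.finite_of_card_ne_zero (by omega)
  let f := ZMod.castHom (dvd_refl 3) F
  have hf : Function.Bijective f := (Nat.bijective_iff_injective_and_card _).2
    ⟨ZMod.castHom_injective F, by rw [hcard, Nat.card_eq_fintype_card, ZMod.card]⟩
  have hcomm : ∀ (g : Ω) (e : Matrix.SpecialLinearGroup (Fin 2) F), e ∈ _root_.commutator _ → S.ψ g = 1 →
      ∃ h, S.ψ h = 1 ∧ S.mat h = S.mat g * e.1 * (S.mat g).adjugate * e.1.adjugate := by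
    intro g e he hg
    obtain ⟨k, hk, hk'⟩ := S.lift e he
    refine ⟨g * k * g⁻¹ * k⁻¹, by simp [hg], S.mat_ext fun v => ?_⟩
    have hpl : ∀ h, S.ψ h = 1 → ∀ v, S.act h (S.ι v) = S.ι (S.T h v) := fun h hh => S.ι_eq_of_det hdet hh
    have hkι : S.act k⁻¹ (S.ι v) = S.ι (e.1.adjugate.mulVec v) := by
      conv_lhs => rw [show v = e.1.mulVec (e.1.adjugate.mulVec v) by
        rw [Matrix.mulVec_mulVec, Matrix.mul_adjugate, e.2, one_smul, Matrix.one_mulVec]]
      rw [← S.lift_ι hk', inv_act]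
    show S.p _ = _
    rw [S.act_mul, S.act_mul, S.act_mul, hkι, hpl g⁻¹ (by simp [hg]), S.lift_ι hk', hpl g hg, S.pι,
      T_eq, T_eq, mat_inv]
    simp only [Matrix.mulVec_mulVec, Matrix.mul_assoc]
  obtain ⟨a, ha⟩ := hf.2 (S.mat d 0 0)
  obtain ⟨b, hb⟩ := hf.2 (S.mat d 0 1)
  obtain ⟨c, hc⟩ := hf.2 (S.mat d 1 0)
  obtain ⟨e, he⟩ := hf.2 (S.mat d 1 1)
  have hdt := hdet d hd
  rw [Matrix.det_fin_two, ← ha, ← hb, ← hc, ← he, ← map_mul, ← map_mul, ← map_sub, ← map_one f] at hdt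
  let Φ := f.mapMatrix (m := Fin 2)
  have hM : S.mat d = Φ !![a, b; c, e] := by
    ext i j; fin_cases i <;> fin_cases j <;> simp [Φ, ha, hb, hc, he]
  have hIJ : qI (F := F) = (qI (F := F)) := rfl
  have hI : (qI (F := F)).1 = Φ !![0, 1; -1, 0] := by
    ext i j; fin_cases i <;> fin_cases j <;> simp [Φ, qI]
  have hI' : (qI (F := F)).1.adjugate = Φ !![0, -1; 1, 0] := by
    rw [Matrix.adjugate_fin_two]; ext i j; fin_cases i <;> fin_cases j <;> simp [Φ, qI]
  have hJ : (qJ (F := F)).1 = Φ !![1, 1; 1, -1] := by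
    ext i j; fin_cases i <;> fin_cases j <;> simp [Φ, qJ]
  have hJ' : (qJ (F := F)).1.adjugate = Φ !![-1, -1; -1, 1] := by
    rw [Matrix.adjugate_fin_two]; ext i j; fin_cases i <;> fin_cases j <;> simp [Φ, qJ]
  have hadj : ∀ N : Matrix (Fin 2) (Fin 2) (ZMod 3), (Φ N).adjugate = Φ N.adjugate := fun N =>
    (f.map_adjugate N).symm
  have stepI : ∀ g N, S.ψ g = 1 → S.mat g = Φ N → ∃ h, S.ψ h = 1 ∧
      S.mat h = Φ (N * !![0, 1; -1, 0] * N.adjugate * !![0, -1; 1, 0]) := fun g N hg hN => by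
    obtain ⟨h, h1, h2⟩ := hcomm g qI qI_mem hg
    exact ⟨h, h1, by rw [h2, hN, hI', hI, hadj, map_mul, map_mul, map_mul]⟩
  have stepJ : ∀ g N, S.ψ g = 1 → S.mat g = Φ N → ∃ h, S.ψ h = 1 ∧
      S.mat h = Φ (N * !![1, 1; 1, -1] * N.adjugate * !![-1, -1; -1, 1]) := fun g N hg hN => by
    obtain ⟨h, h1, h2⟩ := hcomm g qJ qJ_mem hg
    exact ⟨h, h1, by rw [h2, hN, hJ', hJ, hadj, map_mul, map_mul, map_mul]⟩
  have hm1 : Φ (-1) = -1 := by rw [map_neg, map_one]
  obtain ⟨gI, gI1, gI2⟩ := stepI d _ hd hM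
  obtain ⟨gJ, gJ1, gJ2⟩ := stepJ d _ hd hM
  rcases small_matrix a b c e (ZMod.castHom_injective F hdt) with h | h | h | h | h | h | h | h <;> (try dsimp only at h)
  · left; rw [hM, h, map_one]
  · exact Or.inr ⟨d, hd, by rw [hM, h, hm1]⟩
  · exact Or.inr ⟨gI, gI1, by rw [gI2, h, hm1]⟩
  · exact Or.inr ⟨gJ, gJ1, by rw [gJ2, h, hm1]⟩
  · obtain ⟨g, g1, g2⟩ := stepI gI _ gI1 gI2; exact Or.inr ⟨g, g1, by rw [g2, h, hm1]⟩
  · obtain ⟨g, g1, g2⟩ := stepI gJ _ gJ1 gJ2; exact Or.inr ⟨g, g1, by rw [g2, h, hm1]⟩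
  · obtain ⟨g, g1, g2⟩ := stepJ gI _ gI1 gI2; exact Or.inr ⟨g, g1, by rw [g2, h, hm1]⟩
  · obtain ⟨g, g1, g2⟩ := stepJ gJ _ gJ1 gJ2; exact Or.inr ⟨g, g1, by rw [g2, h, hm1]⟩

end Small

/-- The elements trivial in the second action act trivially. -/
theorem act_eq (hcard : Nat.card F = 3 ∨
      (5 ≤ Nat.card F ∧ _root_.commutator (Matrix.SpecialLinearGroup (Fin 2) F) = ⊤))
    {d : Ω} (hd : S.ψ d = 1) (x : V) : S.act d x = x := by
  have hdet : ∀ g, S.ψ g = 1 → (S.mat g).det = 1 := by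
    intro g hg
    rcases hcard with h | ⟨h, hc⟩
    · have : Finite F := Nat.finite_of_card_ne_zero (by omega)
      let f := ZMod.castHom (dvd_refl 3) F
      have hf : Function.Surjective f := ((Nat.bijective_iff_injective_and_card _).2
        ⟨ZMod.castHom_injective F, by rw [h, Nat.card_eq_fintype_card, ZMod.card]⟩).2
      refine S.det_eq_one_of_card (fun x => ?_) hg
      obtain ⟨y, rfl⟩ := hf x
      rcases (show ∀ y : ZMod 3, y = 0 ∨ y = 1 ∨ y = -1 by decide) y with rfl | rfl | rfl <;> simp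
    · rcases S.scalar_of_large hc h hg with e | e <;> simp [e, Matrix.det_neg]
  have hone : ∀ g, S.ψ g = 1 → ∀ z, S.act g (S.ι z) = S.ι z := by
    intro g hg z
    have hneg : ∀ h, S.ψ h = 1 → S.mat h ≠ -1 := fun h hh e => S.no_neg h hh fun z => by
      rw [S.ι_eq_of_det hdet hh, T_eq, e, Matrix.neg_mulVec, Matrix.one_mulVec, map_neg]
    have hM : S.mat g = 1 := by
      rcases hcard with h | ⟨h, hc⟩
      · rcases S.scalar_of_small h hdet hg with e | ⟨k, hk, e⟩
        · exact e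
        · exact absurd e (hneg k hk)
      · exact (S.scalar_of_large hc h hg).resolve_right (hneg g hg)
    rw [S.ι_eq_of_det hdet hg, T_eq, hM, Matrix.one_mulVec]
  rw [← sub_eq_zero]
  refine S.gen _ fun g hg z => ?_
  rw [hone g hg, map_sub, sub_eq_zero, S.skew (S.act d x), S.skew x]
  conv_lhs => rw [← hone d hd z, S.iso]

end CharThree

end Setup

end CfsgLib.LocalEvenB.SympPlane
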