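import Cfsg.Agent.Lib.LocalEvenB.BaumannBlockW
import Cfsg.Agent.Lib.LocalEvenB.SympPlane
import Cfsg.Agent.Lib.Fusion.ReplacementEA

/-!
No element centralising `W_E` inverts the natural quotient of an exceptional block.
-/

set_option autoImplicit false
set_option linter.style.haveILetI false
set_option linter.unusedSectionVars false

namespace CfsgLib.LocalEvenB.BlockTrick

universe u

open Subgroup CfsgLib.LocalEven
open scoped Pointwise commutatorElement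

variable {G : Type u} [Group G] [Finite G] {p : ℕ} [hp : Fact p.Prime]

/-- A `p`-element commuting with a `p'`-element modulo a centralised `p`-group commutes with it. -/
theorem commute_of_coprime {X : Subgroup G} (hX : IsPGroup p X) {h x : G} (hh : (orderOf h).Coprime p)
    (hd : h * x * h⁻¹ * x⁻¹ ∈ X) (hfix : ∀ y ∈ X, h * y * h⁻¹ = y) : h * x * h⁻¹ = x := by
  set y := h * x * h⁻¹ * x⁻¹ with hy
  have hk : ∀ k : ℕ, h ^ k * x * (h ^ k)⁻¹ = y ^ k * x := by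
    intro k
    induction k with
    | zero => simp
    | succ k ih =>
      calc h ^ (k + 1) * x * (h ^ (k + 1))⁻¹ = h * (h ^ k * x * (h ^ k)⁻¹) * h⁻¹ := by
            rw [pow_succ']; group
        _ = (h * y ^ k * h⁻¹) * (h * x * h⁻¹) := by rw [ih]; group
        _ = y ^ k * (y * x) := by rw [hfix _ (pow_mem hd k), hy]; group
        _ = y ^ (k + 1) * x := by rw [pow_succ]; group
  have h1 := hk (orderOf h)
  rw [pow_orderOf_eq_one, one_mul, inv_one, mul_one] at h1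
  have h2 : y ^ orderOf h = 1 := (mul_eq_right.1 h1.symm)
  obtain ⟨a, ha⟩ := IsPGroup.iff_orderOf.1 hX ⟨y, hd⟩
  rw [orderOf_mk] at ha
  have h3 : orderOf y ∣ 1 := (hh.pow_right a) ▸ Nat.dvd_gcd (orderOf_dvd_of_pow_eq_one h2) (ha ▸ dvd_rfl)
  rw [Nat.dvd_one, orderOf_eq_one_iff, hy, mul_inv_eq_one] at h3
  exact h3

/-- An element normalising `E ⊔ K` normalises `E = O^p(E)` when the `p`-group `K` normalises it. -/
theorem mem_normalizer_of_sup {E K : Subgroup G} (hres : Cfsg.pResidualOf p E = E) (hK : IsPGroup p K)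
    (hKE : K ≤ normalizer (E : Set G)) {c : G} (hc : c ∈ normalizer ((E ⊔ K : Subgroup G) : Set G)) :
    c ∈ normalizer (E : Set G) := by
  set X := E ⊔ K with hX
  haveI : (E.subgroupOf X).Normal :=
    (normal_subgroupOf_iff_le_normalizer le_sup_left).2 (sup_le le_normalizer hKE)
  have hin : ∀ g ∈ X, (orderOf g).Coprime p → g ∈ E := by
    intro g hg hco
    have hg' : g ∈ ((E : Set G) * (K : Set G)) := by
      rw [← coe_mul_of_right_le_normalizer_left E K hKE]; exact hg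
    obtain ⟨e, he, r, hr, rfl⟩ := hg'
    let e' : X := ⟨e, mem_sup_left he⟩
    let r' : X := ⟨r, mem_sup_right hr⟩
    have h1 : QuotientGroup.mk' (E.subgroupOf X) (e' * r') = QuotientGroup.mk' (E.subgroupOf X) r' := by
      rw [map_mul, show QuotientGroup.mk' (E.subgroupOf X) e' = 1 from
        (QuotientGroup.eq_one_iff e').2 (mem_subgroupOf.2 he), one_mul]
    obtain ⟨k, hk⟩ := IsPGroup.iff_orderOf.1 hK ⟨r, hr⟩
    rw [orderOf_mk] at hk
    have h2 : orderOf (QuotientGroup.mk' (E.subgroupOf X) r') ∣ p ^ k := by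
      refine (orderOf_map_dvd _ r').trans ?_
      rw [← orderOf_coe, show (r' : G) = r from rfl, hk]
    have h3 : orderOf (QuotientGroup.mk' (E.subgroupOf X) r') ∣ orderOf (e * r) := by
      rw [← h1]
      refine (orderOf_map_dvd _ (e' * r')).trans ?_
      rw [← orderOf_coe]; rfl
    have h4 : orderOf (QuotientGroup.mk' (E.subgroupOf X) r') = 1 :=
      Nat.dvd_one.1 ((hco.pow_right k) ▸ Nat.dvd_gcd h3 h2)
    exact mul_mem he (mem_subgroupOf.1 ((QuotientGroup.eq_one_iff r').1 (orderOf_eq_one_iff.1 h4)))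
  refine SylowIn.map_conj_eq_iff.1 (eq_of_le_of_card_ge ?_ (card_map_of_injective (MulAut.conj c).injective).ge)
  have hgen : E = closure {g | g ∈ E ∧ (orderOf g).Coprime p} := by
    rw [← Residual.map_pResidual_eq_closure]; exact hres.symm
  conv_lhs => rw [hgen]
  rw [MonoidHom.map_closure, closure_le]
  rintro _ ⟨g, ⟨hg, hgc⟩, rfl⟩
  refine hin _ ?_ ?_
  · simpa using (mem_normalizer_iff.1 hc g).1 (mem_sup_left hg)
  · rwa [MulEquiv.coe_toMonoidHom, MulEquiv.orderOf_eq]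

/-! ### Endomorphisms of additive groups -/

section End

variable {V : Type*} [AddCommGroup V]

omit [Finite G] hp in
theorem end_mul_apply (f g : AddMonoid.End V) (v : V) : (f * g) v = f (g v) := rfl

omit [Finite G] hp in
theorem end_one_apply (v : V) : (1 : AddMonoid.End V) v = v := rfl

omit [Finite G] hp in
theorem end_sub_apply (f g : AddMonoid.End V) (v : V) : (f - g) v = f v - g v := rfl

omit [Finite G] hp in
theorem end_ext {f g : AddMonoid.End V} (h : ∀ v, f v = g v) : f = g := DFunLike.ext _ _ h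

omit [Finite G] hp in
theorem end_nontrivial [Nontrivial V] : Nontrivial (AddMonoid.End V) := by
  obtain ⟨v, hv⟩ := exists_ne (0 : V)
  exact ⟨⟨1, 0, fun h => hv ((end_one_apply v).symm.trans (congrArg (fun f : AddMonoid.End V => f v) h))⟩⟩

end End

/-! ### A natural section -/

/-- A natural `SL₂(F)`-section, with its data. -/
structure Sec (F : Type) [Field F] (E U U₀ : Subgroup G) where
  ρ : ↥E →* Matrix.SpecialLinearGroup (Fin 2) F
  ψ : ↥U →* Multiplicative (Fin 2 → F)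
  range : ρ.range = commutator (Matrix.SpecialLinearGroup (Fin 2) F)
  surj : Function.Surjective ψ
  ker : ∀ u : ↥U, ψ u = 1 ↔ (u : G) ∈ U₀
  norm : E ≤ normalizer (U : Set G)
  le : U₀ ≤ U
  act : ∀ (e : ↥E) (u : ↥U), Multiplicative.toAdd (ψ ⟨(e : G) * u * (e : G)⁻¹, (mem_normalizer_iff.1 (norm e.2) u).1 u.2⟩) =
    (ρ e).1.mulVec (Multiplicative.toAdd (ψ u))

namespace Sec

variable {F : Type} [Field F] {E U U₀ : Subgroup G}

theorem nonempty (h : Cfsg.ActsAsSL2OnSection F (commutator (Matrix.SpecialLinearGroup (Fin 2) F)) E U U₀) :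
    Nonempty (Sec F E U U₀) := by
  obtain ⟨hEU, hle, ρ, ψ, hr, hs, hk, ha⟩ := h
  refine ⟨⟨ρ, ψ, hr, hs, hk, hEU, hle, fun e u => ?_⟩⟩
  obtain ⟨w, hw, hw'⟩ := ha e u
  rw [← hw']
  congr 2
  exact Subtype.ext hw.symm

variable (S : Sec F E U U₀)

def co (u : ↥U) : Fin 2 → F := Multiplicative.toAdd (S.ψ u)

theorem co_mul (u v : ↥U) : S.co (u * v) = S.co u + S.co v := by simp [co]

theorem co_inv (u : ↥U) : S.co u⁻¹ = -S.co u := by simp [co]

theorem co_eq_zero (u : ↥U) : S.co u = 0 ↔ (u : G) ∈ U₀ := by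
  rw [← S.ker, co, toAdd_eq_zero]

theorem co_eq (u v : ↥U) (h : (u : G) * (v : G)⁻¹ ∈ U₀) : S.co u = S.co v := by
  have := (S.co_eq_zero (u * v⁻¹)).2 h
  rwa [co_mul, co_inv, ← sub_eq_add_neg, sub_eq_zero] at this

theorem exists_co (v : Fin 2 → F) : ∃ u : ↥U, S.co u = v := by
  obtain ⟨u, hu⟩ := S.surj (Multiplicative.ofAdd v)
  exact ⟨u, by rw [co, hu]; rfl⟩

/-- The elements acting on the section. -/
def nrm (_ : Sec F E U U₀) : Subgroup G := normalizer (U : Set G) ⊓ normalizer (U₀ : Set G)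

def conjU (g : S.nrm) (u : ↥U) : ↥U :=
  ⟨(g : G) * u * (g : G)⁻¹, (mem_normalizer_iff.1 (mem_inf.1 g.2).1 u).1 u.2⟩

noncomputable def actFun (g : S.nrm) (v : Fin 2 → F) : Fin 2 → F :=
  S.co (S.conjU g (S.exists_co v).choose)

theorem actFun_co (g : S.nrm) (u : ↥U) : S.actFun g (S.co u) = S.co (S.conjU g u) := by
  refine S.co_eq _ _ ?_
  have h := (S.exists_co (S.co u)).choose_spec
  set w := (S.exists_co (S.co u)).choose
  have h0 : (w : G) * (u : G)⁻¹ ∈ U₀ := by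
    have := (S.co_eq_zero (w * u⁻¹)).1 (by rw [co_mul, co_inv, h, add_neg_cancel])
    simpa using this
  have := (mem_normalizer_iff.1 (mem_inf.1 g.2).2 _).1 h0
  simp only [conjU]
  convert this using 1
  group

noncomputable def actHom : S.nrm →* AddMonoid.End (Fin 2 → F) where
  toFun g := AddMonoidHom.mk' (S.actFun g) fun a b => by
    obtain ⟨u, rfl⟩ := S.exists_co a
    obtain ⟨v, rfl⟩ := S.exists_co b
    rw [← co_mul, actFun_co, actFun_co, actFun_co, ← co_mul]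
    congr 1
    exact Subtype.ext (by simp [conjU, mul_assoc])
  map_one' := by
    refine AddMonoidHom.ext fun a => ?_
    obtain ⟨u, rfl⟩ := S.exists_co a
    show S.actFun 1 (S.co u) = S.co u
    rw [actFun_co]
    congr 1
    exact Subtype.ext (by simp [conjU])
  map_mul' g h := by
    refine AddMonoidHom.ext fun a => ?_
    obtain ⟨u, rfl⟩ := S.exists_co a
    show S.actFun (g * h) (S.co u) = S.actFun g (S.actFun h (S.co u))
    rw [actFun_co, actFun_co, actFun_co]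
    congr 1
    exact Subtype.ext (by simp [conjU, mul_assoc])

theorem actHom_co (g : S.nrm) (u : ↥U) : S.actHom g (S.co u) = S.co (S.conjU g u) := S.actFun_co g u

theorem le_nrm : E ≤ S.nrm := by
  refine le_inf S.norm (SylowIn.le_normalizer_of_map_conj fun e he =>
    eq_of_le_of_card_ge ?_ (card_map_of_injective (MulAut.conj e).injective).ge)
  rintro _ ⟨z, hz, rfl⟩
  have h := S.act ⟨e, he⟩ ⟨z, S.le hz⟩
  rw [show Multiplicative.toAdd (S.ψ ⟨z, S.le hz⟩) = 0 from (S.co_eq_zero ⟨z, S.le hz⟩).2 hz,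
    Matrix.mulVec_zero] at h
  exact (S.co_eq_zero _).1 h

theorem actHom_of_mem {e : ↥E} (v : Fin 2 → F) :
    S.actHom ⟨e, S.le_nrm e.2⟩ v = (S.ρ e).1.mulVec v := by
  obtain ⟨u, rfl⟩ := S.exists_co v
  rw [actHom_co]
  exact S.act e u

theorem actHom_equivariant (g : S.nrm) (e : ↥E) (h : (g : G) * e * (g : G)⁻¹ ∈ E) (v : Fin 2 → F) :
    (S.ρ ⟨_, h⟩).1.mulVec (S.actHom g v) = S.actHom g ((S.ρ e).1.mulVec v) := by
  rw [← S.actHom_of_mem, ← S.actHom_of_mem, ← end_mul_apply, ← end_mul_apply, ← map_mul, ← map_mul]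
  exact congrArg (fun f : AddMonoid.End _ => f v) (congrArg S.actHom (Subtype.ext (by simp [mul_assoc])))

theorem mem_range (A : Matrix.SpecialLinearGroup (Fin 2) F) (hA : A ∈ commutator _) : ∃ e, S.ρ e = A := by
  rw [← S.range] at hA; exact hA

theorem rho_eq_one {e : ↥E} (h : ∀ u : ↥U, (e : G) * u * (e : G)⁻¹ * (u : G)⁻¹ ∈ U₀) : S.ρ e = 1 := by
  refine BaumannModule.eq_one_of_fix fun v => ?_
  obtain ⟨u, rfl⟩ := S.exists_co v
  exact (S.act e u).symm.trans (S.co_eq _ _ (h u))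

theorem actHom_eq_one_of_forall {g : S.nrm} (h : ∀ u : ↥U, (g : G) * u * (g : G)⁻¹ * (u : G)⁻¹ ∈ U₀) :
    S.actHom g = 1 := by
  refine end_ext fun v => ?_
  obtain ⟨u, rfl⟩ := S.exists_co v
  rw [actHom_co, end_one_apply]
  exact S.co_eq _ _ (h u)

theorem mem_of_actHom_eq_one {g : S.nrm} (h : S.actHom g = 1) (u : ↥U) :
    (g : G) * u * (g : G)⁻¹ * (u : G)⁻¹ ∈ U₀ := by
  have h1 : S.co (S.conjU g u * u⁻¹) = 0 := by
    rw [co_mul, co_inv, ← actHom_co, h]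
    exact add_neg_cancel _
  exact (S.co_eq_zero _).1 h1

section CharThree

variable [CharP F 3]

omit [Finite G] in
theorem end_three : ((3 : ℕ) : AddMonoid.End (Fin 2 → F)) = 0 := by
  refine AddMonoidHom.ext fun v => ?_
  show ((3 : ℕ) : AddMonoid.End (Fin 2 → F)) v = 0
  rw [AddMonoid.End.natCast_apply]
  ext i
  simp [SympPlane.Setup.three]

/-- An automorphism of `3`-power order commuting with the group is trivial. -/
theorem eq_one_of_comm {A : AddMonoid.End (Fin 2 → F)} {k : ℕ} (hA : A ^ 3 ^ k = 1)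
    (hc : ∀ e : ↥E, ∀ v, A ((S.ρ e).1.mulVec v) = (S.ρ e).1.mulVec (A v)) : A = 1 := by
  haveI := end_nontrivial (V := Fin 2 → F)
  haveI : CharP (AddMonoid.End (Fin 2 → F)) 3 :=
    (CharP.charP_iff_prime_eq_zero Nat.prime_three).2 end_three
  haveI : Fact (Nat.Prime 3) := ⟨Nat.prime_three⟩
  set N := A - 1 with hN
  have hnil : N ^ 3 ^ k = 0 := by
    rw [hN, sub_pow_char_pow_of_commute 3 k (Commute.one_right A), hA, one_pow, sub_self]
  have hv : ∃ v, v ≠ 0 ∧ N v = 0 := by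
    by_contra hne
    push Not at hne
    have hinj : ∀ n : ℕ, ∀ v, (N ^ n) v = 0 → v = 0 := by
      intro n
      induction n with
      | zero => intro v hv; simpa using hv
      | succ n ih =>
        intro v hv
        rw [pow_succ'] at hv
        exact ih v (by_contra fun h => hne _ h hv)
    have := hinj _ ![1, 0] (by rw [hnil]; rfl)
    simp at this
  obtain ⟨v, hv0, hv⟩ := hv
  have hmem : ∀ w, N w = 0 ↔ A w = w := fun w => by
    rw [hN]; exact sub_eq_zero (a := A w) (b := w)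
  have htop := BaumannModule.invariant_eq_top N.ker (fun M hM w hw => by
    obtain ⟨e, rfl⟩ := S.mem_range M hM
    change N w = 0 at hw
    show N _ = 0
    rw [hmem] at hw ⊢
    rw [hc, hw]) hv hv0
  refine end_ext fun w => (hmem w).1 ?_
  exact (show N w = 0 from (htop ▸ AddSubgroup.mem_top w : w ∈ N.ker))

end CharThree

end Sec

/-- The quadratic replacement inside the normalizer of the module. -/
theorem replacement_rel {V A : Subgroup G} (hV : Cfsg.IsElementaryAbelian p V)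
    (hA : A ∈ Cfsg.maxElementaryAbelianSubgroups p G) (hAV : A ≤ normalizer (V : Set G)) :
    (⁅V, A⁆ ⊔ (A ⊓ centralizer ((⁅V, A⁆ : Subgroup G) : Set G))) ∈ Cfsg.maxElementaryAbelianSubgroups p G ∧
      ⁅⁅V, ⁅V, A⁆ ⊔ (A ⊓ centralizer ((⁅V, A⁆ : Subgroup G) : Set G))⁆,
        ⁅V, A⁆ ⊔ (A ⊓ centralizer ((⁅V, A⁆ : Subgroup G) : Set G))⁆ = ⊥ ∧
      (⁅V, A⁆ ≠ ⊥ → ⁅V, ⁅V, A⁆ ⊔ (A ⊓ centralizer ((⁅V, A⁆ : Subgroup G) : Set G))⁆ ≠ ⊥) := by
  set N := normalizer (V : Set G) with hN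
  have hinj := N.subtype_injective
  haveI : (V.subgroupOf N).Normal := (normal_subgroupOf_iff_le_normalizer le_normalizer).2 le_rfl
  obtain ⟨h1, h2, h3⟩ := CfsgLib.Fusion.ReplacementEA.replacement (V := V.subgroupOf N)
    (CfsgLib.Fusion.Thompson.isEA_subgroupOf hV N) (CfsgLib.Fusion.Thompson.mem_maxEA_subgroupOf hA hAV)
  have eV : (V.subgroupOf N).map N.subtype = V := map_subgroupOf_eq_of_le le_normalizer
  have eA : (A.subgroupOf N).map N.subtype = A := map_subgroupOf_eq_of_le hAV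
  set A' := A.subgroupOf N
  set V' := V.subgroupOf N
  have eC : (A' ⊓ centralizer ((⁅V', A'⁆ : Subgroup ↥N) : Set ↥N)).map N.subtype =
      A ⊓ centralizer ((⁅V, A⁆ : Subgroup G) : Set G) := by
    ext x
    constructor
    · rintro ⟨y, ⟨hy, hyc⟩, rfl⟩
      refine ⟨hy, mem_centralizer_iff.2 fun c hc => ?_⟩
      rw [← eV, ← eA, ← map_commutator] at hc
      obtain ⟨c', hc', rfl⟩ := hc
      exact congrArg N.subtype (mem_centralizer_iff.1 hyc c' hc')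
    · rintro ⟨hx, hxc⟩
      refine ⟨⟨x, hAV hx⟩, ⟨hx, mem_centralizer_iff.2 fun c' hc' => Subtype.ext ?_⟩, rfl⟩
      refine mem_centralizer_iff.1 hxc (c' : G) ?_
      rw [← eV, ← eA, ← map_commutator]
      exact ⟨c', hc', rfl⟩
  set X := ⁅V', A'⁆ ⊔ (A' ⊓ centralizer ((⁅V', A'⁆ : Subgroup ↥N) : Set ↥N)) with hX
  have eX : X.map N.subtype = ⁅V, A⁆ ⊔ (A ⊓ centralizer ((⁅V, A⁆ : Subgroup G) : Set G)) := by
    rw [hX, Subgroup.map_sup, eC, map_commutator, eV, eA]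
  refine ⟨eX ▸ CfsgLib.Fusion.Thompson.mem_maxEA_map hA hAV h1, ?_, fun hne h => ?_⟩
  · rw [← eX, ← eV, ← map_commutator, ← map_commutator, h2, Subgroup.map_bot]
  · refine h3 (fun h0 => hne ?_) ?_
    · rw [← eV, ← eA, ← map_commutator, h0, Subgroup.map_bot]
    · refine map_injective hinj ?_
      rw [map_commutator, eV, eX, h, Subgroup.map_bot]

/-! ### Exceptional blocks -/

abbrev Q0 (p : ℕ) (E : Subgroup G) : Subgroup G := Cfsg.pCoreOf p E

abbrev U0 (p : ℕ) (E : Subgroup G) : Subgroup G := Cfsg.omegaOneCenter p (Cfsg.pCoreOf p E)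

abbrev Z0 (p : ℕ) (E : Subgroup G) : Subgroup G := U0 p E ⊓ centralizer (E : Set G)

abbrev W0 (p : ℕ) (E : Subgroup G) : Subgroup G := ⁅U0 p E, E⁆

/-- The data of an exceptional block. -/
structure Exc (F : Type) [Field F] (p : ℕ) (T E : Subgroup G) where
  block : Cfsg.IsBaumannBlock p T E
  p_eq : p = 3
  SW : Sec F E (U0 p E) (Z0 p E)
  SQ : Sec F E (Q0 p E) (U0 p E)
  comm : ⁅Q0 p E, Q0 p E⁆ = Z0 p E
  cent : E ⊓ centralizer (E : Set G) = Z0 p E
  card : ∃ n : ℕ, Nat.card F = p ^ n ∧ Nat.card (Z0 p E) = p ^ n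
  quad : ∀ b : G, b ∈ Cfsg.baumannSubgroupOf p T → b ∉ centralizer (U0 p E : Set G) →
    ¬ ⁅⁅Q0 p E, zpowers b⁆, zpowers b⁆ ≤ E ⊓ centralizer (E : Set G)

namespace Exc

variable {F : Type} [Field F] [Finite F] {T : Sylow p G} {E : Subgroup G}
variable (D : Exc F p (T : Subgroup G) E)
include D

theorem charP : CharP F 3 := by
  obtain ⟨n, hn, -⟩ := D.card
  cases nonempty_fintype F
  obtain ⟨m, hc, he⟩ := FiniteField.card F (ringChar F)
  rw [Nat.card_eq_fintype_card, he, D.p_eq] at hn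
  haveI := ringChar.charP F
  have h3 : ringChar F ∣ 3 ^ n := hn ▸ dvd_pow_self _ m.pos.ne'
  have := hc.dvd_of_dvd_pow h3
  rw [Nat.prime_dvd_prime_iff_eq hc Nat.prime_three] at this
  rw [← this]
  infer_instance

theorem U_le : U0 p E ≤ Q0 p E := D.SQ.le

theorem Q_comm_U {q u : G} (hq : q ∈ Q0 p E) (hu : u ∈ U0 p E) : q * u = u * q :=
  mem_centralizer_iff.1 (mem_inf.1 ((BaumannBlockW.omegaOneCenter_le _) hu)).2 q hq

theorem U_comm {u v : G} (hu : u ∈ U0 p E) (hv : v ∈ U0 p E) : u * v = v * u :=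
  D.Q_comm_U (D.U_le hu) hv

theorem Z_comm {z e : G} (hz : z ∈ Z0 p E) (he : e ∈ E) : e * z * e⁻¹ = z := by
  rw [mem_centralizer_iff.1 (mem_inf.1 hz).2 e he, mul_inv_cancel_right]

theorem Q_le : Q0 p E ≤ E := map_subtype_le _

theorem rhoW_eq_one_iff (e : ↥E) : D.SW.ρ e = 1 ↔ (e : G) ∈ Q0 p E := by
  refine ⟨fun h => (BaumannModule.good_of_block D.block).ker e e.2 fun u hu => ?_, fun h => ?_⟩
  · have h1 := D.SW.act e ⟨u, hu⟩
    rw [h] at h1
    simp only [Matrix.SpecialLinearGroup.coe_one, Matrix.one_mulVec] at h1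
    have h2 : D.SW.co (D.SW.conjU ⟨e, D.SW.le_nrm e.2⟩ ⟨u, hu⟩ * ⟨u, hu⟩⁻¹) = 0 := by
      rw [Sec.co_mul, Sec.co_inv]
      exact (congrArg (· + _) h1).trans (add_neg_cancel _)
    exact (D.SW.co_eq_zero _).1 h2
  · refine D.SW.rho_eq_one fun u => ?_
    rw [D.Q_comm_U h u.2, mul_inv_cancel_right, mul_inv_cancel]
    exact one_mem _

theorem rhoQ_eq_one_iff (e : ↥E) : D.SQ.ρ e = 1 ↔ (e : G) ∈ Q0 p E := by
  have hle : D.SW.ρ.ker ≤ D.SQ.ρ.ker := fun q hq => by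
    rw [MonoidHom.mem_ker] at hq ⊢
    refine D.SQ.rho_eq_one fun u => ?_
    have h : ⁅(q : G), (u : G)⁆ ∈ Z0 p E := D.comm ▸ commutator_mem_commutator ((D.rhoW_eq_one_iff q).1 hq) u.2
    rw [commutatorElement_def] at h
    exact (mem_inf.1 h).1
  have heq : D.SW.ρ.ker = D.SQ.ρ.ker := by
    refine eq_of_le_of_card_ge hle (le_of_eq ?_)
    have hi : D.SW.ρ.ker.index = D.SQ.ρ.ker.index := by rw [index_ker, index_ker, D.SW.range, D.SQ.range]
    have h1 := D.SQ.ρ.ker.card_mul_index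
    rw [← D.SW.ρ.ker.card_mul_index, ← hi] at h1
    exact Nat.eq_of_mul_eq_mul_right (Nat.pos_of_ne_zero index_ne_zero_of_finite) h1
  rw [← D.rhoW_eq_one_iff, ← MonoidHom.mem_ker, ← MonoidHom.mem_ker, heq]

theorem exists_neg : ∃ e : ↥E, D.SW.ρ e = -1 := by
  haveI := D.charP
  exact D.SW.mem_range _ SympPlane.Setup.neg_one_mem

theorem W_le : W0 p E ≤ U0 p E := commutator_le.2 fun u hu e he => by
  rw [commutatorElement_def]
  have := mul_mem hu (inv_mem ((mem_normalizer_iff.1 (D.SW.norm he) u).1 hu))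
  simpa [mul_assoc] using this

theorem normalizer_E_le : normalizer (E : Set G) ≤ D.SW.nrm ⊓ D.SQ.nrm := by
  have hQ := BaumannBlockW.normalizer_le_normalizer_pCoreOf (p := p) E
  have hU : normalizer (E : Set G) ≤ normalizer (U0 p E : Set G) :=
    hQ.trans (BaumannBlockW.normalizer_le_normalizer_omegaOneCenter _)
  have hZ : normalizer (E : Set G) ≤ normalizer (Z0 p E : Set G) :=
    (le_inf hU (BaumannBlockW.normalizer_le_normalizer_centralizer E)).trans inf_normalizer_le_normalizer_inf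
  exact le_inf (le_inf hU hZ) (le_inf hQ hU)

theorem U_eq : W0 p E ⊔ Z0 p E = U0 p E := by
  have hWE : E ≤ normalizer (W0 p E : Set G) := Commutators.normalizer_commutator_right _ E
  have hZE : E ≤ normalizer (Z0 p E : Set G) := (le_normalizer.trans D.normalizer_E_le).trans
    (inf_le_left.trans inf_le_right)
  refine ((BaumannModule.good_of_block D.block).irr _ le_sup_right (sup_le D.W_le inf_le_left)
    ((le_inf hWE hZE).trans (BaumannBlockW.normalizer_inf_le_normalizer_sup _ _))).resolve_left fun h => ?_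
  obtain ⟨e, he⟩ := D.exists_neg
  haveI := D.charP
  have h1 : D.SW.ρ e = 1 := D.SW.rho_eq_one fun u => by
    refine h.le (mem_sup_left ?_)
    have := inv_mem (commutator_mem_commutator u.2 e.2)
    rw [commutatorElement_def] at this
    simpa [mul_assoc] using this
  rw [he] at h1
  have h2 := congrFun (congrFun (congrArg Subtype.val h1) 0) 0
  simp at h2
  exact SympPlane.Setup.two_ne (F := F) (by linear_combination -h2)

theorem odd_of_mem_E_core {x : G} (hx : x ∈ Q0 p E) (h2 : x * x = 1) : x = 1 := by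
  obtain ⟨k, hk⟩ := IsPGroup.iff_orderOf.1 (SylowIn.isPGroup_pCoreOf (p := p) E) ⟨x, hx⟩
  rw [orderOf_mk] at hk
  have h : orderOf x ∣ 2 := orderOf_dvd_of_pow_eq_one (by rw [pow_two, h2])
  rw [← orderOf_eq_one_iff]
  exact Nat.dvd_one.1 ((Nat.Coprime.pow_right k (show Nat.Coprime 2 p by rw [D.p_eq]; decide)) ▸
    Nat.dvd_gcd h (hk ▸ dvd_rfl))

theorem disjoint : W0 p E ⊓ Z0 p E = ⊥ := by
  obtain ⟨t, ht⟩ := D.exists_neg
  set tg : G := (t : G)
  have hZt : ∀ u ∈ U0 p E, tg * u * tg⁻¹ * u ∈ Z0 p E := fun u hu => by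
    have h1 := D.SW.act t ⟨u, hu⟩
    rw [ht, Matrix.SpecialLinearGroup.coe_neg, Matrix.SpecialLinearGroup.coe_one, Matrix.neg_mulVec,
      Matrix.one_mulVec] at h1
    have h2 : D.SW.co (D.SW.conjU ⟨tg, D.SW.le_nrm t.2⟩ ⟨u, hu⟩ * ⟨u, hu⟩) = 0 := by
      rw [Sec.co_mul]
      exact (congrArg (· + _) h1).trans (neg_add_cancel _)
    exact (D.SW.co_eq_zero _).1 h2
  let V : Subgroup G :=
    { carrier := {u | u ∈ U0 p E ∧ tg * u * tg⁻¹ * u = 1}
      one_mem' := ⟨one_mem _, by simp⟩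
      mul_mem' := by
        rintro a b ⟨ha, ha'⟩ ⟨hb, hb'⟩
        refine ⟨mul_mem ha hb, ?_⟩
        calc tg * (a * b) * tg⁻¹ * (a * b) = tg * a * tg⁻¹ * (tg * b * tg⁻¹ * a) * b := by group
          _ = tg * a * tg⁻¹ * (a * (tg * b * tg⁻¹)) * b := by
            rw [D.U_comm ((mem_normalizer_iff.1 (D.SW.norm t.2) b).1 hb) ha]
          _ = (tg * a * tg⁻¹ * a) * (tg * b * tg⁻¹ * b) := by group
          _ = 1 := by rw [ha', hb', one_mul]
      inv_mem' := by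
        rintro a ⟨ha, ha'⟩
        refine ⟨inv_mem ha, ?_⟩
        have h1 : tg * a * tg⁻¹ = a⁻¹ := eq_inv_of_mul_eq_one_left ha'
        calc tg * a⁻¹ * tg⁻¹ * a⁻¹ = (tg * a * tg⁻¹)⁻¹ * a⁻¹ := by group
          _ = 1 := by rw [h1, inv_inv, mul_inv_cancel] }
  have hWV : W0 p E ≤ V := commutator_le.2 fun u hu e he => by
    have huW : ⁅u, e⁆ ∈ U0 p E := D.W_le (commutator_mem_commutator hu he)
    refine ⟨huW, ?_⟩
    rw [commutatorElement_def]
    set v := e * u⁻¹ * e⁻¹ with hv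
    have hvU : v ∈ U0 p E := by
      simpa [hv] using (mem_normalizer_iff.1 (D.SW.norm he) u⁻¹).1 (inv_mem hu)
    have hte : tg⁻¹ * e⁻¹ * tg * e ∈ Q0 p E := by
      refine (D.rhoW_eq_one_iff (t⁻¹ * ⟨e, he⟩⁻¹ * t * ⟨e, he⟩)).1 ?_
      simp [ht]
    have hz := hZt u⁻¹ (inv_mem hu)
    have h1 : tg * v * tg⁻¹ * v = tg * u⁻¹ * tg⁻¹ * u⁻¹ := by
      have h2 : tg * v * tg⁻¹ = e * (tg * u⁻¹ * tg⁻¹) * e⁻¹ := by
        set q := tg⁻¹ * e⁻¹ * tg * e with hq
        have hq' : q * u⁻¹ * q⁻¹ = u⁻¹ := by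
          rw [D.Q_comm_U hte (inv_mem hu), mul_inv_cancel_right]
        calc tg * v * tg⁻¹ = e * tg * (q * u⁻¹ * q⁻¹) * tg⁻¹ * e⁻¹ := by rw [hv, hq]; group
          _ = e * (tg * u⁻¹ * tg⁻¹) * e⁻¹ := by rw [hq']; group
      calc tg * v * tg⁻¹ * v = e * (tg * u⁻¹ * tg⁻¹ * u⁻¹) * e⁻¹ := by rw [h2, hv]; group
        _ = tg * u⁻¹ * tg⁻¹ * u⁻¹ := D.Z_comm hz he
    have htu : tg * u * tg⁻¹ ∈ U0 p E := (mem_normalizer_iff.1 (D.SW.norm t.2) u).1 hu
    calc tg * (u * e * u⁻¹ * e⁻¹) * tg⁻¹ * (u * e * u⁻¹ * e⁻¹)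
        = (tg * u * tg⁻¹) * ((tg * v * tg⁻¹) * u) * v := by rw [hv]; group
      _ = (tg * u * tg⁻¹) * (u * (tg * v * tg⁻¹)) * v := by
        rw [D.U_comm ((mem_normalizer_iff.1 (D.SW.norm t.2) v).1 hvU) hu]
      _ = (tg * u * tg⁻¹) * u * (tg * v * tg⁻¹ * v) := by group
      _ = (tg * u * tg⁻¹) * u * (tg * u⁻¹ * tg⁻¹ * u⁻¹) := by rw [h1]
      _ = u * (tg * u * tg⁻¹) * (tg * u⁻¹ * tg⁻¹ * u⁻¹) := by rw [D.U_comm htu hu]
      _ = 1 := by group
  rw [eq_bot_iff]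
  rintro w ⟨hw, hwz⟩
  rw [mem_bot]
  refine D.odd_of_mem_E_core (D.U_le (mem_inf.1 hwz).1) ?_
  have := (hWV hw).2
  rwa [D.Z_comm hwz t.2] at this

theorem inf_le_Q : E ⊓ centralizer (W0 p E : Set G) ≤ Q0 p E := by
  rintro e ⟨he, hec⟩
  refine (BaumannModule.good_of_block D.block).ker e he fun u hu => ?_
  obtain ⟨w, hw, z, hz, rfl⟩ : u ∈ (W0 p E : Set G) * (Z0 p E : Set G) := by
    have hn : Z0 p E ≤ normalizer (W0 p E : Set G) := fun z hz => centralizer_le_normalizer _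
      (mem_centralizer_iff.2 fun w hw => D.U_comm (D.W_le hw) (mem_inf.1 hz).1)
    rw [← coe_mul_of_right_le_normalizer_left _ _ hn, D.U_eq]
    exact hu
  have h1 : e * (w * z) * e⁻¹ * (w * z)⁻¹ = 1 := by
    calc e * (w * z) * e⁻¹ * (w * z)⁻¹ = (e * w * e⁻¹) * (e * z * e⁻¹) * (z⁻¹ * w⁻¹) := by group
      _ = 1 := by
        rw [D.Z_comm hz he, ← mem_centralizer_iff.1 hec w hw, mul_inv_cancel_right]
        group
  rw [h1]
  exact one_mem _

theorem Q_le_C : Q0 p E ≤ centralizer (W0 p E : Set G) := fun q hq =>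
  mem_centralizer_iff.2 fun w hw => (D.Q_comm_U hq (D.W_le hw)).symm

/-- A `p`-element inducing a commuting map on a section acts trivially on it. -/
theorem actQ_eq_one {g : G} (hg : g ∈ normalizer (E : Set G)) {k : ℕ}
    (hord : g ^ p ^ k = 1) (hc : ∀ e ∈ E, g * e * g⁻¹ * e⁻¹ ∈ Q0 p E) :
    D.SQ.actHom ⟨g, (D.normalizer_E_le hg).2⟩ = 1 := by
  haveI := D.charP
  refine D.SQ.eq_one_of_comm (k := k) ?_ fun e v => ?_
  · rw [← map_pow, show (⟨g, (D.normalizer_E_le hg).2⟩ : D.SQ.nrm) ^ 3 ^ k = 1 from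
      Subtype.ext (by simpa [D.p_eq] using hord), map_one]
  · have h : g * e * g⁻¹ ∈ E := (mem_normalizer_iff.1 hg e).1 e.2
    rw [← D.SQ.actHom_equivariant _ e h]
    refine congrArg (fun M : Matrix.SpecialLinearGroup (Fin 2) F => M.1.mulVec _) ?_
    rw [← mul_inv_eq_one, ← map_inv, ← map_mul, D.rhoQ_eq_one_iff]
    exact hc e e.2

theorem conj_rho {b : G} (hb : b ∈ normalizer (E : Set G)) (f : ↥E)
    (h : ∀ x : ↥E, D.SW.ρ ⟨b * x * b⁻¹, (mem_normalizer_iff.1 hb x).1 x.2⟩ = D.SW.ρ (f * x * f⁻¹))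
    (x : ↥E) : D.SQ.ρ ⟨b * x * b⁻¹, (mem_normalizer_iff.1 hb x).1 x.2⟩ = D.SQ.ρ (f * x * f⁻¹) := by
  rw [← mul_inv_eq_one, ← map_inv, ← map_mul, D.rhoQ_eq_one_iff, ← D.rhoW_eq_one_iff, map_mul,
    map_inv, mul_inv_eq_one]
  exact h x

theorem sq_zero_of_cube [CharP F 3] (A : AddMonoid.End (Fin 2 → F)) (hA : A ^ 3 = 1) :
    (A - 1) ^ 3 = 0 := by
  haveI := end_nontrivial (V := Fin 2 → F)
  haveI : CharP (AddMonoid.End (Fin 2 → F)) 3 :=
    (CharP.charP_iff_prime_eq_zero Nat.prime_three).2 Sec.end_three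
  haveI : Fact (Nat.Prime 3) := ⟨Nat.prime_three⟩
  rw [sub_pow_char_of_commute 3 (Commute.one_right A), hA, one_pow, sub_self]

omit [Finite G] [Finite F] hp D in
theorem sq_of_cube (N : Matrix (Fin 2) (Fin 2) F) (h : N ^ 3 = 0) : N * N = 0 := by
  have hdet : N.det = 0 := by
    have := congrArg Matrix.det h
    rw [Matrix.det_pow, Matrix.det_zero] at this
    exact eq_zero_of_pow_eq_zero this
  have hN : N * N = N.trace • N := by
    rw [Matrix.det_fin_two] at hdet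
    ext i j
    fin_cases i <;> fin_cases j <;> simp [Matrix.mul_apply, Fin.sum_univ_two, Matrix.trace_fin_two] <;>
      first | ring1 | linear_combination hdet | linear_combination -hdet
  have h3 : (N.trace * N.trace) • N = 0 := by
    rw [← h, pow_succ, pow_two, hN, Matrix.smul_mul, hN, smul_smul]
  rw [hN]
  rcases smul_eq_zero.1 h3 with h0 | h0
  · rw [mul_self_eq_zero.1 h0, zero_smul]
  · rw [h0, smul_zero]

set_option maxHeartbeats 800000 in
/-- Quadratic action on `U / Z` gives quadratic action on `Q / U`, normalised form. -/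
theorem quad_aux (hbig : _root_.commutator (Matrix.SpecialLinearGroup (Fin 2) F) = ⊤) {b : G}
    (hb : b ∈ normalizer (E : Set G)) (hb3 : b ^ 3 = 1)
    (hfix : D.SW.actHom ⟨b, (D.normalizer_E_le hb).1⟩ ![1, 0] = ![1, 0])
    (hq : ∀ v, D.SW.actHom ⟨b, (D.normalizer_E_le hb).1⟩ (D.SW.actHom ⟨b, (D.normalizer_E_le hb).1⟩ v) -
      2 • D.SW.actHom ⟨b, (D.normalizer_E_le hb).1⟩ v + v = 0) :
    (D.SQ.actHom ⟨b, (D.normalizer_E_le hb).2⟩ - 1) ^ 2 = 0 := by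
  haveI := D.charP
  set A := D.SW.actHom ⟨b, (D.normalizer_E_le hb).1⟩ with hA
  have hlift : ∀ M : Matrix.SpecialLinearGroup (Fin 2) F, ∃ e, D.SW.ρ e = M := fun M =>
    D.SW.mem_range M (hbig ▸ mem_top _)
  have hconj : ∀ M : Matrix.SpecialLinearGroup (Fin 2) F, ∃ M' : Matrix.SpecialLinearGroup (Fin 2) F,
      (M' = 1 → M = 1) ∧ ∀ v, M'.1.mulVec (A v) = A (M.1.mulVec v) := by
    intro M
    obtain ⟨e, rfl⟩ := hlift M
    refine ⟨D.SW.ρ ⟨b * e * b⁻¹, (mem_normalizer_iff.1 hb e).1 e.2⟩, fun h1 => ?_,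
      fun v => D.SW.actHom_equivariant ⟨b, (D.normalizer_E_le hb).1⟩ e _ v⟩
    rw [D.rhoW_eq_one_iff] at h1 ⊢
    exact (mem_normalizer_iff.1 (BaumannBlockW.normalizer_le_normalizer_pCoreOf E hb) _).2 h1
  let τ : F → F := fun y => A ![y, 0] 0
  let α : F → F := fun z => A ![0, z] 0
  let κ : F → F := fun z => A ![0, z] 1
  -- the unipotent elements
  have hup : ∀ a : F, ∃ a', (a' = 0 → a = 0) ∧ ∀ v, (BaumannModule.up a').1.mulVec (A v) = A ((BaumannModule.up a).1.mulVec v) := by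
    intro a
    obtain ⟨M', hM1, hM⟩ := hconj (BaumannModule.up a)
    have hf := hM ![1, 0]
    rw [show (BaumannModule.up a).1.mulVec ![1, 0] = ![1, 0] by
      ext i; fin_cases i <;> simp [BaumannModule.up, Matrix.mulVec, Matrix.vecHead, Matrix.vecTail], hfix] at hf
    have h00 := congrFun hf 0
    have h10 := congrFun hf 1
    simp [Matrix.mulVec, Matrix.vecHead, Matrix.vecTail, dotProduct, Fin.sum_univ_two] at h00 h10
    have hd := M'.2
    rw [Matrix.det_fin_two, h00, h10, mul_zero, sub_zero, one_mul] at hd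
    have he : M' = BaumannModule.up (M'.1 0 1) :=
      Subtype.ext (by ext i j; fin_cases i <;> fin_cases j <;> simp [BaumannModule.up, h00, h10, hd])
    refine ⟨M'.1 0 1, fun h0 => ?_, he ▸ hM⟩
    have := hM1 (by
      rw [he, h0]
      exact Subtype.ext (by ext i j; fin_cases i <;> fin_cases j <;> simp [BaumannModule.up]))
    simpa [BaumannModule.up] using congrFun (congrFun (congrArg Subtype.val this) 0) 1
  have hupv : ∀ a x y : F, (BaumannModule.up a).1.mulVec ![x, y] = ![x + a * y, y] := fun a x y => by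
    ext i; fin_cases i <;> simp [BaumannModule.up, Matrix.mulVec, Matrix.vecHead, Matrix.vecTail]
  have heta : ∀ v : Fin 2 → F, v = ![v 0, v 1] := fun v => by ext i; fin_cases i <;> rfl
  have hdec : ∀ x y : F, A ![x, y] = A ![x, 0] + A ![0, y] := fun x y => by
    rw [← map_add]; congr 1; ext i; fin_cases i <;> simp
  have hline : ∀ y, A ![y, 0] = ![τ y, 0] := by
    intro y
    obtain ⟨a', ha', h⟩ := hup 1
    have h1 := h ![y, 0]
    rw [heta (A ![y, 0]), hupv, hupv, mul_zero, add_zero] at h1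
    have h2 := congrFun h1 0
    have hz : A ![y, 0] 1 = 0 := by
      have : a' * A ![y, 0] 1 = 0 := by simpa [← heta] using h2
      exact (mul_eq_zero.1 this).resolve_left fun h0 => one_ne_zero (ha' h0)
    rw [heta (A ![y, 0]), hz]
  have hτ1 : τ 1 = 1 := by simp only [τ, hfix]; rfl
  have hfun : ∀ a, ∃ a', ∀ z, τ (a * z) = a' * κ z := by
    intro a
    obtain ⟨a', -, h⟩ := hup a
    refine ⟨a', fun z => ?_⟩
    have h1 := h ![0, z]
    rw [heta (A ![0, z]), hupv, hupv, zero_add, hdec (a * z) z, hline] at h1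
    have h2 := congrFun h1 0
    simp [α, κ] at h2 ⊢
    linear_combination -h2
  have hmul : ∀ a z, τ (a * z) = τ a * τ z := by
    intro a z
    obtain ⟨a', h⟩ := hfun a
    obtain ⟨o, ho⟩ := hfun 1
    have e1 : o * κ 1 = 1 := by rw [← ho 1, one_mul, hτ1]
    have e2 : τ z = o * κ z := by rw [← ho z, one_mul]
    have e3 : τ a = a' * κ 1 := by rw [← h 1, mul_one]
    rw [h, e2, e3]
    linear_combination -(a' * κ z) * e1
  have hadd : ∀ x y, τ (x + y) = τ x + τ y := fun x y => by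
    show A ![x + y, 0] 0 = A ![x, 0] 0 + A ![y, 0] 0
    rw [show (![x + y, 0] : Fin 2 → F) = ![x, 0] + ![y, 0] by ext i; fin_cases i <;> simp, map_add]
    rfl
  have hτ2 : ∀ y, τ (τ y) - 2 * τ y + y = 0 := fun y => by
    have h := congrFun (hq ![y, 0]) 0
    rw [hline, hline] at h
    simpa [two_mul] using h
  have hτ : ∀ x, τ x = x := by
    intro x
    have e := hτ2 (x * x)
    have ex := hτ2 x
    rw [hmul x x, hmul (τ x) (τ x)] at e
    have e' : 2 * ((τ x - x) * (τ x - x)) = 0 := by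
      have : τ (τ x) = 2 * τ x - x := by linear_combination ex
      rw [this] at e
      linear_combination e
    have := (mul_eq_zero.1 e').resolve_left SympPlane.Setup.two_ne
    exact sub_eq_zero.1 (mul_self_eq_zero.1 this)
  have hκ : ∀ z, κ z = z := by
    obtain ⟨o, ho⟩ := hfun 1
    have hk : ∀ z, κ z = κ 1 * z := fun z => by
      have e1 := ho 1; have e2 := ho z
      rw [one_mul, hτ] at e1 e2
      linear_combination -(κ 1) * e2 + κ z * e1
    intro z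
    have h := congrFun (hq ![0, 1]) 1
    rw [heta (A ![0, 1])] at h
    rw [hdec, hline] at h
    have h' : κ (κ 1) - 2 * κ 1 + 1 = 0 := by simpa [κ, two_mul, Matrix.vecHead, Matrix.vecTail] using h
    rw [hk (κ 1)] at h'
    have h1 : κ 1 = 1 := by
      refine sub_eq_zero.1 (mul_self_eq_zero.1 ?_)
      linear_combination h'
    rw [hk, h1, one_mul]
  have hA2 : ∀ x y, A ![x, y] = ![x + α y, y] := fun x y => by
    rw [hdec, hline, heta (A ![0, y]), show A ![0, y] 1 = y from hκ y, hτ]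
    ext i; fin_cases i <;> simp [α]
  have hlin : ∀ y, α y = α 1 * y := by
    obtain ⟨M', -, h⟩ := hconj (BaumannModule.low 1)
    intro y
    have e1 := congrFun (h ![y, 0]) 0
    have e2 := congrFun (h ![1, 0]) 0
    have hl : ∀ x : F, (BaumannModule.low 1).1.mulVec ![x, 0] = ![x, x] := fun x => by
      ext i; fin_cases i <;> simp [BaumannModule.low, Matrix.mulVec, Matrix.vecHead, Matrix.vecTail]
    rw [hA2, hl, hA2] at e1 e2
    simp [α, Matrix.mulVec, Matrix.vecHead, Matrix.vecTail] at e1 e2 hA2 ⊢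
    have hα0 : A ![0, 0] 0 = 0 := by
      rw [show (![0, 0] : Fin 2 → F) = 0 by ext i; fin_cases i <;> simp, map_zero]; rfl
    simp only [hα0, add_zero, mul_one, mul_zero] at e1 e2
    linear_combination -e1 + y * e2
  have hAM : ∀ v, A v = (BaumannModule.up (α 1)).1.mulVec v := fun v => by
    conv_lhs => rw [heta v, hA2, hlin]
    conv_rhs => rw [heta v, hupv]
  obtain ⟨f, hf⟩ := hlift (BaumannModule.up (α 1))
  have hρ : ∀ x : ↥E, D.SW.ρ ⟨b * x * b⁻¹, (mem_normalizer_iff.1 hb x).1 x.2⟩ = D.SW.ρ (f * x * f⁻¹) := by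
    intro x
    rw [map_mul, map_mul, map_inv, hf, eq_mul_inv_iff_mul_eq]
    refine Subtype.ext (Matrix.ext_of_mulVec_single fun i => ?_)
    rw [Matrix.SpecialLinearGroup.coe_mul, Matrix.SpecialLinearGroup.coe_mul, ← Matrix.mulVec_mulVec,
      ← Matrix.mulVec_mulVec, ← hAM, ← hAM]
    exact D.SW.actHom_equivariant ⟨b, (D.normalizer_E_le hb).1⟩ x _ _
  -- compare on `Q / U`
  set B := D.SQ.actHom ⟨b, (D.normalizer_E_le hb).2⟩ with hB
  set P := D.SQ.actHom ⟨f, D.SQ.le_nrm f.2⟩ with hP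
  set P' := D.SQ.actHom ⟨f, D.SQ.le_nrm f.2⟩⁻¹ with hP'
  have hB3 : B ^ 3 = 1 := by
    rw [hB, ← map_pow, show (⟨b, (D.normalizer_E_le hb).2⟩ : D.SQ.nrm) ^ 3 = 1 from Subtype.ext hb3, map_one]
  have hf3 : D.SQ.ρ f ^ 3 = 1 := by
    rw [← map_pow, D.rhoQ_eq_one_iff, ← D.rhoW_eq_one_iff, map_pow, hf]
    refine Subtype.ext ?_
    rw [Matrix.SpecialLinearGroup.coe_pow]
    ext i j
    fin_cases i <;> fin_cases j <;>
      simp [BaumannModule.up, pow_succ, Matrix.mul_fin_two]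
    linear_combination (α 1) * SympPlane.Setup.three (F := F)
  have hPv : ∀ v, P v = (D.SQ.ρ f).1.mulVec v := fun v => D.SQ.actHom_of_mem v
  have hPP' : P * P' = 1 := by rw [hP, hP', ← map_mul, mul_inv_cancel, map_one]
  have hP'P : P' * P = 1 := by rw [hP, hP', ← map_mul, inv_mul_cancel, map_one]
  have hP3 : P ^ 3 = 1 := by
    rw [hP, ← map_pow]
    refine AddMonoidHom.ext fun v => ?_
    rw [show (⟨f, D.SQ.le_nrm f.2⟩ : D.SQ.nrm) ^ 3 = ⟨((f ^ 3 : ↥E) : G), D.SQ.le_nrm (f ^ 3).2⟩ from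
      Subtype.ext (by simp)]
    refine (D.SQ.actHom_of_mem (e := f ^ 3) v).trans ?_
    rw [map_pow, hf3]
    exact Matrix.one_mulVec v
  have hBρ : ∀ (x : ↥E) v, (D.SQ.ρ (f * x * f⁻¹)).1.mulVec (B v) = B ((D.SQ.ρ x).1.mulVec v) := fun x v => by
    rw [← D.conj_rho hb f hρ]; exact D.SQ.actHom_equivariant ⟨b, (D.normalizer_E_le hb).2⟩ x _ v
  have hcomm : Commute B P := AddMonoidHom.ext fun v => by
    show B (P v) = P (B v)
    rw [hPv, hPv, ← hBρ f, mul_inv_cancel_right]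
  have hS1 : P' * B = 1 := by
    refine D.SQ.eq_one_of_comm (k := 1) ?_ fun x v => ?_
    · have hc : Commute P' B := by
        calc P' * B = P' * (B * (P * P')) := by rw [hPP', mul_one]
          _ = P' * ((B * P) * P') := by rw [mul_assoc]
          _ = P' * ((P * B) * P') := by rw [hcomm.eq]
          _ = (P' * P) * (B * P') := by simp only [mul_assoc]
          _ = B * P' := by rw [hP'P, one_mul]
      have hP'3 : P' ^ 3 = 1 := by
        have hc' : Commute P' P := hP'P.trans hPP'.symm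
        calc P' ^ 3 = P' ^ 3 * P ^ 3 := by rw [hP3, mul_one]
          _ = 1 := by rw [← hc'.mul_pow, hP'P, one_pow]
      rw [pow_one, hc.mul_pow, hP'3, hB3, one_mul]
    · show P' (B ((D.SQ.ρ x).1.mulVec v)) = (D.SQ.ρ x).1.mulVec (P' (B v))
      rw [← hBρ, map_mul, map_mul, Matrix.SpecialLinearGroup.coe_mul, Matrix.SpecialLinearGroup.coe_mul,
        ← Matrix.mulVec_mulVec, ← Matrix.mulVec_mulVec, ← hPv, ← end_mul_apply, hP'P, end_one_apply]
      rw [show (D.SQ.ρ f⁻¹).1.mulVec (B v) = P' (B v) from (D.SQ.actHom_of_mem (e := f⁻¹) (B v)).symm]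
  have hBP : B = P := by
    calc B = (P * P') * B := by rw [hPP', one_mul]
      _ = P := by rw [mul_assoc, hS1, mul_one]
  rw [hBP]
  -- a unipotent matrix of degree two
  set M := (D.SQ.ρ f).1 with hM
  have hM3 : (M - 1) ^ 3 = 0 := by
    haveI : CharP (Matrix (Fin 2) (Fin 2) F) 3 := Matrix.charP ..
    haveI : Fact (Nat.Prime 3) := ⟨Nat.prime_three⟩
    rw [sub_pow_char_of_commute 3 (Commute.one_right M), hM, ← Matrix.SpecialLinearGroup.coe_pow, hf3,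
      Matrix.SpecialLinearGroup.coe_one, one_pow, sub_self]
  have hM2 : (M - 1) * (M - 1) = 0 := sq_of_cube _ hM3
  refine AddMonoidHom.ext fun v => ?_
  rw [pow_two]
  show (P - 1) ((P - 1) v) = 0
  have e : ∀ w, (P - 1) w = (M - 1).mulVec w := fun w => by
    rw [Matrix.sub_mulVec, Matrix.one_mulVec, hM, ← hPv]; rfl
  rw [e, e, Matrix.mulVec_mulVec, hM2, Matrix.zero_mulVec]

theorem two_nsmul_eq (A : AddMonoid.End (Fin 2 → F)) (v : Fin 2 → F) (h : (A - 1) ^ 2 = 0) :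
    A (A v) - 2 • A v + v = 0 := by
  have := congrArg (fun M : AddMonoid.End (Fin 2 → F) => M v) h
  rw [pow_two] at this
  change (A (A v - v) - (A v - v)) = 0 at this
  rw [map_sub] at this
  rw [two_nsmul]; linear_combination (norm := abel) this

theorem commutator_top (hcard : Nat.card F ≠ 3) :
    _root_.commutator (Matrix.SpecialLinearGroup (Fin 2) F) = ⊤ := by
  haveI := D.charP
  obtain ⟨n, hn, -⟩ := D.card
  rw [D.p_eq] at hn
  have h5 : 5 ≤ Nat.card F := by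
    rcases n with - | - | n
    · have := Finite.one_lt_card (α := F); omega
    · exact absurd (by rw [hn]; rfl) hcard
    · rw [hn]
      calc 5 ≤ 3 ^ 2 := by norm_num
        _ ≤ _ := Nat.pow_le_pow_right (by norm_num) (by omega)
  exact CfsgLib.Perm.Quad.SL2Normal.eq_top (Or.inr h5) SympPlane.Setup.two_ne inferInstance
    SympPlane.Setup.qI_mem (Or.inl (by simp [SympPlane.Setup.qI]))

/-- Quadratic action on `U / Z` gives quadratic action on `Q / U`. -/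
theorem quad_transfer {b : G} (hb : b ∈ normalizer (E : Set G)) (hb3 : b ^ 3 = 1)
    (hne : D.SW.actHom ⟨b, (D.normalizer_E_le hb).1⟩ ≠ 1)
    (hq : (D.SW.actHom ⟨b, (D.normalizer_E_le hb).1⟩ - 1) ^ 2 = 0) :
    (D.SQ.actHom ⟨b, (D.normalizer_E_le hb).2⟩ - 1) ^ 2 = 0 := by
  haveI := D.charP
  set A := D.SW.actHom ⟨b, (D.normalizer_E_le hb).1⟩ with hA
  set B := D.SQ.actHom ⟨b, (D.normalizer_E_le hb).2⟩ with hB
  have hB3 : B ^ 3 = 1 := by
    rw [hB, ← map_pow, show (⟨b, (D.normalizer_E_le hb).2⟩ : D.SQ.nrm) ^ 3 = 1 from Subtype.ext hb3, map_one]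
  by_cases hcard : Nat.card F = 3
  · let f := ZMod.castHom (dvd_refl 3) F
    have hf : Function.Surjective f := ((Nat.bijective_iff_injective_and_card _).2
      ⟨ZMod.castHom_injective F, by rw [hcard, Nat.card_eq_fintype_card, ZMod.card]⟩).2
    set N := B - 1 with hN
    have hlin : ∀ (x : F) v, N (x • v) = x • N v := fun x v => by
      obtain ⟨y, rfl⟩ := hf x
      obtain ⟨m, rfl⟩ := ZMod.natCast_zmod_surjective y
      rw [map_natCast, Nat.cast_smul_eq_nsmul, map_nsmul, Nat.cast_smul_eq_nsmul]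
    let L : (Fin 2 → F) →ₗ[F] (Fin 2 → F) := { toFun := N, map_add' := map_add N, map_smul' := hlin }
    set M := LinearMap.toMatrix' L with hM
    have hNM : ∀ v, N v = M.mulVec v := fun v => by rw [hM, LinearMap.toMatrix'_mulVec]; rfl
    have hN3 : N ^ 3 = 0 := D.sq_zero_of_cube B hB3
    have hM3 : M ^ 3 = 0 := by
      refine Matrix.ext_of_mulVec_single fun i => ?_
      rw [Matrix.zero_mulVec, pow_succ, pow_two, ← Matrix.mulVec_mulVec, ← Matrix.mulVec_mulVec, ← hNM, ← hNM, ← hNM]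
      exact congrArg (fun K : AddMonoid.End (Fin 2 → F) => K _) hN3
    refine AddMonoidHom.ext fun v => ?_
    rw [pow_two]
    show N (N v) = 0
    rw [hNM, hNM, Matrix.mulVec_mulVec, sq_of_cube M hM3, Matrix.zero_mulVec]
  have hbig : _root_.commutator (Matrix.SpecialLinearGroup (Fin 2) F) = ⊤ := D.commutator_top hcard
  obtain ⟨x, hx⟩ : ∃ x, A x - x ≠ 0 := by
    by_contra hne'
    push Not at hne'
    exact hne (AddMonoidHom.ext fun x => sub_eq_zero.1 (hne' x))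
  set v := A x - x with hv
  have hAv : A v = v := by
    have := congrArg (fun M : AddMonoid.End (Fin 2 → F) => M x) hq
    rw [pow_two] at this
    exact sub_eq_zero.1 this
  obtain ⟨g, hg⟩ : ∃ g : Matrix.SpecialLinearGroup (Fin 2) F, g.1.mulVec ![1, 0] = v := by
    by_cases h0 : v 0 = 0
    · have h1 : v 1 ≠ 0 := fun h1 => hx (by ext i; fin_cases i <;> simp [h0, h1])
      refine ⟨⟨!![0, -(v 1)⁻¹; v 1, 0], by simp [Matrix.det_fin_two, h1]⟩, ?_⟩
      ext i; fin_cases i <;> simp [Matrix.mulVec, Matrix.vecHead, Matrix.vecTail, h0]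
    · refine ⟨⟨!![v 0, 0; v 1, (v 0)⁻¹], by simp [Matrix.det_fin_two, h0]⟩, ?_⟩
      ext i; fin_cases i <;> simp [Matrix.mulVec, Matrix.vecHead, Matrix.vecTail]
  obtain ⟨f, hf⟩ := D.SW.mem_range g (hbig ▸ mem_top _)
  set b' := (f : G)⁻¹ * b * f with hb'
  have hfN : (f : G) ∈ normalizer (E : Set G) := le_normalizer f.2
  have hb'N : b' ∈ normalizer (E : Set G) := mul_mem (mul_mem (inv_mem hfN) hb) hfN
  set fW : D.SW.nrm := ⟨f, D.SW.le_nrm f.2⟩ with hfW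
  set fQ : D.SQ.nrm := ⟨f, D.SQ.le_nrm f.2⟩ with hfQ
  have eW : D.SW.actHom ⟨b', (D.normalizer_E_le hb'N).1⟩ = D.SW.actHom fW⁻¹ * A * D.SW.actHom fW := by
    rw [hA, ← map_mul, ← map_mul]; rfl
  have eQ : D.SQ.actHom ⟨b', (D.normalizer_E_le hb'N).2⟩ = D.SQ.actHom fQ⁻¹ * B * D.SQ.actHom fQ := by
    rw [hB, ← map_mul, ← map_mul]; rfl
  have hb'3 : b' ^ 3 = 1 := by
    rw [hb', show ((f : G)⁻¹ * b * f) = MulAut.conj (f : G)⁻¹ b by simp, ← map_pow, hb3, map_one]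
  have hW1 : D.SW.actHom fW⁻¹ * D.SW.actHom fW = 1 := by rw [← map_mul, inv_mul_cancel, map_one]
  have hW2 : D.SW.actHom fW * D.SW.actHom fW⁻¹ = 1 := by rw [← map_mul, mul_inv_cancel, map_one]
  have h := D.quad_aux hbig hb'N hb'3 (by
      rw [eW]
      show D.SW.actHom fW⁻¹ (A (D.SW.actHom fW ![1, 0])) = _
      rw [D.SW.actHom_of_mem, hf, hg, hAv, ← hg, ← hf, ← D.SW.actHom_of_mem]
      exact congrArg (fun K : AddMonoid.End (Fin 2 → F) => K ![1, 0]) hW1)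
    (fun w => by
      refine D.two_nsmul_eq _ w ?_
      rw [eW, show D.SW.actHom fW⁻¹ * A * D.SW.actHom fW - 1 = D.SW.actHom fW⁻¹ * (A - 1) * D.SW.actHom fW by
        rw [mul_sub, sub_mul, mul_one, hW1], pow_two]
      calc _ = D.SW.actHom fW⁻¹ * ((A - 1) * (D.SW.actHom fW * D.SW.actHom fW⁻¹) * (A - 1)) * D.SW.actHom fW := by
            simp only [mul_assoc]
        _ = 0 := by rw [hW2, mul_one, ← pow_two, hq, mul_zero, zero_mul])
  have hQ1 : D.SQ.actHom fQ * D.SQ.actHom fQ⁻¹ = 1 := by rw [← map_mul, mul_inv_cancel, map_one]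
  have hQ2 : D.SQ.actHom fQ⁻¹ * D.SQ.actHom fQ = 1 := by rw [← map_mul, inv_mul_cancel, map_one]
  rw [eQ, show D.SQ.actHom fQ⁻¹ * B * D.SQ.actHom fQ - 1 = D.SQ.actHom fQ⁻¹ * (B - 1) * D.SQ.actHom fQ by
    rw [mul_sub, sub_mul, mul_one, hQ2], pow_two] at h
  calc (B - 1) ^ 2 = (D.SQ.actHom fQ * D.SQ.actHom fQ⁻¹) * ((B - 1) * (D.SQ.actHom fQ * D.SQ.actHom fQ⁻¹) * (B - 1)) *
        (D.SQ.actHom fQ * D.SQ.actHom fQ⁻¹) := by rw [hQ1]; simp [pow_two]
    _ = D.SQ.actHom fQ * (D.SQ.actHom fQ⁻¹ * (B - 1) * D.SQ.actHom fQ * (D.SQ.actHom fQ⁻¹ * (B - 1) * D.SQ.actHom fQ)) *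
        D.SQ.actHom fQ⁻¹ := by simp only [mul_assoc]
    _ = 0 := by rw [h, mul_zero, zero_mul]

theorem exists_wz {u : G} (hu : u ∈ U0 p E) : ∃ w ∈ W0 p E, ∃ z ∈ Z0 p E, w * z = u := by
  have hn : Z0 p E ≤ normalizer (W0 p E : Set G) := fun z hz => centralizer_le_normalizer _
    (mem_centralizer_iff.2 fun w hw => D.U_comm (D.W_le hw) (mem_inf.1 hz).1)
  rw [← D.U_eq] at hu
  have h : u ∈ (W0 p E : Set G) * (Z0 p E : Set G) := by
    rw [← coe_mul_of_right_le_normalizer_left _ _ hn]; exact hu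
  exact h

/-- Some element of `B(T)` acts quadratically, nontrivially, on both natural sections. -/
theorem exists_quad (hG : centralizer (Cfsg.pCore p G : Set G) ≤ Cfsg.pCore p G) :
    ∃ b ∈ Cfsg.baumannSubgroupOf p (T : Subgroup G), ∃ hb : b ∈ normalizer (E : Set G),
      b ∉ centralizer (W0 p E : Set G) ∧
      (D.SW.actHom ⟨b, (D.normalizer_E_le hb).1⟩ - 1) ^ 2 = 0 ∧
      (D.SQ.actHom ⟨b, (D.normalizer_E_le hb).2⟩ - 1) ^ 2 = 0 := by
  haveI := SylowIn.pCore_normal G p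
  have hWT : W0 p E ≤ (T : Subgroup G) := by
    refine (BaumannBlockW.w_le hG D.block).trans ((BaumannBlockW.omegaOneCenter_le _).trans (inf_le_left.trans ?_))
    exact IsPGroup.le_sylow_of_normal (SylowIn.isPGroup_pCore G p) T
  obtain ⟨A₀, hA₀, hle₀⟩ := CfsgLib.Fusion.Thompson.exists_maxEA_le_sylow T
  have hJ := CfsgLib.Fusion.Thompson.thompsonSubgroupOf_eq hA₀ hle₀
  obtain ⟨A, hA, hAT, hAne⟩ : ∃ A ∈ Cfsg.maxElementaryAbelianSubgroups p G, A ≤ (T : Subgroup G) ∧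
      ⁅W0 p E, A⁆ ≠ ⊥ := by
    by_contra hne
    push Not at hne
    refine BaumannBlockW.w_moved D.block (commutator_eq_bot_iff_le_centralizer.2 fun w hw => ?_)
    rw [hJ]
    refine mem_centralizer_iff.2 fun j hj => ?_
    have : (sSup _ : Subgroup G) ≤ centralizer ({w} : Set G) := sSup_le fun A (hA : A ∈ {A | A ∈ Cfsg.maxElementaryAbelianSubgroups p G ∧ A ≤ (T : Subgroup G)}) x hx => by
      have h := commutator_eq_bot_iff_le_centralizer.1 (hne A hA.1 hA.2) hw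
      exact mem_centralizer_singleton_iff.2 (mem_centralizer_iff.1 h x hx)
    exact mem_centralizer_singleton_iff.1 (this hj)
  have hWel : Cfsg.IsElementaryAbelian p (W0 p E) := by
    refine ⟨isMulCommutative_iff_of_setLike.2 fun a ha b hb => D.U_comm (D.W_le ha) (D.W_le hb), fun a ha => ?_⟩
    exact BaumannBlockW.pow_eq_one_of_mem _ (D.W_le ha)
  have hWn' : normalizer (E : Set G) ≤ normalizer (W0 p E : Set G) :=
    SylowIn.le_normalizer_of_map_conj fun g hg => by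
      rw [Subgroup.map_commutator, SylowIn.map_conj_eq_iff.2 hg,
        SylowIn.map_conj_eq_iff.2 (mem_inf.1 (D.normalizer_E_le hg).1).1]
  have hAN : A ≤ normalizer (W0 p E : Set G) := by
    refine le_trans (le_trans ?_ (BaumannBlock.thompson_le_baumann (p := p) (T : Subgroup G))) (le_trans
      (BaumannBlockW.baumann_le_normalizer D.block) hWn')
    rw [hJ]
    exact le_sSup ⟨hA, hAT⟩
  obtain ⟨hS, hquad, hne⟩ := replacement_rel hWel hA hAN
  set A' := ⁅W0 p E, A⁆ ⊔ (A ⊓ centralizer ((⁅W0 p E, A⁆ : Subgroup G) : Set G))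
  have hA'T : A' ≤ (T : Subgroup G) :=
    sup_le ((commutator_mono hWT hAT).trans (commutator_le_self _)) (inf_le_left.trans hAT)
  have hA'B : A' ≤ Cfsg.baumannSubgroupOf p (T : Subgroup G) :=
    le_trans (by rw [hJ]; exact le_sSup ⟨hS, hA'T⟩) (BaumannBlock.thompson_le_baumann (p := p) (T : Subgroup G))
  obtain ⟨b, hb, hbC⟩ : ∃ b ∈ A', b ∉ centralizer (W0 p E : Set G) := by
    by_contra hall
    push Not at hall
    exact hne hAne (commutator_eq_bot_iff_le_centralizer.2 fun w hw =>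
      mem_centralizer_iff.2 fun a ha => (mem_centralizer_iff.1 (hall a ha) w hw).symm)
  have hbN : b ∈ normalizer (E : Set G) := BaumannBlockW.baumann_le_normalizer D.block (hA'B hb)
  have hb3 : b ^ 3 = 1 := by have := hS.1.2 b hb; rwa [D.p_eq] at this
  set bW : D.SW.nrm := ⟨b, (D.normalizer_E_le hbN).1⟩ with hbW
  have hfix : ∀ w ∈ W0 p E, b * (b * w * b⁻¹ * w⁻¹) * b⁻¹ = b * w * b⁻¹ * w⁻¹ := by
    intro w hw
    have h1 : ⁅w, b⁆ ∈ ⁅W0 p E, A'⁆ := commutator_mem_commutator hw hb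
    have h2 := commutator_eq_bot_iff_le_centralizer.1 hquad h1
    have h3 : b * ⁅w, b⁆ = ⁅w, b⁆ * b := mem_centralizer_iff.1 h2 b hb
    rw [commutatorElement_def] at h3
    calc b * (b * w * b⁻¹ * w⁻¹) * b⁻¹ = ((b * (w * b * w⁻¹ * b⁻¹)) * b⁻¹)⁻¹ := by
          simp only [mul_inv_rev, inv_inv, mul_assoc]
      _ = b * w * b⁻¹ * w⁻¹ := by rw [h3]; group
  have hqW : (D.SW.actHom bW - 1) ^ 2 = 0 := by
    refine AddMonoidHom.ext fun v => ?_
    obtain ⟨u, rfl⟩ := D.SW.exists_co v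
    obtain ⟨w, hw, z, hz, huwz⟩ := D.exists_wz u.2
    rw [pow_two]
    show D.SW.actHom bW (D.SW.actHom bW (D.SW.co u) - D.SW.co u) - (D.SW.actHom bW (D.SW.co u) - D.SW.co u) = 0
    set w' : ↥(U0 p E) := ⟨w, D.W_le hw⟩
    have hu : D.SW.co u = D.SW.co w' := D.SW.co_eq _ _ (by
      rw [← huwz]
      have : w * z * w⁻¹ = z := by rw [D.U_comm (D.W_le hw) (mem_inf.1 hz).1, mul_inv_cancel_right]
      rw [this]; exact hz)
    rw [hu, D.SW.actHom_co, sub_eq_add_neg (D.SW.co _) (D.SW.co w'), ← Sec.co_inv, ← Sec.co_mul,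
      D.SW.actHom_co, sub_eq_zero]
    congr 1
    refine Subtype.ext ?_
    simpa [Sec.conjU, w'] using hfix w hw
  refine ⟨b, hA'B hb, hbN, hbC, hqW, D.quad_transfer hbN hb3 (fun h1 => hbC ?_) hqW⟩
  refine mem_centralizer_iff.2 fun w hw => ?_
  have h2 := D.SW.mem_of_actHom_eq_one h1 ⟨w, D.W_le hw⟩
  have h3 : b * w * b⁻¹ * w⁻¹ ∈ W0 p E := by
    refine mul_mem ((mem_normalizer_iff.1 ?_ w).1 hw) (inv_mem hw)
    exact hWn' hbN
  have h4 : b * w * b⁻¹ * w⁻¹ ∈ W0 p E ⊓ Z0 p E := ⟨h3, h2⟩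
  rw [D.disjoint, mem_bot, mul_inv_eq_one, mul_inv_eq_iff_eq_mul] at h4
  exact h4.symm

omit D in
theorem baumann_smul (g : G) (T : Sylow p G) : Cfsg.baumannSubgroupOf p ((g • T : Sylow p G) : Subgroup G) =
    (Cfsg.baumannSubgroupOf p (T : Subgroup G)).map (MulAut.conj g).toMonoidHom := by
  have hi := (MulAut.conj g).injective
  have hJ := CfsgLib.Fusion.Thompson.thompsonSubgroupOf_smul (p := p) g T
  rw [Cfsg.baumannSubgroupOf, Cfsg.baumannSubgroupOf, Cfsg.centerThompsonOf, Cfsg.centerThompsonOf, hJ,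
    SylowIn.centralizer_map_conj, ← Subgroup.map_inf _ _ _ hi, ← SylowIn.omegaOne_map,
    SylowIn.centralizer_map_conj, Subgroup.map_inf _ _ _ hi]
  rfl

/-- No element centralising `W_E` inverts `Q / U`. -/
theorem no_inverter (hG : centralizer (Cfsg.pCore p G : Set G) ≤ Cfsg.pCore p G) {h : G}
    (hC : h ∈ centralizer (W0 p E : Set G)) (hN : h ∈ normalizer (E : Set G))
    (hinv : ∀ x ∈ Q0 p E, h * x * h⁻¹ * x ∈ U0 p E) : False := by
  haveI := D.charP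
  obtain ⟨b, hbB, hbN, hbC, hqW, hqQ⟩ := D.exists_quad hG
  have hp2 : p ≠ 2 := by rw [D.p_eq]; decide
  set Bm := Cfsg.baumannSubgroupOf p (T : Subgroup G) with hBm
  have hBp : IsPGroup p Bm := T.isPGroup'.to_le inf_le_left
  have hBN : Bm ≤ normalizer (E : Set G) := BaumannBlockW.baumann_le_normalizer D.block
  set NE := normalizer (E : Set G) with hNE
  have hle : NE ≤ D.SQ.nrm := fun g hg => (D.normalizer_E_le hg).2
  let φ : ↥NE →* AddMonoid.End (Fin 2 → F) := D.SQ.actHom.comp (Subgroup.inclusion hle)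
  have hWn : NE ≤ normalizer (W0 p E : Set G) := SylowIn.le_normalizer_of_map_conj fun g hg => by
    rw [Subgroup.map_commutator, SylowIn.map_conj_eq_iff.2 hg,
      SylowIn.map_conj_eq_iff.2 (mem_inf.1 (D.normalizer_E_le hg).1).1]
  set C := centralizer (W0 p E : Set G)
  have hCn : NE ≤ normalizer (C : Set G) := hWn.trans (BaumannBlockW.normalizer_le_normalizer_centralizer _)
  have hneg : φ ⟨h, hN⟩ = -1 := by
    refine end_ext fun v => ?_
    obtain ⟨u, rfl⟩ := D.SQ.exists_co v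
    show D.SQ.actHom _ (D.SQ.co u) = -(D.SQ.co u)
    rw [D.SQ.actHom_co, ← Sec.co_inv]
    refine D.SQ.co_eq _ _ ?_
    simpa [Sec.conjU] using hinv u u.2
  -- elements trivial on `Q / U`
  let K : Subgroup G := ((φ.toHomUnits.ker).map NE.subtype) ⊓ C
  have hK : ∀ {g : G}, g ∈ K ↔ ∃ hg : g ∈ NE, φ ⟨g, hg⟩ = 1 ∧ g ∈ C := by
    intro g
    constructor
    · rintro ⟨⟨⟨g, hg⟩, h1, rfl⟩, h2⟩
      exact ⟨hg, congrArg Units.val (MonoidHom.mem_ker.1 h1), h2⟩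
    · rintro ⟨hg, h1, h2⟩
      exact ⟨⟨⟨g, hg⟩, MonoidHom.mem_ker.2 (Units.ext h1), rfl⟩, h2⟩
  have hKnorm : NE ≤ normalizer (K : Set G) := by
    refine (le_inf (fun g hg => ?_) hCn).trans inf_normalizer_le_normalizer_inf
    have := le_normalizer_map NE.subtype ⟨⟨g, hg⟩, show (⟨g, hg⟩ : ↥NE) ∈ normalizer (φ.toHomUnits.ker : Set ↥NE) by
      rw [normalizer_eq_top_iff.2 inferInstance]; trivial, rfl⟩
    exact this
  set M := K ⊔ Bm with hM
  obtain ⟨S, hS⟩ := (hBp.comap_of_injective M.subtype M.subtype_injective).exists_le_sylow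
  set S₀ := (S : Subgroup ↥M).map M.subtype with hS₀
  have hBS : Bm ≤ S₀ := fun x hx => ⟨⟨x, mem_sup_right hx⟩, hS hx, rfl⟩
  have hS₀p : IsPGroup p S₀ := S.isPGroup'.map _
  have hS₀M : S₀ ≤ M := map_subtype_le _
  -- `h` normalises `M`
  have hhB : ∀ x ∈ Bm, ∀ g ∈ C, ∀ hg : g ∈ NE, φ ⟨g, hg⟩ = -1 → g * x * g⁻¹ * x⁻¹ ∈ K := by
    intro x hx g hgC hg hgφ
    have hgx : g * x * g⁻¹ * x⁻¹ ∈ NE := mul_mem (mul_mem (mul_mem hg (hBN hx)) (inv_mem hg)) (inv_mem (hBN hx))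
    refine hK.2 ⟨hgx, ?_, ?_⟩
    · set X : ↥NE := ⟨x, hBN hx⟩
      set g' : ↥NE := ⟨g, hg⟩
      rw [show (⟨_, hgx⟩ : ↥NE) = g' * X * g'⁻¹ * X⁻¹ from rfl]
      have e1 : φ (g' * X) = φ (X * g') := by
        rw [map_mul, map_mul, hgφ]
        refine end_ext fun v => ?_
        show -(φ X v) = φ X (-v)
        rw [map_neg]
      have e2 : φ (g' * X * g'⁻¹ * X⁻¹) = φ (g' * X) * φ (g'⁻¹ * X⁻¹) := by rw [← map_mul]; congr 1; group
      rw [e2, e1, ← map_mul, show X * g' * (g'⁻¹ * X⁻¹) = 1 by group, map_one]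
    · rw [show g * x * g⁻¹ * x⁻¹ = g * (x * g⁻¹ * x⁻¹) by group]
      exact mul_mem hgC ((mem_normalizer_iff.1 (hCn (hBN hx)) _).1 (inv_mem hgC))
  have hhM : ∀ y ∈ M, h * y * h⁻¹ ∈ M := by
    have : M ≤ M.comap (MulAut.conj h).toMonoidHom := by
      refine sup_le (fun y hy => mem_sup_left ?_) fun x hx => ?_
      · simpa using (mem_normalizer_iff.1 (hKnorm hN) y).1 hy
      · have := mul_mem (mem_sup_left (T := Bm) (hhB x hx h hC hN hneg)) (mem_sup_right (S := K) hx)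
        simpa using this
    intro y hy
    simpa using this hy
  -- Frattini
  obtain ⟨k, hk, hkS⟩ : ∃ k ∈ K, k * h ∈ normalizer (S₀ : Set G) := by
    set S₁ := S₀.map (MulAut.conj h).toMonoidHom with hS₁
    have hS₁M : S₁ ≤ M := by rintro _ ⟨y, hy, rfl⟩; simpa using hhM y (hS₀M hy)
    obtain ⟨P, hP⟩ := ((hS₀p.map _).comap_of_injective M.subtype M.subtype_injective :
      IsPGroup p (S₁.comap M.subtype)).exists_le_sylow
    obtain ⟨⟨m, hm⟩, hmP⟩ := MulAction.exists_smul_eq ↥M P S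
    have hconj : ∀ y ∈ S₁, m * y * m⁻¹ ∈ S₀ := fun y hy => by
      refine ⟨⟨m * y * m⁻¹, mul_mem (mul_mem hm (hS₁M hy)) (inv_mem hm)⟩, ?_, rfl⟩
      rw [← hmP]
      exact ⟨⟨y, hS₁M hy⟩, hP (show y ∈ S₁ from hy), rfl⟩
    have hm' : m ∈ (Bm : Set G) * (K : Set G) := by
      rw [← coe_mul_of_left_le_normalizer_right Bm K (hBN.trans hKnorm), sup_comm]; exact hm
    obtain ⟨b', hb', k, hk, rfl⟩ := hm'
    refine ⟨k, hk, SylowIn.map_conj_eq_iff.1 (eq_of_le_of_card_ge ?_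
      (card_map_of_injective (MulAut.conj (k * h)).injective).ge)⟩
    rintro _ ⟨y, hy, rfl⟩
    have h1 := hconj _ ⟨y, hy, rfl⟩
    have h2 := mul_mem (mul_mem (inv_mem (hBS hb')) h1) (hBS hb')
    simp only [MulEquiv.coe_toMonoidHom, MulAut.conj_apply] at h2 ⊢
    convert h2 using 1
    group
  obtain ⟨hkN, hk1, hkC⟩ := hK.1 hk
  set h₁ := k * h with hh₁
  have hh₁N : h₁ ∈ NE := mul_mem hkN hN
  have hh₁φ : φ ⟨h₁, hh₁N⟩ = -1 := by
    rw [show (⟨h₁, hh₁N⟩ : ↥NE) = ⟨k, hkN⟩ * ⟨h, hN⟩ from rfl, map_mul, hk1, one_mul, hneg]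
  -- a 2-power part
  obtain ⟨a, N, hNodd, hord⟩ := Nat.exists_eq_two_pow_mul_odd (orderOf_pos h₁).ne'
  set h₂ := h₁ ^ N with hh₂
  have hh₂N : h₂ ∈ NE := pow_mem hh₁N N
  have hh₂C : h₂ ∈ C := pow_mem (mul_mem hkC hC) N
  have hh₂φ : φ ⟨h₂, hh₂N⟩ = -1 := by
    rw [show (⟨h₂, hh₂N⟩ : ↥NE) = ⟨h₁, hh₁N⟩ ^ N from rfl, map_pow, hh₁φ]
    have hsq : (-1 : AddMonoid.End (Fin 2 → F)) ^ 2 = 1 := by rw [pow_two]; exact end_ext fun v => neg_neg v
    obtain ⟨m, hm⟩ := hNodd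
    rw [hm, pow_succ, pow_mul, hsq, one_pow, one_mul]
  have h2S : h₂ ∈ normalizer (S₀ : Set G) := pow_mem hkS N
  have h2pow : h₂ ^ 2 ^ a = 1 := by rw [hh₂, ← pow_mul, mul_comm, ← hord, pow_orderOf_eq_one]
  -- `h₂` normalises `B(T)`
  have h2B : h₂ ∈ normalizer (Bm : Set G) := by
    have hBS' : Bm.map (MulAut.conj h₂).toMonoidHom ≤ S₀ :=
      (map_mono hBS).trans (le_of_eq (SylowIn.map_conj_eq_iff.2 h2S))
    obtain ⟨T', hT'⟩ := hS₀p.exists_le_sylow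
    refine SylowIn.map_conj_eq_iff.1 ?_
    have e1 := BaumannBlock.baumann_eq_of_le (T := T) (S := T') (hBS.trans hT')
    have e2 : Cfsg.baumannSubgroupOf p ((h₂ • T : Sylow p G) : Subgroup G) =
        Bm.map (MulAut.conj h₂).toMonoidHom := baumann_smul h₂ T
    have e3 := BaumannBlock.baumann_eq_of_le (T := h₂ • T) (S := T') (e2 ▸ (hBS'.trans hT'))
    rw [← e2, ← e3, e1]
  -- a fixed point in the coset
  set B₀ := Bm ⊓ C with hB₀
  have h2C : h₂ ∈ normalizer (C : Set G) := le_normalizer hh₂C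
  have hb2 : h₂ * b * h₂⁻¹ * b⁻¹ ∈ B₀ := by
    refine mem_inf.2 ⟨mul_mem ((mem_normalizer_iff.1 h2B b).1 hbB) (inv_mem hbB), ?_⟩
    rw [show h₂ * b * h₂⁻¹ * b⁻¹ = h₂ * (b * h₂⁻¹ * b⁻¹) by group]
    exact mul_mem hh₂C ((mem_normalizer_iff.1 (hCn hbN) _).1 (inv_mem hh₂C))
  obtain ⟨b₀, hb₀, hb₀h⟩ : ∃ b₀, b₀ * b⁻¹ ∈ B₀ ∧ h₂ * b₀ * h₂⁻¹ = b₀ := by
    let X := {x : G // x * b⁻¹ ∈ B₀}
    have hX : ∀ x : G, x * b⁻¹ ∈ B₀ → ∀ g ∈ zpowers h₂, g * x * g⁻¹ * b⁻¹ ∈ B₀ := by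
      intro x hx g hg
      have hgn : g ∈ normalizer (B₀ : Set G) :=
        (zpowers_le.2 (inf_normalizer_le_normalizer_inf (mem_inf.2 ⟨h2B, h2C⟩))) hg
      have hgb : g * b * g⁻¹ * b⁻¹ ∈ B₀ := by
        have hsub : ∀ g ∈ zpowers h₂, g * b * g⁻¹ * b⁻¹ ∈ B₀ := by
          intro g hg
          have hgC : g ∈ C := (zpowers_le.2 hh₂C) hg
          refine mem_inf.2 ⟨mul_mem ((mem_normalizer_iff.1 ((zpowers_le.2 h2B) hg) b).1 hbB) (inv_mem hbB), ?_⟩
          rw [show g * b * g⁻¹ * b⁻¹ = g * (b * g⁻¹ * b⁻¹) by group]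
          exact mul_mem hgC ((mem_normalizer_iff.1 (hCn hbN) _).1 (inv_mem hgC))
        exact hsub g hg
      rw [show g * x * g⁻¹ * b⁻¹ = g * (x * b⁻¹) * g⁻¹ * (g * b * g⁻¹ * b⁻¹) by group]
      exact mul_mem ((mem_normalizer_iff.1 hgn _).1 hx) hgb
    letI : MulAction (zpowers h₂) X :=
      { smul := fun g x => ⟨g * x.1 * (g : G)⁻¹, hX x.1 x.2 g g.2⟩
        one_smul := fun x => Subtype.ext (by
          show ((1 : zpowers h₂) : G) * x.1 * ((1 : zpowers h₂) : G)⁻¹ = x.1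
          simp)
        mul_smul := fun g g' x => Subtype.ext (by
          show ((g : G) * g') * x.1 * ((g : G) * g')⁻¹ = g * (g' * x.1 * (g' : G)⁻¹) * (g : G)⁻¹
          group) }
    have hcard : ¬ 2 ∣ Nat.card X := by
      rw [show Nat.card X = Nat.card B₀ from Nat.card_congr
        { toFun := fun x => ⟨x.1 * b⁻¹, x.2⟩
          invFun := fun y => ⟨y.1 * b, by rw [mul_inv_cancel_right]; exact y.2⟩
          left_inv := fun x => Subtype.ext (by simp)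
          right_inv := fun y => Subtype.ext (by simp) }]
      obtain ⟨j, hj⟩ := (hBp.to_le (inf_le_left : B₀ ≤ Bm)).exists_card_eq
      rw [hj]
      intro h2
      exact hp2 ((Nat.prime_dvd_prime_iff_eq Nat.prime_two hp.out).1 (Nat.prime_two.dvd_of_dvd_pow h2)).symm
    haveI : Fact (Nat.Prime 2) := ⟨Nat.prime_two⟩
    have h2grp : IsPGroup 2 (zpowers h₂) := fun g => by
      obtain ⟨i, hi⟩ := g.2
      refine ⟨a, Subtype.ext ?_⟩
      rw [Subgroup.coe_pow, ← hi, Subgroup.coe_one, ← zpow_natCast, ← zpow_mul, mul_comm, zpow_mul,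
        zpow_natCast, h2pow, one_zpow]
    obtain ⟨x, hx⟩ := h2grp.nonempty_fixed_point_of_prime_not_dvd_card X hcard
    exact ⟨x.1, x.2, congrArg Subtype.val (hx ⟨h₂, mem_zpowers h₂⟩)⟩
  set c := b₀ * b⁻¹ with hc
  have hb₀c : b₀ = c * b := by rw [hc]; group
  have hcN : c ∈ NE := hBN (mem_inf.1 hb₀).1
  have hb₀B : b₀ ∈ Bm := hb₀c ▸ mul_mem (mem_inf.1 hb₀).1 hbB
  have hb₀N : b₀ ∈ NE := hBN hb₀B
  obtain ⟨j, hj⟩ := IsPGroup.iff_orderOf.1 hBp ⟨c, (mem_inf.1 hb₀).1⟩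
  rw [orderOf_mk] at hj
  have hcQ : φ ⟨c, hcN⟩ = 1 := by
    refine D.actQ_eq_one hcN (k := j) (by rw [← hj]; exact pow_orderOf_eq_one c) fun e he => ?_
    refine D.inf_le_Q (mem_inf.2 ⟨mul_mem ((mem_normalizer_iff.1 hcN e).1 he) (inv_mem he), ?_⟩)
    rw [show c * e * c⁻¹ * e⁻¹ = c * (e * c⁻¹ * e⁻¹) by group]
    exact mul_mem (mem_inf.1 hb₀).2 ((mem_normalizer_iff.1 (hCn (le_normalizer he)) _).1 (inv_mem (mem_inf.1 hb₀).2))
  have hcW : D.SW.actHom ⟨c, (D.normalizer_E_le hcN).1⟩ = 1 := by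
    refine D.SW.actHom_eq_one_of_forall fun u => ?_
    obtain ⟨w, hw, z, hz, hwz⟩ := D.exists_wz u.2
    have h1 : c * w * c⁻¹ = w := by
      rw [mul_inv_eq_iff_eq_mul]; exact (mem_centralizer_iff.1 (mem_inf.1 hb₀).2 w hw).symm
    have h3 : c * z * c⁻¹ * z⁻¹ ∈ Z0 p E :=
      mul_mem ((mem_normalizer_iff.1 (mem_inf.1 (D.normalizer_E_le hcN).1).2 z).1 hz) (inv_mem hz)
    rw [← hwz]
    show c * (w * z) * c⁻¹ * (w * z)⁻¹ ∈ Z0 p E
    have h4 : c * (w * z) * c⁻¹ * (w * z)⁻¹ = w * (c * z * c⁻¹ * z⁻¹) * w⁻¹ := by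
      calc _ = (c * w * c⁻¹) * (c * z * c⁻¹ * z⁻¹) * w⁻¹ := by group
        _ = _ := by rw [h1]
    rw [h4, D.U_comm (D.W_le hw) (mem_inf.1 h3).1, mul_inv_cancel_right]
    exact h3
  have hb₀Q : (φ ⟨b₀, hb₀N⟩ - 1) ^ 2 = 0 := by
    rw [show (⟨b₀, hb₀N⟩ : ↥NE) = ⟨c, hcN⟩ * ⟨b, hbN⟩ from Subtype.ext hb₀c, map_mul, hcQ, one_mul]
    exact hqQ
  have hb₀W : (D.SW.actHom ⟨b₀, (D.normalizer_E_le hb₀N).1⟩ - 1) ^ 2 = 0 := by
    rw [show (⟨b₀, (D.normalizer_E_le hb₀N).1⟩ : D.SW.nrm) =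
      ⟨c, (D.normalizer_E_le hcN).1⟩ * ⟨b, (D.normalizer_E_le hbN).1⟩ from Subtype.ext hb₀c, map_mul, hcW, one_mul]
    exact hqW
  have hb₀C : b₀ ∉ centralizer (U0 p E : Set G) := fun h' => by
    refine hbC ?_
    have h1 : b₀ ∈ C := centralizer_le D.W_le h'
    have := mul_mem (inv_mem (mem_inf.1 hb₀).2) h1
    rwa [show c⁻¹ * b₀ = b by rw [hc]; group] at this
  refine D.quad b₀ hb₀B hb₀C ?_
  rw [D.cent]
  -- pointwise quadratic action on `Q / Z`
  let δ : G → G := fun x => b₀ * x * b₀⁻¹ * x⁻¹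
  have hQb : ∀ x ∈ Q0 p E, b₀ * x * b₀⁻¹ ∈ Q0 p E := fun x hx =>
    (mem_normalizer_iff.1 (mem_inf.1 (D.normalizer_E_le hb₀N).2).1 x).1 hx
  have hδQ : ∀ x ∈ Q0 p E, δ x ∈ Q0 p E := fun x hx => mul_mem (hQb x hx) (inv_mem hx)
  have hQU : ∀ x ∈ Q0 p E, δ (δ x) ∈ U0 p E := by
    intro x hx
    have h1 := congrArg (fun A : AddMonoid.End (Fin 2 → F) => A (D.SQ.co ⟨x, hx⟩)) hb₀Q
    rw [pow_two] at h1
    change φ ⟨b₀, hb₀N⟩ (φ ⟨b₀, hb₀N⟩ (D.SQ.co ⟨x, hx⟩) - D.SQ.co ⟨x, hx⟩) -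
      (φ ⟨b₀, hb₀N⟩ (D.SQ.co ⟨x, hx⟩) - D.SQ.co ⟨x, hx⟩) = 0 at h1
    have e : ∀ y : ↥(Q0 p E), φ ⟨b₀, hb₀N⟩ (D.SQ.co y) = D.SQ.co ⟨b₀ * y * b₀⁻¹, hQb y y.2⟩ :=
      fun y => D.SQ.actHom_co _ y
    have e' : D.SQ.co ⟨b₀ * x * b₀⁻¹, hQb x hx⟩ - D.SQ.co ⟨x, hx⟩ = D.SQ.co ⟨δ x, hδQ x hx⟩ := by
      rw [sub_eq_add_neg, ← Sec.co_inv, ← Sec.co_mul]; rfl
    rw [e, e', e, sub_eq_add_neg, ← Sec.co_inv, ← Sec.co_mul, Sec.co_eq_zero] at h1
    exact h1
  have hQU' : ∀ u ∈ U0 p E, δ (δ u) ∈ Z0 p E := by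
    intro u hu
    have hbU : ∀ u ∈ U0 p E, b₀ * u * b₀⁻¹ ∈ U0 p E := fun u hu =>
      (mem_normalizer_iff.1 (mem_inf.1 (D.normalizer_E_le hb₀N).1).1 u).1 hu
    have h1 := congrArg (fun A : AddMonoid.End (Fin 2 → F) => A (D.SW.co ⟨u, hu⟩)) hb₀W
    rw [pow_two] at h1
    set bW : D.SW.nrm := ⟨b₀, (D.normalizer_E_le hb₀N).1⟩
    change D.SW.actHom bW (D.SW.actHom bW (D.SW.co ⟨u, hu⟩) - D.SW.co ⟨u, hu⟩) -
      (D.SW.actHom bW (D.SW.co ⟨u, hu⟩) - D.SW.co ⟨u, hu⟩) = 0 at h1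
    have e : ∀ y : ↥(U0 p E), D.SW.actHom bW (D.SW.co y) = D.SW.co ⟨b₀ * y * b₀⁻¹, hbU y y.2⟩ :=
      fun y => D.SW.actHom_co _ y
    have e' : D.SW.co ⟨b₀ * u * b₀⁻¹, hbU u hu⟩ - D.SW.co ⟨u, hu⟩ =
        D.SW.co ⟨δ u, mul_mem (hbU u hu) (inv_mem hu)⟩ := by
      rw [sub_eq_add_neg, ← Sec.co_inv, ← Sec.co_mul]; rfl
    rw [e, e', e, sub_eq_add_neg, ← Sec.co_inv, ← Sec.co_mul, Sec.co_eq_zero] at h1
    exact h1
  -- commutators with `Q` lie in `Z`
  have hZQ : ∀ x ∈ Q0 p E, ∀ y ∈ Q0 p E, ∃ z ∈ Z0 p E, x * y = z * (y * x) := fun x hx y hy =>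
    ⟨⁅x, y⁆, D.comm ▸ commutator_mem_commutator hx hy, by rw [commutatorElement_def]; group⟩
  have hZc : ∀ z ∈ Z0 p E, ∀ x ∈ Q0 p E, x * z = z * x := fun z hz x hx =>
    D.Q_comm_U hx (mem_inf.1 hz).1
  have hh₂U : ∀ u ∈ U0 p E, h₂ * u * h₂⁻¹ = u := by
    intro u hu
    obtain ⟨w, hw, z, hz, rfl⟩ := D.exists_wz hu
    have e1 : h₂ * w * h₂⁻¹ = w := by
      rw [mul_inv_eq_iff_eq_mul]; exact (mem_centralizer_iff.1 hh₂C w hw).symm
    suffices e2 : h₂ * z * h₂⁻¹ = z by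
      calc h₂ * (w * z) * h₂⁻¹ = (h₂ * w * h₂⁻¹) * (h₂ * z * h₂⁻¹) := by group
        _ = w * z := by rw [e1, e2]
    have : Z0 p E ≤ centralizer ({h₂} : Set G) := by
      rw [← D.comm]
      refine commutator_le.2 fun x hx y hy => ?_
      rw [mem_centralizer_singleton_iff]
      have hinv2 : ∀ x ∈ Q0 p E, ∃ v ∈ U0 p E, h₂ * x * h₂⁻¹ = v * x⁻¹ := by
        intro x hx
        refine ⟨h₂ * x * h₂⁻¹ * x, ?_, by group⟩
        have h1 := congrArg (fun A : AddMonoid.End (Fin 2 → F) => A (D.SQ.co ⟨x, hx⟩)) hh₂φ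
        change D.SQ.actHom ⟨h₂, (D.normalizer_E_le hh₂N).2⟩ (D.SQ.co ⟨x, hx⟩) = -(D.SQ.co ⟨x, hx⟩) at h1
        rw [D.SQ.actHom_co, ← add_eq_zero_iff_eq_neg, ← Sec.co_mul, Sec.co_eq_zero] at h1
        exact h1
      obtain ⟨v, hv, ev⟩ := hinv2 x hx
      obtain ⟨v', hv', ev'⟩ := hinv2 y hy
      obtain ⟨z, hz, ez⟩ := hZQ x hx y hy
      have hz1 : ⁅x, y⁆ = z := by rw [commutatorElement_def, ez]; group
      suffices e : h₂ * ⁅x, y⁆ * h₂⁻¹ = ⁅x, y⁆ by exact (mul_inv_eq_iff_eq_mul.1 e).symm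
      have cv : ∀ q ∈ Q0 p E, v * q = q * v := fun q hq => (D.Q_comm_U hq hv).symm
      have cv' : ∀ q ∈ Q0 p E, v' * q = q * v' := fun q hq => (D.Q_comm_U hq hv').symm
      calc h₂ * ⁅x, y⁆ * h₂⁻¹ = (h₂ * x * h₂⁻¹) * (h₂ * y * h₂⁻¹) * (h₂ * x * h₂⁻¹)⁻¹ * (h₂ * y * h₂⁻¹)⁻¹ := by
            rw [commutatorElement_def]; group
        _ = v * (x⁻¹ * v' * y⁻¹ * x) * v⁻¹ * y * v'⁻¹ := by rw [ev, ev']; group
        _ = (x⁻¹ * v' * y⁻¹ * x) * y * v'⁻¹ := by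
            rw [cv _ (mul_mem (mul_mem (mul_mem (inv_mem hx) (D.U_le hv')) (inv_mem hy)) hx), mul_inv_cancel_right]
        _ = v' * (x⁻¹ * y⁻¹ * (x * y)) * v'⁻¹ := by rw [← cv' _ (inv_mem hx)]; group
        _ = x⁻¹ * y⁻¹ * (x * y) := by
            rw [cv' _ (mul_mem (mul_mem (inv_mem hx) (inv_mem hy)) (mul_mem hx hy)), mul_inv_cancel_right]
        _ = x⁻¹ * y⁻¹ * z * y * x := by rw [ez]; group
        _ = x⁻¹ * y⁻¹ * (y * z) * x := by rw [hZc z hz y hy]; group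
        _ = x⁻¹ * (x * z) := by rw [hZc z hz x hx]; group
        _ = ⁅x, y⁆ := by rw [hz1]; group
    rw [mul_inv_eq_iff_eq_mul]
    exact (mem_centralizer_singleton_iff.1 (this hz)).symm
  -- congruences modulo `Z`
  have hδmul : ∀ x ∈ Q0 p E, ∀ y ∈ Q0 p E, ∃ z ∈ Z0 p E, δ (x * y) = z * (δ x * δ y) := by
    intro x hx y hy
    obtain ⟨z, hz, ez⟩ := hZQ (δ y) (hδQ y hy) x⁻¹ (inv_mem hx)
    refine ⟨z, hz, ?_⟩
    calc δ (x * y) = b₀ * x * b₀⁻¹ * (δ y * x⁻¹) := by simp only [δ]; group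
      _ = b₀ * x * b₀⁻¹ * z * (x⁻¹ * δ y) := by rw [ez]; group
      _ = z * (b₀ * x * b₀⁻¹) * (x⁻¹ * δ y) := by rw [hZc z hz _ (hQb x hx)]
      _ = z * (δ x * δ y) := by simp only [δ]; group
  have hδZ : ∀ z ∈ Z0 p E, δ z ∈ Z0 p E := fun z hz =>
    mul_mem ((mem_normalizer_iff.1 (mem_inf.1 (D.normalizer_E_le hb₀N).1).2 z).1 hz) (inv_mem hz)
  have hδh : ∀ x, δ (h₂ * x * h₂⁻¹) = h₂ * δ x * h₂⁻¹ := by
    intro x
    have hbh : b₀ * h₂ = h₂ * b₀ := (mul_inv_eq_iff_eq_mul.1 hb₀h).symm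
    have hbh' : h₂⁻¹ * b₀⁻¹ = b₀⁻¹ * h₂⁻¹ := by rw [← mul_inv_rev, ← mul_inv_rev, hbh]
    calc δ (h₂ * x * h₂⁻¹) = (b₀ * h₂) * x * (h₂⁻¹ * b₀⁻¹) * (h₂ * x * h₂⁻¹)⁻¹ := by simp only [δ]; group
      _ = h₂ * δ x * h₂⁻¹ := by rw [hbh, hbh']; simp only [δ]; group
  have hsq : ∀ x ∈ Q0 p E, δ (δ x) ∈ Z0 p E := by
    intro x hx
    set y := h₂ * x * h₂⁻¹ with hy
    have hyQ : y ∈ Q0 p E :=
      (mem_normalizer_iff.1 (mem_inf.1 (D.normalizer_E_le hh₂N).2).1 x).1 hx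
    have hyx : y * x ∈ U0 p E := by
      have h1 := congrArg (fun A : AddMonoid.End (Fin 2 → F) => A (D.SQ.co ⟨x, hx⟩)) hh₂φ
      change D.SQ.actHom ⟨h₂, (D.normalizer_E_le hh₂N).2⟩ (D.SQ.co ⟨x, hx⟩) = -(D.SQ.co ⟨x, hx⟩) at h1
      rw [D.SQ.actHom_co, ← add_eq_zero_iff_eq_neg, ← Sec.co_mul, Sec.co_eq_zero] at h1
      exact h1
    have hfix2 : δ (δ y) = δ (δ x) := by
      rw [hy, hδh, hδh, hh₂U _ (hQU x hx)]
    obtain ⟨z₁, hz₁, e1⟩ := hδmul y hyQ x hx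
    obtain ⟨z₂, hz₂, e2⟩ := hδmul z₁ (D.U_le (mem_inf.1 hz₁).1) _ (mul_mem (hδQ y hyQ) (hδQ x hx))
    obtain ⟨z₃, hz₃, e3⟩ := hδmul (δ y) (hδQ y hyQ) (δ x) (hδQ x hx)
    have h2 : δ (δ x) * δ (δ x) ∈ Z0 p E := by
      have e : δ (δ (y * x)) = z₂ * (δ z₁ * (z₃ * (δ (δ x) * δ (δ x)))) := by
        rw [e1, e2, e3, hfix2]
      have := hQU' _ hyx
      rw [e] at this
      have t1 := mul_mem (inv_mem hz₂) this
      rw [inv_mul_cancel_left] at t1
      have t2 := mul_mem (inv_mem (hδZ z₁ hz₁)) t1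
      rw [inv_mul_cancel_left] at t2
      have t3 := mul_mem (inv_mem hz₃) t2
      rwa [inv_mul_cancel_left] at t3
    set d := δ (δ x)
    have hdQ : d ∈ Q0 p E := D.U_le (hQU x hx)
    obtain ⟨i, hi⟩ := IsPGroup.iff_orderOf.1 (SylowIn.isPGroup_pCoreOf (p := p) E) ⟨d, hdQ⟩
    rw [orderOf_mk] at hi
    obtain ⟨m, hm⟩ : Odd (orderOf d) := hi ▸ Odd.pow (by rw [D.p_eq]; decide)
    have := pow_mem h2 (m + 1)
    rw [← pow_two, ← pow_mul, show 2 * (m + 1) = orderOf d + 1 by omega, pow_succ, pow_orderOf_eq_one,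
      one_mul] at this
    exact this
  -- the subgroup commutator
  have hbZ : ∀ j : ℕ, ∀ x ∈ Q0 p E, b₀ ^ j * x * (b₀ ^ j)⁻¹ ∈ Q0 p E := fun j x hx =>
    (mem_normalizer_iff.1 (pow_mem (mem_inf.1 (D.normalizer_E_le hb₀N).2).1 j) x).1 hx
  let L : Subgroup G :=
    { carrier := {y | y ∈ Q0 p E ∧ δ y ∈ Z0 p E}
      one_mem' := ⟨one_mem _, by simp [δ]⟩
      mul_mem' := by
        rintro x y ⟨hx, hx'⟩ ⟨hy, hy'⟩
        obtain ⟨z, hz, e⟩ := hδmul x hx y hy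
        exact ⟨mul_mem hx hy, e ▸ mul_mem hz (mul_mem hx' hy')⟩
      inv_mem' := by
        rintro x ⟨hx, hx'⟩
        obtain ⟨z, hz, e⟩ := hδmul x hx x⁻¹ (inv_mem hx)
        refine ⟨inv_mem hx, ?_⟩
        have h1 : δ x⁻¹ = (δ x)⁻¹ * z⁻¹ := by
          rw [mul_inv_cancel, show δ (1 : G) = 1 by simp [δ]] at e
          have h0 : δ x * δ x⁻¹ = z⁻¹ := eq_inv_of_mul_eq_one_right e.symm
          rw [← h0, inv_mul_cancel_left]
        rw [h1]; exact mul_mem (inv_mem hx') (inv_mem hz) }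
  have hzp : ∀ g ∈ zpowers b₀, ∃ j : ℕ, b₀ ^ j = g := fun g hg =>
    (isOfFinOrder_of_finite b₀).mem_powers_iff_mem_zpowers.2 hg
  have hL : ⁅Q0 p E, zpowers b₀⁆ ≤ L := by
    refine commutator_le.2 fun x hx g hg => ?_
    obtain ⟨j, rfl⟩ := hzp g hg
    suffices hp : b₀ ^ j * x * (b₀ ^ j)⁻¹ * x⁻¹ ∈ L by
      have := inv_mem hp
      rw [commutatorElement_def]
      simpa [mul_assoc] using this
    clear hg
    induction j with
    | zero => simp [one_mem]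
    | succ j ih =>
      have hy := hbZ j x hx
      have hδL : δ (b₀ ^ j * x * (b₀ ^ j)⁻¹) ∈ L := ⟨hδQ _ hy, hsq _ hy⟩
      rw [show b₀ ^ (j + 1) * x * (b₀ ^ (j + 1))⁻¹ * x⁻¹ =
        δ (b₀ ^ j * x * (b₀ ^ j)⁻¹) * (b₀ ^ j * x * (b₀ ^ j)⁻¹ * x⁻¹) by
          simp only [δ, pow_succ']; group]
      exact mul_mem hδL ih
  refine commutator_le.2 fun y hy g hg => ?_
  obtain ⟨j, rfl⟩ := hzp g hg
  obtain ⟨hyQ, hyZ⟩ := hL hy
  suffices hp : b₀ ^ j * y * (b₀ ^ j)⁻¹ * y⁻¹ ∈ Z0 p E by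
    have := inv_mem hp
    rw [commutatorElement_def]
    simpa [mul_assoc] using this
  clear hg
  induction j with
  | zero => simp [one_mem]
  | succ j ih =>
    set z := b₀ ^ j * y * (b₀ ^ j)⁻¹ * y⁻¹
    rw [show b₀ ^ (j + 1) * y * (b₀ ^ (j + 1))⁻¹ * y⁻¹ = (b₀ * z * b₀⁻¹) * δ y by
      simp only [δ, z, pow_succ']; group]
    exact mul_mem ((mem_normalizer_iff.1 (mem_inf.1 (D.normalizer_E_le hb₀N).1).2 z).1 ih) hyZ

end Exc

end CfsgLib.LocalEvenB.BlockTrick
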