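import Cfsg.Agent.Lib.Involution.ZStar.Main
import Cfsg.Prelude.Def_CaseTheorems

/-!
A coprime automorphism fixing the centraliser of an involution of a simple group is trivial.

With `C` the fixed subgroup, an element inverted by an involution outside `C` and lying in `C` is
inverted by one inside; counting the pairs of conjugates of the involution in a coset of `C` then
contradicts `C` being core-free.
-/

set_option autoImplicit false
set_option linter.style.haveILetI false
set_option linter.unusedSectionVars false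
set_option linter.style.show false

namespace CfsgLib.LocalEvenB.CentralizerFixed

open Subgroup

universe u

variable {G : Type u} [Group G] [Finite G]

/-- The fixed points of an automorphism. -/
def fixed (α : MulAut G) : Subgroup G where
  carrier := {x | α x = x}
  one_mem' := map_one α
  mul_mem' := fun {a b} ha hb => by
    show α (a * b) = a * b
    rw [map_mul, ha, hb]
  inv_mem' := fun {a} ha => by
    show α a⁻¹ = a⁻¹
    rw [map_inv, ha]

variable {p : ℕ} (hp : p.Prime) {α : MulAut G} (hα : α ^ p = 1) (hpG : ¬ p ∣ Nat.card G)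

include hp hα in
/-- An invariant set of size prime to `p` has a fixed point. -/
theorem exists_fixed {β : Type*} [Finite β] (f : β → β) (hf : f^[p] = id)
    (hcard : ¬ p ∣ Nat.card β) : ∃ x, f x = x := by
  classical
  haveI : Fact p.Prime := ⟨hp⟩
  haveI := Fintype.ofFinite β
  let F : Function.End β := f
  have h : F ^ p ^ 1 = 1 := by
    rw [pow_one]
    funext x
    have : ∀ k : ℕ, (F ^ k) x = f^[k] x := by
      intro k
      induction k with
      | zero => rfl
      | succ k ih => rw [pow_succ', Function.iterate_succ_apply']; exact congrArg f ih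
    rw [this, hf]; rfl
  have hmod := Equiv.Perm.card_fixedPoints_modEq h
  by_contra hcon
  push Not at hcon
  refine hcard ?_
  rw [Nat.card_eq_fintype_card]
  have h0 : Fintype.card (Function.fixedPoints f) = 0 :=
    Fintype.card_eq_zero_iff.2 ⟨fun x => hcon x.1 x.2⟩
  exact Nat.modEq_zero_iff_dvd.1 (h0 ▸ hmod)

include hp hα in
theorem exists_fixed_mem (s : Set G) (hs : ∀ x ∈ s, α x ∈ s) (hcard : ¬ p ∣ Nat.card s) :
    ∃ x ∈ s, α x = x := by
  obtain ⟨x, hx⟩ := exists_fixed hp hα (fun x : s => (⟨α x, hs x x.2⟩ : s)) (by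
    funext x
    apply Subtype.ext
    have key : ∀ k : ℕ, ((fun x : s => (⟨α x, hs x x.2⟩ : s))^[k] x : G) = (α ^ k) x := by
      intro k
      induction k with
      | zero => rfl
      | succ k ih =>
        rw [Function.iterate_succ_apply', pow_succ', MulAut.mul_apply, ← ih]
    rw [key, hα]; rfl) hcard
  exact ⟨x.1, x.2, congrArg Subtype.val hx⟩

include hp hα hpG in
/-- A fixed element of an invariant left coset. -/
theorem exists_fixed_coset (H : Subgroup G) (hH : ∀ x ∈ H, α x ∈ H) (g : G) (hg : g⁻¹ * α g ∈ H) :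
    ∃ h ∈ H, α (g * h) = g * h := by
  obtain ⟨x, hx, hfix⟩ := exists_fixed_mem hp hα {x : G | g⁻¹ * x ∈ H} (fun x hx => by
    show g⁻¹ * α x ∈ H
    have : g⁻¹ * α x = g⁻¹ * α g * α (g⁻¹ * x) := by rw [map_mul, map_inv]; group
    rw [this]
    exact mul_mem hg (hH _ hx)) (by
    have e : {x : G | g⁻¹ * x ∈ H} ≃ H :=
      { toFun := fun x => ⟨g⁻¹ * x.1, x.2⟩
        invFun := fun h => ⟨g * h.1, by show g⁻¹ * (g * h.1) ∈ H; rw [inv_mul_cancel_left]; exact h.2⟩
        left_inv := fun x => Subtype.ext (mul_inv_cancel_left _ _)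
        right_inv := fun h => Subtype.ext (inv_mul_cancel_left _ _) }
    rw [Nat.card_congr e]
    exact fun h => hpG (h.trans (card_subgroup_dvd_card H)))
  exact ⟨g⁻¹ * x, hx, by rw [mul_inv_cancel_left]; exact hfix⟩

include hp hα hpG in
/-- An invariant 2-group lies in an invariant Sylow subgroup of an invariant subgroup. -/
theorem exists_invariant_sylow (X : Subgroup G) (hX : ∀ x ∈ X, α x ∈ X) {Q : Subgroup G}
    (hQX : Q ≤ X) (hQ : IsPGroup 2 Q) (hQi : ∀ x ∈ Q, α x ∈ Q) :
    ∃ M : Sylow 2 X, Q ≤ (M : Subgroup X).map X.subtype ∧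
      ∀ x ∈ (M : Subgroup X).map X.subtype, α x ∈ (M : Subgroup X).map X.subtype := by
  haveI : Fact (Nat.Prime 2) := ⟨Nat.prime_two⟩
  let αX : X →* X := MonoidHom.mk' (fun x => ⟨α x, hX x x.2⟩) fun a b =>
    Subtype.ext (map_mul α (a : G) b)
  have hinj : Function.Injective αX := fun a b h =>
    Subtype.ext (α.injective (congrArg Subtype.val h))
  obtain ⟨M, ⟨hQM, hM, hMi⟩, hmax⟩ := Set.Finite.exists_maximal
    (Set.toFinite {M : Subgroup X | Q.subgroupOf X ≤ M ∧ IsPGroup 2 M ∧ M.map αX = M})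
    ⟨Q.subgroupOf X, le_rfl, hQ.of_equiv (subgroupOfEquivOfLe hQX).symm,
      eq_of_le_of_card_ge (by rintro _ ⟨y, hy, rfl⟩; exact hQi _ hy)
        (card_map_of_injective hinj).ge⟩
  set N := normalizer (M : Set X)
  have hN : ∀ n ∈ N, αX n ∈ N := by
    intro n hn
    refine mem_normalizer_iff.2 fun y => ?_
    obtain ⟨z, rfl⟩ := (Finite.injective_iff_surjective.1 hinj) y
    rw [← map_inv, ← map_mul, ← map_mul]
    conv_lhs => rw [← hMi]
    conv_rhs => rw [← hMi]
    rw [mem_map_iff_mem hinj, mem_map_iff_mem hinj]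
    exact mem_normalizer_iff.1 hn z
  let αN : N →* N := MonoidHom.mk' (fun n => ⟨αX n, hN n n.2⟩) fun a b =>
    Subtype.ext (map_mul αX (a : X) b)
  have hinjN : Function.Injective αN := fun a b h => Subtype.ext (hinj (congrArg Subtype.val h))
  let eN : N ≃* N := MulEquiv.ofBijective αN ⟨hinjN, Finite.injective_iff_surjective.1 hinjN⟩
  obtain ⟨R, hR⟩ := exists_fixed hp hα
    (fun R : Sylow 2 N => R.mapSurjective (f := eN.toMonoidHom) eN.surjective) (by
      funext R
      apply Sylow.ext
      have key : ∀ k : ℕ,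
          (((fun R : Sylow 2 N => R.mapSurjective (f := eN.toMonoidHom) eN.surjective)^[k] R :
            Sylow 2 N) : Subgroup N) = (R : Subgroup N).map (eN ^ k : MulAut N).toMonoidHom := by
        intro k
        induction k with
        | zero => exact (Subgroup.map_id _).symm
        | succ k ih =>
          rw [Function.iterate_succ_apply']
          show Subgroup.map eN.toMonoidHom _ = _
          rw [ih, Subgroup.map_map]
          congr 1
          rw [pow_succ']
          rfl
      rw [key]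
      have e : (eN ^ p : MulAut N) = 1 := by
        refine MulEquiv.ext fun n => Subtype.ext (Subtype.ext ?_)
        have key2 : ∀ k : ℕ, (((eN ^ k : MulAut N) n : X) : G) = (α ^ k) ((n : X) : G) := by
          intro k
          induction k with
          | zero => rfl
          | succ k ih =>
            rw [pow_succ', pow_succ', MulAut.mul_apply, MulAut.mul_apply, ← ih]
            rfl
        rw [key2, hα]; rfl
      rw [e]
      exact Subgroup.map_id _) (fun h => hpG (h.trans ((Sylow.card_dvd_index (default : Sylow 2 N)).trans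
        ((index_dvd_card _).trans ((card_subgroup_dvd_card N).trans (card_subgroup_dvd_card X))))))
  have hRi : ((R : Subgroup N).map N.subtype).map αX = (R : Subgroup N).map N.subtype := by
    have h1 := congrArg (fun S : Sylow 2 N => (S : Subgroup N).map N.subtype) hR
    refine Eq.trans ?_ h1
    show _ = ((R : Subgroup N).map eN.toMonoidHom).map N.subtype
    rw [Subgroup.map_map, Subgroup.map_map]
    rfl
  haveI : (M.subgroupOf N).Normal := normal_in_normalizer
  have hMR : M.subgroupOf N ≤ R := by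
    obtain ⟨R0, hR0⟩ := (hM.of_equiv (subgroupOfEquivOfLe le_normalizer).symm).exists_le_sylow
    obtain ⟨c, hc⟩ := MulAction.exists_smul_eq N R0 R
    intro x hx
    rw [← hc, Sylow.coe_subgroup_smul]
    refine ⟨c⁻¹ * x * c, hR0 ?_, by show c * (c⁻¹ * x * c) * c⁻¹ = x; group⟩
    have := (inferInstance : (M.subgroupOf N).Normal).conj_mem x hx c⁻¹
    rwa [inv_inv] at this
  have hMR' : M ≤ (R : Subgroup N).map N.subtype := fun x hx =>
    ⟨⟨x, le_normalizer hx⟩, hMR hx, rfl⟩
  have heq : (R : Subgroup N).map N.subtype ≤ M :=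
    hmax ⟨hQM.trans hMR', R.2.map _, hRi⟩ hMR'
  obtain ⟨T, hT⟩ := hM.exists_le_sylow
  have hMT : (T : Subgroup X) ≤ M := by
    by_contra hne
    have hlt : M.subgroupOf (T : Subgroup X) < ⊤ := by
      rw [lt_top_iff_ne_top, Ne, subgroupOf_eq_top]; exact hne
    haveI := T.2.isNilpotent
    obtain ⟨x, hx, hx'⟩ := SetLike.exists_of_lt (Group.normalizerCondition_of_isNilpotent _ hlt)
    have hxN : (x : X) ∈ N := by
      have hmap : ∀ z ∈ M, (x : X) * z * (x : X)⁻¹ ∈ M := fun z hz =>
        (mem_normalizer_iff.1 hx ⟨z, hT hz⟩).1 hz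
      refine mem_normalizer_iff.2 fun z => ⟨hmap z, fun hz => ?_⟩
      have hzT : z ∈ (T : Subgroup X) := by
        have := mul_mem (mul_mem (inv_mem x.2) (hT hz)) x.2
        simpa [mul_assoc] using this
      exact (mem_normalizer_iff.1 hx ⟨z, hzT⟩).2 hz
    -- the subgroup generated by `M` and `x` is a larger 2-subgroup of `N`
    obtain ⟨R1, hR1⟩ := ((T.2.to_le (show M ⊔ zpowers (x : X) ≤ T from
      sup_le hT (zpowers_le.2 x.2))).of_equiv (subgroupOfEquivOfLe (show M ⊔ zpowers (x : X) ≤ N from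
      sup_le le_normalizer (zpowers_le.2 hxN))).symm).exists_le_sylow
    have hcard : Nat.card ((M ⊔ zpowers (x : X) : Subgroup X)) ≤ Nat.card M := by
      calc Nat.card ((M ⊔ zpowers (x : X) : Subgroup X))
          = Nat.card ((M ⊔ zpowers (x : X)).subgroupOf N) :=
            (Nat.card_congr (subgroupOfEquivOfLe (sup_le le_normalizer (zpowers_le.2 hxN))).toEquiv).symm
        _ ≤ Nat.card R1 := card_le_of_le hR1
        _ = Nat.card R := by rw [R1.card_eq_multiplicity, R.card_eq_multiplicity]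
        _ = Nat.card ((R : Subgroup N).map N.subtype) := (card_map_of_injective N.subtype_injective).symm
        _ ≤ Nat.card M := card_le_of_le heq
    exact hx' ((eq_of_le_of_card_ge (le_sup_left : M ≤ M ⊔ zpowers (x : X)) hcard).ge
      (mem_sup_right (mem_zpowers _)))
  obtain rfl : M = T := le_antisymm hT hMT
  refine ⟨T, fun x hx => ⟨⟨x, hQX hx⟩, hQM hx, rfl⟩, ?_⟩
  rintro _ ⟨y, hy, rfl⟩
  exact ⟨αX y, hMi ▸ ⟨y, hy, rfl⟩, rfl⟩

include hp hα hpG in
/-- An invariant 2-group is fixed once the centraliser of a fixed element of it is. -/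
theorem le_fixed_of_centralizer {P : Subgroup G} (hP : IsPGroup 2 P) (hPi : ∀ x ∈ P, α x ∈ P)
    {v : G} (hv : v ∈ P) (hvf : α v = v) (hcen : P ⊓ centralizer ({v} : Set G) ≤ fixed α) :
    P ≤ fixed α := by
  haveI : Fact (Nat.Prime 2) := ⟨Nat.prime_two⟩
  by_contra hne
  haveI := hP.isNilpotent
  have hlt : (fixed α).subgroupOf P < ⊤ := by
    rw [lt_top_iff_ne_top, Ne, subgroupOf_eq_top]; exact hne
  obtain ⟨x, hx, hx'⟩ := SetLike.exists_of_lt (Group.normalizerCondition_of_isNilpotent _ hlt)
  have hc : (x : G)⁻¹ * α x ∈ fixed α := by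
    refine hcen ⟨P.mul_mem (P.inv_mem x.2) (hPi x x.2), mem_centralizer_singleton_iff.2 ?_⟩
    have h1 : (x : G) * v * (x : G)⁻¹ ∈ fixed α := (mem_normalizer_iff.1 hx ⟨v, hv⟩).1 hvf
    have h2 : α ((x : G) * v * (x : G)⁻¹) = (x : G) * v * (x : G)⁻¹ := h1
    rw [map_mul, map_mul, map_inv, hvf, mul_inv_eq_iff_eq_mul] at h2
    calc (x : G)⁻¹ * α x * v = (x : G)⁻¹ * (α x * v) := mul_assoc _ _ _
      _ = v * ((x : G)⁻¹ * α x) := by rw [h2]; group
  refine hx' ?_
  obtain ⟨h, hh, hfix⟩ := exists_fixed_coset hp hα hpG (fixed α)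
    (fun y hy => congrArg α hy) x hc
  show α (x : G) = x
  rw [map_mul, show α h = h from hh] at hfix
  exact mul_right_cancel hfix

/-- All invariant 2-subgroups of the centraliser of `v` are fixed. -/
def Good (α : MulAut G) (v : G) : Prop :=
  ∀ P : Subgroup G, IsPGroup 2 P → (∀ x ∈ P, α x ∈ P) → P ≤ centralizer ({v} : Set G) → P ≤ fixed α

include hp hα hpG in
theorem good_of_commute {u v : G} (hu : Good α u) (huf : α u = u) (hvf : α v = v)
    (hu2 : orderOf u = 2) (huv : Commute u v) : Good α v := by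
  haveI : Fact (Nat.Prime 2) := ⟨Nat.prime_two⟩
  intro P hP hPi hPv
  set X := centralizer ({v} : Set G)
  have hX : ∀ x ∈ X, α x ∈ X := fun x hx => mem_centralizer_singleton_iff.2 (by
    conv_lhs => rw [← hvf, ← map_mul, mem_centralizer_singleton_iff.1 hx, map_mul, hvf])
  have huX : zpowers u ≤ X := zpowers_le.2 (mem_centralizer_singleton_iff.2 huv.eq)
  have hu' : ∀ x ∈ zpowers u, α x ∈ zpowers u := fun x hx => by
    obtain ⟨k, rfl⟩ := mem_zpowers_iff.1 hx
    rw [map_zpow, huf]
    exact zpow_mem (mem_zpowers u) k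
  obtain ⟨R, huR, hRi⟩ := exists_invariant_sylow hp hα hpG X hX huX
    (IsPGroup.of_card (n := 1) (by rw [Nat.card_zpowers, hu2, pow_one])) hu'
  set R0 := (R : Subgroup X).map X.subtype
  have hRfix : R0 ≤ fixed α := le_fixed_of_centralizer hp hα hpG (R.2.map _) hRi
    (huR (mem_zpowers u)) huf (hu _ ((R.2.map X.subtype).to_le inf_le_left)
      (fun x hx => ⟨hRi x hx.1, mem_centralizer_singleton_iff.2 (by
        conv_lhs => rw [← huf, ← map_mul, mem_centralizer_singleton_iff.1 hx.2, map_mul, huf])⟩)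
      inf_le_right)
  obtain ⟨R', hPR, hR'i⟩ := exists_invariant_sylow hp hα hpG X hX hPv hP hPi
  obtain ⟨g, hg⟩ := MulAction.exists_smul_eq X R R'
  have hmem : ∀ y : G, y ∈ (R' : Subgroup X).map X.subtype ↔ (g : G)⁻¹ * y * g ∈ R0 := by
    intro y
    constructor
    · rintro ⟨z, hz, rfl⟩
      rw [← hg, Sylow.coe_subgroup_smul] at hz
      obtain ⟨r, hr, rfl⟩ := hz
      refine ⟨r, hr, ?_⟩
      show (r : G) = (g : G)⁻¹ * ((g : G) * r * (g : G)⁻¹) * g
      group
    · rintro ⟨r, hr, he⟩
      refine ⟨g * r * g⁻¹, ?_, ?_⟩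
      · rw [← hg, Sylow.coe_subgroup_smul]; exact ⟨r, hr, rfl⟩
      · show (g : G) * r * (g : G)⁻¹ = y
        rw [show (r : G) = _ from he]; group
  have hgN : (g : G)⁻¹ * α g ∈ X ⊓ normalizer (R0 : Set G) := by
    refine ⟨X.mul_mem (X.inv_mem g.2) (hX _ g.2), mem_normalizer_iff.2 fun y => ?_⟩
    have hfwd : ∀ y ∈ R0, (g : G)⁻¹ * α g * y * ((g : G)⁻¹ * α g)⁻¹ ∈ R0 := by
      intro y hy
      have h1 := hR'i ((g : G) * y * (g : G)⁻¹) ((hmem _).2 (by
        rwa [show (g : G)⁻¹ * ((g : G) * y * (g : G)⁻¹) * g = y by group]))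
      rw [hmem, map_mul, map_mul, map_inv, show α y = y from hRfix hy] at h1
      rwa [show (g : G)⁻¹ * α g * y * ((g : G)⁻¹ * α g)⁻¹ = (g : G)⁻¹ * (α g * y * (α g)⁻¹) * g by group]
    have heq : R0.map (MulAut.conj ((g : G)⁻¹ * α g)).toMonoidHom = R0 :=
      eq_of_le_of_card_ge (by rintro _ ⟨z, hz, rfl⟩; exact hfwd z hz)
        (card_map_of_injective (MulAut.conj ((g : G)⁻¹ * α g)).injective).ge
    refine ⟨hfwd y, fun hy => ?_⟩
    obtain ⟨z, hz, hzy⟩ := heq.ge hy
    obtain rfl : z = y := mul_left_cancel (mul_right_cancel hzy)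
    exact hz
  obtain ⟨h, hh, hfix⟩ := exists_fixed_coset hp hα hpG (X ⊓ normalizer (R0 : Set G)) (fun x hx => by
    refine ⟨hX x hx.1, mem_normalizer_iff.2 fun y => ?_⟩
    obtain ⟨z, rfl⟩ := α.surjective y
    have hRiff : ∀ z, α z ∈ R0 ↔ z ∈ R0 := fun z => ⟨fun h => by
      have : α (α z) = α z := hRfix h
      rwa [α.injective this] at h, hRi z⟩
    rw [← map_inv, ← map_mul, ← map_mul, hRiff, hRiff]
    exact mem_normalizer_iff.1 hx.2 z) g hgN
  refine hPR.trans ?_
  intro y hy
  have h1 : (g : G)⁻¹ * y * g ∈ R0 := (hmem y).1 hy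
  have h2 := (mem_normalizer_iff.1 (inv_mem hh.2) _).1 h1
  rw [inv_inv] at h2
  have e : y = (g : G) * h * (h⁻¹ * ((g : G)⁻¹ * y * g) * h) * ((g : G) * h)⁻¹ := by group
  rw [e]
  exact mul_mem (mul_mem hfix (hRfix h2)) (inv_mem hfix)

include hp hα hpG in
/-- The main counting argument. -/
theorem fixed_eq_top [IsSimpleGroup G] (hG : ¬ IsMulCommutative G) {τ : G} (hτ : orderOf τ = 2)
    (hC : centralizer ({τ} : Set G) ≤ fixed α) : fixed α = ⊤ := by
  classical
  haveI : Fact (Nat.Prime 2) := ⟨Nat.prime_two⟩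
  haveI := Fintype.ofFinite G
  by_contra hne
  set C := fixed α
  have hτC : τ ∈ C := hC (mem_centralizer_singleton_iff.2 rfl)
  -- goodness of every fixed involution
  have hgτ : Good α τ := fun P _ _ hP => hP.trans hC
  have hgood : ∀ v : G, α v = v → orderOf v = 2 → Good α v := by
    obtain ⟨S, hτS, hSi⟩ := exists_invariant_sylow hp hα hpG ⊤ (fun _ _ => mem_top _)
      (le_top : zpowers τ ≤ ⊤) (IsPGroup.of_card (n := 1) (by rw [Nat.card_zpowers, hτ, pow_one]))
      (fun x hx => by
        rw [show α x = x from (zpowers_le.2 hτC) hx]; exact hx)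
    set S0 := (S : Subgroup (⊤ : Subgroup G)).map (⊤ : Subgroup G).subtype
    have hS : S0 ≤ C := le_fixed_of_centralizer hp hα hpG (S.2.map _) hSi (hτS (mem_zpowers τ)) hτC
      (inf_le_right.trans hC)
    have hnt : Nontrivial S0 := ⟨⟨⟨τ, hτS (mem_zpowers τ)⟩, 1, fun h => by
      rw [show τ = 1 from congrArg Subtype.val h, orderOf_one] at hτ; omega⟩⟩
    have hS2 : IsPGroup 2 S0 := S.2.map _
    haveI : Nontrivial (center S0) := hS2.center_nontrivial
    obtain ⟨z, hz⟩ : ∃ z : center S0, orderOf z = 2 := by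
      obtain ⟨k, hk, hcard⟩ := (hS2.to_subgroup (center S0)).nontrivial_iff_card.1 inferInstance
      exact exists_prime_orderOf_dvd_card' 2 (hcard ▸ dvd_pow_self 2 hk.ne')
    have hzc : ∀ y ∈ S0, Commute ((z : S0) : G) y := fun y hy =>
      (congrArg Subtype.val (mem_center_iff.1 z.2 ⟨y, hy⟩)).symm
    have hz2 : orderOf ((z : S0) : G) = 2 := by rw [orderOf_coe, orderOf_coe, hz]
    have hgz : Good α ((z : S0) : G) :=
      good_of_commute hp hα hpG hgτ hτC (hS (z : S0).2) hτ (hzc τ (hτS (mem_zpowers τ))).symm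
    intro v hvC hv
    -- conjugate `v` inside `C` into `S0`
    have hSC : S0.subgroupOf C ≤ (⊤ : Subgroup C) := le_top
    have hidx : ¬ 2 ∣ (S0.subgroupOf C).index := fun h => S.not_dvd_index (h.trans (by
      have h1 : S0.relIndex C ∣ S0.index := Dvd.intro _ (relIndex_mul_index hS)
      have h2 : S0.index = (S : Subgroup (⊤ : Subgroup G)).index :=
        index_map_of_bijective (f := (⊤ : Subgroup G).subtype) ⟨Subtype.val_injective, fun x => ⟨⟨x, trivial⟩, rfl⟩⟩ _
      exact h2 ▸ h1))
    let SC : Sylow 2 C := (hS2.of_equiv (subgroupOfEquivOfLe hS).symm).toSylow hidx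
    obtain ⟨T, hT⟩ := (IsPGroup.of_card (G := zpowers (⟨v, hvC⟩ : C)) (p := 2) (n := 1) (by
      rw [Nat.card_zpowers, ← orderOf_coe, hv, pow_one])).exists_le_sylow
    obtain ⟨k, hk⟩ := MulAction.exists_smul_eq C T SC
    have hkv : (k : G) * v * (k : G)⁻¹ ∈ S0 := by
      have : k * ⟨v, hvC⟩ * k⁻¹ ∈ (SC : Subgroup C) := by
        rw [← hk, Sylow.coe_subgroup_smul]; exact ⟨_, hT (mem_zpowers _), rfl⟩
      exact this
    have hgkv : Good α ((k : G) * v * (k : G)⁻¹) :=
      good_of_commute hp hα hpG hgz (hS (z : S0).2) (hS hkv) hz2 (hzc _ hkv)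
    intro P hP hPi hPv
    have hk' : α (k : G) = k := k.2
    have := hgkv (P.map (MulAut.conj (k : G)).toMonoidHom) (hP.map _) (by
        rintro _ ⟨x, hx, rfl⟩
        refine ⟨α x, hPi x hx, ?_⟩
        show (k : G) * α x * (k : G)⁻¹ = α ((k : G) * x * (k : G)⁻¹)
        rw [map_mul, map_mul, map_inv, hk']) (by
        rintro _ ⟨x, hx, rfl⟩
        refine mem_centralizer_singleton_iff.2 ?_
        show (k : G) * x * (k : G)⁻¹ * _ = _ * ((k : G) * x * (k : G)⁻¹)
        rw [conj_mul, conj_mul, mem_centralizer_singleton_iff.1 (hPv hx)])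
    intro x hx
    have h1 : α ((k : G) * x * (k : G)⁻¹) = (k : G) * x * (k : G)⁻¹ := this ⟨x, hx, rfl⟩
    rw [map_mul, map_mul, map_inv, hk'] at h1
    exact mul_left_cancel (mul_right_cancel h1)
  -- the class
  set I : Finset G := Finset.univ.filter fun x => IsConj τ x
  have hI : ∀ x, x ∈ I ↔ ∃ g, g * τ * g⁻¹ = x := fun x => by simp [I, isConj_iff]
  have hIconj : ∀ x ∈ I, ∀ g : G, g * x * g⁻¹ ∈ I := by
    intro x hx g
    obtain ⟨h, rfl⟩ := (hI x).1 hx
    exact (hI _).2 ⟨g * h, by group⟩
  have hI2 : ∀ x ∈ I, x * x = 1 := by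
    intro x hx
    obtain ⟨g, rfl⟩ := (hI x).1 hx
    have h2 := pow_orderOf_eq_one τ
    rw [hτ, sq] at h2
    rw [conj_mul, h2, mul_one, mul_inv_cancel]
  set J := I.filter fun x => x ∈ C
  set O := I.filter fun x => x ∉ C
  have hJ : ∀ x ∈ J, ∃ c ∈ C, c * τ * c⁻¹ = x := by
    intro x hx
    rw [Finset.mem_filter] at hx
    obtain ⟨g, hg⟩ := (hI x).1 hx.1
    obtain ⟨h, hh, hfix⟩ := exists_fixed_coset hp hα hpG (centralizer ({τ} : Set G))
      (fun y hy => by rw [show α y = y from hC hy]; exact hy) g (mem_centralizer_singleton_iff.2 (by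
        have h1 : α (g * τ * g⁻¹) = g * τ * g⁻¹ := by rw [hg]; exact hx.2
        rw [map_mul, map_mul, map_inv, show α τ = τ from hτC, mul_inv_eq_iff_eq_mul] at h1
        rw [mul_assoc g⁻¹, h1]; group))
    refine ⟨g * h, hfix, ?_⟩
    calc g * h * τ * (g * h)⁻¹ = g * (h * τ) * h⁻¹ * g⁻¹ := by group
      _ = g * τ * g⁻¹ := by rw [mem_centralizer_singleton_iff.1 hh]; group
      _ = x := hg
  have hcardI : I.card = C.index * J.card := by
    rw [← Nat.card_eq_finsetCard, ← Nat.card_eq_finsetCard, Subgroup.index, ← Nat.card_prod]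
    symm
    refine Nat.card_congr (Equiv.ofBijective
      (fun q : (G ⧸ C) × J => (⟨q.1.out * q.2.1 * q.1.out⁻¹,
        hIconj _ (Finset.mem_filter.1 q.2.2).1 _⟩ : I)) ⟨?_, ?_⟩)
    · rintro ⟨a, x⟩ ⟨b, y⟩ he
      obtain ⟨c, hc, hcx⟩ := hJ x x.2
      obtain ⟨d, hd, hdy⟩ := hJ y y.2
      have he' : a.out * (x : G) * a.out⁻¹ = b.out * (y : G) * b.out⁻¹ := congrArg Subtype.val he
      have hmem : (b.out * d)⁻¹ * (a.out * c) ∈ centralizer ({τ} : Set G) := by
        rw [mem_centralizer_singleton_iff]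
        rw [← hcx, ← hdy] at he'
        calc (b.out * d)⁻¹ * (a.out * c) * τ
            = (b.out * d)⁻¹ * (a.out * (c * τ * c⁻¹) * a.out⁻¹) * (a.out * c) := by group
          _ = τ * ((b.out * d)⁻¹ * (a.out * c)) := by rw [he']; group
      have hab : a = b := by
        rw [← QuotientGroup.out_eq' a, ← QuotientGroup.out_eq' b]
        refine (QuotientGroup.eq.2 ?_).symm
        have := mul_mem (mul_mem hd (hC hmem)) (inv_mem hc)
        rwa [show d * ((b.out * d)⁻¹ * (a.out * c)) * c⁻¹ = b.out⁻¹ * a.out by group] at this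
      subst hab
      exact Prod.ext rfl (Subtype.ext (mul_left_cancel (mul_right_cancel he')))
    · rintro ⟨x, hx⟩
      obtain ⟨g, hg⟩ := (hI x).1 hx
      have hcC : (g : G ⧸ C).out⁻¹ * g ∈ C :=
        QuotientGroup.eq.1 (QuotientGroup.out_eq' (g : G ⧸ C))
      refine ⟨⟨(g : G ⧸ C), ⟨((g : G ⧸ C).out⁻¹ * g) * τ * ((g : G ⧸ C).out⁻¹ * g)⁻¹,
        Finset.mem_filter.2 ⟨(hI _).2 ⟨_, rfl⟩, mul_mem (mul_mem hcC hτC) (inv_mem hcC)⟩⟩⟩,
        Subtype.ext ?_⟩
      show (g : G ⧸ C).out * (((g : G ⧸ C).out⁻¹ * g) * τ * ((g : G ⧸ C).out⁻¹ * g)⁻¹) *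
        (g : G ⧸ C).out⁻¹ = x
      rw [← hg]; group
  obtain ⟨n', hn'⟩ : ∃ n', C.index = n' + 1 :=
    Nat.exists_eq_add_one.2 (Nat.pos_of_ne_zero index_ne_zero_of_finite)
  have hn1 : 1 ≤ n' := by
    by_contra h
    exact hne (index_eq_one.1 (by omega))
  have hO : O.card = n' * J.card := by
    have h1 : J.card + O.card = I.card := Finset.card_filter_add_card_filter_not _
    rw [hcardI, hn', add_mul, one_mul] at h1
    omega
  -- more than one conjugate in `C`
  have hJ2 : 2 ≤ J.card := by
    obtain ⟨g, hg1, hg2⟩ : ∃ g : G, Commute (g * τ * g⁻¹) τ ∧ g * τ * g⁻¹ ≠ τ := by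
      by_contra hcon
      push Not at hcon
      have hz := CfsgLib.Involution.ZStar.comm_mem_oddCore (z := τ) ⟨hτ, fun g hg => hcon g hg.symm⟩
      have hcore : Cfsg.oddCore G = ⊥ := by
        refine (CfsgLib.Involution.ZStar.oddCore_normal (G := G)).eq_bot_or_eq_top.resolve_right
          fun h => ?_
        have := CfsgLib.Involution.ZStar.odd_orderOf_of_mem (h.ge (mem_top τ))
        rw [hτ] at this
        exact absurd this (by decide)
      have hτZ : τ ∈ center G := mem_center_iff.2 fun g => by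
        have := hz g
        rw [hcore, mem_bot, mul_inv_eq_one, mul_inv_eq_iff_eq_mul] at this
        exact this.symm
      rcases (inferInstance : (center G).Normal).eq_bot_or_eq_top with h | h
      · rw [h, mem_bot] at hτZ
        rw [hτZ, orderOf_one] at hτ; omega
      · exact hG ⟨⟨fun a b => mem_center_iff.1 (h.ge (mem_top b)) a⟩⟩
    exact Finset.one_lt_card.2 ⟨g * τ * g⁻¹, Finset.mem_filter.2 ⟨(hI _).2 ⟨g, rfl⟩,
      hC (mem_centralizer_singleton_iff.2 hg1.eq)⟩, τ,
      Finset.mem_filter.2 ⟨(hI _).2 ⟨1, by group⟩, hτC⟩, hg2⟩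
  -- pairs in a coset
  set Q2 := (O ×ˢ O).filter fun q => q.1 * q.2 ∈ C
  have hQ2 : n' * (J.card * J.card) ≤ Q2.card := by
    set f : G → G ⧸ C := fun x => (x : G ⧸ C)
    set im := O.image f
    have him : im.card ≤ n' := by
      have : im ⊆ Finset.univ.erase ((1 : G) : G ⧸ C) := by
        intro q hq
        obtain ⟨x, hx, rfl⟩ := Finset.mem_image.1 hq
        refine Finset.mem_erase.2 ⟨fun h => (Finset.mem_filter.1 hx).2 ?_, Finset.mem_univ _⟩
        have := QuotientGroup.eq.1 h
        rwa [mul_one, inv_mem_iff] at this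
      refine (Finset.card_le_card this).trans ?_
      rw [Finset.card_erase_of_mem (Finset.mem_univ _), Finset.card_univ, ← Nat.card_eq_fintype_card,
        ← Subgroup.index, hn']
      simp
    have hsum : ∑ q ∈ im, (O.filter fun x => f x = q).card = O.card :=
      (Finset.card_eq_sum_card_image f O).symm
    have hsq : ∑ q ∈ im, (O.filter fun x => f x = q).card ^ 2 = Q2.card := by
      have heq : Q2 = im.biUnion fun q => (O.filter fun x => f x = q) ×ˢ (O.filter fun x => f x = q) := by
        ext ⟨a, b⟩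
        simp only [Q2, Finset.mem_filter, Finset.mem_product, Finset.mem_biUnion, im, Finset.mem_image]
        constructor
        · rintro ⟨⟨ha, hb⟩, hab⟩
          refine ⟨f a, ⟨a, ha, rfl⟩, ⟨ha, rfl⟩, hb, (QuotientGroup.eq.2 ?_).symm⟩
          rwa [inv_eq_of_mul_eq_one_right (hI2 a (Finset.mem_filter.1 ha).1)]
        · rintro ⟨q, -, ⟨ha, hqa⟩, hb, hqb⟩
          refine ⟨⟨ha, hb⟩, ?_⟩
          have := QuotientGroup.eq.1 (hqa.trans hqb.symm)
          rwa [inv_eq_of_mul_eq_one_right (hI2 a (Finset.mem_filter.1 ha).1)] at this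
      rw [heq, Finset.card_biUnion]
      · exact Finset.sum_congr rfl fun q _ => by rw [Finset.card_product, sq]
      · intro q _ q' _ hne
        exact Finset.disjoint_left.2 fun x hx hx' => hne <| by
          simp only [Finset.mem_product, Finset.mem_filter] at hx hx'
          exact hx.1.2.symm.trans hx'.1.2
    have hcs := sq_sum_le_card_mul_sum_sq (s := im) (f := fun q => (O.filter fun x => f x = q).card)
    rw [hsum, hsq, hO] at hcs
    have := hcs.trans (Nat.mul_le_mul_right _ him)
    rw [mul_pow, sq n', mul_assoc] at this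
    have := Nat.le_of_mul_le_mul_left this hn1
    rwa [sq] at this
  -- the elements `d`
  set T : G → Finset G := fun d => I.filter fun t => t * d ∈ I with hT
  set D : Finset G := Finset.univ.filter fun d => d ∈ C ∧ d ≠ 1
  have hdiag : (Q2.filter fun q => q.1 = q.2).card = O.card := by
    rw [show Q2.filter (fun q => q.1 = q.2) = O.image (fun x => (x, x)) from by
      ext ⟨a, b⟩
      simp only [Q2, Finset.mem_filter, Finset.mem_product, Finset.mem_image, Prod.mk.injEq]
      constructor
      · rintro ⟨⟨⟨ha, -⟩, -⟩, rfl⟩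
        exact ⟨a, ha, rfl, rfl⟩
      · rintro ⟨x, hx, rfl, rfl⟩
        exact ⟨⟨⟨hx, hx⟩, by rw [hI2 x (Finset.mem_filter.1 hx).1]; exact one_mem C⟩, rfl⟩]
    exact Finset.card_image_of_injective _ fun a b h => (Prod.ext_iff.1 h).1
  have hoff : (Q2.filter fun q => ¬ q.1 = q.2).card ≤
      ∑ d ∈ D, ((T d).filter fun t => t ∉ C).card := by
    rw [← Finset.card_sigma]
    refine Finset.card_le_card_of_injOn (fun q => ⟨q.1 * q.2, q.1⟩) ?_ ?_
    · intro q hq
      simp only [Finset.mem_coe, Finset.mem_filter, Q2, Finset.mem_product, O] at hq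
      obtain ⟨⟨⟨⟨h1, h1'⟩, h2, -⟩, h3⟩, h4⟩ := hq
      simp only [Finset.mem_coe, Finset.mem_sigma, Finset.mem_filter, D, T, Finset.mem_univ, true_and]
      refine ⟨⟨h3, fun h => h4 ?_⟩, ⟨h1, ?_⟩, h1'⟩
      · rw [eq_inv_of_mul_eq_one_right h, inv_eq_of_mul_eq_one_right (hI2 _ h1)]
      · rwa [← mul_assoc, hI2 _ h1, one_mul]
    · intro a _ b _ h
      simp only [Sigma.mk.injEq, heq_eq_eq] at h
      refine Prod.ext h.2 ?_
      have := h.1
      rw [h.2] at this
      exact mul_left_cancel this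
  have hTd : ∀ d ∈ D, ((T d).filter fun t => t ∉ C).card ≤
      (n' - 1) * ((T d).filter fun t => t ∈ C).card := by
    intro d hd
    simp only [D, Finset.mem_filter, Finset.mem_univ, true_and] at hd
    obtain ⟨hdC, hd1⟩ := hd
    set Cd := centralizer ({d} : Set G)
    set E := C.subgroupOf Cd
    -- the index is smaller than `C.index`
    have hr : E.index + 1 ≤ C.index := by
      let φ : Cd ⧸ E → G ⧸ C := Quotient.map' (fun c : Cd => (c : G)) fun a b h => by
        rw [QuotientGroup.leftRel_apply] at h ⊢; exact h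
      have hφ : Function.Injective φ := by
        intro a b h
        obtain ⟨x, rfl⟩ := QuotientGroup.mk_surjective a
        obtain ⟨y, rfl⟩ := QuotientGroup.mk_surjective b
        change ((x : G) : G ⧸ C) = ((y : G) : G ⧸ C) at h
        exact QuotientGroup.eq.2 (show ((x : G))⁻¹ * (y : G) ∈ C from QuotientGroup.eq.1 h)
      by_contra hlt
      have hsurj : Function.Surjective φ :=
        (Nat.bijective_iff_injective_and_card φ).2 ⟨hφ, le_antisymm
          (Nat.card_le_card_of_injective φ hφ) (by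
            show C.index ≤ E.index; omega)⟩ |>.2
      have hcore : d ∈ C.normalCore := by
        intro g
        obtain ⟨q, hq⟩ := hsurj ((g⁻¹ : G) : G ⧸ C)
        obtain ⟨x, rfl⟩ := QuotientGroup.mk_surjective q
        have hh := QuotientGroup.eq.1 (hq : ((x : G) : G ⧸ C) = ((g⁻¹ : G) : G ⧸ C))
        have := mul_mem (mul_mem (inv_mem hh) hdC) hh
        rwa [show ((x : G)⁻¹ * g⁻¹)⁻¹ * d * ((x : G)⁻¹ * g⁻¹) =
          g * ((x : G) * d * (x : G)⁻¹) * g⁻¹ by group, mem_centralizer_singleton_iff.1 x.2,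
          mul_inv_cancel_right] at this
      rcases (normalCore_normal C).eq_bot_or_eq_top with h | h
      · rw [h, mem_bot] at hcore; exact hd1 hcore
      · exact hne (eq_top_iff.2 (h ▸ normalCore_le C))
    -- every member is conjugate under `C(d)` to one in `C`
    have hconj : ∀ t ∈ T d, ∃ y ∈ (T d).filter (fun t => t ∈ C), ∃ c ∈ Cd, c * y * c⁻¹ = t := by
      intro t ht
      simp only [T, Finset.mem_filter] at ht
      obtain ⟨htI, htdI⟩ := ht
      have htt : t * t = 1 := hI2 t htI
      have hti : t⁻¹ = t := inv_eq_of_mul_eq_one_right htt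
      have hinv : t * d * t⁻¹ = d⁻¹ := by
        rw [hti]
        refine (inv_eq_of_mul_eq_one_left ?_).symm
        have := hI2 _ htdI
        rwa [← mul_assoc] at this
      have hinv' : t * d⁻¹ * t⁻¹ = d := by
        have h := congrArg (fun x : G => x⁻¹) hinv
        simp only [mul_inv_rev, inv_inv, ← mul_assoc] at h
        exact h
      let K : Subgroup G :=
        { carrier := {k | k * d * k⁻¹ = d ∨ k * d * k⁻¹ = d⁻¹}
          one_mem' := Or.inl (by group)
          mul_mem' := fun {a b} ha hb => by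
            have e : a * b * d * (a * b)⁻¹ = a * (b * d * b⁻¹) * a⁻¹ := by group
            show a * b * d * (a * b)⁻¹ = d ∨ a * b * d * (a * b)⁻¹ = d⁻¹
            rw [e]
            rcases hb with hb | hb <;> rw [hb]
            · exact ha
            · rw [← conj_inv]
              rcases ha with ha | ha <;> rw [ha]
              · exact Or.inr rfl
              · exact Or.inl (inv_inv d)
          inv_mem' := fun {a} ha => by
            show a⁻¹ * d * a⁻¹⁻¹ = d ∨ a⁻¹ * d * a⁻¹⁻¹ = d⁻¹
            rcases ha with ha | ha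
            · left
              conv_lhs => rw [← ha]
              group
            · right
              have : d = (a * d * a⁻¹)⁻¹ := by rw [ha, inv_inv]
              conv_lhs => rw [this]
              group }
      have hαd : α d = d := hdC
      have hK : ∀ k ∈ K, α k ∈ K := by
        rintro k (hk | hk)
        · left; rw [← hαd, ← map_inv, ← map_mul, ← map_mul, hk]
        · right
          rw [← hαd, ← map_inv, ← map_mul, ← map_mul, hk, map_inv]
      -- an involution in `K ∩ C`
      obtain ⟨v, hvK, hvC, hv2⟩ : ∃ v ∈ K, α v = v ∧ orderOf v = 2 := by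
        by_cases hdd : d * d = 1
        · exact ⟨d, Or.inl (mul_inv_cancel_right d d), hdC, orderOf_eq_prime (by rw [sq, hdd]) hd1⟩
        obtain ⟨h, hh, hfix⟩ := exists_fixed_coset hp hα hpG Cd (fun x hx => by
          refine mem_centralizer_singleton_iff.2 ?_
          conv_lhs => rw [← hαd, ← map_mul, mem_centralizer_singleton_iff.1 hx, map_mul, hαd]) t (by
          refine mem_centralizer_singleton_iff.2 ?_
          have h1 : α t * d * (α t)⁻¹ = d⁻¹ := by rw [← hαd, ← map_inv, ← map_mul, ← map_mul, hinv, map_inv]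
          rw [mul_inv_eq_iff_eq_mul] at h1
          rw [hti, mul_assoc, h1, ← mul_assoc, mul_inv_eq_iff_eq_mul.1 hinv', mul_assoc])
        set e := t * h
        have he : e * d * e⁻¹ = d⁻¹ := by
          rw [show e * d * e⁻¹ = t * (h * d) * h⁻¹ * t⁻¹ by simp only [e]; group,
            mem_centralizer_singleton_iff.1 hh, ← hinv]
          group
        have heven : Even (orderOf e) := by
          by_contra hodd
          rw [Nat.not_even_iff_odd] at hodd
          obtain ⟨j, hj⟩ := hodd
          have hsq : e * e ∈ Cd := by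
            refine mem_centralizer_singleton_iff.2 ?_
            have h2 : e * d⁻¹ * e⁻¹ = d := by
              have h := congrArg (fun x : G => x⁻¹) he
              simp only [mul_inv_rev, inv_inv, ← mul_assoc] at h
              exact h
            calc e * e * d = e * (e * d * e⁻¹) * e⁻¹ * (e * e) := by group
              _ = d * (e * e) := by rw [he, h2]
          have hmem : e ∈ Cd := by
            have : e = (e * e) ^ (j + 1) := by
              rw [← sq, ← pow_mul, show 2 * (j + 1) = orderOf e + 1 by omega, pow_succ,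
                pow_orderOf_eq_one, one_mul]
            rw [this]; exact pow_mem hsq _
          rw [mul_inv_eq_iff_eq_mul, mem_centralizer_singleton_iff.1 hmem] at he
          refine hdd ?_
          have := mul_right_cancel he
          nth_rewrite 1 [this]
          exact inv_mul_cancel d
        refine ⟨e ^ (orderOf e / 2), pow_mem (Or.inr he : e ∈ K) _, ?_, ?_⟩
        · rw [map_pow, hfix]
        · obtain ⟨m, hm⟩ := heven
          rw [orderOf_pow_of_dvd (by have := orderOf_pos e; omega) ⟨2, by omega⟩]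
          have := orderOf_pos e
          rw [hm, ← two_mul, Nat.mul_div_cancel_left _ two_pos, Nat.mul_div_cancel _ (by omega)]
      have hvinv : ∀ x ∈ zpowers v, α x ∈ zpowers v := fun x hx => by
        rw [show α x = x from (zpowers_le.2 (show v ∈ C from hvC)) hx]; exact hx
      obtain ⟨P, hvP, hPi⟩ := exists_invariant_sylow hp hα hpG K hK (zpowers_le.2 hvK)
        (IsPGroup.of_card (n := 1) (by rw [Nat.card_zpowers, hv2, pow_one])) hvinv
      have hP0 : (P : Subgroup K).map K.subtype ≤ C :=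
        le_fixed_of_centralizer hp hα hpG (P.2.map _) hPi (hvP (mem_zpowers v)) hvC
          (hgood v hvC hv2 _ ((P.2.map K.subtype).to_le inf_le_left)
            (fun x hx => ⟨hPi x hx.1, mem_centralizer_singleton_iff.2 (by
              conv_lhs => rw [← hvC, ← map_mul, mem_centralizer_singleton_iff.1 hx.2, map_mul, hvC])⟩)
            inf_le_right)
      have htK : t ∈ K := Or.inr hinv
      obtain ⟨T1, hT1⟩ := (IsPGroup.of_card (G := zpowers (⟨t, htK⟩ : K)) (p := 2)
        (n := (Nat.card (zpowers (⟨t, htK⟩ : K))).factorization 2) (by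
          obtain ⟨j, -, hj⟩ := (Nat.dvd_prime_pow Nat.prime_two).1
            (show orderOf (⟨t, htK⟩ : K) ∣ 2 ^ 1 by
              rw [pow_one, ← orderOf_coe]; exact orderOf_dvd_of_pow_eq_one (by rw [sq, htt]))
          rw [Nat.card_zpowers, hj, Nat.prime_two.factorization_pow, Finsupp.single_eq_same])).exists_le_sylow
      obtain ⟨k, hk⟩ := MulAction.exists_smul_eq K T1 P
      have hyC : (k : G) * t * (k : G)⁻¹ ∈ C := hP0 ⟨k * ⟨t, htK⟩ * k⁻¹, by
        rw [← hk, Sylow.coe_subgroup_smul]; exact ⟨_, hT1 (mem_zpowers _), rfl⟩, rfl⟩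
      set y := (k : G) * t * (k : G)⁻¹
      have hyI : y ∈ I := hIconj t htI _
      have hydI : y * d ∈ I := by
        rcases k.2 with hk' | hk'
        · have h := hIconj _ htdI (k : G)
          rwa [show (k : G) * (t * d) * (k : G)⁻¹ = y * ((k : G) * d * (k : G)⁻¹) by
            simp only [y]; group, hk'] at h
        · have h := hIconj _ htdI (k : G)
          rw [show (k : G) * (t * d) * (k : G)⁻¹ = y * ((k : G) * d * (k : G)⁻¹) by
            simp only [y]; group, hk'] at h
          have h' := hIconj _ (hIconj _ h y) d⁻¹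
          have e1 : d⁻¹ * (y * (y * d⁻¹) * y⁻¹) * d⁻¹⁻¹ = d⁻¹ * (d⁻¹ * y) * d := by
            rw [← mul_assoc y y, hI2 y hyI, one_mul, inv_eq_of_mul_eq_one_right (hI2 y hyI), inv_inv]
          rw [e1] at h'
          have h'' := hIconj _ h' d
          rw [show d * (d⁻¹ * (d⁻¹ * y) * d) * d⁻¹ = d⁻¹ * y by group] at h''
          have h3 := hI2 _ h''
          have e2 : y * d = d⁻¹ * y := by
            have hy2 := hI2 y hyI
            calc y * d = y * d * (d⁻¹ * y * (d⁻¹ * y)) := by rw [h3, mul_one]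
              _ = y * y * (d⁻¹ * y) := by group
              _ = d⁻¹ * y := by rw [hy2, one_mul]
          rwa [e2]
      refine ⟨y, Finset.mem_filter.2 ⟨Finset.mem_filter.2 ⟨hyI, hydI⟩, hyC⟩, ?_⟩
      rcases k.2 with hk' | hk'
      · refine ⟨(k : G)⁻¹, inv_mem (mem_centralizer_singleton_iff.2 (mul_inv_eq_iff_eq_mul.1 hk')), ?_⟩
        simp only [y]; group
      · refine ⟨((k : G) * t)⁻¹, inv_mem (mem_centralizer_singleton_iff.2 (mul_inv_eq_iff_eq_mul.1 ?_)), ?_⟩
        · have hk'' : (k : G) * d⁻¹ * (k : G)⁻¹ = d := by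
            have h := congrArg (fun x : G => x⁻¹) hk'
            simp only [mul_inv_rev, inv_inv, ← mul_assoc] at h
            exact h
          calc (k : G) * t * d * ((k : G) * t)⁻¹ = (k : G) * (t * d * t⁻¹) * (k : G)⁻¹ := by group
            _ = d := by rw [hinv, hk'']
        · simp only [y]; group
    -- count
    have hle : (T d).card ≤ E.index * ((T d).filter fun t => t ∈ C).card := by
      refine (Finset.card_le_card (t := (Finset.univ ×ˢ ((T d).filter fun t => t ∈ C)).image
        (fun q : (Cd ⧸ E) × G => (q.1.out : G) * q.2 * (q.1.out : G)⁻¹)) ?_).trans ?_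
      · intro t ht
        obtain ⟨y, hy, c, hc, hcy⟩ := hconj t ht
        set q : Cd ⧸ E := ((⟨c, hc⟩ : Cd) : Cd ⧸ E)
        set h := q.out⁻¹ * (⟨c, hc⟩ : Cd) with hdef
        have hh : h ∈ E := QuotientGroup.eq.1 (QuotientGroup.out_eq' q)
        have hhd : (h : G) * d = d * (h : G) := mem_centralizer_singleton_iff.1 h.2
        refine Finset.mem_image.2 ⟨(q, (h : G) * y * (h : G)⁻¹), Finset.mem_product.2
          ⟨Finset.mem_univ _, ?_⟩, ?_⟩
        · simp only [T, Finset.mem_filter] at hy ⊢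
          refine ⟨⟨hIconj _ hy.1.1 _, ?_⟩, mul_mem (mul_mem hh hy.2) (inv_mem hh)⟩
          have e : (h : G) * y * (h : G)⁻¹ * d = (h : G) * (y * d) * (h : G)⁻¹ := by
            calc (h : G) * y * (h : G)⁻¹ * d = (h : G) * y * (h : G)⁻¹ * (d * (h : G)) * (h : G)⁻¹ := by group
              _ = (h : G) * (y * d) * (h : G)⁻¹ := by rw [← hhd]; group
          rw [e]; exact hIconj _ hy.1.2 _
        · rw [← hcy, hdef]
          simp only [Subgroup.coe_mul, InvMemClass.coe_inv]
          group
      · refine Finset.card_image_le.trans (le_of_eq ?_)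
        rw [Finset.card_product, Finset.card_univ, ← Nat.card_eq_fintype_card, ← Subgroup.index]
    have hsplit := Finset.card_filter_add_card_filter_not (s := T d) (fun t => t ∈ C)
    have hpos : E.index ≤ n' := by omega
    have h2 := hle.trans (Nat.mul_le_mul_right _ hpos)
    rw [Nat.sub_mul, one_mul]
    omega
  have hq : ∑ d ∈ D, ((T d).filter fun t => t ∈ C).card ≤ J.card * J.card - J.card := by
    rw [← Finset.card_sigma, ← Finset.offDiag_card]
    refine Finset.card_le_card_of_injOn (fun s => (s.2, s.2 * s.1)) ?_ ?_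
    · intro s hs
      simp only [Finset.mem_coe, Finset.mem_sigma, Finset.mem_filter, D, T, Finset.mem_univ, true_and] at hs
      obtain ⟨⟨hdC, hd1⟩, ⟨h1, h2⟩, h3⟩ := hs
      simp only [Finset.mem_coe, Finset.mem_offDiag, J, Finset.mem_filter]
      exact ⟨⟨h1, h3⟩, ⟨h2, mul_mem h3 hdC⟩, fun h => hd1 (mul_eq_left.1 h.symm)⟩
    · rintro ⟨d, t⟩ _ ⟨d', t'⟩ _ h
      simp only [Prod.mk.injEq] at h
      obtain ⟨rfl, h⟩ := h
      rw [mul_left_cancel h]
  have htot := (Finset.card_filter_add_card_filter_not (s := Q2) fun q => q.1 = q.2).symm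
  rw [hdiag, hO] at htot
  have hbound : (Q2.filter fun q => ¬ q.1 = q.2).card ≤ (n' - 1) * (J.card * J.card - J.card) :=
    hoff.trans ((Finset.sum_le_sum hTd).trans (by
      rw [← Finset.mul_sum]; exact Nat.mul_le_mul_left _ hq))
  obtain ⟨k, hk⟩ := Nat.exists_eq_add_of_le hn1
  obtain ⟨j, hj⟩ := Nat.exists_eq_add_of_le hJ2
  rw [hk] at htot hQ2 hbound
  rw [hj] at htot hQ2 hbound
  rw [show (2 + j) * (2 + j) - (2 + j) = (2 + j) * (1 + j) from
    by rw [Nat.sub_eq_iff_eq_add (Nat.le_mul_self _)]; ring] at hbound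
  rw [Nat.add_sub_cancel_left] at hbound
  nlinarith

/-- A coprime automorphism fixing the centraliser of an involution is trivial. -/
theorem main [IsSimpleGroup G] (hG : ¬ IsMulCommutative G) (τ : G) (hτ : orderOf τ = 2)
    (α : MulAut G) (hα : α ≠ 1) (hcop : (orderOf α).Coprime (Nat.card G)) :
    ∃ c ∈ centralizer ({τ} : Set G), α c ≠ c := by
  by_contra hcon
  push Not at hcon
  have hne : orderOf α ≠ 1 := fun h => hα (orderOf_eq_one_iff.1 h)
  obtain ⟨p, hp, hd⟩ := Nat.exists_prime_and_dvd hne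
  have hpG : ¬ p ∣ Nat.card G := fun h =>
    hp.ne_one (Nat.Coprime.eq_one_of_dvd (hcop.coprime_dvd_left hd) h)
  set β := α ^ (orderOf α / p)
  have hβ : β ^ p = 1 := by rw [← pow_mul, Nat.div_mul_cancel hd, pow_orderOf_eq_one]
  have hfix : centralizer ({τ} : Set G) ≤ fixed β := by
    intro c hc
    exact (zpowers_le.2 (show α ∈ MulAction.stabilizer (MulAut G) c from hcon c hc))
      (pow_mem (mem_zpowers α) _)
  have htop := fixed_eq_top hp hβ hpG hG hτ hfix
  have hβ1 : β = 1 := MulEquiv.ext fun x => (htop.ge (mem_top x) : β x = x)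
  have hpos : 0 < orderOf α := orderOf_pos α
  have := Nat.le_of_dvd (Nat.div_pos (Nat.le_of_dvd hpos hd) hp.pos) (orderOf_dvd_of_pow_eq_one hβ1)
  exact absurd this (not_le.2 (Nat.div_lt_self hpos hp.one_lt))

end CfsgLib.LocalEvenB.CentralizerFixed
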