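import Cfsg.Agent.Lib.Components.Signalizer.Balance
import Cfsg.Agent.Lib.Components.SFT.Complete
import Cfsg.Agent.Lib.LocalEvenB.CharP
import Mathlib.GroupTheory.FixedPointFree

/-!
# The odd cores of involution centralizers as a solvable signalizer functor

An involution with centralizer of characteristic 2 inverts all odd cores it normalizes: these are
abelian, so no solvability hypothesis is needed.
-/

set_option autoImplicit false
set_option linter.unusedSectionVars false
set_option linter.style.haveILetI false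

namespace CfsgLib.LocalEvenB.CoreFunctor

open Subgroup CfsgLib.Components
open scoped commutatorElement

universe u

variable {C : Type u} [Group C] [Finite C]

theorem layer_eq_bot_of_charP {p : ℕ} [Fact p.Prime]
    (h : centralizer (Cfsg.pCore p C : Set C) ≤ Cfsg.pCore p C) : Cfsg.layer C = ⊥ := by
  rw [layer_eq_bot_iff]
  intro L hL
  have h1 : L ≤ centralizer (Cfsg.fittingSubgroup C : Set C) :=
    (IsComponent.le_layer hL).trans layer_le_centralizer_fitting
  have h2 : L ≤ Cfsg.pCore p C := h.trans' (h1.trans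
    (centralizer_le (Solvable.Cores.pCore_le_fittingSubgroup p)))
  haveI : Fact p.Prime := inferInstance
  haveI : Group.IsNilpotent L := ((Solvable.Cores.isPGroup_pCore p).to_le h2).isNilpotent
  exact IsComponent.not_isSolvable hL inferInstance

/-- A fixed point free involution of an odd order group inverts it. -/
theorem inverts {O : Subgroup C} (hO : Odd (Nat.card O)) {w : C} (hw : w * w = 1)
    (hn : ∀ x ∈ O, w * x * w⁻¹ ∈ O) (hfix : ∀ x ∈ O, w * x = x * w → x = 1) :
    ∀ x ∈ O, w * x * w⁻¹ = x⁻¹ := by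
  let φ : O →* O := MonoidHom.mk' (fun x => ⟨w * x * w⁻¹, hn x x.2⟩)
    (fun a b => Subtype.ext (by simp))
  have h1 : MonoidHom.FixedPointFree φ := fun x hx => Subtype.ext
    (hfix x x.2 (mul_inv_eq_iff_eq_mul.1 (congrArg Subtype.val hx : w * (x : C) * w⁻¹ = x)))
  have h2 : Function.Involutive φ := fun x => Subtype.ext (by
    change w * (w * x * w⁻¹) * w⁻¹ = x
    rw [inv_eq_of_mul_eq_one_left hw]
    calc w * (w * (x : C) * w) * w = w * w * x * (w * w) := by group
      _ = x := by rw [hw, one_mul, mul_one])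
  intro x hx
  exact congrArg Subtype.val (congrFun (h1.coe_eq_inv_of_involutive h2) ⟨x, hx⟩)

/-- No 2-component occurs if an involution of characteristic 2 centralizer inverts the odd core and
there is no component. -/
theorem pLayer_eq_bot_of_inverted (hE : Cfsg.layer C = ⊥) {w : C} (hw : w * w = 1)
    (hfix : ∀ x ∈ Cfsg.pPrimeCore 2 C, w * x = x * w → x = 1)
    (hD : centralizer (Cfsg.pCore 2 ↥(centralizer ({w} : Set C)) : Set ↥(centralizer ({w} : Set C)))
      ≤ Cfsg.pCore 2 ↥(centralizer ({w} : Set C))) :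
    Cfsg.pLayer 2 C = ⊥ := by
  haveI : Fact (Nat.Prime 2) := ⟨Nat.prime_two⟩
  set O := Cfsg.pPrimeCore 2 C with hO
  have hOodd : Odd (Nat.card O) := Nat.coprime_two_right.1 (Solvable.Cores.coprime_card_pPrimeCore 2)
  haveI hOn : O.Normal := Cfsg.pPrimeCore_normal 2 C
  have hinv := inverts hOodd hw (fun x hx => hOn.conj_mem x hx w) hfix
  have hOab : ∀ x ∈ O, ∀ y ∈ O, x * y = y * x := by
    intro x hx y hy
    have h := hinv _ (mul_mem hx hy)
    rw [show w * (x * y) * w⁻¹ = (w * x * w⁻¹) * (w * y * w⁻¹) by group, hinv x hx, hinv y hy,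
      mul_inv_rev] at h
    simpa using congrArg (·⁻¹) h.symm
  by_contra hne
  obtain ⟨K, hK⟩ : ∃ K : Subgroup C, Cfsg.IsPComponent 2 K := by
    by_contra h
    push Not at h
    exact hne (le_bot_iff.1 (sSup_le fun K hK => absurd hK (h K)))
  haveI := IsPComponent.isPerfect hK
  set K1 := centralizer (O : Set C) with hK1
  haveI : K1.Normal := inferInstance
  have hOK1 : O ≤ K1 := fun x hx => mem_centralizer_iff.2 fun y hy => hOab y hy x hx
  have hnK1 : ¬ K ≤ K1 := by
    intro hle
    have hq : Cfsg.IsQuasisimple ↥K := (IsPComponent.isQuasisimple_iff hK).2 (by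
      rw [commutator_eq_bot_iff_le_centralizer]
      exact hle.trans (centralizer_le (pPrimeCore_map_subtype_le hK.1)))
    exact layer_eq_bot_iff.1 hE K ⟨hK.1, hq⟩
  set π := QuotientGroup.mk' O
  set Kb := K.map π with hKb
  have hKc : Cfsg.IsComponent Kb := hK.2.1
  haveI : (K1.map π).Normal := Subgroup.Normal.map inferInstance π (QuotientGroup.mk'_surjective O)
  have hcom : ⁅Kb, K1.map π⁆ = ⊥ := by
    refine (IsComponent.le_or_commutator_eq_bot_of_normal hKc (K1.map π)).resolve_left fun hle => hnK1 ?_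
    have h1 : K ≤ (K1.map π).comap π := map_le_iff_le_comap.1 hle
    rwa [comap_map_eq, QuotientGroup.ker_mk', sup_eq_left.2 hOK1] at h1
  have hwK : ⁅zpowers (π w), Kb⁆ = ⊥ := by
    refine commutator_eq_bot_of_perfect (IsComponent.isPerfect hKc) ?_
    rw [eq_bot_iff, ← hcom, commutator_comm Kb]
    refine commutator_mono ?_ le_rfl
    rw [commutator_le]
    intro v hv k hk
    obtain ⟨i, rfl⟩ := mem_zpowers_iff.1 hv
    obtain ⟨k, -, rfl⟩ := hk
    refine ⟨⁅w ^ i, k⁆, ?_, by rw [map_commutatorElement, map_zpow]⟩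
    refine mem_centralizer_iff.2 fun x hx => ?_
    have hwi : ∀ (j : ℤ), ∀ y ∈ O, ∀ z : C, w ^ j * (z * y * z⁻¹) * w ^ (-j) =
        z * (w ^ j * y * w ^ (-j)) * z⁻¹ := by
      have hone : ∀ y ∈ O, ∀ z : C, w * (z * y * z⁻¹) * w⁻¹ = z * (w * y * w⁻¹) * z⁻¹ :=
        fun y hy z => by rw [hinv y hy, hinv _ (hOn.conj_mem y hy z)]; group
      intro j
      induction j using Int.induction_on with
      | zero => intro y _ z; simp
      | succ j ih =>
        intro y hy z
        rw [show w ^ ((j : ℤ) + 1) * (z * y * z⁻¹) * w ^ (-((j : ℤ) + 1)) =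
          w ^ (j : ℤ) * (w * (z * y * z⁻¹) * w⁻¹) * w ^ (-(j : ℤ)) by group, hone y hy,
          ih _ (hOn.conj_mem y hy w)]
        group
      | pred j ih =>
        intro y hy z
        have e : w⁻¹ = w := inv_eq_of_mul_eq_one_left hw
        rw [show w ^ (-(j : ℤ) - 1) * (z * y * z⁻¹) * w ^ (-(-(j : ℤ) - 1)) =
          w ^ (-(j : ℤ)) * (w⁻¹ * (z * y * z⁻¹) * w⁻¹⁻¹) * w ^ (- -(j : ℤ)) by group, e, hone y hy,
          ih _ (hOn.conj_mem y hy w)]
        conv_rhs => rw [show w ^ (-(j : ℤ) - 1) * y * w ^ (-(-(j : ℤ) - 1)) =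
          w ^ (-(j : ℤ)) * (w⁻¹ * y * w⁻¹⁻¹) * w ^ (- -(j : ℤ)) by group, e]
    have h1 := hwi (-i) x hx k
    have h2 : w ^ i * k * w ^ (-i) * k⁻¹ * x * (k * w ^ i * k⁻¹ * w ^ (-i)) = x := by
      have := hwi (-i) x hx k⁻¹
      calc w ^ i * k * w ^ (-i) * k⁻¹ * x * (k * w ^ i * k⁻¹ * w ^ (-i))
          = w ^ i * k * (w ^ (-i) * (k⁻¹ * x * k⁻¹⁻¹) * w ^ (- -i)) * k⁻¹ * w ^ (-i) := by group
        _ = w ^ i * k * (k⁻¹ * (w ^ (-i) * x * w ^ (- -i)) * k⁻¹⁻¹) * k⁻¹ * w ^ (-i) := by rw [this]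
        _ = x := by group
    calc x * ⁅w ^ i, k⁆ = (w ^ i * k * w ^ (-i) * k⁻¹ * x * (k * w ^ i * k⁻¹ * w ^ (-i))) * ⁅w ^ i, k⁆ := by rw [h2]
      _ = ⁅w ^ i, k⁆ * x := by rw [commutatorElement_def]; group
  -- so `K` is covered by the centralizer of `w`
  set D := centralizer ({w} : Set C)
  let f : D →* C ⧸ O := π.comp D.subtype
  have hf : Function.Injective f := by
    rw [injective_iff_map_eq_one]
    intro d hd
    exact Subtype.ext (hfix d ((QuotientGroup.eq_one_iff _).1 hd)
      (mem_centralizer_singleton_iff.1 d.2).symm)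
  have hcover : Kb ≤ f.range := by
    rintro kb hkb
    obtain ⟨k, rfl⟩ := QuotientGroup.mk'_surjective O kb
    have hcw : Commute (π w) (π k) := by
      have h : ⁅π w, π k⁆ ∈ ⁅zpowers (π w), Kb⁆ := commutator_mem_commutator (mem_zpowers _) hkb
      rw [hwK, mem_bot] at h
      exact commutatorElement_eq_one_iff_mul_comm.1 h
    have ho : k⁻¹ * (w * k * w⁻¹) ∈ O := by
      refine (QuotientGroup.eq_one_iff _).1 (show π (k⁻¹ * (w * k * w⁻¹)) = 1 from ?_)
      rw [map_mul, map_mul, map_mul, map_inv, map_inv, hcw.eq]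
      group
    set s := k⁻¹ * (w * k * w⁻¹) with hs
    obtain ⟨j, hj⟩ := hOodd.of_dvd_nat (O.orderOf_dvd_natCard ho)
    set r := s ^ (j + 1) with hr
    have hrr : r * r = s := by
      rw [hr, ← pow_add, show j + 1 + (j + 1) = orderOf s + 1 by omega, pow_succ,
        pow_orderOf_eq_one, one_mul]
    have hwr := hinv r (pow_mem ho _)
    refine ⟨⟨k * r, mem_centralizer_singleton_iff.2 ?_⟩, ?_⟩
    · refine (mul_inv_eq_iff_eq_mul.1 ?_).symm
      calc w * (k * r) * w⁻¹ = (w * k * w⁻¹) * (w * r * w⁻¹) := by group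
        _ = (k * s) * r⁻¹ := by rw [hwr, hs]; group
        _ = k * r := by rw [← hrr]; group
    · show π (k * r) = π k
      rw [map_mul, show π r = 1 from (QuotientGroup.eq_one_iff _).2 (pow_mem ho _), mul_one]
  have hL : Cfsg.IsComponent (Kb.comap f) := by
    refine ⟨hKc.1.comap f, IsQuasisimple.of_mulEquiv hKc.2 (MulEquiv.trans ?_
      ((Kb.comap f).equivMapOfInjective f hf).symm)⟩
    exact MulEquiv.subgroupCongr (map_comap_eq_self hcover).symm
  exact layer_eq_bot_iff.1 (layer_eq_bot_of_charP hD) _ hL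

section Functor

variable {X : Type u} [Group X] [Finite X]

/-- The odd cores of the centralizers form a solvable signalizer functor and generate a subgroup
of odd order. -/
theorem odd_closure (Y : Subgroup X) (hY : Cfsg.IsElementaryAbelian 2 Y) (h8 : 8 ≤ Nat.card Y)
    (hE : ∀ x ∈ Y, x ≠ 1 → Cfsg.layer ↥(centralizer ({x} : Set X)) = ⊥) {z : X} (hzY : z ∈ Y)
    (hz1 : z ≠ 1)
    (hz : Cfsg.generalizedFittingSubgroup ↥(centralizer ({z} : Set X)) =
      Cfsg.pCore 2 ↥(centralizer ({z} : Set X))) :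
    Odd (Nat.card ↥(⨆ y : {y : X // y ∈ Y ∧ y ≠ 1}, Cfsg.centralizerPPrimeCore 2 (y : X))) := by
  haveI : Fact (Nat.Prime 2) := ⟨Nat.prime_two⟩
  have hsq : ∀ a ∈ Y, a * a = 1 := fun a ha => by rw [← pow_two]; exact hY.2 a ha
  have hord : ∀ a ∈ Y, a ≠ 1 → orderOf a = 2 := fun a ha ha1 =>
    orderOf_eq_prime (hY.2 a ha) ha1
  have hcomm : ∀ a ∈ Y, ∀ b ∈ Y, a * b = b * a := fun a ha b hb =>
    (Signalizer.commute_of_mem hY ha hb)
  have hzbot : Cfsg.centralizerPPrimeCore 2 z = ⊥ := by
    rw [Cfsg.centralizerPPrimeCore, pPrimeCore_eq_bot_of_genFitting hz, Subgroup.map_bot]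
  have hzfree : ∀ a ∈ Y, a ≠ 1 → ∀ x ∈ Cfsg.centralizerPPrimeCore 2 a, z * x = x * z → x = 1 := by
    intro a ha ha1 x hx hzx
    have := Signalizer.core_inf_centralizer_le (hcomm a ha z hzY) (hord a ha ha1)
      (pLayer_eq_bot_of_layer (pPrimeCore_eq_bot_of_genFitting hz) (layer_eq_bot_of_genFitting hz))
      ⟨hx, mem_centralizer_singleton_iff.2 hzx.symm⟩
    rwa [hzbot, mem_bot] at this
  have hconstr : ∀ b ∈ Y, b ≠ 1 → Cfsg.pLayer 2 ↥(centralizer ({b} : Set X)) = ⊥ := by
    intro b hb hb1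
    have hzb : z ∈ centralizer ({b} : Set X) := mem_centralizer_singleton_iff.2 (hcomm z hzY b hb)
    refine pLayer_eq_bot_of_inverted (hE b hb hb1) (w := ⟨z, hzb⟩) (Subtype.ext (hsq z hzY)) ?_ ?_
    · intro x hx hzx
      exact Subtype.ext (hzfree b hb hb1 x ⟨x, hx, rfl⟩ (congrArg Subtype.val hzx))
    · set Cz := centralizer ({z} : Set X)
      set b' : Cz := ⟨b, mem_centralizer_singleton_iff.2 (hcomm b hb z hzY)⟩
      have hb'2 : IsPGroup 2 (zpowers b') := IsPGroup.of_card (n := 1) (by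
        rw [Nat.card_zpowers, pow_one, ← Subgroup.orderOf_coe]; exact hord b hb hb1)
      have hloc := CharP.charP_local (M := (⊤ : Subgroup Cz)) (B := zpowers b')
        (H := centralizer ({b'} : Set Cz)) hb'2 le_top
        (CharP.charP_congr Subgroup.topEquiv.symm (CharP.centralizer_pCore_le_of_generalizedFitting hz))
        le_top (by rw [zpowers_eq_closure, centralizer_closure])
        ((centralizer_le_normalizer _).trans' (by rw [zpowers_eq_closure, centralizer_closure]))
        (Or.inl (by rw [zpowers_eq_closure, centralizer_closure]))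
      let e : ↥(centralizer ({b'} : Set Cz)) ≃*
          ↥(centralizer ({(⟨z, hzb⟩ : centralizer ({b} : Set X))} : Set ↥(centralizer ({b} : Set X)))) :=
        { toFun := fun d => ⟨⟨(d : X), mem_centralizer_singleton_iff.2
            (congrArg Subtype.val (mem_centralizer_singleton_iff.1 d.2))⟩,
            mem_centralizer_singleton_iff.2 (Subtype.ext (mem_centralizer_singleton_iff.1 d.1.2))⟩
          invFun := fun d => ⟨⟨(d : X), mem_centralizer_singleton_iff.2
            (congrArg Subtype.val (mem_centralizer_singleton_iff.1 d.2))⟩,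
            mem_centralizer_singleton_iff.2 (Subtype.ext (mem_centralizer_singleton_iff.1 d.1.2))⟩
          left_inv := fun d => rfl
          right_inv := fun d => rfl
          map_mul' := fun d d' => rfl }
      exact CharP.charP_congr e hloc
  have hinv : ∀ a ∈ Y, a ≠ 1 → ∀ x ∈ Cfsg.centralizerPPrimeCore 2 a, z * x * z⁻¹ = x⁻¹ := by
    intro a ha ha1
    refine inverts (Nat.not_even_iff_odd.1 fun h => Signalizer.not_dvd_centralizerPPrimeCore a
      (even_iff_two_dvd.1 h)) (hsq z hzY) (fun x hx => ?_) (hzfree a ha ha1)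
    exact (mem_normalizer_iff.1 (Signalizer.centralizer_le_normalizer_core a
      (mem_centralizer_singleton_iff.2 (hcomm z hzY a ha))) x).1 hx
  have hfun : Cfsg.IsSolvableSignalizerFunctor 2 Y (Cfsg.centralizerPPrimeCore 2) := by
    refine ⟨⟨fun a _ _ => Signalizer.centralizerPPrimeCore_le a,
      fun a _ _ => Signalizer.not_dvd_centralizerPPrimeCore a,
      fun a ha _ b hb x hx => (mem_normalizer_iff.1 (Signalizer.centralizer_le_normalizer_core a
        (mem_centralizer_singleton_iff.2 (hcomm b hb a ha))) x).1 hx,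
      fun a ha ha1 b hb hb1 => Signalizer.core_inf_centralizer_le (hcomm a ha b hb)
        (hord a ha ha1) (hconstr b hb hb1)⟩, fun a ha ha1 => ?_⟩
    refine Group.isSolvable_of_comm fun x y => Subtype.ext ?_
    have h := hinv a ha ha1 _ (mul_mem x.2 y.2)
    rw [show z * ((x : X) * y) * z⁻¹ = (z * x * z⁻¹) * (z * y * z⁻¹) by group,
      hinv a ha ha1 x x.2, hinv a ha ha1 y y.2, mul_inv_rev] at h
    simpa using congrArg (·⁻¹) h.symm
  have h := (SFT.solvable_complete hY (by norm_num; omega) hfun).1.2.1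
  exact Nat.not_even_iff_odd.1 fun hev => h (even_iff_two_dvd.1 hev)

theorem normalizer_le_closure (Y : Subgroup X) :
    normalizer (Y : Set X) ≤ normalizer
      ((⨆ y : {y : X // y ∈ Y ∧ y ≠ 1}, Cfsg.centralizerPPrimeCore 2 (y : X) : Subgroup X) : Set X) := by
  intro g hg
  have key : ∀ n ∈ normalizer (Y : Set X), ∀ x ∈ (⨆ y : {y : X // y ∈ Y ∧ y ≠ 1},
      Cfsg.centralizerPPrimeCore 2 (y : X)), n * x * n⁻¹ ∈ (⨆ y : {y : X // y ∈ Y ∧ y ≠ 1},
      Cfsg.centralizerPPrimeCore 2 (y : X)) := by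
    intro n hn
    have hle : (⨆ y : {y : X // y ∈ Y ∧ y ≠ 1}, Cfsg.centralizerPPrimeCore 2 (y : X)) ≤
        (⨆ y : {y : X // y ∈ Y ∧ y ≠ 1}, Cfsg.centralizerPPrimeCore 2 (y : X)).comap
          (MulAut.conj n).toMonoidHom := by
      refine iSup_le fun y => ?_
      rintro _ ⟨c, hc, rfl⟩
      refine mem_iSup_of_mem ⟨n * y * n⁻¹, (mem_normalizer_iff.1 hn _).1 y.2.1,
        fun h => y.2.2 (conj_eq_one_iff.1 h)⟩ ?_
      have hmem : ∀ d : centralizer ({(y : X)} : Set X),
          n * d * n⁻¹ ∈ centralizer ({n * (y : X) * n⁻¹} : Set X) := fun d =>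
        mem_centralizer_singleton_iff.2 (by
          calc n * (d : X) * n⁻¹ * (n * y * n⁻¹) = n * ((d : X) * y) * n⁻¹ := by group
            _ = n * ((y : X) * d) * n⁻¹ := by rw [mem_centralizer_singleton_iff.1 d.2]
            _ = n * y * n⁻¹ * (n * d * n⁻¹) := by group)
      let ψ : centralizer ({(y : X)} : Set X) ≃* centralizer ({n * (y : X) * n⁻¹} : Set X) :=
        { toFun := fun d => ⟨n * d * n⁻¹, hmem d⟩
          invFun := fun d => ⟨n⁻¹ * d * n, mem_centralizer_singleton_iff.2 (by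
            calc n⁻¹ * (d : X) * n * y = n⁻¹ * ((d : X) * (n * y * n⁻¹)) * n := by group
              _ = n⁻¹ * ((n * y * n⁻¹) * d) * n := by rw [mem_centralizer_singleton_iff.1 d.2]
              _ = (y : X) * (n⁻¹ * d * n) := by group)⟩
          left_inv := fun d => Subtype.ext (by simp [mul_assoc])
          right_inv := fun d => Subtype.ext (by simp [mul_assoc])
          map_mul' := fun d e => Subtype.ext (by simp [mul_assoc]) }
      haveI : Fact (Nat.Prime 2) := ⟨Nat.prime_two⟩
      exact ⟨ψ c, pPrimeCore_map_le 2 ψ.toMonoidHom ψ.surjective (mem_map_of_mem _ hc), rfl⟩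
    exact fun x hx => hle hx
  refine mem_normalizer_iff.2 fun x => ⟨key g hg x, fun h => ?_⟩
  simpa [mul_assoc] using key g⁻¹ (inv_mem hg) _ h

end Functor

end CfsgLib.LocalEvenB.CoreFunctor
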