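import Cfsg.Agent.Lib.Classical.Dickson.Main

/-!
# Few points of the projective line are fixed by elements of large order in a tame group

Let `G ≤ PGL₂(F)`, `F` finite of characteristic `p`, with `p` not dividing `|G|`, and let `S` be a
set of points each fixed by some element of `G` of order at least `4` and different from `5`.
Then `|S| ≤ 6`, and `|S| ≤ 2` if the orders are all at least `6`.
-/

set_option autoImplicit false
set_option linter.unusedSectionVars false
set_option linter.style.haveILetI false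

namespace CfsgLib.LocalEvenB.PGL2Tame

open Matrix OnePoint MulAction CfsgLib.Classical.Dickson
open scoped MatrixGroups

variable {F : Type*} [Field F] [Fintype F] [DecidableEq F]

/-- The fixed points of a nontrivial element. -/
noncomputable def fixPts (g : ProjGenLinGroup (Fin 2) F) : Finset (OnePoint F) := by
  classical
  haveI := Fintype.ofFinite (OnePoint F)
  exact Finset.univ.filter fun x => g • x = x

theorem mem_fixPts {g : ProjGenLinGroup (Fin 2) F} {x : OnePoint F} :
    x ∈ fixPts g ↔ g • x = x := by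
  simp [fixPts]

theorem card_fixPts {g : ProjGenLinGroup (Fin 2) F} (hg : g ≠ 1) : (fixPts g).card ≤ 2 := by
  by_contra h
  push Not at h
  obtain ⟨x, y, z, hx, hy, hz, hxy, hxz, hyz⟩ := Finset.two_lt_card_iff.mp h
  exact hg (eq_one_of_fix_three hxy hxz hyz (mem_fixPts.mp hx) (mem_fixPts.mp hy) (mem_fixPts.mp hz))

/-- If `g` fixes `x`, `g² ≠ 1` and `g'` commutes with `g`, then `g'²` fixes `x`. -/
theorem sq_fix_of_commute {g g' : ProjGenLinGroup (Fin 2) F} (hg : g ≠ 1) (hc : Commute g g')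
    {x : OnePoint F} (hx : g • x = x) : (g' * g') • x = x := by
  have h1 : g • g' • x = g' • x := by rw [← mul_smul, hc.eq, mul_smul, hx]
  have h2 : g • g' • g' • x = g' • g' • x := by
    rw [← mul_smul, hc.eq, mul_smul, h1]
  rw [mul_smul]
  by_contra hne
  by_cases e1 : g' • x = x
  · exact hne (by rw [e1, e1])
  by_cases e2 : g' • g' • x = g' • x
  · exact e1 (MulAction.injective g' e2)
  exact hg (eq_one_of_fix_three (Ne.symm e1) (Ne.symm hne) (Ne.symm e2) hx h1 h2)

/-- Commuting case: at most two points. -/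
theorem card_le_two_of_commute (G : Subgroup (ProjGenLinGroup (Fin 2) F))
    (hc : ∀ g ∈ G, ∀ g' ∈ G, g * g ≠ 1 → g' * g' ≠ 1 → Commute g g') (S : Finset (OnePoint F))
    (hS : ∀ x ∈ S, ∃ g ∈ G, g • x = x ∧ g * g ≠ 1) : S.card ≤ 2 := by
  rcases S.eq_empty_or_nonempty with rfl | ⟨x₀, hx₀⟩
  · simp
  obtain ⟨g₀, hg₀G, -, hg₀⟩ := hS x₀ hx₀
  refine le_trans (Finset.card_le_card (t := fixPts (g₀ * g₀)) ?_) (card_fixPts hg₀)
  intro x hx
  obtain ⟨g, hgG, hgx, hg⟩ := hS x hx
  exact mem_fixPts.mpr (sq_fix_of_commute (fun e => hg (by rw [e, one_mul]))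
    (hc g hgG g₀ hg₀G hg hg₀) hgx)

theorem mul_self_ne_one {M : Type*} [Monoid M] {g : M} (h : 3 ≤ orderOf g) : g * g ≠ 1 := by
  intro e
  have := Nat.le_of_dvd (by norm_num) (orderOf_dvd_of_pow_eq_one (x := g) (n := 2) (by rw [pow_two, e]))
  omega

theorem even_four : ∀ σ : Equiv.Perm (Fin 4), Equiv.Perm.sign σ = 1 → σ ^ 2 = 1 ∨ σ ^ 3 = 1 := by
  decide +kernel

theorem all_four : ∀ σ : Equiv.Perm (Fin 4), σ ^ 2 = 1 ∨ σ ^ 3 = 1 ∨ σ ^ 4 = 1 := by
  decide +kernel

theorem even_five :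
    ∀ σ : Equiv.Perm (Fin 5), Equiv.Perm.sign σ = 1 → σ ^ 2 = 1 ∨ σ ^ 3 = 1 ∨ σ ^ 5 = 1 := by
  decide +kernel

/-- The squares of the elements of order four of `S₄`. -/
def fourSq : Finset (Equiv.Perm (Fin 4)) :=
  (Finset.univ.filter fun σ : Equiv.Perm (Fin 4) => σ ^ 4 = 1 ∧ σ ^ 2 ≠ 1).image fun σ => σ ^ 2

theorem squares_four : fourSq.card ≤ 3 := by
  decide +kernel

attribute [local irreducible] fourSq

theorem sign_eq_one {n : ℕ} (σ : alternatingGroup (Fin n)) :
    Equiv.Perm.sign (σ : Equiv.Perm (Fin n)) = 1 :=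
  Equiv.Perm.mem_alternatingGroup.mp σ.2

variable (p : ℕ) [hp : Fact p.Prime] [CharP F p]

/-- The main counting statement. -/
theorem card_le (G : Subgroup (ProjGenLinGroup (Fin 2) F)) (hG : ¬ p ∣ Nat.card G)
    (S : Finset (OnePoint F))
    (hS : ∀ x ∈ S, ∃ g ∈ G, g • x = x ∧ 4 ≤ orderOf g ∧ orderOf g ≠ 5) :
    S.card ≤ 6 ∧ ((∀ x ∈ S, ∃ g ∈ G, g • x = x ∧ 6 ≤ orderOf g) → S.card ≤ 2) := by
  classical
  have hS' : ∀ x ∈ S, ∃ g ∈ G, g • x = x ∧ g * g ≠ 1 := by
    intro x hx
    obtain ⟨g, hgG, hgx, h4, -⟩ := hS x hx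
    exact ⟨g, hgG, hgx, mul_self_ne_one (by omega)⟩
  -- the abelian cases
  have hcomm : (∀ g ∈ G, ∀ g' ∈ G, g * g ≠ 1 → g' * g' ≠ 1 → Commute g g') →
      S.card ≤ 6 ∧ ((∀ x ∈ S, ∃ g ∈ G, g • x = x ∧ 6 ≤ orderOf g) → S.card ≤ 2) := by
    intro h
    have := card_le_two_of_commute G h S hS'
    exact ⟨by omega, fun _ => this⟩
  -- the groups without elements of order `≥ 4`, `≠ 5`
  have hempty : (∀ g : G, 4 ≤ orderOf g → orderOf g = 5) →
      S.card ≤ 6 ∧ ((∀ x ∈ S, ∃ g ∈ G, g • x = x ∧ 6 ≤ orderOf g) → S.card ≤ 2) := by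
    intro h
    have : S = ∅ := by
      refine Finset.eq_empty_of_forall_notMem fun x hx => ?_
      obtain ⟨g, hgG, -, h4, h5⟩ := hS x hx
      exact h5 (by rw [← Subgroup.orderOf_mk g hgG] at h4 ⊢; exact h ⟨g, hgG⟩ h4)
    subst this; simp
  have huni : aff (1 : Fˣ) (1 : F) ∉ G := by
    intro h
    apply hG
    have ho : orderOf (aff (1 : Fˣ) (1 : F)) = p := by
      refine orderOf_eq_prime ((aff_pow_char_eq_one_iff p _ _).mpr rfl) ?_
      intro e
      exact one_ne_zero (aff_eq_one_iff.mp e).2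
    rw [← ho, ← Subgroup.orderOf_mk _ h]
    exact orderOf_dvd_natCard _
  -- the same for conjugates
  have hconj : ∀ h : ProjGenLinGroup (Fin 2) F,
      aff (1 : Fˣ) (1 : F) ∉ G.map (MulAut.conj h).toMonoidHom := by
    intro h hmem
    obtain ⟨u, hu, hue⟩ := hmem
    apply hG
    have ho : orderOf u = p := by
      have : orderOf ((MulAut.conj h) u) = orderOf u := MulEquiv.orderOf_eq _ u
      rw [← this]
      refine orderOf_eq_prime ?_ ?_
      · rw [show (MulAut.conj h) u = aff (1 : Fˣ) (1 : F) from hue]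
        exact (aff_pow_char_eq_one_iff p _ _).mpr rfl
      · rw [show (MulAut.conj h) u = aff (1 : Fˣ) (1 : F) from hue]
        exact fun e => one_ne_zero (aff_eq_one_iff.mp e).2
    rw [← ho, ← Subgroup.orderOf_mk u hu]
    exact orderOf_dvd_natCard _
  cases kind p G with
  | fixed x hfix =>
    refine hcomm fun g hg g' hg' _ _ => ?_
    obtain ⟨h, hh⟩ := exists_to_infty x
    have hi : ∀ u ∈ G, (h⁻¹ * u * h) • (∞ : OnePoint F) = ∞ := by
      intro u hu
      rw [mul_smul, mul_smul, hh, hfix u hu, ← hh, inv_smul_smul]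
    obtain ⟨a, b, hab⟩ := exists_aff (hi g hg)
    obtain ⟨a', b', hab'⟩ := exists_aff (hi g' hg')
    have h1 : h⁻¹ * (g * g') * h = aff (a * a') (a * b' + b) := by
      rw [← aff_mul, ← hab, ← hab']; group
    have h2 : h⁻¹ * (g' * g) * h = aff (a * a') (a' * b + b') := by
      rw [mul_comm a a', ← aff_mul, ← hab, ← hab']; group
    set d : F := (a * b' + b) - (a' * b + b')
    have h3 : aff (1 : Fˣ) d * aff (a * a') (a' * b + b') = aff (a * a') (a * b' + b) := by
      rw [aff_mul, one_mul]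
      congr 1
      simp [d]
    set c := (g * g') * (g' * g)⁻¹ with hcdef
    have hc : h⁻¹ * c * h = aff (1 : Fˣ) d := by
      have : h⁻¹ * c * h = (h⁻¹ * (g * g') * h) * (h⁻¹ * (g' * g) * h)⁻¹ := by
        rw [hcdef]; group
      rw [this, h1, h2, ← h3, mul_inv_cancel_right]
    have hp' : (h⁻¹ * c * h) ^ p = 1 := by rw [hc]; exact (aff_pow_char_eq_one_iff p _ _).mpr rfl
    have hcp : c ^ p = 1 := by
      have := conj_pow (a := h⁻¹) (b := c) (i := p)
      rw [inv_inv] at this
      rw [this] at hp'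
      calc c ^ p = h * (h⁻¹ * c ^ p * h) * h⁻¹ := by group
        _ = 1 := by rw [hp', mul_one, mul_inv_cancel]
    have hcG : c ∈ G := G.mul_mem (G.mul_mem hg hg') (G.inv_mem (G.mul_mem hg' hg))
    have hc1 : c = 1 := by
      have h4 := orderOf_dvd_natCard (⟨c, hcG⟩ : G)
      rw [Subgroup.orderOf_mk] at h4
      rcases (Nat.dvd_prime hp.out).mp (orderOf_dvd_of_pow_eq_one hcp) with h5 | h5
      · exact orderOf_eq_one_iff.mp h5
      · exact absurd (h5 ▸ h4) hG
    exact eq_of_mul_inv_eq_one (show (g * g') * (g' * g)⁻¹ = 1 from hc1)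
  | cyclic c hc _ =>
    refine hcomm fun g hg g' hg' _ _ => ?_
    rw [hc, Subgroup.mem_zpowers_iff] at hg hg'
    obtain ⟨i, rfl⟩ := hg
    obtain ⟨j, rfl⟩ := hg'
    exact Commute.zpow_zpow (Commute.refl c) i j
  | dihedral c _ _ _ hD =>
    obtain ⟨f⟩ := hD
    refine hcomm fun g hg g' hg' h1 h2 => ?_
    have hrot : ∀ u : G, (u : ProjGenLinGroup (Fin 2) F) * u ≠ 1 →
        ∃ i, f u = DihedralGroup.r i := by
      intro u hu
      cases e : f u with
      | r i => exact ⟨i, rfl⟩
      | sr i =>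
        exfalso
        have : f (u * u) = 1 := by rw [map_mul, e, DihedralGroup.sr_mul_self]
        rw [← map_one f] at this
        exact hu (congrArg Subtype.val (f.injective this))
    obtain ⟨i, hi⟩ := hrot ⟨g, hg⟩ h1
    obtain ⟨j, hj⟩ := hrot ⟨g', hg'⟩ h2
    have : (⟨g, hg⟩ : G) * ⟨g', hg'⟩ = ⟨g', hg'⟩ * ⟨g, hg⟩ := by
      apply f.injective
      rw [map_mul, map_mul, hi, hj, DihedralGroup.r_mul_r, DihedralGroup.r_mul_r, add_comm]
    exact congrArg Subtype.val this
  | a4 h =>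
    obtain ⟨f⟩ := h
    refine hempty fun g h4 => ?_
    rw [← MulEquiv.orderOf_eq f, ← Subgroup.orderOf_coe] at h4 ⊢
    exfalso
    rcases even_four _ (sign_eq_one (f g)) with h | h <;>
      · have := Nat.le_of_dvd (by norm_num) (orderOf_dvd_of_pow_eq_one h); omega
  | a5 h =>
    obtain ⟨f⟩ := h
    refine hempty fun g h4 => ?_
    rw [← MulEquiv.orderOf_eq f, ← Subgroup.orderOf_coe] at h4 ⊢
    rcases even_five _ (sign_eq_one (f g)) with h | h | h
    · have := Nat.le_of_dvd (by norm_num) (orderOf_dvd_of_pow_eq_one h); omega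
    · have := Nat.le_of_dvd (by norm_num) (orderOf_dvd_of_pow_eq_one h); omega
    · rcases (Nat.dvd_prime (by norm_num : Nat.Prime 5)).mp (orderOf_dvd_of_pow_eq_one h) with e | e
      · omega
      · exact e
  | s4 h =>
    obtain ⟨f⟩ := h
    have hsmall : ∀ g : G, orderOf g ≤ 4 := by
      intro g
      rw [← MulEquiv.orderOf_eq f]
      rcases all_four (f g) with h | h | h <;>
        · have := Nat.le_of_dvd (by norm_num) (orderOf_dvd_of_pow_eq_one h); omega
    constructor
    · have hsub : S ⊆ fourSq.biUnion fun σ => fixPts ((f.symm σ : G) : ProjGenLinGroup (Fin 2) F) := by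
        intro x hx
        rw [Finset.mem_biUnion]
        obtain ⟨g, hgG, hgx, h4, -⟩ := hS x hx
        have ho : orderOf (⟨g, hgG⟩ : G) = 4 := by
          have := hsmall ⟨g, hgG⟩
          rw [Subgroup.orderOf_mk] at this ⊢
          omega
        refine ⟨f (⟨g, hgG⟩ ^ 2), ?_, mem_fixPts.mpr ?_⟩
        · rw [fourSq]
          refine Finset.mem_image.mpr ⟨f ⟨g, hgG⟩, Finset.mem_filter.mpr ⟨Finset.mem_univ _, ?_, ?_⟩,
            (map_pow f _ _).symm⟩
          · rw [← orderOf_dvd_iff_pow_eq_one, MulEquiv.orderOf_eq, ho]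
          · intro e
            rw [← orderOf_dvd_iff_pow_eq_one, MulEquiv.orderOf_eq, ho] at e
            omega
        · rw [MulEquiv.symm_apply_apply, SubmonoidClass.coe_pow, pow_two, mul_smul, hgx, hgx]
      refine le_trans (Finset.card_le_card hsub) (le_trans Finset.card_biUnion_le ?_)
      refine le_trans (Finset.sum_le_card_nsmul _ _ 2 fun σ hσ => card_fixPts ?_) ?_
      · intro e
        rw [fourSq] at hσ
        obtain ⟨τ, hτ, rfl⟩ := Finset.mem_image.mp hσ
        have e' : (f.symm (τ ^ 2) : G) = 1 := Subtype.ext e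
        exact (Finset.mem_filter.mp hτ).2.2
          (f.symm.injective (e'.trans (map_one f.symm).symm))
      · rw [smul_eq_mul]
        have := squares_four
        omega
    · intro h6
      have : S = ∅ := by
        refine Finset.eq_empty_of_forall_notMem fun x hx => ?_
        obtain ⟨g, hgG, -, h⟩ := h6 x hx
        have := hsmall ⟨g, hgG⟩
        rw [Subgroup.orderOf_mk] at this
        omega
      subst this; simp
  | pgl A h hA =>
    refine absurd ?_ (hconj h)
    rw [hA]
    refine ⟨aff (1 : Aˣ) (1 : A), ?_⟩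
    rw [aff, aff, ProjGenLinGroup.map_mk]
    congr 1
    apply Units.ext
    ext i j
    fin_cases i <;> fin_cases j <;> simp [affGL]
  | psl A _ h hA =>
    refine absurd ?_ (hconj h)
    rw [hA]
    refine ⟨(⟨Matrix.of ![![(1 : A), 1], ![0, 1]], by simp [det_fin_two]⟩ :
      Matrix.SpecialLinearGroup (Fin 2) A), ?_⟩
    rw [aff]
    simp only [Matrix.SpecialLinearGroup.toPGL, MonoidHom.comp_apply, ProjGenLinGroup.map_mk]
    refine congrArg ProjGenLinGroup.mk ?_
    apply Units.ext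
    ext i j
    fin_cases i <;> fin_cases j <;> simp [affGL, Matrix.SpecialLinearGroup.toGL]

end CfsgLib.LocalEvenB.PGL2Tame
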