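import Cfsg.Prelude.Def_Transfer
import Cfsg.Agent.Lib.LocalEvenB.PGL2Tame

/-!
# Extraspecial Sylow subgroups of order `p³`: tori on the elementary abelian subgroups of order `p²`
-/

set_option autoImplicit false
set_option linter.unusedSectionVars false
set_option linter.style.haveILetI false

namespace CfsgLib.LocalEvenB.CubeLines

variable {G : Type*} [Group G] {p : ℕ} [hp : Fact p.Prime]

theorem pow_val_add {x : G} (hx : x ^ p = 1) (i j : ZMod p) :
    x ^ (i + j).val = x ^ i.val * x ^ j.val := by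
  rw [← pow_add, ZMod.val_add, ← pow_eq_pow_mod _ hx]

theorem pow_val_natCast {x : G} (hx : x ^ p = 1) (n : ℕ) : x ^ (n : ZMod p).val = x ^ n := by
  rw [ZMod.val_natCast, ← pow_eq_pow_mod _ hx]

theorem natCast_eq_of_pow_eq {x : G} (hx : x ^ p = 1) (hx1 : x ≠ 1) {m n : ℕ} (h : x ^ m = x ^ n) :
    (m : ZMod p) = (n : ZMod p) := by
  have ho : orderOf x = p := orderOf_eq_prime hx hx1
  rw [ZMod.natCast_eq_natCast_iff, ← ho]
  exact pow_eq_pow_iff_modEq.mp h

/-- coordinates on `⟨z, a⟩` -/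
def pr (z a : G) (v : ZMod p × ZMod p) : G := z ^ v.1.val * a ^ v.2.val

/-- the linear map `f` is induced by conjugation -/
def Realises (z a : G) (f : ZMod p × ZMod p → ZMod p × ZMod p) : Prop :=
  ∃ g : G, ∀ v, g * pr z a v * g⁻¹ = pr z a (f v)

/-- upper transvection -/
def up (s : ZMod p) : ZMod p × ZMod p → ZMod p × ZMod p := fun v => (v.1 + s * v.2, v.2)

/-- lower transvection -/
def low (s : ZMod p) : ZMod p × ZMod p → ZMod p × ZMod p := fun v => (v.1, v.2 + s * v.1)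

/-- all transvections with respect to `z, a` are realised -/
def UL (p : ℕ) [Fact p.Prime] (z a : G) : Prop :=
  ∀ s : ZMod p, Realises z a (up s) ∧ Realises z a (low s)

theorem realises_comp {z a : G} {f f' : ZMod p × ZMod p → ZMod p × ZMod p} (h : Realises z a f)
    (h' : Realises z a f') : Realises z a (f ∘ f') := by
  obtain ⟨g, hg⟩ := h
  obtain ⟨g', hg'⟩ := h'
  refine ⟨g * g', fun v => ?_⟩
  rw [Function.comp_apply, ← hg, ← hg']
  group

/-- hypotheses on a commuting pair of elements of order dividing `p` -/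
structure Pair (p : ℕ) (z a : G) : Prop where
  hz : z ^ p = 1
  ha : a ^ p = 1
  hc : Commute z a

theorem pr_one_zero {z a : G} : pr z a ((1 : ZMod p), (0 : ZMod p)) = z := by
  simp [pr, ZMod.val_one]

theorem pr_zero_one {z a : G} : pr z a ((0 : ZMod p), (1 : ZMod p)) = a := by
  simp [pr, ZMod.val_one]

theorem pr_add {z a : G} (h : Pair p z a) (v w : ZMod p × ZMod p) :
    pr z a (v + w) = pr z a v * pr z a w := by
  unfold pr
  rw [Prod.fst_add, Prod.snd_add, pow_val_add h.hz, pow_val_add h.ha]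
  have h' : Commute (z ^ w.1.val) (a ^ v.2.val) := h.hc.pow_pow _ _
  calc z ^ v.1.val * z ^ w.1.val * (a ^ v.2.val * a ^ w.2.val)
      = z ^ v.1.val * (z ^ w.1.val * a ^ v.2.val) * a ^ w.2.val := by group
    _ = z ^ v.1.val * (a ^ v.2.val * z ^ w.1.val) * a ^ w.2.val := by rw [h'.eq]
    _ = z ^ v.1.val * a ^ v.2.val * (z ^ w.1.val * a ^ w.2.val) := by group

theorem pr_pow {z a : G} (h : Pair p z a) (v : ZMod p × ZMod p) (n : ℕ) :
    pr z a v ^ n = pr z a ((n : ZMod p) * v.1, (n : ZMod p) * v.2) := by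
  induction n with
  | zero => simp [pr]
  | succ n ih =>
    rw [pow_succ, ih, ← pr_add h]
    congr 1
    push_cast
    ext <;> simp [add_mul]

theorem conj_pr {z a g : G} (h : Pair p z a) {u w : ZMod p × ZMod p}
    (hu : g * z * g⁻¹ = pr z a u) (hw : g * a * g⁻¹ = pr z a w) (v : ZMod p × ZMod p) :
    g * pr z a v * g⁻¹ = pr z a (v.1 * u.1 + v.2 * w.1, v.1 * u.2 + v.2 * w.2) := by
  have e : g * pr z a v * g⁻¹ = (g * z * g⁻¹) ^ v.1.val * (g * a * g⁻¹) ^ v.2.val := by
    rw [conj_pow, conj_pow, pr]; group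
  rw [e, hu, hw, pr_pow h, pr_pow h, ← pr_add h, ZMod.natCast_zmod_val, ZMod.natCast_zmod_val]
  rfl

theorem realises_up_of {z a g : G} (h : Pair p z a) {c : ZMod p} (hc : c ≠ 0)
    (h1 : g * z * g⁻¹ = z) (h2 : g * a * g⁻¹ = pr z a (c, 1)) (s : ZMod p) :
    Realises z a (up s) := by
  have hg : Realises z a (up c) := ⟨g, fun v => by
    rw [conj_pr h (u := (1, 0)) (w := (c, 1)) (by rw [h1, pr_one_zero]) h2 v]
    congr 1
    simp [up, mul_comm c]⟩
  have hn : ∀ n : ℕ, Realises z a (up ((n : ZMod p) * c)) := by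
    intro n
    induction n with
    | zero => exact ⟨1, fun v => by simp [up]⟩
    | succ n ih =>
      have := realises_comp hg ih
      have e : up c ∘ up ((n : ZMod p) * c) = up (((n + 1 : ℕ) : ZMod p) * c) := by
        funext v
        refine Prod.ext ?_ rfl
        simp only [Function.comp_apply, up]
        push_cast
        ring
      rwa [e] at this
  have := hn (s / c).val
  rwa [ZMod.natCast_zmod_val, div_mul_cancel₀ _ hc] at this

theorem realises_low_of {z a g : G} (h : Pair p z a) {c : ZMod p} (hc : c ≠ 0)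
    (h1 : g * z * g⁻¹ = pr z a (1, c)) (h2 : g * a * g⁻¹ = a) (s : ZMod p) :
    Realises z a (low s) := by
  have hg : Realises z a (low c) := ⟨g, fun v => by
    rw [conj_pr h (u := (1, c)) (w := (0, 1)) h1 (by rw [h2, pr_zero_one]) v]
    congr 1
    simp [low, mul_comm c, add_comm]⟩
  have hn : ∀ n : ℕ, Realises z a (low ((n : ZMod p) * c)) := by
    intro n
    induction n with
    | zero => exact ⟨1, fun v => by simp [low]⟩
    | succ n ih =>
      have := realises_comp hg ih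
      have e : low c ∘ low ((n : ZMod p) * c) = low (((n + 1 : ℕ) : ZMod p) * c) := by
        funext v
        refine Prod.ext rfl ?_
        simp only [Function.comp_apply, low]
        push_cast
        ring
      rwa [e] at this
  have := hn (s / c).val
  rwa [ZMod.natCast_zmod_val, div_mul_cancel₀ _ hc] at this

theorem torus {z a : G} (h : UL p z a) {t : ZMod p} (ht : t ≠ 0) :
    ∃ g : G, g * z * g⁻¹ = z ^ t.val ∧ g * a * g⁻¹ = a ^ t⁻¹.val := by
  set w : ZMod p → ZMod p × ZMod p → ZMod p × ZMod p := fun r => up r ∘ low (-r⁻¹) ∘ up r with hw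
  have hwR : ∀ r, Realises z a (w r) := fun r =>
    realises_comp (h r).1 (realises_comp (h _).2 (h r).1)
  obtain ⟨g, hg⟩ := realises_comp (hwR t) (hwR (-1))
  have e1 : w t (w (-1) (1, 0)) = (t, 0) := by
    simp only [hw, Function.comp_apply, up, low]
    refine Prod.ext ?_ ?_ <;> field_simp <;> ring
  have e2 : w t (w (-1) (0, 1)) = (0, t⁻¹) := by
    simp only [hw, Function.comp_apply, up, low]
    refine Prod.ext ?_ ?_ <;> field_simp <;> ring
  refine ⟨g, ?_, ?_⟩
  · have := hg (1, 0)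
    rw [pr_one_zero, Function.comp_apply, e1] at this
    simpa [pr] using this
  · have := hg (0, 1)
    rw [pr_zero_one, Function.comp_apply, e2] at this
    simpa [pr] using this

variable [Finite G]

/-- An extraspecial Sylow subgroup of order `p³` and exponent `p`, centre `⟨z⟩`. -/
structure Cube (p : ℕ) (P : Sylow p G) (z : G) : Prop where
  card : Nat.card P = p ^ 3
  pow : ∀ u ∈ (P : Subgroup G), u ^ p = 1
  mem : z ∈ (P : Subgroup G)
  ne : z ≠ 1
  cent : ∀ u ∈ (P : Subgroup G), Commute u z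
  comm : ∀ u ∈ (P : Subgroup G), ∀ w ∈ (P : Subgroup G), ∃ k : ℕ, u * w * u⁻¹ = z ^ k * w
  nonab : ∀ u ∈ (P : Subgroup G), u ∉ Subgroup.zpowers z → ∃ w ∈ (P : Subgroup G), ¬ Commute u w

theorem exists_cube (P : Sylow p G) (hE : Cfsg.IsExtraspecial p ↥P) (hcard : Nat.card P = p ^ 3)
    (hexp : Monoid.exponent ↥P = p) : ∃ z, Cube p P z := by
  obtain ⟨⟨-, -, hC⟩, hZ⟩ := hE
  haveI : IsCyclic (Subgroup.center ↥P) := isCyclic_of_prime_card hZ
  obtain ⟨⟨z, hzc⟩, hgen⟩ := IsCyclic.exists_generator (α := Subgroup.center ↥P)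
  have hzp : Subgroup.center ↥P = Subgroup.zpowers z := by
    refine le_antisymm (fun u hu => ?_) (Subgroup.zpowers_le.mpr hzc)
    obtain ⟨k, hk⟩ := Subgroup.mem_zpowers_iff.mp (hgen ⟨u, hu⟩)
    exact Subgroup.mem_zpowers_iff.mpr ⟨k, congrArg Subtype.val hk⟩
  have hpow : ∀ u ∈ (P : Subgroup G), u ^ p = 1 := by
    intro u hu
    have := Monoid.pow_exponent_eq_one (⟨u, hu⟩ : (P : Subgroup G))
    rw [show Monoid.exponent ↥(P : Subgroup G) = p from hexp] at this
    exact congrArg Subtype.val this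
  refine ⟨(z : G), hcard, hpow, z.2, ?_, ?_, ?_, ?_⟩
  · intro h
    have h1 : z = 1 := Subtype.ext h
    rw [hzp, Nat.card_zpowers, h1, orderOf_one] at hZ
    exact hp.out.one_lt.ne hZ
  · intro u hu
    exact congrArg Subtype.val (Subgroup.mem_center_iff.mp hzc ⟨u, hu⟩)
  · intro u hu w hw
    have hm : (⟨u, hu⟩ : (P : Subgroup G)) * ⟨w, hw⟩ * ⟨u, hu⟩⁻¹ * ⟨w, hw⟩⁻¹ ∈ Subgroup.zpowers z := by
      rw [← hzp, ← hC, ← commutatorElement_def]
      exact Subgroup.commutator_mem_commutator (Subgroup.mem_top _) (Subgroup.mem_top _)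
    rw [← mem_powers_iff_mem_zpowers, Submonoid.mem_powers_iff] at hm
    obtain ⟨k, hk⟩ := hm
    refine ⟨k, ?_⟩
    have := congrArg Subtype.val hk
    simp only [SubmonoidClass.coe_pow, Subgroup.coe_mul, InvMemClass.coe_inv] at this
    rw [this]
    group
  · intro u hu hun
    by_contra h
    push Not at h
    apply hun
    have : (⟨u, hu⟩ : (P : Subgroup G)) ∈ Subgroup.center ↥P :=
      Subgroup.mem_center_iff.mpr fun w => Subtype.ext (h w w.2).eq.symm
    rw [hzp, Subgroup.mem_zpowers_iff] at this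
    obtain ⟨k, hk⟩ := this
    exact Subgroup.mem_zpowers_iff.mpr ⟨k, congrArg Subtype.val hk⟩

namespace Cube

variable {P : Sylow p G} {z : G} (C : Cube p P z)
include C

theorem pair {a : G} (ha : a ∈ (P : Subgroup G)) : Pair p z a :=
  ⟨C.pow z C.mem, C.pow a ha, (C.cent a ha).symm⟩

theorem zpowers_iff {u : G} :
    u ∈ Subgroup.zpowers z ↔ ∃ k : ℕ, z ^ k = u := by
  rw [← mem_powers_iff_mem_zpowers, Submonoid.mem_powers_iff]

theorem mem_of_zpowers {u : G} (hu : u ∈ Subgroup.zpowers z) : u ∈ (P : Subgroup G) :=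
  Subgroup.zpowers_le.mpr C.mem hu

/-- a partner of `a` -/
theorem exists_partner {a : G} (ha : a ∈ (P : Subgroup G)) (han : a ∉ Subgroup.zpowers z) :
    ∃ b ∈ (P : Subgroup G), ∃ k : ℕ, b * a * b⁻¹ = z ^ k * a ∧ (k : ZMod p) ≠ 0 := by
  obtain ⟨b, hb, hab⟩ := C.nonab a ha han
  obtain ⟨k, hk⟩ := C.comm b hb a ha
  refine ⟨b, hb, k, hk, fun h => hab ?_⟩
  have : z ^ k = 1 := by
    rw [← pow_val_natCast (C.pow z C.mem) k, h, ZMod.val_zero, pow_zero]
  rw [this, one_mul] at hk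
  exact (mul_inv_eq_iff_eq_mul.mp hk).symm

theorem exists_shift {a : G} (ha : a ∈ (P : Subgroup G)) (han : a ∉ Subgroup.zpowers z)
    (c : ZMod p) : ∃ b ∈ (P : Subgroup G), b * a * b⁻¹ = z ^ c.val * a := by
  obtain ⟨b, hb, k, hk, hk0⟩ := C.exists_partner ha han
  obtain ⟨m, hm⟩ : ∃ m : ℕ, (m : ZMod p) * (k : ZMod p) = c :=
    ⟨(c / (k : ZMod p)).val, by rw [ZMod.natCast_zmod_val, div_mul_cancel₀ _ hk0]⟩
  refine ⟨b ^ m, Subgroup.pow_mem _ hb m, ?_⟩
  have hn : ∀ n : ℕ, b ^ n * a * (b ^ n)⁻¹ = z ^ (n * k) * a := by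
    intro n
    induction n with
    | zero => simp
    | succ n ih =>
      calc b ^ (n + 1) * a * (b ^ (n + 1))⁻¹ = b * (b ^ n * a * (b ^ n)⁻¹) * b⁻¹ := by
            rw [pow_succ']; group
        _ = (b * z ^ (n * k)) * a * b⁻¹ := by rw [ih]; group
        _ = z ^ (n * k) * (b * a * b⁻¹) := by rw [((C.cent b hb).pow_right _).eq]; group
        _ = z ^ ((n + 1) * k) * a := by rw [hk, ← mul_assoc, ← pow_add]; ring_nf
  rw [hn, ← pow_val_natCast (C.pow z C.mem) (m * k), Nat.cast_mul, hm]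

theorem zpowers_of_normalizer {g : G} (hg : g ∈ Subgroup.normalizer (P : Set G)) :
    g * z * g⁻¹ ∈ Subgroup.zpowers z := by
  by_contra h
  have hm : g * z * g⁻¹ ∈ (P : Subgroup G) := (Subgroup.mem_normalizer_iff.mp hg z).mp C.mem
  obtain ⟨w, hw, hn⟩ := C.nonab _ hm h
  have hw' : g⁻¹ * w * g ∈ (P : Subgroup G) := by
    apply (Subgroup.mem_normalizer_iff.mp hg _).mpr
    convert hw using 1
    group
  apply hn
  have := (C.cent _ hw').eq
  calc g * z * g⁻¹ * w = g * (z * (g⁻¹ * w * g)) * g⁻¹ := by group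
    _ = g * ((g⁻¹ * w * g) * z) * g⁻¹ := by rw [this]
    _ = w * (g * z * g⁻¹) := by group

/-- `torus` inside the normaliser of `P` -/
theorem torus_normalizer {a : G} (ha : a ∈ (P : Subgroup G)) (han : a ∉ Subgroup.zpowers z)
    (hUL : UL p z a) {t : ZMod p} (ht : t ≠ 0) :
    ∃ g ∈ Subgroup.normalizer (P : Set G),
      g * z * g⁻¹ = z ^ t.val ∧ g * a * g⁻¹ = a ^ t⁻¹.val := by
  obtain ⟨g, hgz, hga⟩ := torus hUL ht
  have hz := C.pow z C.mem
  let M : Subgroup G :=
    { carrier := {u | u * z * u⁻¹ = z ∧ ∃ k : ℕ, u * a * u⁻¹ = z ^ k * a}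
      one_mem' := ⟨by simp, 0, by simp⟩
      mul_mem' := by
        rintro u w ⟨hu, k, hk⟩ ⟨hw, l, hl⟩
        refine ⟨?_, l + k, ?_⟩
        · calc u * w * z * (u * w)⁻¹ = u * (w * z * w⁻¹) * u⁻¹ := by group
            _ = z := by rw [hw, hu]
        · calc u * w * a * (u * w)⁻¹ = u * (w * a * w⁻¹) * u⁻¹ := by group
            _ = (u * z ^ l * u⁻¹) * (u * a * u⁻¹) := by rw [hl]; group
            _ = z ^ (l + k) * a := by rw [← conj_pow, hu, hk, pow_add, mul_assoc]
      inv_mem' := by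
        rintro u ⟨hu, k, hk⟩
        have hu' : u⁻¹ * z * u⁻¹⁻¹ = z := by
          conv_lhs => rw [← hu]
          group
        refine ⟨hu', (-(k : ZMod p)).val, ?_⟩
        have e : z ^ (-(k : ZMod p)).val * z ^ k = 1 := by
          rw [← pow_val_natCast hz k, ← pow_val_add hz, neg_add_cancel, ZMod.val_zero, pow_zero]
        calc u⁻¹ * a * u⁻¹⁻¹ = u⁻¹ * ((z ^ (-(k : ZMod p)).val * z ^ k) * a) * u := by
              rw [e, inv_inv, one_mul]
          _ = u⁻¹ * (z ^ (-(k : ZMod p)).val * (u * a * u⁻¹)) * u := by rw [hk]; group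
          _ = (u⁻¹ * z ^ (-(k : ZMod p)).val * u⁻¹⁻¹) * a := by group
          _ = z ^ (-(k : ZMod p)).val * a := by rw [← conj_pow, hu'] }
  have hPM : (P : Subgroup G) ≤ M := fun u hu => ⟨by
    rw [(C.cent u hu).eq, mul_inv_cancel_right], C.comm u hu a ha⟩
  have hat : g * a ^ t.val * g⁻¹ = a := by
    rw [← conj_pow, hga, ← pow_mul, ← pow_val_natCast (C.pow a ha) (t⁻¹.val * t.val), Nat.cast_mul,
      ZMod.natCast_zmod_val, ZMod.natCast_zmod_val, inv_mul_cancel₀ ht, ZMod.val_one, pow_one]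
  have hgPM : ((g • P : Sylow p G) : Subgroup G) ≤ M := by
    intro u hu
    rw [Sylow.smul_def, Sylow.pointwise_smul_def] at hu
    obtain ⟨y, hy, rfl⟩ := hu
    change (g * y * g⁻¹) * z * (g * y * g⁻¹)⁻¹ = z ∧ ∃ k : ℕ, (g * y * g⁻¹) * a * (g * y * g⁻¹)⁻¹ = z ^ k * a
    constructor
    · -- `g⁻¹zg` is a power of `z`
      have e : g⁻¹ * z * g = z ^ t⁻¹.val := by
        have : g * z ^ t⁻¹.val * g⁻¹ = z := by
          rw [← conj_pow, hgz, ← pow_mul, ← pow_val_natCast hz (t.val * t⁻¹.val), Nat.cast_mul,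
            ZMod.natCast_zmod_val, ZMod.natCast_zmod_val, mul_inv_cancel₀ ht, ZMod.val_one, pow_one]
        conv_lhs => rw [← this]
        group
      calc (g * y * g⁻¹) * z * (g * y * g⁻¹)⁻¹ = g * (y * (g⁻¹ * z * g) * y⁻¹) * g⁻¹ := by group
        _ = g * (z ^ t⁻¹.val) * g⁻¹ := by
          rw [e, ((C.cent y hy).pow_right _).eq, mul_inv_cancel_right]
        _ = z := by rw [← e]; group
    · obtain ⟨k, hk⟩ := C.comm y hy (a ^ t.val) (Subgroup.pow_mem _ ha _)
      refine ⟨t.val * k, ?_⟩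
      calc (g * y * g⁻¹) * a * (g * y * g⁻¹)⁻¹
          = (g * y * g⁻¹) * (g * a ^ t.val * g⁻¹) * (g * y * g⁻¹)⁻¹ := by rw [hat]
        _ = g * (y * a ^ t.val * y⁻¹) * g⁻¹ := by group
        _ = (g * z ^ k * g⁻¹) * (g * a ^ t.val * g⁻¹) := by rw [hk]; group
        _ = z ^ (t.val * k) * a := by rw [hat, ← conj_pow, hgz, ← pow_mul]
  obtain ⟨⟨m, hmM⟩, hm⟩ := MulAction.exists_smul_eq M (P.subtype hPM) ((g • P).subtype hgPM)
  have hmP : ((m • P : Sylow p G) : Subgroup G) = ((g • P : Sylow p G) : Subgroup G) := by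
    have hle : ((m • P : Sylow p G) : Subgroup G) ≤ M := by
      intro u hu
      rw [Sylow.smul_def, Sylow.pointwise_smul_def] at hu
      obtain ⟨y, hy, rfl⟩ := hu
      exact M.mul_mem (M.mul_mem hmM (hPM hy)) (M.inv_mem hmM)
    rw [Sylow.smul_subtype hPM] at hm
    exact congrArg Sylow.toSubgroup (Sylow.subtype_injective hm)
  obtain ⟨hmz, k, hmk⟩ := hmM
  obtain ⟨b, hb, hba⟩ := C.exists_shift ha han (-(k : ZMod p))
  have hm'a : (m * b) * a * (m * b)⁻¹ = a := by
    calc (m * b) * a * (m * b)⁻¹ = m * (b * a * b⁻¹) * m⁻¹ := by group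
      _ = (m * z ^ (-(k : ZMod p)).val * m⁻¹) * (m * a * m⁻¹) := by rw [hba]; group
      _ = (z ^ (-(k : ZMod p)).val * z ^ k) * a := by rw [← conj_pow, hmz, hmk, mul_assoc]
      _ = a := by
        rw [← pow_val_natCast hz k, ← pow_val_add hz, neg_add_cancel, ZMod.val_zero, pow_zero,
          one_mul]
  have hm'z : (m * b) * z * (m * b)⁻¹ = z := by
    calc (m * b) * z * (m * b)⁻¹ = m * (b * z * b⁻¹) * m⁻¹ := by group
      _ = z := by rw [(C.cent b hb).eq, mul_inv_cancel_right, hmz]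
  refine ⟨(m * b)⁻¹ * g, ?_, ?_, ?_⟩
  · rw [← Sylow.smul_eq_iff_mem_normalizer]
    have hbP : b • P = P := Sylow.smul_eq_iff_mem_normalizer.mpr (Subgroup.le_normalizer hb)
    rw [mul_smul, inv_smul_eq_iff, mul_smul, hbP]
    exact (Sylow.ext hmP).symm
  · calc (m * b)⁻¹ * g * z * ((m * b)⁻¹ * g)⁻¹ = (m * b)⁻¹ * (g * z * g⁻¹) * (m * b) := by group
      _ = (m * b)⁻¹ * ((m * b) * z * (m * b)⁻¹) ^ t.val * (m * b) := by rw [hgz, hm'z]
      _ = z ^ t.val := by rw [conj_pow]; group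
  · calc (m * b)⁻¹ * g * a * ((m * b)⁻¹ * g)⁻¹ = (m * b)⁻¹ * (g * a * g⁻¹) * (m * b) := by group
      _ = (m * b)⁻¹ * ((m * b) * a * (m * b)⁻¹) ^ t⁻¹.val * (m * b) := by rw [hga, hm'a]
      _ = a ^ t⁻¹.val := by rw [conj_pow]; group

end Cube

end CfsgLib.LocalEvenB.CubeLines
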