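import Cfsg.Agent.Lib.LocalEvenB.CubeLines

/-!
# The projective action of `N(P)` on `P/Z(P)` for an extraspecial Sylow subgroup of order `p³`
-/

set_option autoImplicit false
set_option linter.unusedSectionVars false
set_option linter.style.haveILetI false

namespace CfsgLib.LocalEvenB.CubeLines

open Matrix
open scoped CfsgLib.Classical.Dickson

variable {G : Type*} [Group G] [Finite G] {p : ℕ} [hp : Fact p.Prime]

theorem exists_addEquiv_fin_two' {k : Type*} [AddCommGroup k] [Finite k] [Module (ZMod p) k]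
    (hcard : Nat.card k = p ^ 2) : Nonempty (k ≃+ (Fin 2 → ZMod p)) := by
  haveI : Module.Finite (ZMod p) k := Module.Finite.of_finite
  have hrank : Module.finrank (ZMod p) k = 2 := by
    have := FiniteField.pow_finrank_eq_natCard p k
    rw [hcard] at this
    exact Nat.pow_right_injective hp.out.two_le this
  have b := Module.finBasisOfFinrankEq (ZMod p) k hrank
  exact ⟨b.equivFun.toAddEquiv⟩

theorem exists_addEquiv_fin_two {k : Type*} [AddCommGroup k] [Finite k]
    (h0 : ∀ q : k, p • q = 0) (hcard : Nat.card k = p ^ 2) :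
    Nonempty (k ≃+ (Fin 2 → ZMod p)) :=
  @exists_addEquiv_fin_two' p hp k _ _ (AddCommGroup.zmodModule h0) hcard

namespace Cube

variable {P : Sylow p G} {z : G} (C : Cube p P z)
include C

/-- coordinates on `P/Z(P)` -/
theorem exists_vec :
    ∃ vec : ↥(P : Subgroup G) → (Fin 2 → ZMod p),
      (∀ u w, vec (u * w) = vec u + vec w) ∧ Function.Surjective vec ∧
      ∀ u : (P : Subgroup G), vec u = 0 ↔ (u : G) ∈ Subgroup.zpowers z := by
  classical
  let Z : Subgroup (P : Subgroup G) := (Subgroup.zpowers z).subgroupOf P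
  have hZ : ∀ u : (P : Subgroup G), u ∈ Z ↔ (u : G) ∈ Subgroup.zpowers z :=
    fun u => Subgroup.mem_subgroupOf
  haveI : Z.Normal := ⟨fun u hu y => by
    rw [hZ] at hu ⊢
    obtain ⟨k, hk⟩ := Cube.zpowers_iff C |>.mp hu
    have e : ((y * u * y⁻¹ : (P : Subgroup G)) : G) = (u : G) := by
      rw [Subgroup.coe_mul, Subgroup.coe_mul, InvMemClass.coe_inv, ← hk,
        ((C.cent _ y.2).pow_right k).eq, mul_inv_cancel_right]
    rw [e]; exact hu⟩
  have hcomm : ∀ q r : (P : Subgroup G) ⧸ Z, q * r = r * q := by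
    intro q r
    induction q using QuotientGroup.induction_on with | H u => ?_
    induction r using QuotientGroup.induction_on with | H w => ?_
    rw [← QuotientGroup.mk_mul, ← QuotientGroup.mk_mul, eq_comm, QuotientGroup.eq, hZ]
    obtain ⟨k, hk⟩ := C.comm _ u.2 _ w.2
    have e : ((((w * u)⁻¹ * (u * w)) : (P : Subgroup G)) : G) = z ^ k := by
      have hc1 : Commute ((w : G) * u) (z ^ k) :=
        ((C.cent _ (Subgroup.mul_mem _ w.2 u.2)).pow_right k)
      have h1 : (u : G) * w = z ^ k * ((w : G) * u) := by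
        rw [← mul_assoc, ← hk]; group
      push_cast
      rw [h1, ← hc1.eq]; group
    rw [e]; exact Subgroup.npow_mem_zpowers _ _
  letI Ab : CommGroup ((P : Subgroup G) ⧸ Z) :=
    { (inferInstance : Group ((P : Subgroup G) ⧸ Z)) with mul_comm := hcomm }
  have hp0 : ∀ q : Additive ((P : Subgroup G) ⧸ Z), p • q = 0 := by
    intro q
    apply Additive.toMul.injective
    rw [toMul_nsmul, toMul_zero]
    generalize Additive.toMul q = r
    induction r using QuotientGroup.induction_on with | H u => ?_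
    rw [← QuotientGroup.mk_pow, show u ^ p = 1 from Subtype.ext (by simpa using C.pow _ u.2)]
    rfl
  have hcard : Nat.card (Additive ((P : Subgroup G) ⧸ Z)) = p ^ 2 := by
    have h1 := Z.card_eq_card_quotient_mul_card_subgroup
    have h2 : Nat.card Z = p := by
      rw [Nat.card_congr (Subgroup.subgroupOfEquivOfLe
        (Subgroup.zpowers_le.mpr C.mem)).toEquiv, Nat.card_zpowers]
      exact orderOf_eq_prime (C.pow z C.mem) C.ne
    rw [show Nat.card ↥(P : Subgroup G) = p ^ 3 from C.card, h2] at h1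
    exact Nat.eq_of_mul_eq_mul_right hp.out.pos (h1.symm.trans (by ring))
  obtain ⟨e⟩ := exists_addEquiv_fin_two (p := p) (k := Additive ((P : Subgroup G) ⧸ Z)) hp0 hcard
  refine ⟨fun u => e (Additive.ofMul (u : (P : Subgroup G) ⧸ Z)), fun u w => ?_, ?_, fun u => ?_⟩
  · show e _ = e _ + e _
    rw [QuotientGroup.mk_mul, ofMul_mul, map_add]
  · intro v
    obtain ⟨u, hu⟩ := QuotientGroup.mk_surjective (Additive.toMul (e.symm v))
    refine ⟨u, ?_⟩
    show e (Additive.ofMul (u : (P : Subgroup G) ⧸ Z)) = v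
    rw [hu]; exact e.apply_symm_apply v
  · rw [EmbeddingLike.map_eq_zero_iff, ofMul_eq_zero, QuotientGroup.eq_one_iff, hZ]

variable (vec : ↥(P : Subgroup G) → (Fin 2 → ZMod p))

theorem vec_pow (hadd : ∀ u w, vec (u * w) = vec u + vec w) (u : (P : Subgroup G)) (n : ℕ) :
    vec (u ^ n) = (n : ZMod p) • vec u := by
  induction n with
  | zero =>
    have := hadd 1 1
    rw [one_mul, left_eq_add] at this
    simp [this]
  | succ n ih => rw [pow_succ, hadd, ih, Nat.cast_add, Nat.cast_one, add_smul, one_smul]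

theorem vec_eq_iff (hadd : ∀ u w, vec (u * w) = vec u + vec w)
    (hker : ∀ u : (P : Subgroup G), vec u = 0 ↔ (u : G) ∈ Subgroup.zpowers z)
    (u w : (P : Subgroup G)) : vec u = vec w ↔ ∃ k : ℕ, (u : G) = (w : G) * z ^ k := by
  have h : vec u = vec w + vec (w⁻¹ * u) := by rw [← hadd, mul_inv_cancel_left]
  constructor
  · intro e
    rw [e, left_eq_add, hker, Cube.zpowers_iff C] at h
    obtain ⟨k, hk⟩ := h
    exact ⟨k, by rw [hk]; push_cast; group⟩
  · rintro ⟨k, hk⟩
    rw [h, add_eq_left, hker]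
    push_cast
    rw [hk, inv_mul_cancel_left]
    exact Subgroup.npow_mem_zpowers _ _

/-- The linear action of `N(P)` on `P/Z(P)`. -/
theorem exists_rep (hadd : ∀ u w, vec (u * w) = vec u + vec w) (hsurj : Function.Surjective vec)
    (hker : ∀ u : (P : Subgroup G), vec u = 0 ↔ (u : G) ∈ Subgroup.zpowers z) :
    ∃ ψ : Subgroup.normalizer (P : Set G) →* GL (Fin 2) (ZMod p),
      (∀ (g : Subgroup.normalizer (P : Set G)) (u w : (P : Subgroup G)),
        (w : G) = (g : G) * u * (g : G)⁻¹ → (ψ g : Matrix (Fin 2) (Fin 2) (ZMod p)) *ᵥ vec u = vec w) ∧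
      ∀ g : Subgroup.normalizer (P : Set G), (g : G) ∈ (P : Subgroup G) → ψ g = 1 := by
  classical
  let cj : Subgroup.normalizer (P : Set G) → ↥(P : Subgroup G) → (P : Subgroup G) := fun g u =>
    ⟨(g : G) * u * (g : G)⁻¹, (Subgroup.mem_normalizer_iff.mp g.2 u).mp u.2⟩
  have cj_mul : ∀ g u w, cj g (u * w) = cj g u * cj g w := fun g u w => Subtype.ext (by
    simp only [cj, Subgroup.coe_mul]; group)
  have cj_comp : ∀ g g' u, cj (g * g') u = cj g (cj g' u) := fun g g' u => Subtype.ext (by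
    simp only [cj, Subgroup.coe_mul]; group)
  have hwd : ∀ g u w, vec u = vec w → vec (cj g u) = vec (cj g w) := by
    intro g u w h
    obtain ⟨k, hk⟩ := (C.vec_eq_iff vec hadd hker u w).mp h
    have hz := C.zpowers_of_normalizer g.2
    obtain ⟨l, hl⟩ := (Cube.zpowers_iff C).mp hz
    refine (C.vec_eq_iff vec hadd hker _ _).mpr ⟨l * k, ?_⟩
    simp only [cj]
    rw [hk, pow_mul, hl, conj_pow]; group
  let s := Function.surjInv hsurj
  have hs : ∀ v, vec (s v) = v := Function.surjInv_eq hsurj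
  let L : Subgroup.normalizer (P : Set G) → Module.End (ZMod p) (Fin 2 → ZMod p) := fun g =>
    AddMonoidHom.toZModLinearMap p (AddMonoidHom.mk' (fun v => vec (cj g (s v))) fun v w => by
      rw [← hadd, ← cj_mul]
      refine hwd g _ _ ?_
      rw [hadd, hs, hs, hs])
  have hL : ∀ g u, L g (vec u) = vec (cj g u) := fun g u => hwd g _ _ (hs _)
  have hL1 : L 1 = 1 := by
    refine LinearMap.ext fun v => ?_
    obtain ⟨u, rfl⟩ := hsurj v
    rw [hL]
    exact congrArg vec (Subtype.ext (by simp [cj]))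
  have hLm : ∀ g g', L (g * g') = L g * L g' := by
    intro g g'
    refine LinearMap.ext fun v => ?_
    obtain ⟨u, rfl⟩ := hsurj v
    rw [Module.End.mul_apply, hL, hL, hL, cj_comp]
  let Lh : Subgroup.normalizer (P : Set G) →* Module.End (ZMod p) (Fin 2 → ZMod p) :=
    { toFun := L, map_one' := hL1, map_mul' := hLm }
  refine ⟨((LinearMap.toMatrixAlgEquiv' (R := ZMod p) (n := Fin 2)).toMonoidHom.comp Lh).toHomUnits,
    fun g u w hw => ?_, fun g hg => ?_⟩
  · show LinearMap.toMatrixAlgEquiv' (L g) *ᵥ vec u = vec w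
    rw [← Matrix.toLinAlgEquiv'_apply, Matrix.toLinAlgEquiv'_toMatrixAlgEquiv', hL]
    exact congrArg vec (Subtype.ext hw.symm)
  · apply Units.ext
    show LinearMap.toMatrixAlgEquiv' (L g) = 1
    rw [show L g = 1 from ?_, map_one]
    refine LinearMap.ext fun v => ?_
    obtain ⟨u, rfl⟩ := hsurj v
    rw [hL]
    obtain ⟨k, hk⟩ := C.comm _ hg _ u.2
    refine (C.vec_eq_iff vec hadd hker _ _).mpr ⟨k, ?_⟩
    show (g : G) * u * (g : G)⁻¹ = (u : G) * z ^ k
    rw [hk, ((C.cent _ u.2).pow_right k).eq]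

end Cube

/-- the point of the projective line defined by a vector -/
noncomputable def pt (v : Fin 2 → ZMod p) (hv : v ≠ 0) : OnePoint (ZMod p) :=
  (OnePoint.equivProjectivization (ZMod p)).symm (Projectivization.mk _ v hv)

theorem pt_eq_iff {v w : Fin 2 → ZMod p} (hv : v ≠ 0) (hw : w ≠ 0) :
    pt v hv = pt w hw ↔ ∃ c : ZMod p, c • w = v := by
  rw [pt, pt, Equiv.apply_eq_iff_eq, Projectivization.mk_eq_mk_iff']

theorem pt_surjective (x : OnePoint (ZMod p)) :
    ∃ (v : Fin 2 → ZMod p) (hv : v ≠ 0), pt v hv = x := by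
  refine ⟨(OnePoint.equivProjectivization (ZMod p) x).rep, Projectivization.rep_nonzero _, ?_⟩
  rw [pt, Projectivization.mk_rep, Equiv.symm_apply_apply]

theorem smul_pt {g : GL (Fin 2) (ZMod p)} {v : Fin 2 → ZMod p} (hv : v ≠ 0) {c : ZMod p}
    (h : (g : Matrix (Fin 2) (Fin 2) (ZMod p)) *ᵥ v = c • v) : g • pt v hv = pt v hv := by
  apply (OnePoint.equivProjectivization (ZMod p)).injective
  rw [OnePoint.equivProjectivization_smul, pt, Equiv.apply_symm_apply, Projectivization.smul_mk,
    Projectivization.mk_eq_mk_iff']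
  exact ⟨c, h.symm⟩

namespace Cube

variable {P : Sylow p G} {z : G} (C : Cube p P z)
include C

/-- The main configuration: a tame subgroup of `PGL₂(p)` in which every `UL` line is fixed by an
element of large order. -/
theorem exists_group :
    ∃ (vec : ↥(P : Subgroup G) → (Fin 2 → ZMod p)) (H : Subgroup (ProjGenLinGroup (Fin 2) (ZMod p))),
      (∀ u w, vec (u * w) = vec u + vec w) ∧ Function.Surjective vec ∧
      (∀ u : (P : Subgroup G), vec u = 0 ↔ (u : G) ∈ Subgroup.zpowers z) ∧
      ¬ p ∣ Nat.card H ∧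
      ∀ (a : (P : Subgroup G)) (hv : vec a ≠ 0), UL p z (a : G) →
        ∃ g ∈ H, g • pt (vec a) hv = pt (vec a) hv ∧ (p - 1) ∣ 3 * orderOf g := by
  classical
  obtain ⟨vec, hadd, hsurj, hker⟩ := C.exists_vec
  obtain ⟨ψ, hψ, hψP⟩ := C.exists_rep vec hadd hsurj hker
  let Γ := (ProjGenLinGroup.mk (n := Fin 2) (R := ZMod p)).comp ψ
  refine ⟨vec, Γ.range, hadd, hsurj, hker, ?_, ?_⟩
  · -- tameness
    rw [← Subgroup.index_ker]
    intro hd
    have hle : (P : Subgroup G).subgroupOf (Subgroup.normalizer (P : Set G)) ≤ Γ.ker := by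
      intro g hg
      rw [MonoidHom.mem_ker, MonoidHom.comp_apply, hψP g (Subgroup.mem_subgroupOf.mp hg), map_one]
    have hd' := hd.trans (Subgroup.index_dvd_of_le hle)
    exact Sylow.not_dvd_index (P.subtype Subgroup.le_normalizer) hd'
  · intro a hv hUL
    have han : (a : G) ∉ Subgroup.zpowers z := fun h => hv ((hker a).mpr h)
    obtain ⟨u, hu⟩ := IsCyclic.exists_generator (α := (ZMod p)ˣ)
    have hou : orderOf u = p - 1 := by
      rw [orderOf_eq_card_of_forall_mem_zpowers hu, Nat.card_units, Nat.card_zmod]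
    set t : ZMod p := (u : ZMod p) with ht
    obtain ⟨g, hgN, hgz, hga⟩ := C.torus_normalizer a.2 han hUL (u.ne_zero : t ≠ 0)
    let g' : Subgroup.normalizer (P : Set G) := ⟨g, hgN⟩
    refine ⟨Γ g', ⟨g', rfl⟩, ?_, ?_⟩
    · show (ProjGenLinGroup.mk (ψ g')) • pt (vec a) hv = pt (vec a) hv
      rw [CfsgLib.Classical.Dickson.mk_smul]
      refine smul_pt hv (c := (t⁻¹.val : ZMod p)) ?_
      rw [hψ g' a (a ^ t⁻¹.val) (by rw [SubmonoidClass.coe_pow]; exact hga.symm),
        C.vec_pow vec hadd]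
    · set n := orderOf (Γ g')
      have h1 : ProjGenLinGroup.mk (ψ (g' ^ n)) = 1 := by
        show Γ (g' ^ n) = 1
        rw [map_pow, pow_orderOf_eq_one]
      rw [ProjGenLinGroup.mk_eq_one, Matrix.GeneralLinearGroup.center_eq_range_scalar] at h1
      obtain ⟨c, hc⟩ := h1
      -- `g^n` is a scalar `c` on `P/Z`
      have hscal : ∀ w : (P : Subgroup G), ∃ k : ℕ,
          g ^ n * (w : G) * (g ^ n)⁻¹ = (w : G) ^ (c : ZMod p).val * z ^ k := by
        intro w
        have hm : g ^ n * (w : G) * (g ^ n)⁻¹ ∈ (P : Subgroup G) :=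
          (Subgroup.mem_normalizer_iff.mp (Subgroup.pow_mem _ hgN n) w).mp w.2
        have := hψ (g' ^ n) w ⟨_, hm⟩ (by simp [g'])
        rw [← hc] at this
        have e : vec ⟨_, hm⟩ = vec (w ^ (c : ZMod p).val) := by
          rw [← this, C.vec_pow vec hadd, ZMod.natCast_zmod_val]
          simp [Matrix.GeneralLinearGroup.scalar]
        obtain ⟨k, hk⟩ := (C.vec_eq_iff vec hadd hker _ _).mp e
        exact ⟨k, by simpa using hk⟩
      have hz := C.pow z C.mem
      have hpa := C.pow (a : G) a.2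
      have hiter : ∀ (x : G) (s : ℕ), g * x * g⁻¹ = x ^ s → ∀ m : ℕ,
          g ^ m * x * (g ^ m)⁻¹ = x ^ (s ^ m) := by
        intro x s hx m
        induction m with
        | zero => simp
        | succ m ih =>
          calc g ^ (m + 1) * x * (g ^ (m + 1))⁻¹ = g * (g ^ m * x * (g ^ m)⁻¹) * g⁻¹ := by
                rw [pow_succ']; group
            _ = x ^ (s ^ (m + 1)) := by rw [ih, ← conj_pow, hx, ← pow_mul, pow_succ']
      -- `c = t⁻ⁿ`
      have hct : (c : ZMod p) = t⁻¹ ^ n := by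
        have hm : g ^ n * (a : G) * (g ^ n)⁻¹ ∈ (P : Subgroup G) :=
          (Subgroup.mem_normalizer_iff.mp (Subgroup.pow_mem _ hgN n) a).mp a.2
        have h2 := hψ (g' ^ n) a ⟨_, hm⟩ (by simp [g'])
        have e : (⟨_, hm⟩ : (P : Subgroup G)) = a ^ (t⁻¹.val ^ n) :=
          Subtype.ext ((hiter (a : G) _ hga n).trans (SubmonoidClass.coe_pow _ _).symm)
        rw [← hc, e, C.vec_pow vec hadd, Nat.cast_pow, ZMod.natCast_zmod_val] at h2
        have h3 : (c : ZMod p) • vec a = (t⁻¹ ^ n) • vec a := by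
          rw [← h2]; simp [Matrix.GeneralLinearGroup.scalar]
        exact smul_left_injective (ZMod p) hv h3
      obtain ⟨b, hb, k, hba, hk0⟩ := C.exists_partner a.2 han
      obtain ⟨ka, hka⟩ := hscal a
      obtain ⟨kb, hkb⟩ := hscal ⟨b, hb⟩
      simp only at hkb
      set cv := (c : ZMod p).val
      -- conjugate the relation `b a b⁻¹ = z^k a` by `g^n`
      have hb' : b * ((a : G) ^ cv) * b⁻¹ = z ^ (k * cv) * (a : G) ^ cv := by
        rw [← conj_pow, hba, ((C.cent _ a.2).pow_right k).symm.mul_pow, ← pow_mul]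
      have hbn : ∀ i : ℕ, b ^ i * ((a : G) ^ cv) * (b ^ i)⁻¹ = z ^ (k * cv * i) * (a : G) ^ cv := by
        intro i
        induction i with
        | zero => simp
        | succ i ih =>
          calc b ^ (i + 1) * ((a : G) ^ cv) * (b ^ (i + 1))⁻¹
              = b * (b ^ i * ((a : G) ^ cv) * (b ^ i)⁻¹) * b⁻¹ := by rw [pow_succ']; group
            _ = (b * z ^ (k * cv * i)) * (a : G) ^ cv * b⁻¹ := by rw [ih]; group
            _ = z ^ (k * cv * i) * (b * (a : G) ^ cv * b⁻¹) := by
                rw [((C.cent b hb).pow_right _).eq]; group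
            _ = z ^ (k * cv * (i + 1)) * (a : G) ^ cv := by
                rw [hb', ← mul_assoc, ← pow_add]; ring_nf
      have hcz : ∀ w ∈ (P : Subgroup G), ∀ m : ℕ, w * z ^ m * w⁻¹ = z ^ m := fun w hw m => by
        rw [((C.cent w hw).pow_right m).eq, mul_inv_cancel_right]
      have hkey : z ^ (t.val ^ n * k) = z ^ (k * cv * cv) := by
        have l1 : g ^ n * (b * a * b⁻¹) * (g ^ n)⁻¹ =
            z ^ (t.val ^ n * k) * ((a : G) ^ cv * z ^ ka) := by
          rw [hba, ← hka, pow_mul, ← hiter z _ hgz n, conj_pow]; group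
        have l2 : g ^ n * (b * a * b⁻¹) * (g ^ n)⁻¹ =
            z ^ (k * cv * cv) * ((a : G) ^ cv * z ^ ka) := by
          calc g ^ n * (b * a * b⁻¹) * (g ^ n)⁻¹
              = (g ^ n * b * (g ^ n)⁻¹) * (g ^ n * a * (g ^ n)⁻¹) * (g ^ n * b * (g ^ n)⁻¹)⁻¹ := by
                group
            _ = b ^ cv * (z ^ kb * ((a : G) ^ cv * z ^ ka) * (z ^ kb)⁻¹) * (b ^ cv)⁻¹ := by
                rw [hkb, hka]; group
            _ = b ^ cv * ((a : G) ^ cv * z ^ ka) * (b ^ cv)⁻¹ := by
                have := hcz ((a : G) ^ cv * z ^ ka)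
                  (Subgroup.mul_mem _ (Subgroup.pow_mem _ a.2 _) (Subgroup.pow_mem _ C.mem _)) kb
                rw [mul_inv_eq_iff_eq_mul] at this
                rw [← this, mul_inv_cancel_right]
            _ = (b ^ cv * (a : G) ^ cv * (b ^ cv)⁻¹) * (b ^ cv * z ^ ka * (b ^ cv)⁻¹) := by group
            _ = z ^ (k * cv * cv) * ((a : G) ^ cv * z ^ ka) := by
                rw [hbn, hcz _ (Subgroup.pow_mem _ hb _), mul_assoc]
        exact mul_right_cancel (l1.symm.trans l2)
      have hcast := natCast_eq_of_pow_eq hz C.ne hkey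
      simp only [cv, Nat.cast_mul, Nat.cast_pow, ZMod.natCast_zmod_val, hct] at hcast
      have h3 : t ^ n = t⁻¹ ^ n * t⁻¹ ^ n := by
        refine mul_right_cancel₀ hk0 ?_
        rw [hcast]; ring
      have hu3 : u ^ (3 * n) = 1 := by
        apply Units.ext
        rw [Units.val_pow_eq_pow_val, Units.val_one, ← ht]
        have h4 : t ^ n * t⁻¹ ^ n = 1 := by
          rw [← mul_pow, mul_inv_cancel₀ (u.ne_zero : t ≠ 0), one_pow]
        calc t ^ (3 * n) = t ^ n * t ^ n * t ^ n := by ring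
          _ = t ^ n * t ^ n * (t⁻¹ ^ n * t⁻¹ ^ n) := by rw [← h3]
          _ = 1 := by linear_combination (t ^ n * t⁻¹ ^ n + 1) * h4
      rw [← hou]
      exact orderOf_dvd_of_pow_eq_one hu3

end Cube

/-- The counting consequences. -/
theorem order_cases (h7 : 7 < p) {k : ℕ} (hk : 0 < k) (h : (p - 1) ∣ 3 * k) :
    4 ≤ k ∧ k ≠ 5 ∧ (13 < p → 6 ≤ k) := by
  have hle := Nat.le_of_dvd (by omega) h
  refine ⟨?_, ?_, fun h13 => ?_⟩
  · have h9 : 11 ≤ p := by
      rcases hp.out.eq_two_or_odd with h | h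
      · omega
      · by_contra hlt
        have : p = 9 := by omega
        subst this
        exact absurd hp.out (by norm_num)
    omega
  · rintro rfl
    have : p - 1 ≤ 15 := hle
    have : p = 11 ∨ p = 13 ∨ p = 8 ∨ p = 9 ∨ p = 10 ∨ p = 12 ∨ p = 14 ∨ p = 15 ∨ p = 16 := by omega
    rcases this with rfl | rfl | rfl | rfl | rfl | rfl | rfl | rfl | rfl
    all_goals first
      | (revert h; decide)
      | exact absurd hp.out (by decide)
  · have h17 : 17 ≤ p := by
      by_contra hlt
      have : p = 14 ∨ p = 15 ∨ p = 16 := by omega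
      rcases this with rfl | rfl | rfl <;> exact absurd hp.out (by norm_num)
    omega

end CfsgLib.LocalEvenB.CubeLines
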