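import Mathlib.GroupTheory.Sylow
import Mathlib.GroupTheory.Nilpotent
import Cfsg.Prelude.Def_DStar
import Cfsg.Prelude.Def_PLocal
import Cfsg.Agent.Lib.Solvable.Cores
import Cfsg.Agent.Lib.Fusion.Basic

/-!
`D*(S)`: the members of its family commute pairwise; the `D*`-theorem.
-/

set_option autoImplicit false
set_option linter.style.haveILetI false
open scoped commutatorElement

namespace CfsgLib.LocalEvenB.DStar

variable {G : Type*} [Group G]

/-- `A` is a member of the `D*`-family of the subgroup `S`, seen inside the ambient group. -/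
def Mem (S A : Subgroup G) : Prop :=
  A ≤ S ∧ IsMulCommutative A ∧ ∀ x ∈ S,
    ⁅⁅A ⊔ Subgroup.zpowers x, A ⊔ Subgroup.zpowers x⁆, A ⊔ Subgroup.zpowers x⁆ = ⊥ →
      ∀ a ∈ A, a * x = x * a

theorem Mem.mono {S M A : Subgroup G} (h : Mem S A) (hMS : M ≤ S) (hAM : A ≤ M) : Mem M A :=
  ⟨hAM, h.2.1, fun x hx => h.2.2 x (hMS hx)⟩

theorem le_centralizer_self_of_comm {A : Subgroup G} (h : IsMulCommutative A) :
    A ≤ Subgroup.centralizer (A : Set G) := fun a ha b hb =>
  congrArg Subtype.val (h.is_comm.comm (⟨b, hb⟩ : A) ⟨a, ha⟩)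

theorem comm_of_le_centralizer_self {A : Subgroup G} (h : A ≤ Subgroup.centralizer (A : Set G)) :
    IsMulCommutative A :=
  ⟨⟨fun a b => Subtype.ext (h b.2 a a.2)⟩⟩

theorem sSup_le_centralizer {s : Set (Subgroup G)}
    (h : ∀ A ∈ s, ∀ B ∈ s, A ≤ Subgroup.centralizer (B : Set G)) :
    sSup s ≤ Subgroup.centralizer ((sSup s : Subgroup G) : Set G) := by
  refine sSup_le fun A hA => Subgroup.le_centralizer_iff.mp (sSup_le fun B hB => h B hB A hA)

theorem commutator_sup_le {A B Z : Subgroup G}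
    (hZ : A ⊔ B ≤ Subgroup.centralizer (Z : Set G))
    (hAA : ⁅A, A⁆ ≤ Z) (hAB : ⁅A, B⁆ ≤ Z) (hBB : ⁅B, B⁆ ≤ Z) :
    ⁅A ⊔ B, A ⊔ B⁆ ≤ Z := by
  have key : ∀ U : Subgroup G, U ≤ A ⊔ B → ⁅A, U⁆ ≤ Z → ⁅B, U⁆ ≤ Z → ⁅A ⊔ B, U⁆ ≤ Z := by
    intro U _ h1 h2
    rw [Subgroup.commutator_le]
    intro w hw u hu
    let L : Subgroup G :=
      { carrier := {w : G | w ∈ A ⊔ B ∧ ∀ u : G, u ∈ U → ⁅w, u⁆ ∈ Z}
        one_mem' := ⟨one_mem _, fun u _ => by simp⟩
        mul_mem' := fun {a b} ha hb => ⟨mul_mem ha.1 hb.1, fun u hu => by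
          have hz : a * ⁅b, u⁆ * a⁻¹ = ⁅b, u⁆ := by rw [← hZ ha.1 _ (hb.2 u hu)]; group
          have : ⁅a * b, u⁆ = (a * ⁅b, u⁆ * a⁻¹) * ⁅a, u⁆ := by
            simp only [commutatorElement_def]; group
          rw [this, hz]; exact mul_mem (hb.2 u hu) (ha.2 u hu)⟩
        inv_mem' := fun {a} ha => ⟨inv_mem ha.1, fun u hu => by
          have hz : a⁻¹ * ⁅a, u⁆⁻¹ * a = ⁅a, u⁆⁻¹ := by
            rw [mul_assoc, hZ ha.1 _ (inv_mem (ha.2 u hu))]; group
          have : ⁅a⁻¹, u⁆ = a⁻¹ * ⁅a, u⁆⁻¹ * a := by simp only [commutatorElement_def]; group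
          rw [this, hz]; exact inv_mem (ha.2 u hu)⟩ }
    have : A ⊔ B ≤ L := sup_le
      (fun a ha => ⟨Subgroup.mem_sup_left ha, fun u hu => h1 (Subgroup.commutator_mem_commutator ha hu)⟩)
      (fun a ha => ⟨Subgroup.mem_sup_right ha, fun u hu => h2 (Subgroup.commutator_mem_commutator ha hu)⟩)
    exact (this hw).2 u hu
  have hA : ⁅A ⊔ B, A⁆ ≤ Z := key A le_sup_left hAA (by rw [Subgroup.commutator_comm]; exact hAB)
  have hB : ⁅A ⊔ B, B⁆ ≤ Z := key B le_sup_right hAB hBB
  exact key (A ⊔ B) le_rfl (by rw [Subgroup.commutator_comm]; exact hA)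
    (by rw [Subgroup.commutator_comm]; exact hB)

/-- Two abelian subgroups normalising one another generate a subgroup of class at most two. -/
theorem class_two {W W' : Subgroup G} (hW : W ≤ Subgroup.centralizer (W : Set G))
    (hW' : W' ≤ Subgroup.centralizer (W' : Set G))
    (h1 : W' ≤ Subgroup.normalizer (W : Set G)) (h2 : W ≤ Subgroup.normalizer (W' : Set G)) :
    ⁅⁅W ⊔ W', W ⊔ W'⁆, W ⊔ W'⁆ = ⊥ := by
  have hZ : W ⊔ W' ≤ Subgroup.centralizer ((W ⊓ W' : Subgroup G) : Set G) :=
    sup_le (fun a ha z hz => hW ha z hz.1) (fun a ha z hz => hW' ha z hz.2)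
  have hWW' : ⁅W, W'⁆ ≤ W ⊓ W' := le_inf (Subgroup.le_normalizer_iff_commutator_le_left.mp h1)
    (Subgroup.commutator_comm W W' ▸ Subgroup.le_normalizer_iff_commutator_le_left.mp h2)
  have h := commutator_sup_le hZ
    ((Subgroup.commutator_eq_bot_iff_le_centralizer.mpr hW).le.trans bot_le) hWW'
    ((Subgroup.commutator_eq_bot_iff_le_centralizer.mpr hW').le.trans bot_le)
  rw [Subgroup.commutator_eq_bot_iff_le_centralizer]
  exact h.trans (Subgroup.le_centralizer_iff.mp hZ)

theorem Mem.conj {S A : Subgroup G} (h : Mem S A) {g : G} (hg : g ∈ Subgroup.normalizer (S : Set G)) :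
    Mem S (A.map (MulAut.conj g).toMonoidHom) := by
  have hS : S.map (MulAut.conj g).toMonoidHom = S := Subgroup.mem_normalizer_iff_map_conj_eq.mp hg
  refine ⟨hS ▸ Subgroup.map_mono h.1, comm_of_le_centralizer_self ?_, ?_⟩
  · rintro _ ⟨a, ha, rfl⟩ _ ⟨b, hb, rfl⟩
    rw [← map_mul, ← map_mul, le_centralizer_self_of_comm h.2.1 ha b hb]
  · intro x hx hxc _ ha'
    obtain ⟨a, ha, rfl⟩ := ha'
    obtain ⟨y, hy, rfl⟩ := hS.ge hx
    rw [← MonoidHom.map_zpowers, ← Subgroup.map_sup, ← Subgroup.map_commutator,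
      ← Subgroup.map_commutator, Subgroup.map_eq_bot_iff_of_injective _ (MulAut.conj g).injective] at hxc
    rw [← map_mul, ← map_mul, h.2.2 y hy hxc a ha]

theorem mem_commute [Finite G] {p : ℕ} [Fact p.Prime] (M : Subgroup G) (hM : IsPGroup p M) :
    ∀ A B : Subgroup G, Mem M A → Mem M B → A ≤ Subgroup.centralizer (B : Set G) := by
  classical
  induction hn : Nat.card M using Nat.strong_induction_on generalizing M with
  | _ n ih =>
  -- every member lies in a normal abelian join of members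
  have hnorm : ∀ A : Subgroup G, Mem M A → ∃ W : Subgroup G, A ≤ W ∧ W ≤ M ∧
      W ≤ Subgroup.centralizer (W : Set G) ∧ M ≤ Subgroup.normalizer (W : Set G) := by
    intro A hA
    let P : Finset (Subgroup G) → Prop := fun D => A ∈ D ∧ (∀ B ∈ D, Mem M B) ∧
      ∀ B ∈ D, ∀ C ∈ D, B ≤ Subgroup.centralizer (C : Set G)
    have hne : Nonempty {D : Finset (Subgroup G) // P D} :=
      ⟨⟨{A}, by simp, by simpa using hA, by simpa using le_centralizer_self_of_comm hA.2.1⟩⟩
    haveI : Fintype (Subgroup G) := Fintype.ofFinite _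
    obtain ⟨⟨D, hAD, hDm, hDc⟩, hmax⟩ :=
      @Finite.exists_max {D : Finset (Subgroup G) // P D} _ _ hne _ (fun D => D.1.card)
    set W := sSup (D : Set (Subgroup G))
    have hWc : W ≤ Subgroup.centralizer (W : Set G) := sSup_le_centralizer hDc
    have hWM : W ≤ M := sSup_le fun B hB => (hDm B hB).1
    refine ⟨W, le_sSup hAD, hWM, hWc, ?_⟩
    by_contra hcon
    set N := M ⊓ Subgroup.normalizer (W : Set G)
    have hNM : N < M := lt_of_le_of_ne inf_le_left fun h => hcon (inf_eq_left.mp h)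
    have hcard : Nat.card N < n := hn ▸ (lt_of_le_of_ne (Subgroup.card_le_of_le hNM.le)
      fun h => hNM.ne (Subgroup.eq_of_le_of_card_ge hNM.le h.ge))
    have hDN : ∀ B ∈ D, B ≤ N := fun B hB =>
      le_inf (hDm B hB).1 ((le_sSup hB : B ≤ W).trans Subgroup.le_normalizer)
    have hmem : ∀ B, Mem M B → B ≤ N → B ∈ D := fun B hB hBN => by
      by_contra hBD
      have hc : ∀ C ∈ D, B ≤ Subgroup.centralizer (C : Set G) ∧
          C ≤ Subgroup.centralizer (B : Set G) := fun C hC => by
        have := ih _ hcard N (hM.to_le hNM.le) rfl B C (hB.mono hNM.le hBN)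
          ((hDm C hC).mono hNM.le (hDN C hC))
        exact ⟨this, Subgroup.le_centralizer_iff.mp this⟩
      have := hmax ⟨insert B D, Finset.mem_insert_of_mem hAD, fun C hC => by
          rcases Finset.mem_insert.mp hC with rfl | hC
          · exact hB
          · exact hDm C hC, fun C hC E hE => by
          rcases Finset.mem_insert.mp hC with hC1 | hC1 <;> rcases Finset.mem_insert.mp hE with hE1 | hE1
          · subst hC1 hE1; exact le_centralizer_self_of_comm hB.2.1
          · subst hC1; exact (hc E hE1).1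
          · subst hE1; exact (hc C hC1).2
          · exact hDc C hC1 E hE1⟩
      simp only [Finset.card_insert_of_notMem hBD] at this
      omega
    haveI := hM.isNilpotent
    have hlt := Group.normalizerCondition_of_isNilpotent (N.subgroupOf M)
      (lt_top_iff_ne_top.mpr fun h => hNM.ne (le_antisymm hNM.le (Subgroup.subgroupOf_eq_top.mp h)))
    obtain ⟨⟨m, hm⟩, hmN, hmnot⟩ := SetLike.exists_of_lt hlt
    have hmN' : ∀ y ∈ N, m * y * m⁻¹ ∈ N := fun y hy =>
      (Subgroup.mem_normalizer_iff.mp hmN ⟨y, hNM.le hy⟩).mp hy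
    refine hmnot (Subgroup.mem_inf.mpr ⟨hm, ?_⟩)
    have hle : W.map (MulAut.conj m).toMonoidHom ≤ W := by
      rw [Subgroup.map_le_iff_le_comap]
      refine sSup_le fun B hB => Subgroup.map_le_iff_le_comap.mp (le_sSup (hmem _
        ((hDm B hB).conj (Subgroup.le_normalizer hm)) ?_))
      rintro _ ⟨y, hy, rfl⟩
      exact hmN' y (hDN B hB hy)
    exact Subgroup.mem_normalizer_iff_map_conj_eq.mpr (Subgroup.eq_of_le_of_card_ge hle
      (by rw [Subgroup.card_map_of_injective (MulAut.conj m).injective]))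
  intro A B hA hB
  obtain ⟨W, hAW, hWM, hWc, hWn⟩ := hnorm A hA
  obtain ⟨W', hBW', hW'M, hW'c, hW'n⟩ := hnorm B hB
  intro a ha b hb
  refine (hA.2.2 b (hB.1 hb) ?_ a ha).symm
  have hle : A ⊔ Subgroup.zpowers b ≤ W ⊔ W' :=
    sup_le_sup hAW (Subgroup.zpowers_le.mpr (hBW' hb))
  rw [eq_bot_iff, ← class_two hWc hW'c (hW'M.trans hWn) (hWM.trans hW'n)]
  exact Subgroup.commutator_mono (Subgroup.commutator_mono hle hle) hle

/-- The join of the family of `S`. -/
def djoin (S : Subgroup G) : Subgroup G := sSup {A | Mem S A}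

theorem djoin_le (S : Subgroup G) : djoin S ≤ S := sSup_le fun _ h => h.1

theorem djoin_mem [Finite G] {p : ℕ} [Fact p.Prime] {S : Subgroup G} (hS : IsPGroup p S) :
    Mem S (djoin S) := by
  refine ⟨djoin_le S, comm_of_le_centralizer_self (sSup_le_centralizer fun A hA B hB =>
    mem_commute S hS A B hA hB), fun x hx hc => ?_⟩
  have key : djoin S ≤ Subgroup.centralizer ({x} : Set G) := sSup_le fun A hA a ha => by
    rw [Subgroup.mem_centralizer_singleton_iff]
    refine hA.2.2 x hx ?_ a ha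
    have hle : A ⊔ Subgroup.zpowers x ≤ djoin S ⊔ Subgroup.zpowers x :=
      sup_le_sup_right (le_sSup (show A ∈ {A | Mem S A} from hA)) _
    rw [eq_bot_iff, ← hc]
    exact Subgroup.commutator_mono (Subgroup.commutator_mono hle hle) hle
  exact fun a ha => Subgroup.mem_centralizer_singleton_iff.mp (key ha)

theorem normalizer_le_djoin [Finite G] (S : Subgroup G) :
    Subgroup.normalizer (S : Set G) ≤ Subgroup.normalizer (djoin S : Set G) := fun g hg => by
  have hle : (djoin S).map (MulAut.conj g).toMonoidHom ≤ djoin S := by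
    rw [Subgroup.map_le_iff_le_comap]
    exact sSup_le fun A hA => Subgroup.map_le_iff_le_comap.mp
      (le_sSup (show _ ∈ {A | Mem S A} from hA.conj hg))
  exact Subgroup.mem_normalizer_iff_map_conj_eq.mpr (Subgroup.eq_of_le_of_card_ge hle
    (by rw [Subgroup.card_map_of_injective (MulAut.conj g).injective]))

theorem mem_iff_family {S : Type*} [Group S] (A : Subgroup S) :
    A ∈ Cfsg.dStarFamily S ↔ Mem ⊤ A := by
  simp [Cfsg.dStarFamily, Mem]

theorem dStar_eq_djoin (S : Type*) [Group S] : Cfsg.dStar S = djoin (⊤ : Subgroup S) := by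
  unfold Cfsg.dStar djoin
  congr 1
  ext A
  exact mem_iff_family A

theorem dStarOf_eq_djoin (S : Subgroup G) : Cfsg.dStarOf S = djoin S := by
  have key : ∀ A : Subgroup S, A ∈ Cfsg.dStarFamily S ↔ Mem S (A.map S.subtype) := by
    intro A
    constructor
    · rintro ⟨h1, h2⟩
      refine ⟨Subgroup.map_subtype_le A, comm_of_le_centralizer_self ?_, ?_⟩
      · rintro _ ⟨a, ha, rfl⟩ _ ⟨b, hb, rfl⟩
        exact congrArg Subtype.val (le_centralizer_self_of_comm h1 ha b hb)
      · intro x hx hc _ ha'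
        obtain ⟨a, ha, rfl⟩ := ha'
        have he : A.map S.subtype ⊔ Subgroup.zpowers x =
            (A ⊔ Subgroup.zpowers ⟨x, hx⟩).map S.subtype := by
          rw [Subgroup.map_sup, MonoidHom.map_zpowers]; rfl
        rw [he, ← Subgroup.map_commutator, ← Subgroup.map_commutator,
          Subgroup.map_eq_bot_iff_of_injective _ S.subtype_injective] at hc
        exact congrArg Subtype.val (h2 ⟨x, hx⟩ hc a ha)
    · rintro ⟨-, h1, h2⟩
      refine ⟨comm_of_le_centralizer_self fun a ha b hb => Subtype.ext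
        (le_centralizer_self_of_comm h1 ⟨a, ha, rfl⟩ b ⟨b, hb, rfl⟩), fun x hc a ha => Subtype.ext ?_⟩
      refine h2 x x.2 ?_ a ⟨a, ha, rfl⟩
      have he : A.map S.subtype ⊔ Subgroup.zpowers (x : G) =
          (A ⊔ Subgroup.zpowers x).map S.subtype := by
        rw [Subgroup.map_sup, MonoidHom.map_zpowers]; rfl
      rw [he, ← Subgroup.map_commutator, ← Subgroup.map_commutator, hc, Subgroup.map_bot]
  apply le_antisymm
  · rw [Cfsg.dStarOf, Cfsg.dStar, Subgroup.map_le_iff_le_comap]
    exact sSup_le fun A hA => Subgroup.map_le_iff_le_comap.mp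
      (le_sSup (show _ ∈ {A | Mem S A} from (key A).mp hA))
  · refine sSup_le fun A hA => ?_
    rw [← Subgroup.map_subgroupOf_eq_of_le hA.1]
    exact Subgroup.map_mono (le_sSup ((key _).mpr (by rwa [Subgroup.map_subgroupOf_eq_of_le hA.1])))

/-- The `D*`-theorem. -/
theorem dStar_normal [Finite G] {p : ℕ} [Fact p.Prime]
    (hc : Subgroup.centralizer (Cfsg.pCore p G : Set G) ≤ Cfsg.pCore p G)
    (hst : ∀ (P : Subgroup G) [P.Normal], IsPGroup p P → Cfsg.IsPStableOn p P) (S : Sylow p G) :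
    (Cfsg.dStarOf (S : Subgroup G)).Normal := by
  rw [dStarOf_eq_djoin]
  set D := djoin (S : Subgroup G)
  set R := Cfsg.pCore p G
  have hRS : R ≤ (S : Subgroup G) := Solvable.Cores.pCore_le_sylow S
  have hD : Mem (S : Subgroup G) D := djoin_mem S.isPGroup'
  have hDn : (S : Subgroup G) ≤ Subgroup.normalizer (D : Set G) :=
    Subgroup.le_normalizer.trans (normalizer_le_djoin _)
  -- stability puts the elements acting quadratically into the kernel of the quotient
  have hquad : ∀ (V : Subgroup G) [V.Normal], IsPGroup p V → ∀ x : G,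
      ⁅⁅V, Subgroup.zpowers x⁆, Subgroup.zpowers x⁆ = ⊥ →
        x ∈ (Cfsg.pCore p (G ⧸ Subgroup.centralizer (V : Set G))).comap
          (QuotientGroup.mk' (Subgroup.centralizer (V : Set G))) := fun V _ hV x hx => hst V hV x hx
  have hDR : D ≤ R := by
    intro a ha
    have hle : (Cfsg.pCore p (G ⧸ Subgroup.centralizer (R : Set G))).comap
        (QuotientGroup.mk' (Subgroup.centralizer (R : Set G))) ≤ R := by
      refine Solvable.Cores.le_pCore
        ((Solvable.Cores.isPGroup_pCore p).comap_of_ker_isPGroup _ ?_)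
      rw [QuotientGroup.ker_mk']
      exact (Solvable.Cores.isPGroup_pCore p).to_le hc
    refine hle (hquad R (Solvable.Cores.isPGroup_pCore p) a ?_)
    have h1 : ⁅R, Subgroup.zpowers a⁆ ≤ D := by
      refine (Subgroup.commutator_mono le_rfl (Subgroup.zpowers_le.mpr ha)).trans ?_
      rw [Subgroup.commutator_comm]
      exact Subgroup.le_normalizer_iff_commutator_le_left.mp (hRS.trans hDn)
    rw [Subgroup.commutator_eq_bot_iff_le_centralizer]
    exact h1.trans ((le_centralizer_self_of_comm hD.2.1).trans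
      (Subgroup.centralizer_le (SetLike.coe_subset_coe.mpr (Subgroup.zpowers_le.mpr ha))))
  set W := Subgroup.normalClosure (D : Set G)
  have hWR : W ≤ R := Subgroup.normalClosure_le_normal hDR
  set C := Subgroup.centralizer (W : Set G)
  haveI : C.Normal := inferInstance
  set K := (Cfsg.pCore p (G ⧸ C)).comap (QuotientGroup.mk' C)
  haveI : K.Normal := inferInstance
  have hCK : C ≤ K := (QuotientGroup.ker_mk' C).ge.trans (Subgroup.ker_le_comap _ _)
  set P := (S : Subgroup G) ⊓ K
  have hPp : IsPGroup p P := S.isPGroup'.to_le inf_le_left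
  obtain ⟨P', hP'⟩ : ∃ P' : Sylow p K, (P' : Subgroup K) = (S : Subgroup G).subgroupOf K := by
    have hp : IsPGroup p ((S : Subgroup G).subgroupOf K) :=
      S.isPGroup'.comap_of_injective _ K.subtype_injective
    have hidx : ¬ p ∣ ((S : Subgroup G).subgroupOf K).index := by
      have := Fusion.Basic.not_dvd_relIndex_of_normal S K
      rwa [Subgroup.inf_relIndex_right] at this
    exact ⟨hp.toSylow hidx, rfl⟩
  have hmapP : (P' : Subgroup K).map K.subtype = P := by
    rw [hP', Subgroup.subgroupOf, Subgroup.map_comap_eq, Subgroup.range_subtype, inf_comm]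
  have hF := Sylow.normalizer_sup_eq_top P'
  rw [hmapP] at hF
  -- `K = C P`
  have hKCP : K ≤ C ⊔ P := by
    have hle : C ⊔ P ≤ K := sup_le hCK inf_le_right
    obtain ⟨k, hk⟩ : ∃ k, C.relIndex K = p ^ k := by
      have hmap : K.map (QuotientGroup.mk' C) = Cfsg.pCore p (G ⧸ C) :=
        Subgroup.map_comap_eq_self_of_surjective (QuotientGroup.mk'_surjective C) _
      have h1 := Subgroup.relIndex_ker K (f := QuotientGroup.mk' C)
      rw [QuotientGroup.ker_mk', hmap] at h1
      exact h1 ▸ (Solvable.Cores.isPGroup_pCore p).exists_card_eq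
    have h2 : ¬ p ∣ P.relIndex K := by
      rw [Subgroup.relIndex, Subgroup.inf_subgroupOf_right, ← hP']
      exact P'.not_dvd_index
    have h3 : (C ⊔ P).relIndex K = 1 :=
      Nat.eq_one_of_dvd_coprimes ((Fact.out : p.Prime).coprime_iff_not_dvd.mpr h2 |>.pow_left k)
        (hk ▸ Subgroup.relIndex_dvd_of_le_left K le_sup_left)
        (Subgroup.relIndex_dvd_of_le_left K le_sup_right)
    exact Subgroup.relIndex_eq_one.mp h3
  have hG : Subgroup.normalizer (P : Set G) ⊔ C = ⊤ := by
    rw [← top_le_iff, ← hF]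
    refine sup_le le_sup_left (hKCP.trans (sup_le le_sup_right ?_))
    exact Subgroup.le_normalizer.trans le_sup_left
  -- the `D*` of `P` is normalised by `N(P)` and contains `W`
  set V := djoin P
  have hV : Mem P V := djoin_mem hPp
  have hDP : D ≤ P := le_inf hD.1 fun a ha => hCK (Subgroup.le_centralizer_iff.mp (show W ≤
      Subgroup.centralizer (Subgroup.zpowers a : Set G) from ?_) (Subgroup.mem_zpowers a))
  · have hWV : W ≤ V := by
      refine (Subgroup.closure_le _).mpr ?_
      intro y hy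
      obtain ⟨d, hd, hdy⟩ := Group.mem_conjugatesOfSet_iff.mp hy
      obtain ⟨g, rfl⟩ := isConj_iff.mp hdy
      have hg : g ∈ Subgroup.normalizer (P : Set G) ⊔ C := hG ▸ Subgroup.mem_top g
      obtain ⟨n, hn, c, hcC, rfl⟩ := Subgroup.mem_sup_of_normal_right.mp hg
      have hcd : c * d * c⁻¹ = d := by
        rw [← hcC d (Subgroup.subset_normalClosure hd)]; group
      have : n * c * d * (n * c)⁻¹ = n * d * n⁻¹ := by
        calc n * c * d * (n * c)⁻¹ = n * (c * d * c⁻¹) * n⁻¹ := by group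
          _ = _ := by rw [hcd]
      rw [this]
      exact le_sSup (show _ ∈ {A | Mem P A} from (hD.mono inf_le_left hDP).conj hn) ⟨d, hd, rfl⟩
    have hVS : Mem (S : Subgroup G) V := by
      refine ⟨hV.1.trans inf_le_left, hV.2.1, fun x hx hxc => ?_⟩
      refine hV.2.2 x (Subgroup.mem_inf.mpr ⟨hx, hquad W ((Solvable.Cores.isPGroup_pCore p).to_le hWR) x ?_⟩) hxc
      rw [eq_bot_iff, ← hxc]
      exact Subgroup.commutator_mono (Subgroup.commutator_mono (hWV.trans le_sup_left) le_sup_right)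
        le_sup_right
    have hWD : W ≤ D := hWV.trans (le_sSup (show V ∈ {A | Mem (S : Subgroup G) A} from hVS))
    have : D = W := le_antisymm Subgroup.le_normalClosure hWD
    rw [this]; infer_instance
  · -- `D` centralises each conjugate of `D`
    refine (Subgroup.closure_le _).mpr fun y hy z hz => ?_
    obtain ⟨d, hd, hdy⟩ := Group.mem_conjugatesOfSet_iff.mp hy
    obtain ⟨g, rfl⟩ := isConj_iff.mp hdy
    have h1 : Mem R D := hD.mono hRS hDR
    have h2 : Mem R (D.map (MulAut.conj g).toMonoidHom) :=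
      h1.conj (by rw [Subgroup.normalizer_eq_top_iff.mpr inferInstance]; exact Subgroup.mem_top g)
    exact mem_commute R (Solvable.Cores.isPGroup_pCore p) _ _ h2 h1 ⟨d, hd, rfl⟩ z
      (Subgroup.zpowers_le.mpr ha hz)

end CfsgLib.LocalEvenB.DStar
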