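import Cfsg.Agent.Lib.LocalEvenB.DStar
import Cfsg.Agent.Lib.Fusion.Thompson

/-!
Replacement for abelian subgroups of largest order; `Z(S) ≤ D*(S) ≤ Z(J(S))`.
-/

set_option autoImplicit false
set_option linter.style.haveILetI false
open scoped commutatorElement

namespace CfsgLib.LocalEvenB.DStarThompson

open Cfsg

variable {G : Type*} [Group G] [Finite G]

theorem comm_sup {A B : Subgroup G} (hA : A ≤ Subgroup.centralizer (A : Set G))
    (hB : B ≤ Subgroup.centralizer (B : Set G)) (hAB : A ≤ Subgroup.centralizer (B : Set G)) :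
    A ⊔ B ≤ Subgroup.centralizer ((A ⊔ B : Subgroup G) : Set G) :=
  sup_le (Subgroup.le_centralizer_iff.mp (sup_le hA (Subgroup.le_centralizer_iff.mp hAB)))
    (Subgroup.le_centralizer_iff.mp (sup_le hAB hB))

theorem centralizer_eq_of_max {A : Subgroup G} (hA : A ∈ maxAbelianSubgroups G) :
    Subgroup.centralizer (A : Set G) = A := by
  have hAc := DStar.le_centralizer_self_of_comm hA.1
  refine le_antisymm (fun x hx => ?_) hAc
  have hz : Subgroup.zpowers x ≤ Subgroup.centralizer (Subgroup.zpowers x : Set G) :=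
    DStar.le_centralizer_self_of_comm inferInstance
  have hab := comm_sup hAc hz (Subgroup.le_centralizer_iff.mp (Subgroup.zpowers_le.mpr hx))
  have heq := Subgroup.eq_of_le_of_card_ge (le_sup_left : A ≤ A ⊔ Subgroup.zpowers x)
    (hA.2 _ (DStar.comm_of_le_centralizer_self hab))
  exact heq ▸ Subgroup.mem_sup_right (Subgroup.mem_zpowers x)

/-- A normal abelian `D` not normalising a largest abelian `A` gives a largest abelian `A*` normalised by
less of `D`... : either `D` normalises `A` or some largest abelian subgroup inside `A(D ∩ N(A))` meets `D` in more. -/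
theorem replacement {p : ℕ} [Fact p.Prime] (hG : IsPGroup p G) {D : Subgroup G} [D.Normal]
    (hD : D ≤ Subgroup.centralizer (D : Set G)) {A : Subgroup G} (hA : A ∈ maxAbelianSubgroups G)
    (hnot : ¬ D ≤ Subgroup.normalizer (A : Set G)) :
    ∃ B ∈ maxAbelianSubgroups G, B ≤ Subgroup.normalizer (A : Set G) ∧
      Nat.card ↥(A ⊓ D) < Nat.card ↥(B ⊓ D) := by
  have hAc := DStar.le_centralizer_self_of_comm hA.1
  set D₀ := D ⊓ Subgroup.normalizer (A : Set G) with hD₀
  set L := D₀ ⊔ A with hL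
  have hLN : L ≤ Subgroup.normalizer (A : Set G) := sup_le inf_le_right Subgroup.le_normalizer
  set K := D ⊔ A with hK
  have hLK : L < K := lt_of_le_of_ne (sup_le_sup_right inf_le_left A) fun e =>
    hnot (le_sup_left.trans (e.symm.le.trans hLN))
  haveI := (hG.to_subgroup K).isNilpotent
  obtain ⟨⟨k, hk⟩, hkN, hkL⟩ := SetLike.exists_of_lt (Group.normalizerCondition_of_isNilpotent
    (L.subgroupOf K) (lt_top_iff_ne_top.mpr fun e => hLK.ne
      (le_antisymm hLK.le (Subgroup.subgroupOf_eq_top.mp e))))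
  obtain ⟨d, hd, a, ha, rfl⟩ := Subgroup.mem_sup_of_normal_left.mp hk
  have hnormL : ∀ z, z ∈ L → d * z * d⁻¹ ∈ L := by
    intro z hz
    have hz' : a⁻¹ * z * a ∈ L :=
      mul_mem (mul_mem (inv_mem (Subgroup.mem_sup_right ha)) hz) (Subgroup.mem_sup_right ha)
    have hz'' := (Subgroup.mem_normalizer_iff.mp hkN ⟨_, hLK.le hz'⟩).mp hz'
    rw [Subgroup.mem_subgroupOf] at hz''
    simpa [mul_assoc] using hz''
  have hdN : d ∉ Subgroup.normalizer (A : Set G) := fun h => hkL (Subgroup.mem_subgroupOf.mpr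
    (Subgroup.mul_mem_sup (Subgroup.mem_inf.mpr ⟨hd, h⟩) ha))
  set A' := A.map (MulAut.conj d).toMonoidHom with hA'
  have hA'L : A' ≤ L := by
    rintro _ ⟨z, hz, rfl⟩
    exact hnormL z (Subgroup.mem_sup_right hz)
  have hAA' : A' ≠ A := fun e => hdN (Subgroup.mem_normalizer_iff_map_conj_eq.mpr e)
  set H := A ⊔ A' with hH
  have hHL : H ≤ L := sup_le le_sup_right hA'L
  have hA'c : A' ≤ Subgroup.centralizer (A' : Set G) := by
    rintro _ ⟨y, hy, rfl⟩ _ ⟨z, hz, rfl⟩
    simp only [MulEquiv.coe_toMonoidHom, MulAut.conj_apply, conj_mul, hAc hy z hz]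
  -- `H = (D ∩ H) A`
  have hHeq : (D ⊓ H) ⊔ A = H := by
    refine le_antisymm (sup_le inf_le_right le_sup_left) fun h hh => ?_
    have hh' := hHL hh
    rw [hL, ← SetLike.mem_coe, Subgroup.coe_mul_of_left_le_normalizer_right _ _
      (inf_le_right : D₀ ≤ Subgroup.normalizer (A : Set G))] at hh'
    obtain ⟨δ, hδ, c, hc, rfl⟩ := Set.mem_mul.mp hh'
    refine Subgroup.mul_mem_sup (Subgroup.mem_inf.mpr ⟨(Subgroup.mem_inf.mp hδ).1, ?_⟩) hc
    have := mul_mem hh (inv_mem (Subgroup.mem_sup_left (T := A') hc))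
    rwa [mul_inv_cancel_right] at this
  set B := (D ⊓ H) ⊔ (A ⊓ A') with hB
  have hI : A ⊓ A' ≤ Subgroup.centralizer (H : Set G) :=
    Subgroup.le_centralizer_iff.mp (sup_le
      (hAc.trans (Subgroup.centralizer_le inf_le_left))
      (hA'c.trans (Subgroup.centralizer_le inf_le_right)))
  have hBc : B ≤ Subgroup.centralizer (B : Set G) :=
    comm_sup (inf_le_left.trans (hD.trans (Subgroup.centralizer_le inf_le_left)))
      ((inf_le_left.trans hAc).trans (Subgroup.centralizer_le inf_le_left))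
      (Subgroup.le_centralizer_iff.mp (hI.trans (Subgroup.centralizer_le inf_le_right)))
  have hBab : IsMulCommutative B := DStar.comm_of_le_centralizer_self hBc
  have hBN : B ≤ Subgroup.normalizer (A : Set G) :=
    (sup_le (inf_le_right.trans hHL) ((inf_le_left.trans le_sup_left).trans hHL)).trans hLN
  have e1 := Fusion.Thompson.card_sup_mul_card_inf (N := D ⊓ H) (K := A ⊓ A')
    ((hI.trans (Subgroup.centralizer_le inf_le_right)).trans (Subgroup.centralizer_le_normalizer _))
  have hAN : A ≤ Subgroup.normalizer (A' : Set G) := by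
    refine le_sup_right.trans (show L ≤ _ from fun z hz => ?_)
    have hLd : L.map (MulAut.conj d).toMonoidHom = L := Subgroup.eq_of_le_of_card_ge
      (by rintro _ ⟨w, hw, rfl⟩; exact hnormL w hw)
      (by rw [Subgroup.card_map_of_injective (MulAut.conj d).injective])
    obtain ⟨w, hw, rfl⟩ := hLd.symm ▸ hz
    rw [Subgroup.mem_normalizer_iff]
    intro y
    constructor
    · rintro ⟨u, hu, rfl⟩
      exact ⟨w * u * w⁻¹, (Subgroup.mem_normalizer_iff.mp (hLN hw) u).mp hu, by simp [mul_assoc]⟩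
    · rintro ⟨u, hu, hue⟩
      refine ⟨w⁻¹ * u * w, (Subgroup.mem_normalizer_iff''.mp (hLN hw) u).mp hu, ?_⟩
      simp only [MulEquiv.coe_toMonoidHom, MulAut.conj_apply] at hue ⊢
      calc d * (w⁻¹ * u * w) * d⁻¹
          = (d * w * d⁻¹)⁻¹ * (d * u * d⁻¹) * (d * w * d⁻¹) := by group
        _ = y := by rw [hue]; group
  have e2 := Fusion.Thompson.card_sup_mul_card_inf (N := A') (K := A) hAN
  have e3 := Fusion.Thompson.card_sup_mul_card_inf (N := A) (K := D ⊓ H)
    ((inf_le_right.trans hHL).trans hLN)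
  rw [sup_comm A' A, ← hH, inf_comm A' A, Subgroup.card_map_of_injective (MulAut.conj d).injective] at e2
  rw [sup_comm A (D ⊓ H), hHeq, show A ⊓ (D ⊓ H) = A ⊓ D by
    rw [← inf_assoc, inf_eq_left.mpr (inf_le_left.trans le_sup_left)]] at e3
  rw [← hB] at e1
  set i := Nat.card ↥((D ⊓ H) ⊓ (A ⊓ A'))
  have hipos : 0 < i := Nat.card_pos
  have hile : i ≤ Nat.card ↥(A ⊓ D) := Subgroup.card_le_of_le
    (le_inf (inf_le_right.trans inf_le_left) (inf_le_left.trans inf_le_left))
  have hAB : Nat.card A ≤ Nat.card B := by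
    have hHpos : 0 < Nat.card H := Nat.card_pos
    have key : Nat.card H * (Nat.card B * i) = Nat.card H * (Nat.card A * Nat.card ↥(A ⊓ D)) := by
      calc Nat.card H * (Nat.card B * i)
          = Nat.card H * Nat.card ↥(A ⊓ A') * Nat.card ↥(D ⊓ H) := by rw [e1]; ring
        _ = Nat.card A * Nat.card A * Nat.card ↥(D ⊓ H) := by rw [e2]
        _ = Nat.card A * (Nat.card H * Nat.card ↥(A ⊓ D)) := by rw [e3]; ring
        _ = _ := by ring
    have key' := Nat.eq_of_mul_eq_mul_left hHpos key
    refine Nat.le_of_mul_le_mul_right ?_ hipos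
    rw [key']
    exact Nat.mul_le_mul_left _ hile
  refine ⟨B, ⟨hBab, fun X hX => (hA.2 X hX).trans hAB⟩, hBN, ?_⟩
  have hcard : Nat.card A < Nat.card H := by
    refine lt_of_le_of_ne (Subgroup.card_le_of_le le_sup_left) fun e => hAA' ?_
    have h1 := Subgroup.eq_of_le_of_card_ge (le_sup_left : A ≤ H) e.ge
    exact Subgroup.eq_of_le_of_card_ge (le_sup_right.trans h1.symm.le)
      (by rw [Subgroup.card_map_of_injective (MulAut.conj d).injective])
  have hlt : Nat.card ↥(A ⊓ D) < Nat.card ↥(D ⊓ H) := by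
    refine Nat.lt_of_mul_lt_mul_left (a := Nat.card A) ?_
    rw [← e3]
    exact Nat.mul_lt_mul_of_pos_right hcard Nat.card_pos
  exact hlt.trans_le (Subgroup.card_le_of_le (le_inf le_sup_left inf_le_left))

variable {p : ℕ} [Fact p.Prime]

theorem djoin_le_max (hG : IsPGroup p G) {A : Subgroup G} (hA : A ∈ maxAbelianSubgroups G) :
    DStar.djoin (⊤ : Subgroup G) ≤ A := by
  set D := DStar.djoin (⊤ : Subgroup G) with hDdef
  haveI hDn : D.Normal := Subgroup.normalizer_eq_top_iff.mp (eq_top_iff.mpr fun g _ =>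
    DStar.normalizer_le_djoin (⊤ : Subgroup G)
      (by rw [Subgroup.normalizer_eq_top]; exact Subgroup.mem_top g))
  have hmem := DStar.djoin_mem (S := (⊤ : Subgroup G)) (p := p)
    (hG.of_equiv Subgroup.topEquiv.symm)
  have hDc := DStar.le_centralizer_self_of_comm hmem.2.1
  suffices ∀ (k : ℕ) (A : Subgroup G), A ∈ maxAbelianSubgroups G →
      Nat.card G - Nat.card ↥(A ⊓ D) = k → D ≤ A from this _ A hA rfl
  intro k
  induction k using Nat.strong_induction_on with
  | _ k ih =>
  intro A hA hk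
  rw [← centralizer_eq_of_max hA]
  have hnorm : D ≤ Subgroup.normalizer (A : Set G) := by
    by_contra hnot
    obtain ⟨B, hB, hBN, hlt⟩ := replacement hG hDc hA hnot
    have hle := Subgroup.card_le_card_group (B ⊓ D)
    have hlt' : Nat.card ↥(A ⊓ D) < Nat.card ↥(B ⊓ D) := hlt
    exact hnot ((ih (Nat.card G - Nat.card ↥(B ⊓ D)) (by omega) B hB rfl).trans hBN)
  have hAc := DStar.le_centralizer_self_of_comm hA.1
  intro x hx a ha
  refine hmem.2.2 a (Subgroup.mem_top a) ?_ x hx |>.symm
  rw [eq_bot_iff, ← DStar.class_two hDc hAc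
    (fun g _ => by rw [Subgroup.normalizer_eq_top]; exact Subgroup.mem_top g) hnorm]
  have hle : D ⊔ Subgroup.zpowers a ≤ D ⊔ A := sup_le_sup_left (Subgroup.zpowers_le.mpr ha) D
  exact Subgroup.commutator_mono (Subgroup.commutator_mono hle hle) hle

theorem dStar_sandwich (hG : IsPGroup p G) :
    Subgroup.center G ≤ dStar G ∧
    dStar G ≤ thompsonSubgroupA G ⊓ Subgroup.centralizer (thompsonSubgroupA G : Set G) ∧
    ∀ A : Subgroup G, A.Normal → IsMulCommutative A →
      (∀ B : Subgroup G, B.Normal → IsMulCommutative B → A ≤ B → B = A) → dStar G ≤ A := by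
  have hmem := DStar.djoin_mem (S := (⊤ : Subgroup G)) (p := p) (hG.of_equiv Subgroup.topEquiv.symm)
  refine ⟨le_sSup ⟨inferInstance, fun x _ a ha => ((Subgroup.mem_center_iff.mp ha) x).symm⟩, ?_, ?_⟩
  · rw [DStar.dStar_eq_djoin]
    obtain ⟨A, hA, hmax⟩ := Set.exists_max_image {A : Subgroup G | IsMulCommutative A}
      (fun A => Nat.card A) (Set.toFinite _) ⟨⊥, DStar.comm_of_le_centralizer_self bot_le⟩
    refine le_inf ((djoin_le_max hG (A := A) ⟨hA, fun B hB => hmax B hB⟩).trans
      (le_sSup ⟨hA, fun B hB => hmax B hB⟩)) (Subgroup.le_centralizer_iff.mp (sSup_le fun B hB => ?_))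
    exact (DStar.le_centralizer_self_of_comm hB.1).trans (Subgroup.centralizer_le (djoin_le_max hG hB))
  · intro A hAn hAab hAmax
    rw [DStar.dStar_eq_djoin]
    set D := DStar.djoin (⊤ : Subgroup G)
    haveI hDn : D.Normal := Subgroup.normalizer_eq_top_iff.mp (eq_top_iff.mpr fun g _ =>
      DStar.normalizer_le_djoin (⊤ : Subgroup G)
        (by rw [Subgroup.normalizer_eq_top]; exact Subgroup.mem_top g))
    have hDc := DStar.le_centralizer_self_of_comm hmem.2.1
    have hAc := DStar.le_centralizer_self_of_comm hAab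
    have hDA : D ≤ Subgroup.centralizer (A : Set G) := by
      intro x hx a ha
      refine (hmem.2.2 a (Subgroup.mem_top a) ?_ x hx).symm
      rw [eq_bot_iff, ← DStar.class_two hDc hAc
        (fun g _ => by rw [Subgroup.normalizer_eq_top]; exact Subgroup.mem_top g)
        (fun g _ => Subgroup.normalizer_eq_top (H := A) ▸ Subgroup.mem_top g)]
      have hle : D ⊔ Subgroup.zpowers a ≤ D ⊔ A := sup_le_sup_left (Subgroup.zpowers_le.mpr ha) D
      exact Subgroup.commutator_mono (Subgroup.commutator_mono hle hle) hle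
    have hsup := comm_sup hAc hDc (Subgroup.le_centralizer_iff.mp hDA)
    exact le_sup_right.trans (hAmax (A ⊔ D) inferInstance (DStar.comm_of_le_centralizer_self hsup)
      le_sup_left).le

end CfsgLib.LocalEvenB.DStarThompson
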