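import Mathlib

/-!
The integral group ring of a dihedral group as pairs of elements of the group ring of the rotation
subgroup, congruences for prime power powers, and characters of the rotation subgroup.
-/

set_option autoImplicit false
set_option linter.unusedSectionVars false

open scoped ComplexConjugate

namespace CfsgLib.LocalEvenB.DihedralAlgebra

open DihedralGroup MonoidAlgebra

noncomputable section

variable {m : ℕ} [NeZero m]

/-- Group ring of the rotations. -/
abbrev RA (m : ℕ) := MonoidAlgebra ℤ (Multiplicative (ZMod m))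

/-- Group ring of the dihedral group. -/
abbrev DA (m : ℕ) := MonoidAlgebra ℤ (DihedralGroup m)

/-- Element with prescribed coefficients. -/
def mk {M : Type*} [Fintype M] (f : M → ℤ) : MonoidAlgebra ℤ M :=
  .ofCoeff (Finsupp.equivFunOnFinite.symm f)

@[simp] theorem coeff_mk {M : Type*} [Fintype M] (f : M → ℤ) (a : M) : (mk f).coeff a = f a := by
  simp [mk]

theorem eq_sum_single {M : Type*} [Fintype M] [DecidableEq M] (w : MonoidAlgebra ℤ M) :
    w = ∑ a, single a (w.coeff a) := by
  ext b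
  simp [coeff_sum]

theorem natCast_dvd_iff {M : Type*} [Monoid M] [Fintype M] (n : ℕ) (w : MonoidAlgebra ℤ M) :
    (n : MonoidAlgebra ℤ M) ∣ w ↔ ∀ i, (n : ℤ) ∣ w.coeff i := by
  constructor
  · rintro ⟨z, rfl⟩ i
    rw [natCast_def, coeff_single_one_mul]
    exact dvd_mul_right _ _
  · intro h
    choose z hz using h
    refine ⟨mk z, ?_⟩
    ext i
    rw [natCast_def, coeff_single_one_mul, coeff_mk]
    exact hz i

/-- The rotation embedding. -/
def rotHom : Multiplicative (ZMod m) →* DihedralGroup m where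
  toFun i := r i.toAdd
  map_one' := rfl
  map_mul' _ _ := rfl

theorem rotHom_injective : Function.Injective (rotHom (m := m)) := by
  intro a b h
  exact Multiplicative.toAdd.injective (DihedralGroup.r.inj h)

/-- The embedding of group rings. -/
def emb : RA m →+* DA m := mapDomainRingHom ℤ rotHom

theorem emb_coeff_r (w : RA m) (i : ZMod m) :
    (emb w).coeff (r i) = w.coeff (Multiplicative.ofAdd i) := by
  change (Finsupp.mapDomain rotHom w.coeff) (rotHom (Multiplicative.ofAdd i)) = _
  rw [Finsupp.mapDomain_apply rotHom_injective]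

theorem emb_coeff_sr (w : RA m) (j : ZMod m) : (emb w).coeff (sr j) = 0 := by
  change (Finsupp.mapDomain rotHom w.coeff) (sr j) = _
  refine Finsupp.mapDomain_of_notMem_range _ _ ?_
  rintro ⟨i, hi⟩
  cases hi

/-- The reflection `sr 0`. -/
def S0 : DA m := single (sr 0) 1

theorem S0_mul_S0 : (S0 : DA m) * S0 = 1 := by
  simp [S0, single_mul_single, MonoidAlgebra.one_def]

theorem mul_S0_coeff (w : DA m) (d : DihedralGroup m) : (w * S0).coeff d = w.coeff (d * sr 0) := by
  rw [S0, coeff_mul_single_apply]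
  simp

theorem S0_mul_coeff (w : DA m) (d : DihedralGroup m) : (S0 * w).coeff d = w.coeff (sr 0 * d) := by
  rw [S0, coeff_single_mul_apply]
  simp

/-- Coefficients composed with inversion. -/
def sta (w : RA m) : RA m := mk fun i => w.coeff i⁻¹

theorem S0_mul_emb (w : RA m) : S0 * emb w = emb (sta w) * S0 := by
  ext d
  rw [S0_mul_coeff, mul_S0_coeff]
  cases d with
  | r i => simp [emb_coeff_sr]
  | sr j => simp [emb_coeff_r, sta]

/-- Rotation part. -/
def rp : DA m →+ RA m where
  toFun x := mk fun i => x.coeff (r i.toAdd)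
  map_zero' := by ext i; simp
  map_add' x y := by ext i; simp

/-- Reflection part. -/
def fp : DA m →+ RA m where
  toFun x := mk fun i => x.coeff (sr (-i.toAdd))
  map_zero' := by ext i; simp
  map_add' x y := by ext i; simp

theorem rp_coeff (x : DA m) (i : Multiplicative (ZMod m)) :
    (rp x).coeff i = x.coeff (r i.toAdd) := coeff_mk _ _

theorem fp_coeff (x : DA m) (i : Multiplicative (ZMod m)) :
    (fp x).coeff i = x.coeff (sr (-i.toAdd)) := coeff_mk _ _

theorem coeff_r (x : DA m) (i : ZMod m) : x.coeff (r i) = (rp x).coeff (Multiplicative.ofAdd i) := by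
  rw [rp_coeff]; rfl

theorem decomp (x : DA m) : emb (rp x) + emb (fp x) * S0 = x := by
  ext d
  rw [coeff_add, Finsupp.add_apply, mul_S0_coeff]
  cases d with
  | r i => simp [emb_coeff_r, emb_coeff_sr, rp_coeff]
  | sr j => simp [emb_coeff_r, emb_coeff_sr, fp_coeff]

theorem rp_build (u v : RA m) : rp (emb u + emb v * S0) = u := by
  ext i
  rw [rp_coeff, coeff_add, Finsupp.add_apply, mul_S0_coeff]
  simp [emb_coeff_r, emb_coeff_sr]

theorem fp_build (u v : RA m) : fp (emb u + emb v * S0) = v := by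
  ext i
  rw [fp_coeff, coeff_add, Finsupp.add_apply, mul_S0_coeff]
  simp [emb_coeff_r, emb_coeff_sr]

theorem rp_emb (u : RA m) : rp (emb u) = u := by simpa using rp_build u 0

theorem fp_emb (u : RA m) : fp (emb u) = 0 := by simpa using fp_build u 0

theorem rp_emb_mul_S0 (v : RA m) : rp (emb v * S0) = 0 := by simpa using rp_build 0 v

theorem rp_one : rp (1 : DA m) = 1 := by simpa using rp_emb (1 : RA m)

theorem fp_one : fp (1 : DA m) = 0 := by simpa using fp_emb (1 : RA m)

theorem mul_decomp (x y : DA m) :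
    x * y = emb (rp x * rp y + fp x * sta (fp y)) + emb (rp x * fp y + fp x * sta (rp y)) * S0 := by
  conv_lhs => rw [← decomp x, ← decomp y]
  have h : ∀ a b : RA m, emb a * S0 * emb b = emb (a * sta b) * S0 := fun a b => by
    rw [mul_assoc, S0_mul_emb, ← mul_assoc, map_mul]
  have h2 : ∀ a b : RA m, emb a * S0 * (emb b * S0) = emb (a * sta b) := fun a b => by
    rw [← mul_assoc, h, mul_assoc, S0_mul_S0, mul_one]
  rw [add_mul, mul_add, mul_add, h, h2, ← mul_assoc, ← map_mul emb, ← map_mul emb, map_add, map_add,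
    add_mul]
  abel

theorem rp_mul (x y : DA m) : rp (x * y) = rp x * rp y + fp x * sta (fp y) := by
  rw [mul_decomp x y, rp_build]

theorem fp_mul (x y : DA m) : fp (x * y) = rp x * fp y + fp x * sta (rp y) := by
  rw [mul_decomp x y, fp_build]

/-- Rotation part of a power. -/
theorem rp_pow {x : DA m} (hx : sta (rp x) = rp x) (M : ℕ) :
    rp (x ^ M) = ∑ j ∈ Finset.range (M + 1),
      if Even j then ((fp x * sta (fp x)) ^ (j / 2) * rp x ^ (M - j)) * (M.choose j : RA m)
      else 0 := by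
  set X := rp x with hX
  set Y := fp x with hY
  have hc : Commute (emb Y * S0) (emb X) := by
    unfold Commute SemiconjBy
    rw [mul_assoc, S0_mul_emb, hx, ← mul_assoc, ← map_mul, mul_comm, map_mul, mul_assoc]
  have hsq : (emb Y * S0) * (emb Y * S0) = emb (Y * sta Y) := by
    rw [← mul_assoc, mul_assoc (emb Y) S0 (emb Y), S0_mul_emb, ← mul_assoc, ← map_mul, mul_assoc,
      S0_mul_S0, mul_one]
  conv_lhs => rw [← decomp x, add_comm, hc.add_pow]
  rw [map_sum]
  refine Finset.sum_congr rfl fun j _ => ?_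
  have h2 : ∀ i : ℕ, (emb Y * S0) ^ (2 * i) = emb ((Y * sta Y) ^ i) := fun i => by
    rw [pow_mul, pow_two, hsq, map_pow]
  by_cases hj : Even j
  · rw [if_pos hj]
    obtain ⟨i, rfl⟩ := hj
    rw [← two_mul, h2, ← map_pow, ← map_natCast emb, ← map_mul, ← map_mul, rp_emb]
    simp
  · rw [if_neg hj]
    obtain ⟨i, rfl⟩ := Nat.not_even_iff_odd.1 hj
    rw [pow_succ, h2, ← map_pow, ← map_natCast emb, mul_assoc, ← map_mul, mul_assoc,
      mul_assoc (emb Y), S0_mul_emb, ← mul_assoc (emb Y), ← map_mul, ← mul_assoc, ← map_mul,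
      rp_emb_mul_S0]

variable (m) in
/-- The `n`-th power map on the rotations, extended linearly. -/
def powMap (n : ℕ) : RA m →+* RA m := mapDomainRingHom ℤ (powMonoidHom n)

theorem powMap_coeff (n : ℕ) (w : RA m) (i : Multiplicative (ZMod m)) :
    (powMap m n w).coeff i = ∑ h with h ^ n = i, w.coeff h := by
  conv_lhs => rw [eq_sum_single w, map_sum]
  simp [powMap, coeff_sum, Finsupp.single_apply, Finset.sum_filter]

variable {p : ℕ} [hp : Fact p.Prime]

omit [NeZero m] in
theorem frob [NeZero m] (k : ℕ) (w : RA m) : (p : RA m) ∣ w ^ p ^ k - powMap m (p ^ k) w := by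
  let φ : RA m →+* MonoidAlgebra (ZMod p) (Multiplicative (ZMod m)) :=
    mapRingHom _ (Int.castRingHom (ZMod p))
  have : CharP (MonoidAlgebra (ZMod p) (Multiplicative (ZMod m))) p :=
    charP_of_injective_algebraMap
      (algebraMap (ZMod p) (MonoidAlgebra (ZMod p) (Multiplicative (ZMod m)))).injective p
  have hs : ∀ a (z : ℤ), φ (single a z) = single a (z : ZMod p) := fun a z => by
    ext b
    simp [φ, mapRingHom]
  have heq : φ (w ^ p ^ k) = φ (powMap m (p ^ k) w) := by
    conv_lhs => rw [eq_sum_single w, map_pow, map_sum, sum_pow_char_pow]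
    conv_rhs => rw [eq_sum_single w, map_sum, map_sum]
    refine Finset.sum_congr rfl fun a _ => ?_
    rw [hs, single_pow, ZMod.pow_card_pow]
    simp [powMap, hs]
  rw [natCast_dvd_iff]
  intro i
  rw [← ZMod.intCast_zmod_eq_zero_iff_dvd]
  have h := congrArg (fun z => z.coeff i) heq
  simp only [φ, mapRingHom, RingHom.coe_mk, MonoidHom.coe_mk, OneHom.coe_mk, coeff_map,
    Finsupp.mapRange_apply] at h
  rw [coeff_sub, Finsupp.sub_apply, Int.cast_sub, sub_eq_zero]
  simpa using h

/-- Coefficients of prime power powers away from the image of the power map. -/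
theorem powDiv (a v : ℕ) (w : RA m) (i : Multiplicative (ZMod m))
    (hi : ∀ h, h ^ p ^ a ≠ i) : (p : ℤ) ^ (v + 1 - a) ∣ (w ^ p ^ v).coeff i := by
  induction a generalizing v w i with
  | zero => exact absurd (by simp) (hi i)
  | succ a ih =>
    rcases v with _ | v
    · simp
    rw [show v + 1 + 1 - (a + 1) = v + 1 - a by omega]
    have h1 : ((p ^ (v + 1) : ℕ) : RA m) ∣ w ^ p ^ (v + 1) - powMap m p (w ^ p ^ v) := by
      rw [map_pow, Nat.cast_pow, pow_succ' p v, pow_mul]
      refine dvd_sub_pow_of_dvd_sub ?_ v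
      simpa using frob (p := p) 1 w
    rw [natCast_dvd_iff] at h1
    have h2 : (p : ℤ) ^ (v + 1 - a) ∣ (powMap m p (w ^ p ^ v)).coeff i := by
      rw [powMap_coeff]
      refine Finset.dvd_sum fun h hh => ih v w h fun h' hh' => hi h' ?_
      rw [pow_succ, pow_mul, hh', (Finset.mem_filter.1 hh).2]
    have h3 : (p : ℤ) ^ (v + 1 - a) ∣ (p : ℤ) ^ (v + 1) := pow_dvd_pow _ (by omega)
    have h4 := dvd_add (h3.trans (by simpa using h1 i)) h2
    simpa using h4

theorem rp_pow_div {x : DA m} (hx : sta (rp x) = rp x) (hodd : p ≠ 2) (a n : ℕ)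
    (i : Multiplicative (ZMod m)) (hi : ∀ h, h ^ p ^ a ≠ i) :
    (p : ℤ) ^ (n + 1 - a) ∣ (rp (x ^ p ^ n)).coeff i := by
  rw [rp_pow hx, coeff_sum, Finset.sum_apply']
  refine Finset.dvd_sum fun j hj => ?_
  split_ifs with hev
  swap
  · simp
  rw [mul_comm _ ((_ : ℕ) : RA m), natCast_def, coeff_single_one_mul]
  rcases Nat.eq_zero_or_pos j with rfl | hj0
  · simpa using powDiv a n (rp x) i hi
  have hjM : j ≤ p ^ n := Nat.lt_succ_iff.1 (Finset.mem_range.1 hj)
  set v := j.factorization p with hv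
  have hpv : p ^ v ∣ j := Nat.ordProj_dvd j p
  have hvn : v ≤ n := (Nat.pow_le_pow_iff_right hp.out.one_lt).1 ((Nat.le_of_dvd hj0 hpv).trans hjM)
  have hC : p ^ (n - v) ∣ (p ^ n).choose j := by
    rw [hp.out.pow_dvd_iff_le_factorization (Nat.choose_pos hjM).ne',
      Nat.factorization_choose_prime_pow hp.out hjM hj0.ne']
  have h2 : p ^ v ∣ j / 2 := by
    obtain ⟨t, ht⟩ := hev
    have hcop : (p ^ v).Coprime 2 :=
      Nat.Coprime.pow_left v ((Nat.coprime_primes hp.out Nat.prime_two).2 hodd)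
    refine hcop.dvd_of_dvd_mul_left ?_
    rw [show 2 * (j / 2) = j by omega]
    exact hpv
  obtain ⟨s, hs⟩ := h2
  obtain ⟨t, ht⟩ : p ^ v ∣ p ^ n - j := Nat.dvd_sub (pow_dvd_pow p hvn) hpv
  have hW : (fp x * sta (fp x)) ^ (j / 2) * rp x ^ (p ^ n - j) =
      ((fp x * sta (fp x)) ^ s * rp x ^ t) ^ p ^ v := by
    rw [hs, ht, pow_mul', pow_mul', ← mul_pow]
  rw [hW]
  calc (p : ℤ) ^ (n + 1 - a) ∣ (p : ℤ) ^ (n - v) * (p : ℤ) ^ (v + 1 - a) := by
        rw [← pow_add]; exact pow_dvd_pow _ (by omega)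
    _ ∣ _ := mul_dvd_mul (by exact_mod_cast hC) (powDiv a v _ i hi)

theorem rp_pow_congr {x : DA m} (hx : sta (rp x) = rp x) (hodd : p ≠ 2) (k : ℕ) :
    (p : RA m) ∣ rp (x ^ p ^ k) - powMap m (p ^ k) (rp x) := by
  have h := frob (p := p) k (rp x)
  suffices hs : (p : RA m) ∣ rp (x ^ p ^ k) - rp x ^ p ^ k by simpa using dvd_add hs h
  rw [rp_pow hx, ← Finset.sum_erase_add _ _ (Finset.mem_range.2 (Nat.succ_pos _) : 0 ∈ _)]
  simp only [Even.zero, if_true, Nat.zero_div, pow_zero, one_mul, Nat.sub_zero,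
    Nat.choose_zero_right, Nat.cast_one, mul_one, add_sub_cancel_right]
  refine Finset.dvd_sum fun j hj => ?_
  split_ifs with hev
  swap
  · simp
  refine Dvd.dvd.mul_left (Nat.cast_dvd_cast ?_) _
  refine hp.out.dvd_choose_pow (Finset.mem_erase.1 hj).1 ?_
  rintro rfl
  exact (Nat.not_even_iff_odd.2 ((hp.out.odd_of_ne_two hodd).pow)) hev

/-- Sum of all coefficients. -/
def aug : DA m →+* ℤ := (MonoidAlgebra.lift ℤ ℤ (DihedralGroup m) 1).toRingHom

theorem aug_eq (x : DA m) : aug x = ∑ d, x.coeff d := by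
  conv_lhs => rw [eq_sum_single x, map_sum]
  simp [aug, lift_single]

/-- The characters of the rotation group. -/
def chr (c : ZMod m) : Multiplicative (ZMod m) →* ℂ where
  toFun i := ZMod.stdAddChar (c * i.toAdd)
  map_one' := by simp
  map_mul' i j := by simp [mul_add, AddChar.map_add_eq_mul]

/-- Evaluation at a character. -/
def ev (c : ZMod m) : RA m →+* ℂ :=
  (MonoidAlgebra.lift ℤ ℂ (Multiplicative (ZMod m)) (chr c)).toRingHom

theorem ev_eq (c : ZMod m) (w : RA m) :
    ev c w = ∑ i : ZMod m, (w.coeff (Multiplicative.ofAdd i) : ℂ) * ZMod.stdAddChar (c * i) := by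
  conv_lhs => rw [eq_sum_single w, map_sum]
  refine Fintype.sum_equiv Multiplicative.toAdd _ _ fun i => ?_
  simp [ev, chr, lift_single]

theorem ev_sta (c : ZMod m) (w : RA m) : ev c (sta w) = ev (-c) w := by
  rw [ev_eq, ev_eq]
  refine Fintype.sum_equiv (Equiv.neg _) _ _ fun i => ?_
  simp [sta, mul_neg]

theorem ev_neg (c : ZMod m) (w : RA m) : ev (-c) w = conj (ev c w) := by
  rw [ev_eq, ev_eq, map_sum]
  refine Finset.sum_congr rfl fun i _ => ?_
  simp [neg_mul, AddChar.map_neg_eq_conj]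

theorem ev_zero (w : RA m) : ev 0 w = ((∑ i, w.coeff i : ℤ) : ℂ) := by
  rw [ev_eq, Int.cast_sum]
  refine Fintype.sum_equiv Multiplicative.ofAdd _ _ fun i => ?_
  simp

theorem sum_ev (w : RA m) : ∑ c : ZMod m, ev c w = (m : ℂ) * w.coeff 1 := by
  simp_rw [ev_eq]
  rw [Finset.sum_comm, Finset.sum_eq_single (0 : ZMod m)]
  · simp [ZMod.card, mul_comm]
  · intro i _ hi
    rw [← Finset.mul_sum, AddChar.sum_mulShift i (ZMod.isPrimitive_stdAddChar m), if_neg hi]
    simp
  · simp

theorem eq_zero_of_ev {w : RA m} (h : ∀ c, ev c w = 0) : w = 0 := by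
  ext i
  have hs := sum_ev (single i⁻¹ 1 * w)
  simp only [map_mul, h, mul_zero, Finset.sum_const_zero] at hs
  have hm : (m : ℂ) ≠ 0 := Nat.cast_ne_zero.2 (NeZero.ne m)
  have h0 := (mul_eq_zero.1 hs.symm).resolve_left hm
  rw [coeff_single_mul_apply] at h0
  simpa using h0

end

end CfsgLib.LocalEvenB.DihedralAlgebra
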