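import Cfsg.Agent.Lib.LocalEvenB.DihedralTrivial

/-!
A primitive permutation group on a dihedral group containing the left translations has a point
stabiliser which is transitive on the other points.
-/

set_option autoImplicit false
set_option linter.unusedSectionVars false

open scoped ComplexConjugate

namespace CfsgLib.LocalEvenB.DihedralSchur

open DihedralGroup DihedralAlgebra MonoidAlgebra

noncomputable section

variable {m : ℕ} [NeZero m] {G : Subgroup (Equiv.Perm (DihedralGroup m))} {p : ℕ}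
  (hG : Prim G) [hp : Fact p.Prime] (hpm : p ∣ m) (hp2 : p ≠ 2 ∨ ordCompl[p] m = 1)

/-- The eigenvalue datum of the rotation part at characters nontrivial on the order `p` subgroup. -/
def aVal (p : ℕ) (x : DA m) : ℤ := x.coeff (r 0) - x.coeff (r (p0 m p))

theorem stdAddChar_ne_one {z : ZMod m} (hz : z ≠ 0) : ZMod.stdAddChar z ≠ (1 : ℂ) := by
  rw [← (ZMod.stdAddChar (N := m)).map_zero_eq_one]
  exact fun h => hz (ZMod.injective_stdAddChar h)

theorem ev_single (c j : ZMod m) (z : ℤ) :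
    ev c (single (Multiplicative.ofAdd j) z) = (z : ℂ) * ZMod.stdAddChar (c * j) := by
  simp [ev, chr, lift_single]

/-- A quantity fixed by a shift is killed by the characters not fixing the shift. -/
theorem ev_eq_zero_of_shift (w : RA m) (j : ZMod m)
    (h : ∀ i, w.coeff (Multiplicative.ofAdd (i + j)) = w.coeff (Multiplicative.ofAdd i)) {c : ZMod m}
    (hc : c * j ≠ 0) : ev c w = 0 := by
  have heq : single (Multiplicative.ofAdd j) (1 : ℤ) * w = w := by
    ext a
    obtain ⟨i, rfl⟩ := Multiplicative.ofAdd.surjective a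
    rw [coeff_single_mul_apply, one_mul]
    conv_rhs => rw [← sub_add_cancel i j, h]
    rw [← ofAdd_neg, ← ofAdd_add, neg_add_eq_sub]
  have := congrArg (ev c) heq
  rw [map_mul, ev_single, Int.cast_one, one_mul] at this
  exact (mul_eq_zero.1 (show (ZMod.stdAddChar (c * j) - 1) * ev c w = 0 by
    rw [sub_mul, this, one_mul, sub_self])).resolve_left (sub_ne_zero.2 (stdAddChar_ne_one hc))

theorem shift_of_ev {w : RA m} {j : ZMod m} (h : ∀ c, c * j ≠ 0 → ev c w = 0) (i : ZMod m) :
    w.coeff (Multiplicative.ofAdd (i + j)) = w.coeff (Multiplicative.ofAdd i) := by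
  have heq : single (Multiplicative.ofAdd j) (1 : ℤ) * w - w = 0 := eq_zero_of_ev fun c => by
    rw [map_sub, map_mul, ev_single, Int.cast_one, one_mul]
    by_cases hc : c * j = 0
    · simp [hc]
    · simp [h c hc]
  have := congrArg (fun z => z.coeff (Multiplicative.ofAdd (i + j))) heq
  simp only [coeff_sub, Finsupp.sub_apply, coeff_single_mul_apply, one_mul, coeff_zero,
    Finsupp.zero_apply, sub_eq_zero] at this
  rw [← this]
  congr 1
  rw [← ofAdd_neg, ← ofAdd_add]; simp

include hG hpm hp2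

theorem ev_rp {x : DA m} (hx : Rat G x) {c : ZMod m} (hc : c * p0 m p ≠ 0) :
    ev c (rp x) = (aVal p x : ℂ) := by
  classical
  set v := x.coeff (r (p0 m p)) with hv
  set g : RA m := DihedralAlgebra.mk fun i =>
    if (p : ZMod m) * i.toAdd = 0 then v else x.coeff (r i.toAdd) with hg
  have hdec : rp x = g + single (Multiplicative.ofAdd 0) (aVal p x) := by
    ext a
    obtain ⟨i, rfl⟩ := Multiplicative.ofAdd.surjective a
    rw [coeff_add, Finsupp.add_apply, coeff_single, Finsupp.single_apply, rp_coeff, hg, coeff_mk,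
      toAdd_ofAdd]
    by_cases hi : (p : ZMod m) * i = 0
    · obtain ⟨l, hlp, rfl⟩ := exists_eq_mul_p0 hpm hi
      rw [if_pos hi]
      rcases Nat.eq_zero_or_pos l with rfl | hl
      · simp [aVal, hv]
      · have hnd : ¬p ∣ l := fun h => by
          have := Nat.le_of_dvd hl h
          omega
        rw [rat_mul_p0 hpm hx hnd, if_neg, add_zero, hv]
        intro h
        exact hnd ((cast_mul_p0_eq_zero hpm).1 (Multiplicative.ofAdd.injective h).symm)
    · rw [if_neg hi, if_neg, add_zero]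
      intro h
      exact hi (by rw [← Multiplicative.ofAdd.injective h, mul_zero])
  have hgs : ev c g = 0 := ev_eq_zero_of_shift g (p0 m p) (fun i => by
    simp only [hg, coeff_mk, toAdd_ofAdd, mul_add, mul_p0 hpm, add_zero]
    split_ifs with hi
    · rfl
    · exact shift hG hpm hp2 hx hi) hc
  rw [hdec, map_add, hgs, zero_add, ev_single]
  simp

theorem aVal_mul {x y : DA m} (hx : Rat G x) (hy : Rat G y) {c : ZMod m} (hc : c * p0 m p ≠ 0) :
    ev c (fp x) * conj (ev c (fp y)) = (aVal p (x * y) : ℂ) - aVal p x * aVal p y := by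
  rw [← ev_rp hG hpm hp2 (Rat.mul hG hx hy) hc, ← ev_rp hG hpm hp2 hx hc,
    ← ev_rp hG hpm hp2 hy hc, rp_mul, map_add, map_mul, map_mul, ev_sta, ev_neg]
  ring

theorem ev_fp_self {x : DA m} (hx : Rat G x) (h : aVal p (x * x) = aVal p x * aVal p x)
    {c : ZMod m} (hc : c * p0 m p ≠ 0) : ev c (fp x) = 0 := by
  have := aVal_mul hG hpm hp2 hx hx hc
  rw [h, Int.cast_mul, sub_self, Complex.mul_conj] at this
  exact Complex.normSq_eq_zero.1 (by exact_mod_cast this)

/-- Invariant quantities invisible to the characters nontrivial on the order `p` subgroup are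
constant. -/
theorem kernel {x : DA m} (hx : Rat G x) (ha : aVal p x = 0)
    (hf : ∀ c : ZMod m, c * p0 m p ≠ 0 → ev c (fp x) = 0) (d : DihedralGroup m) :
    x.coeff d = x.coeff 1 := by
  have hA : ∀ i, (rp x).coeff (Multiplicative.ofAdd (i + p0 m p)) =
      (rp x).coeff (Multiplicative.ofAdd i) := shift_of_ev fun c hc => by
    rw [ev_rp hG hpm hp2 hx hc, ha, Int.cast_zero]
  have hB : ∀ i, (fp x).coeff (Multiplicative.ofAdd (i + p0 m p)) =
      (fp x).coeff (Multiplicative.ofAdd i) := shift_of_ev hf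
  have hright : ∀ e, x.coeff (e * r (p0 m p)) = x.coeff e := fun e => by
    cases e with
    | r i => simpa [rp_coeff] using hA i
    | sr j =>
      have := hB (-(j + p0 m p))
      simp only [fp_coeff, toAdd_ofAdd, neg_add_rev] at this
      simpa [sr_mul_r, add_comm] using this.symm
  let K : Subgroup (DihedralGroup m) :=
    { carrier := {h | ∀ e, x.coeff (e * h) = x.coeff e}
      one_mem' := fun e => by simp
      mul_mem' := fun {a b} ha hb e => by rw [← mul_assoc, hb, ha]
      inv_mem' := fun {a} ha e => by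
        have := ha (e * a⁻¹)
        rw [inv_mul_cancel_right] at this
        exact this.symm }
  have hg : ∀ h, (∑ e, (x.coeff (e * h) - x.coeff e) ^ 2) =
      2 * (∑ e, x.coeff e ^ 2) - 2 * (x * x).coeff h := fun h => by
    have h1 : (x * x).coeff h = ∑ e, x.coeff e * x.coeff (e * h) := by
      rw [cmul]
      refine Fintype.sum_equiv (Equiv.inv _) _ _ fun t => ?_
      simp only [Equiv.inv_apply]
      exact congrArg (· * _) (hx.1.symm' hG t).symm
    have h2 : ∑ e, x.coeff (e * h) ^ 2 = ∑ e, x.coeff e ^ 2 :=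
      Fintype.sum_equiv (Equiv.mulRight h) _ _ fun e => rfl
    rw [h1]
    simp only [sub_sq, Finset.sum_add_distrib, Finset.sum_sub_distrib, h2, Finset.mul_sum]
    rw [← Finset.mul_sum]
    simp only [mul_assoc, ← Finset.mul_sum, mul_comm (x.coeff (_ * h))]
    ring
  have hmem : ∀ h, h ∈ K ↔ 2 * (∑ e, x.coeff e ^ 2) - 2 * (x * x).coeff h = 0 := fun h => by
    rw [← hg h, Finset.sum_eq_zero_iff_of_nonneg fun e _ => sq_nonneg _]
    simp [K, Subgroup.mem_mk, sub_eq_zero]
  have hKI : Inv G fun h => h ∈ K := fun σ hσ a b => by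
    have := (IA.mul hx.1 hx.1) σ hσ a b
    exact propext ((hmem _).trans (Iff.trans (by rw [show (x * x).coeff _ = _ from this]) (hmem _).symm))
  rcases hG.prim K hKI with h | h
  · have : r (p0 m p) ∈ K := hright
    rw [h, Subgroup.mem_bot] at this
    exact absurd (DihedralGroup.r.inj this) (p0_ne_zero hpm)
  · have : d ∈ K := by rw [h]; exact Subgroup.mem_top _
    simpa using this 1

omit hG hpm hp2 in
theorem rat_natCast (n : ℕ) : Rat G (n : DA m) := by
  refine ⟨IA.natCast n, fun u i => ?_⟩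
  classical
  simp only [coeff_natCast, Finsupp.single_apply, one_def, DihedralGroup.r.injEq,
    eq_comm (a := (0 : ZMod m)), u.isUnit.mul_right_eq_zero]

omit hG hpm hp2 in
theorem rat_sub {x y : DA m} (hx : Rat G x) (hy : Rat G y) : Rat G (x - y) :=
  ⟨IA.sub hx.1 hy.1, fun u i => by simp [hx.2 u i, hy.2 u i]⟩

omit hp2 hpm hG in
/-- A finite check on the cyclic group of order eight. -/
theorem eight : ∀ (b : Bool) (g : Fin 8 → Bool),
    (∑ i : Fin 8, if g i then (1 : ℕ) else 0) = 4 →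
    (∑ i : Fin 8, if g i && g (i + 4) then (1 : ℕ) else 0) = 0 →
    (∑ i : Fin 8, if g i && g (i + 1) then (1 : ℕ) else 0) = 2 → b = !b := by
  decide +kernel

omit hp2 hpm hG in
/-- The indicator of the two candidate rotation parts of degree eight. -/
def eightF (b : Bool) (i : ZMod 8) : ℤ :=
  if i = 2 ∨ i = 6 then 1 else if i = 1 ∨ i = 3 ∨ i = 5 ∨ i = 7 then (if b then 1 else 0) else 0

omit hp2 hpm hG in
theorem eightVals : ∀ b : Bool, (∑ j : ZMod 8, eightF b j) = (if b then 6 else 2) ∧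
    (∑ j : ZMod 8, eightF b j * eightF b (4 - j)) = (if b then 6 else 2) ∧
    (∑ j : ZMod 8, eightF b j * eightF b (1 - j)) = (if b then 4 else 0) := by
  decide +kernel

omit hp2 hpm hG in
/-- Counting residues: a periodic function on an initial segment. -/
theorem sum_periodic (n N : ℕ) (f : ℕ → ℤ) :
    ∑ i ∈ Finset.range (n * N), f (i % N) = n * ∑ i ∈ Finset.range N, f i := by
  induction n with
  | zero => simp
  | succ n ih =>
    rw [Nat.succ_mul, Finset.sum_range_add, ih, Nat.cast_succ, add_one_mul]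
    congr 1
    refine Finset.sum_congr rfl fun i hi => ?_
    rw [Nat.mul_add_mod', Nat.mod_eq_of_lt (Finset.mem_range.1 hi)]

omit hp2 hpm hG in
theorem card_le_of_mul_eq_zero {k : ℕ} (hk : k ∣ m) (hk0 : 0 < k) (s : Finset (ZMod m))
    (hs : ∀ c ∈ s, c * ((m / k : ℕ) : ZMod m) = 0) : k * s.card ≤ m := by
  obtain ⟨q, hq⟩ := hk
  have hmk : m / k = q := by rw [hq, Nat.mul_div_cancel_left _ hk0]
  have hq0 : 0 < q := Nat.pos_of_ne_zero fun h => NeZero.ne m (by rw [hq, h, mul_zero])
  have hdvd : ∀ c ∈ s, k ∣ c.val := fun c hc => by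
    have h := hs c hc
    rw [hmk, ← ZMod.natCast_zmod_val c, ← Nat.cast_mul, ZMod.natCast_eq_zero_iff] at h
    exact (Nat.mul_dvd_mul_iff_right hq0).1 ((dvd_of_eq hq.symm).trans h)
  have : s.card ≤ (Finset.range q).card := by
    refine Finset.card_le_card_of_injOn (fun c => c.val / k) (fun c hc => ?_) (fun a ha b hb hab => ?_)
    · refine Finset.mem_coe.2 (Finset.mem_range.2 ((Nat.div_lt_iff_lt_mul hk0).2 ?_))
      rw [mul_comm, ← hq]; exact ZMod.val_lt c
    · apply ZMod.val_injective m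
      rw [← Nat.div_mul_cancel (hdvd a ha), ← Nat.div_mul_cancel (hdvd b hb)]
      exact congrArg (· * k) hab
  rw [Finset.card_range] at this
  calc k * s.card ≤ k * q := Nat.mul_le_mul_left k this
    _ = m := hq.symm

/-- The relations satisfied by a multiplier-stable invariant set missing the subgroup of
order `p`. -/
theorem relations {y : DA m} (hy : Rat G y) (h01 : ∀ e, y.coeff e = 0 ∨ y.coeff e = 1)
    (h0 : y.coeff (r 0) = 0) (hp0 : y.coeff (r (p0 m p)) = 0)
    {d : DihedralGroup m} (hd : y.coeff d = 1) :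
    ∃ (α lam : ℤ) (S : Finset (ZMod m)),
      (∀ e, e ≠ 1 → (y * y).coeff e = lam) ∧ 0 < α ∧
      (∀ c ∈ S, c ≠ 0 ∧ c * p0 m p = 0) ∧
      (∀ c, c ≠ 0 → ev c (rp y) ≠ 0 → c ∈ S) ∧
      (∀ c ∈ S, ev c (rp y) * ev c (rp y) = (α : ℂ)) ∧ 0 < S.card ∧
      (∑ i : ZMod m, y.coeff (r i) - ∑ i : ZMod m, y.coeff (sr i)) ^ 2 = α ∧
      2 * (∑ i : ZMod m, y.coeff (r i)) * (∑ i : ZMod m, y.coeff (sr i)) = lam * m ∧
      α * S.card = (∑ i : ZMod m, y.coeff (r i)) * (m - ∑ i : ZMod m, y.coeff (r i)) ∧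
      α * (m - 1 - S.card) =
        (∑ i : ZMod m, y.coeff (sr i)) * (m - ∑ i : ZMod m, y.coeff (sr i)) ∧
      α ≤ (∑ i : ZMod m, y.coeff (r i)) ^ 2 ∧ α ≤ (m - ∑ i : ZMod m, y.coeff (r i)) ^ 2 ∧
      1 ≤ ∑ i : ZMod m, y.coeff (r i) ∧ ∑ i : ZMod m, y.coeff (r i) ≤ m - 1 := by
  classical
  set Xn := ∑ i : ZMod m, y.coeff (r i) with hXn
  set Yn := ∑ i : ZMod m, y.coeff (sr i) with hYn
  set α := aVal p (y * y) with hα
  have hay : aVal p y = 0 := by rw [aVal, h0, hp0, sub_zero]
  have hconj : ∀ c, conj (ev c (rp y)) = ev c (rp y) := fun c => by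
    rw [← ev_neg, ← ev_sta, IA.sta_rp hG hy.1]
  have hQ : ∀ c : ZMod m, c * p0 m p ≠ 0 → ev c (fp y) * conj (ev c (fp y)) = (α : ℂ) := fun c hc => by
    rw [aVal_mul hG hpm hp2 hy hy hc, hay]; simp [hα]
  have hp0ne : (1 : ZMod m) * p0 m p ≠ 0 := by rw [one_mul]; exact p0_ne_zero hpm
  have hα0 : 0 ≤ α := by
    have h := hQ 1 hp0ne
    rw [Complex.mul_conj] at h
    have h' : Complex.normSq (ev (1 : ZMod m) (fp y)) = (α : ℝ) := by exact_mod_cast h
    have h'' : (0 : ℝ) ≤ (α : ℝ) := h' ▸ Complex.normSq_nonneg _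
    exact_mod_cast h''
  have hαpos : 0 < α := by
    refine lt_of_le_of_ne hα0 fun h => ?_
    have hk := kernel hG hpm hp2 hy hay (fun c hc => ev_fp_self hG hpm hp2 hy
      (by rw [hay, mul_zero, ← hα, ← h]) hc) d
    rw [hd, show y.coeff 1 = 0 from h0] at hk
    exact one_ne_zero hk
  obtain ⟨a, ha⟩ := Int.eq_ofNat_of_zero_le hα0
  set z := y * y - (a : DA m) with hz
  have hzR : Rat G z := rat_sub (Rat.mul hG hy hy) (rat_natCast a)
  have hza : aVal p z = 0 := by
    have h' : (r (p0 m p) : DihedralGroup m) ≠ 1 := fun e => p0_ne_zero hpm (DihedralGroup.r.inj e)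
    simp only [aVal, hz, coeff_sub, Finsupp.sub_apply, coeff_natCast, r_zero, Finsupp.single_eq_same,
      Finsupp.single_eq_of_ne h']
    have : (y * y).coeff 1 - (y * y).coeff (r (p0 m p)) = α := rfl
    rw [ha] at this
    linarith
  have hzf : ∀ c : ZMod m, c * p0 m p ≠ 0 → ev c (fp z) = 0 := fun c hc => by
    rw [hz, map_sub, show fp (a : DA m) = 0 by
      rw [← map_natCast (emb (m := m)), fp_emb], sub_zero, fp_mul, map_add, map_mul, map_mul,
      ev_sta, ev_neg, ev_rp hG hpm hp2 hy hc, hay]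
    simp
  have hzc : ∀ e, z.coeff e = z.coeff 1 := kernel hG hpm hp2 hzR hza hzf
  set lam := z.coeff 1 with hlam
  have hyy : ∀ e, (y * y).coeff e = (a : DA m).coeff e + lam := fun e => by
    have h := hzc e
    simp only [hz, coeff_sub, Finsupp.sub_apply] at h ⊢
    linarith
  set J : RA m := DihedralAlgebra.mk fun _ => lam with hJ
  have hrp : rp (y * y) = (a : RA m) + J := by
    ext i
    obtain ⟨i, rfl⟩ := Multiplicative.ofAdd.surjective i
    simp only [rp_coeff, coeff_add, Finsupp.add_apply, hJ, coeff_mk, hyy, toAdd_ofAdd]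
    rw [← map_natCast (emb (m := m)), emb_coeff_r]
  have hfp : fp (y * y) = J := by
    ext i
    obtain ⟨i, rfl⟩ := Multiplicative.ofAdd.surjective i
    simp only [fp_coeff, hJ, coeff_mk, hyy, toAdd_ofAdd]
    rw [← map_natCast (emb (m := m)), emb_coeff_sr, zero_add]
  have hevJ : ∀ c : ZMod m, ev c J = if c = 0 then (lam : ℂ) * m else 0 := fun c => by
    rw [ev_eq]
    simp only [hJ, coeff_mk, ← Finset.mul_sum]
    simp_rw [mul_comm c]
    rw [AddChar.sum_mulShift c (ZMod.isPrimitive_stdAddChar m)]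
    split_ifs <;> simp [ZMod.card]
  set Xh := fun c : ZMod m => ev c (rp y) with hXh
  set Yh := fun c : ZMod m => ev c (fp y) with hYh
  have hA : ∀ c, Xh c * Xh c + Yh c * conj (Yh c) = (α : ℂ) + ev c J := fun c => by
    have h := congrArg (ev c) hrp
    rw [rp_mul, map_add, map_mul, map_mul, ev_sta, ev_neg, map_add, map_natCast] at h
    rw [hXh, hYh, h, ha]; simp
  have hB : ∀ c, 2 * Xh c * Yh c = ev c J := fun c => by
    have h := congrArg (ev c) hfp
    rw [fp_mul, map_add, map_mul, map_mul, ev_sta, ev_neg, hconj] at h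
    rw [hXh, hYh, ← h]; ring
  set S := Finset.univ.filter fun c : ZMod m => c ≠ 0 ∧ Xh c ≠ 0 with hS
  have hXS : ∀ c ∈ S, Xh c * Xh c = (α : ℂ) := fun c hc => by
    obtain ⟨-, hc0, hcX⟩ := Finset.mem_filter.1 hc
    have h2 := hB c
    have h1 := hA c
    rw [hevJ, if_neg hc0] at h1 h2
    have hy0 : Yh c = 0 := by simpa [hcX] using h2
    simpa [hy0] using h1
  have hSp : ∀ c ∈ S, c ≠ 0 ∧ c * p0 m p = 0 := fun c hc => by
    obtain ⟨-, hc0, hcX⟩ := Finset.mem_filter.1 hc
    refine ⟨hc0, by_contra fun hcp => hcX ?_⟩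
    simp only [hXh]
    rw [ev_rp hG hpm hp2 hy hcp, hay, Int.cast_zero]
  have hX0 : Xh 0 = (Xn : ℂ) := by
    simp only [hXh, ev_zero]
    congr 1
    exact Fintype.sum_equiv Multiplicative.toAdd _ _ fun i => rp_coeff _ _
  have hY0 : Yh 0 = (Yn : ℂ) := by
    simp only [hYh, ev_zero]
    congr 1
    exact Fintype.sum_equiv (Multiplicative.toAdd.trans (Equiv.neg _)) _ _ fun i => fp_coeff _ _
  have hA0 := hA 0
  have hB0 := hB 0
  rw [hevJ, if_pos rfl, hX0, hY0] at hA0 hB0
  rw [map_intCast] at hA0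
  have eA : Xn * Xn + Yn * Yn = α + lam * m := by exact_mod_cast hA0
  have eB : 2 * Xn * Yn = lam * m := by exact_mod_cast hB0
  -- sums of squares
  have pars : ∀ w : RA m, (∀ i, w.coeff i = 0 ∨ w.coeff i = 1) →
      ∑ c : ZMod m, ev c w * conj (ev c w) = (m : ℂ) * (∑ i, w.coeff i : ℤ) := fun w hw => by
    have h := sum_ev (w * sta w)
    simp only [map_mul, ev_sta, ev_neg] at h
    rw [h]
    congr 2
    conv_lhs => rw [eq_sum_single w, Finset.sum_mul, coeff_sum, Finsupp.finsetSum_apply]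
    refine Finset.sum_congr rfl fun i _ => ?_
    rw [← eq_sum_single w, coeff_single_mul_apply, mul_one, sta, coeff_mk, inv_inv]
    rcases hw i with h' | h' <;> simp [h']
  have hrw01 : ∀ i, (rp y).coeff i = 0 ∨ (rp y).coeff i = 1 := fun i => by
    rw [rp_coeff]; exact h01 _
  have hfw01 : ∀ i, (fp y).coeff i = 0 ∨ (fp y).coeff i = 1 := fun i => by
    rw [fp_coeff]; exact h01 _
  have sX : (∑ i, (rp y).coeff i : ℤ) = Xn :=
    Fintype.sum_equiv Multiplicative.toAdd _ _ fun i => rp_coeff _ _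
  have sY : (∑ i, (fp y).coeff i : ℤ) = Yn :=
    Fintype.sum_equiv (Multiplicative.toAdd.trans (Equiv.neg _)) _ _ fun i => fp_coeff _ _
  have hScard : α * S.card = Xn * (m - Xn) := by
    have h := pars (rp y) hrw01
    rw [sX, ← Finset.sum_erase_add _ _ (Finset.mem_univ (0 : ZMod m))] at h
    change ∑ c ∈ Finset.univ.erase 0, Xh c * conj (Xh c) + Xh 0 * conj (Xh 0) = _ at h
    rw [hX0, map_intCast, ← Finset.sum_subset (s₁ := S) (fun c hc =>
      Finset.mem_erase.2 ⟨(hSp c hc).1, Finset.mem_univ _⟩) (fun c hc hcS => by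
        have h' : Xh c = 0 := by_contra fun h' =>
          hcS (Finset.mem_filter.2 ⟨Finset.mem_univ _, (Finset.mem_erase.1 hc).1, h'⟩)
        rw [h', zero_mul]),
      Finset.sum_congr rfl fun c hc => (show Xh c * conj (Xh c) = (α : ℂ) by
        rw [hconj c]; exact hXS c hc), Finset.sum_const, nsmul_eq_mul] at h
    have h' : (S.card : ℤ) * α + Xn * Xn = (m : ℤ) * Xn := by exact_mod_cast h
    linarith
  have hYcard : α * (m - 1 - S.card) = Yn * (m - Yn) := by
    have h := pars (fp y) hfw01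
    rw [sY, ← Finset.sum_erase_add _ _ (Finset.mem_univ (0 : ZMod m))] at h
    change ∑ c ∈ Finset.univ.erase 0, Yh c * conj (Yh c) + Yh 0 * conj (Yh 0) = _ at h
    rw [hY0, map_intCast] at h
    have hsum : ∑ c ∈ Finset.univ.erase 0, Yh c * conj (Yh c) =
        (((m : ℤ) - 1 - S.card) * α : ℤ) := by
      have hval : ∀ c ∈ (Finset.univ : Finset (ZMod m)).erase 0,
          Yh c * conj (Yh c) = (α : ℂ) - if c ∈ S then (α : ℂ) else 0 := fun c hc => by
        have h1 := hA c
        rw [hevJ, if_neg (Finset.mem_erase.1 hc).1, add_zero] at h1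
        split_ifs with hcS
        · rw [hXS c hcS] at h1
          linear_combination h1
        · have h' : Xh c = 0 := by_contra fun h' =>
            hcS (Finset.mem_filter.2 ⟨Finset.mem_univ _, (Finset.mem_erase.1 hc).1, h'⟩)
          rw [h'] at h1
          linear_combination h1
      rw [Finset.sum_congr rfl hval, Finset.sum_sub_distrib, Finset.sum_const, Finset.sum_ite_mem,
        Finset.inter_eq_right.2 (fun c hc =>
          Finset.mem_erase.2 ⟨(hSp c hc).1, Finset.mem_univ _⟩),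
        Finset.sum_const, Finset.card_erase_of_mem (Finset.mem_univ _), Finset.card_univ, ZMod.card,
        nsmul_eq_mul, nsmul_eq_mul, Nat.cast_sub (NeZero.pos m)]
      push_cast; ring
    rw [hsum] at h
    have h' : ((m : ℤ) - 1 - S.card) * α + Yn * Yn = (m : ℤ) * Yn := by exact_mod_cast h
    linarith
  have hX1 : 1 ≤ Xn := by
    have hd1 : d ≠ 1 := fun e => by rw [e, show y.coeff 1 = 0 from h0] at hd; exact zero_ne_one hd
    obtain ⟨i, hi⟩ := exists_r hG hd1
    refine le_trans (by rw [hy.1.orb hi, hd]) (Finset.single_le_sum (f := fun i => y.coeff (r i))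
      (fun j _ => by rcases h01 (r j) with h | h <;> omega) (Finset.mem_univ i))
  have hXm : Xn ≤ m - 1 := by
    rw [hXn, ← Finset.sum_erase (s := Finset.univ) (f := fun j => y.coeff (r j)) (a := 0) h0]
    refine (Finset.sum_le_card_nsmul _ _ 1 fun j _ => by rcases h01 (r j) with h | h <;> omega).trans ?_
    rw [Finset.card_erase_of_mem (Finset.mem_univ _), Finset.card_univ, ZMod.card, nsmul_eq_mul,
      mul_one]
    have := NeZero.pos m
    omega
  have hSne : 0 < S.card := by
    rcases Nat.eq_zero_or_pos S.card with h | h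
    · rw [h, Nat.cast_zero, mul_zero] at hScard
      have : 0 < Xn * ((m : ℤ) - Xn) := mul_pos (by omega) (by omega)
      omega
    · exact h
  obtain ⟨c₁, hc₁⟩ := Finset.card_pos.1 hSne
  have hnorm : (α : ℝ) = ‖Xh c₁‖ ^ 2 := by
    have h := congrArg (fun z : ℂ => ‖z‖) (hXS c₁ hc₁)
    simp only [norm_mul, Complex.norm_intCast] at h
    rw [abs_of_nonneg (by exact_mod_cast hα0)] at h
    rw [sq, h]
  have hb : ∀ w : RA m, (∀ i, w.coeff i = 0 ∨ w.coeff i = 1) →
      ‖ev c₁ w‖ ≤ ((∑ i, w.coeff i : ℤ) : ℝ) := fun w hw => by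
    rw [ev_eq, Int.cast_sum]
    refine (norm_sum_le _ _).trans (le_of_eq ?_)
    refine Fintype.sum_equiv Multiplicative.ofAdd _ _ fun i => ?_
    rw [norm_mul, AddChar.norm_apply, mul_one]
    rcases hw (Multiplicative.ofAdd i) with h | h <;> simp [h]
  have hα1 : α ≤ Xn ^ 2 := by
    have h := hb (rp y) hrw01
    rw [sX] at h
    have h' : (α : ℝ) ≤ ((Xn ^ 2 : ℤ) : ℝ) := by
      rw [hnorm, Int.cast_pow]; exact pow_le_pow_left₀ (norm_nonneg _) h 2
    exact_mod_cast h'
  have hα2 : α ≤ (m - Xn) ^ 2 := by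
    set w : RA m := DihedralAlgebra.mk fun i => 1 - (rp y).coeff i with hw
    have hw01 : ∀ i, w.coeff i = 0 ∨ w.coeff i = 1 := fun i => by
      rcases hrw01 i with h | h <;> simp [hw, h]
    have hsumw : (∑ i, w.coeff i : ℤ) = m - Xn := by
      simp [hw, Finset.sum_sub_distrib, sX]
    have hev : ev c₁ w = -Xh c₁ := by
      have : w + rp y = DihedralAlgebra.mk fun _ => 1 := by ext i; simp [hw]
      have h := congrArg (ev c₁) this
      rw [map_add] at h
      have h0' : ev c₁ (DihedralAlgebra.mk fun _ => (1 : ℤ) : RA m) = 0 := by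
        rw [ev_eq]
        simp only [coeff_mk, Int.cast_one, one_mul]
        simp_rw [mul_comm c₁]
        rw [AddChar.sum_mulShift c₁ (ZMod.isPrimitive_stdAddChar m), if_neg (hSp c₁ hc₁).1]
        simp
      rw [h0'] at h
      exact eq_neg_of_add_eq_zero_left h
    have h := hb w hw01
    rw [hev, norm_neg, hsumw] at h
    have h' : (α : ℝ) ≤ ((((m : ℤ) - Xn) ^ 2 : ℤ) : ℝ) := by
      rw [hnorm, Int.cast_pow]; exact pow_le_pow_left₀ (norm_nonneg _) h 2
    exact_mod_cast h'
  refine ⟨α, lam, S, fun e he => ?_, hαpos, hSp,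
    fun c hc hX => Finset.mem_filter.2 ⟨Finset.mem_univ _, hc, hX⟩, hXS, hSne, ?_, eB, hScard,
    hYcard, hα1, hα2, hX1, hXm⟩
  · rw [hyy, coeff_natCast, Finsupp.single_eq_of_ne he, zero_add]
  · linear_combination eA - eB

/-- The case of an odd prime divisor. -/
theorem false_odd (hodd : p ≠ 2) {y : DA m} (hy : Rat G y)
    (h01 : ∀ e, y.coeff e = 0 ∨ y.coeff e = 1)
    (h0 : y.coeff (r 0) = 0) (hp0 : y.coeff (r (p0 m p)) = 0)
    {d : DihedralGroup m} (hd : y.coeff d = 1) : False := by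
  obtain ⟨α, lam, S, -, hα, hS, -, -, hu, eXY, -, eX, eY, b1, b2, hX1, hXm⟩ :=
    relations hG hpm hp2 hy h01 h0 hp0 hd
  classical
  have hins : p * (insert (0 : ZMod m) S).card ≤ m :=
    card_le_of_mul_eq_zero hpm hp.out.pos _ fun c hc => by
      rcases Finset.mem_insert.1 hc with rfl | hc
      · simp
      · exact (hS c hc).2
  rw [Finset.card_insert_of_notMem fun h => (hS 0 h).1 rfl] at hins
  have hp3 : 3 ≤ p := by have := hp.out.two_le; omega
  have hS3 : 3 * (S.card + 1) ≤ m := (Nat.mul_le_mul_right _ hp3).trans hins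
  set X := ∑ i : ZMod m, y.coeff (r i)
  set Y := ∑ i : ZMod m, y.coeff (sr i)
  set u : ℤ := (S.card : ℤ)
  have hu1 : 1 ≤ u := by omega
  have hm3 : 3 * (u + 1) ≤ (m : ℤ) := by omega
  have hY0 : 0 ≤ Y := Finset.sum_nonneg fun j _ => by rcases h01 (sr j) with h | h <;> omega
  have hYm : Y ≤ m := by
    refine (Finset.sum_le_card_nsmul _ _ 1 fun j _ => by rcases h01 (sr j) with h | h <;> omega).trans ?_
    simp [ZMod.card]
  have hbig : 2 * (X * ((m : ℤ) - X)) < Y * ((m : ℤ) - Y) := by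
    rw [← eX, ← eY]; nlinarith
  have hd1 : |X - Y| ≤ X := abs_le_of_sq_le_sq (by rw [eXY]; exact b1) (by omega)
  have hd2 : |X - Y| ≤ (m : ℤ) - X := abs_le_of_sq_le_sq (by rw [eXY]; exact b2) (by omega)
  rw [abs_le] at hd1 hd2
  rcases le_total Y X with h | h
  · have h1 : Y * ((m : ℤ) - Y) ≤ X * (2 * ((m : ℤ) - X)) :=
      mul_le_mul h (by omega) (by omega) (by omega)
    linarith
  · have h1 : Y * ((m : ℤ) - Y) ≤ (2 * X) * ((m : ℤ) - X) :=
      mul_le_mul (by omega) (by omega) (by omega) (by omega)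
    linarith

omit hpm hp2 hp hG in
/-- Elements of `ZMod (2 ^ a)` of the same `2`-adic valuation differ by a unit. -/
theorem level {a : ℕ} (hm : m = 2 ^ a) {s w : ℕ} (hw : Odd w) :
    ∃ u : (ZMod m)ˣ, (u : ZMod m) * ((2 ^ s : ℕ) : ZMod m) = ((2 ^ s * w : ℕ) : ZMod m) := by
  have hc : w.Coprime m := by
    rw [hm]; exact Nat.Coprime.pow_right a (Nat.coprime_two_right.2 hw)
  exact ⟨ZMod.unitOfCoprime w hc, by rw [ZMod.coe_unitOfCoprime, Nat.cast_mul, mul_comm]⟩

omit hpm hp2 hp in
/-- The case of a power of two. -/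
theorem false_two {a : ℕ} (hm : m = 2 ^ a) (ha : 1 ≤ a) {y : DA m} (hy : Rat G y)
    (h01 : ∀ e, y.coeff e = 0 ∨ y.coeff e = 1)
    (h0 : y.coeff (r 0) = 0) (hp0 : y.coeff (r (p0 m 2)) = 0)
    {d : DihedralGroup m} (hd : y.coeff d = 1) : False := by
  classical
  have h2m : 2 ∣ m := hm ▸ dvd_pow_self 2 (by omega)
  have : Fact (Nat.Prime 2) := ⟨Nat.prime_two⟩
  have hone : ordCompl[2] m = 1 := by
    rw [hm, Nat.prime_two.factorization_pow, Finsupp.single_eq_same,
      Nat.div_self (Nat.two_pow_pos a)]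
  obtain ⟨α, lam, S, hlam, hα, hS, hSc, hXS, hu, eXY, eB, eX, eY, -, -, hX1, hXm⟩ :=
    relations hG h2m (Or.inr hone) hy h01 h0 hp0 hd
  -- the levels
  set f : ℕ → ℤ := fun s => y.coeff (r ((2 ^ s : ℕ) : ZMod m)) with hf
  have hlev : ∀ s w, Odd w → y.coeff (r ((2 ^ s * w : ℕ) : ZMod m)) = f s := fun s w hw => by
    obtain ⟨u, hu⟩ := level (m := m) hm (s := s) hw
    rw [← hu, hy.2]
  have hsplit : ∀ i : ℕ, ¬m ∣ i → ∃ s w, i = 2 ^ s * w ∧ Odd w ∧ s < a := fun i hi => by
    have hi0 : i ≠ 0 := fun h => hi (h ▸ dvd_zero m)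
    obtain ⟨s, w, hw, rfl⟩ := Nat.exists_eq_two_pow_mul_odd hi0
    refine ⟨s, w, rfl, hw, ?_⟩
    by_contra h
    exact hi (hm ▸ dvd_mul_of_dvd_left (pow_dvd_pow 2 (not_lt.1 h)) w)
  have hne : ((Finset.range a).filter fun s => f s = 1).Nonempty := by
    by_contra hcon
    have hz : ∀ i : ZMod m, y.coeff (r i) = 0 := fun i => by
      rcases h01 (r i) with h | h
      · exact h
      exfalso
      by_cases hi : m ∣ i.val
      · rw [← ZMod.natCast_zmod_val i, (ZMod.natCast_eq_zero_iff _ _).2 hi, h0] at h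
        exact zero_ne_one h
      obtain ⟨s, w, hw, hwo, hs⟩ := hsplit _ hi
      rw [← ZMod.natCast_zmod_val i, hw, hlev s w hwo] at h
      exact hcon ⟨s, Finset.mem_filter.2 ⟨Finset.mem_range.2 hs, h⟩⟩
    rw [Finset.sum_eq_zero fun i _ => hz i] at hX1
    omega
  obtain ⟨s₀, hs₀, hmax⟩ := Finset.exists_max_image _ id hne
  obtain ⟨hs₀a, hf₀⟩ := Finset.mem_filter.1 hs₀
  rw [Finset.mem_range] at hs₀a
  have hs₀2 : s₀ + 2 ≤ a := by
    by_contra h
    have : s₀ = a - 1 := by omega
    have hp : ((2 ^ s₀ : ℕ) : ZMod m) = p0 m 2 := by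
      rw [this, p0, hm]
      congr 1
      rw [show a = (a - 1) + 1 by omega, pow_succ, Nat.add_sub_cancel,
        Nat.mul_div_cancel _ (by norm_num : 0 < 2)]
    rw [hf] at hf₀
    simp only [hp, hp0] at hf₀
    exact zero_ne_one hf₀
  set N := 2 ^ (s₀ + 1) with hN
  set n := 2 ^ (a - (s₀ + 1)) with hn
  have hnN : n * N = m := by rw [hn, hN, ← pow_add, hm]; congr 1; omega
  have hn2 : 2 ≤ n := by
    calc 2 = 2 ^ 1 := rfl
      _ ≤ n := Nat.pow_le_pow_right (by norm_num) (by omega)
  have hN2 : 2 ≤ N := by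
    calc 2 = 2 ^ 1 := rfl
      _ ≤ N := Nat.pow_le_pow_right (by norm_num) (by omega)
  -- values
  set g : ℕ → ℤ := fun i => y.coeff (r (i : ZMod m)) with hg
  have hgN : ∀ i, g i = g (i % N) := by
    have key : ∀ i t, g (i + N * t) = g i := fun i t => by
      by_cases hi : N ∣ i
      · obtain ⟨t', rfl⟩ := hi
        have hz : ∀ t, g (N * t) = 0 := fun t => by
          simp only [hg]
          by_cases hd : m ∣ N * t
          · rw [(ZMod.natCast_eq_zero_iff _ _).2 hd, h0]
          obtain ⟨s, w, hw, hwo, hs⟩ := hsplit _ hd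
          rw [hw, hlev s w hwo]
          rcases h01 (r ((2 ^ s : ℕ) : ZMod m)) with h | h
          · exact h
          exfalso
          have hle := hmax s (Finset.mem_filter.2 ⟨Finset.mem_range.2 hs, h⟩)
          simp only [id] at hle
          have hdiv : 2 ^ (s₀ + 1) ∣ 2 ^ s * w := ⟨t, by rw [← hw]⟩
          have := (Nat.Coprime.pow_left (s₀ + 1) (Nat.coprime_two_left.2 hwo)).dvd_of_dvd_mul_right hdiv
          exact absurd (Nat.le_of_dvd (Nat.two_pow_pos s) this) (not_le.2
            (Nat.pow_lt_pow_right (by norm_num) (by omega)))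
        rw [← mul_add, hz, hz]
      · have hi' : ¬m ∣ i := fun h => hi ((Dvd.intro_left n hnN).trans h)
        obtain ⟨s, w, hw, hwo, hs⟩ := hsplit _ hi'
        have hss : s ≤ s₀ := by
          by_contra h
          exact hi (hw ▸ dvd_mul_of_dvd_left (pow_dvd_pow 2 (by omega)) w)
        simp only [hg]
        rw [show i + N * t = 2 ^ s * (w + 2 ^ (s₀ + 1 - s) * t) by
          rw [mul_add, ← mul_assoc, ← pow_add, ← hw, Nat.add_sub_cancel' (by omega)],
          hw, hlev _ _ hwo, hlev]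
        exact hwo.add_even ((Nat.even_pow.2 ⟨even_two, by omega⟩).mul_right _)
    intro i
    conv_lhs => rw [← Nat.mod_add_div i N]
    rw [key]
  set x := ∑ i ∈ Finset.range N, g i with hx
  set X := ∑ i : ZMod m, y.coeff (r i) with hX
  set Y := ∑ i : ZMod m, y.coeff (sr i) with hY
  have hXn : X = n * x := by
    rw [hx, ← sum_periodic n N g, hnN]
    refine Finset.sum_bij' (fun i _ => i.val) (fun k _ => (k : ZMod m))
      (fun i _ => Finset.mem_range.2 (ZMod.val_lt i)) (fun k _ => Finset.mem_univ _)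
      (fun i _ => ZMod.natCast_zmod_val i)
      (fun k hk => ZMod.val_cast_of_lt (Finset.mem_range.1 hk)) (fun i _ => ?_)
    rw [← hgN]; simp [hg]
  -- the character at `n`
  have hnum : ZMod.stdAddChar ((n : ZMod m) * ((2 ^ s₀ : ℕ) : ZMod m)) = (-1 : ℂ) := by
    set e := (ZMod.stdAddChar ((n : ZMod m) * ((2 ^ s₀ : ℕ) : ZMod m)) : ℂ)
    have hne1 : e ≠ 1 := stdAddChar_ne_one fun h => by
      rw [← Nat.cast_mul, ZMod.natCast_eq_zero_iff, ← hnN] at h
      have := Nat.le_of_dvd (Nat.two_pow_pos s₀) ((Nat.mul_dvd_mul_iff_left (by omega)).1 h)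
      rw [hN, pow_succ] at this
      have := Nat.two_pow_pos s₀
      omega
    have hsq : e * e = 1 := by
      rw [← AddChar.map_add_eq_mul, ← two_mul, ← mul_assoc, mul_comm (2 : ZMod m), mul_assoc,
        show (2 : ZMod m) * ((2 ^ s₀ : ℕ) : ZMod m) = (N : ZMod m) by
          rw [hN, pow_succ']; push_cast; ring,
        ← Nat.cast_mul, hnN, ZMod.natCast_self, AddChar.map_zero_eq_one]
    exact (mul_self_eq_one_iff.1 hsq).resolve_left hne1
  have hXhn : ev (n : ZMod m) (rp y) = -(n : ℂ) := by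
    set L : RA m := DihedralAlgebra.mk fun i =>
      if i.toAdd.val % N = 2 ^ s₀ then (1 : ℤ) else 0 with hL
    have hmodN : ∀ i : ℕ, (i : ZMod m).val % N = i % N := fun i => by
      rw [ZMod.val_natCast, Nat.mod_mod_of_dvd _ (Dvd.intro_left n hnN)]
    have hLy : ∀ i : ℕ, i % N = 2 ^ s₀ → g i = 1 := fun i hi => by
      rw [hgN, hi]; exact hf₀
    have hrest : ev (n : ZMod m) (rp y - L) = 0 := by
      refine ev_eq_zero_of_shift _ ((2 ^ s₀ : ℕ) : ZMod m) (fun i => ?_)
        (fun h => by rw [h, AddChar.map_zero_eq_one] at hnum; norm_num at hnum)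
      obtain ⟨i, rfl⟩ : ∃ k : ℕ, (k : ZMod m) = i := ⟨i.val, ZMod.natCast_zmod_val i⟩
      simp only [coeff_sub, Finsupp.sub_apply, rp_coeff, hL, coeff_mk, toAdd_ofAdd, ← Nat.cast_add,
        hmodN]
      change g (i + 2 ^ s₀) - _ = g i - _
      have hN' : N = 2 * 2 ^ s₀ := by rw [hN, pow_succ']
      by_cases h1 : i % N = 2 ^ s₀
      · rw [if_pos h1, hLy i h1, hgN, Nat.add_mod, h1, Nat.mod_eq_of_lt (a := 2 ^ s₀) (by omega),
          ← two_mul, ← hN', Nat.mod_self, if_neg (by have := Nat.two_pow_pos s₀; omega)]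
        simpa [hg] using h0
      by_cases h2 : i % N = 0
      · rw [if_neg h1, hgN i, h2, Nat.add_mod, h2, zero_add, Nat.mod_mod,
          Nat.mod_eq_of_lt (a := 2 ^ s₀) (by omega), if_pos rfl,
          hLy (i + 2 ^ s₀) (by
            rw [Nat.add_mod, h2, zero_add, Nat.mod_mod, Nat.mod_eq_of_lt]; omega)]
        simpa [hg] using h0.symm
      have h3 : (i + 2 ^ s₀) % N ≠ 2 ^ s₀ := by
        have hlt := Nat.mod_lt i (show 0 < N by omega)
        rw [Nat.add_mod, Nat.mod_eq_of_lt (a := 2 ^ s₀) (by omega)]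
        rcases lt_or_ge (i % N + 2 ^ s₀) N with h | h
        · rw [Nat.mod_eq_of_lt h]; omega
        · rw [Nat.mod_eq_sub_mod h, Nat.mod_eq_of_lt (by have := Nat.mod_lt i (show 0 < N by omega); omega)]
          omega
      rw [if_neg h1, if_neg h3, sub_zero, sub_zero]
      -- same level
      have hi' : ¬2 ^ s₀ ∣ i := by
        intro hdiv
        obtain ⟨t, ht⟩ := hdiv
        rw [ht, hN', mul_comm 2, Nat.mul_mod_mul_left] at h1 h2
        rcases Nat.mod_two_eq_zero_or_one t with h | h <;> simp [h] at h1 h2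
      have hmi : ¬m ∣ i := fun h => hi' ((hN' ▸ dvd_mul_left _ _ : 2 ^ s₀ ∣ N).trans ((Dvd.intro_left n hnN).trans h))
      obtain ⟨s, w, hw, hwo, -⟩ := hsplit _ hmi
      have hss : s < s₀ := by
        by_contra h
        exact hi' (hw ▸ dvd_mul_of_dvd_left (pow_dvd_pow 2 (not_lt.1 h)) w)
      simp only [hg]
      rw [show i + 2 ^ s₀ = 2 ^ s * (w + 2 ^ (s₀ - s)) by
          rw [mul_add, ← pow_add, ← hw, Nat.add_sub_cancel' hss.le], hw, hlev _ _ hwo, hlev]
      exact hwo.add_even (Nat.even_pow.2 ⟨even_two, by omega⟩)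
    rw [map_sub, sub_eq_zero] at hrest
    rw [hrest, ev_eq]
    have hterm : ∀ i : ZMod m, ((L.coeff (Multiplicative.ofAdd i) : ℤ) : ℂ) *
        ZMod.stdAddChar ((n : ZMod m) * i) =
        -((L.coeff (Multiplicative.ofAdd i) : ℤ) : ℂ) := fun i => by
      simp only [hL, coeff_mk, toAdd_ofAdd]
      split_ifs with h
      · have : (n : ZMod m) * i = (n : ZMod m) * ((2 ^ s₀ : ℕ) : ZMod m) := by
          conv_lhs => rw [← ZMod.natCast_zmod_val i, ← Nat.mod_add_div i.val N, h]
          rw [Nat.cast_add, mul_add, Nat.cast_mul N, ← mul_assoc, ← Nat.cast_mul n N, hnN,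
            ZMod.natCast_self, zero_mul, add_zero]
        rw [this, hnum]; simp
      · simp
    rw [Finset.sum_congr rfl fun i _ => hterm i, Finset.sum_neg_distrib, ← Int.cast_sum]
    congr 1
    have hcount : ∑ i : ZMod m, L.coeff (Multiplicative.ofAdd i) = (n : ℤ) := by
      rw [show ∑ i : ZMod m, L.coeff (Multiplicative.ofAdd i) =
        ∑ k ∈ Finset.range (n * N), (fun j : ℕ => if j = 2 ^ s₀ then (1 : ℤ) else 0) (k % N) from ?_,
        sum_periodic n N (fun j : ℕ => if j = 2 ^ s₀ then (1 : ℤ) else 0), Finset.sum_ite_eq', if_pos (Finset.mem_range.2 (by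
          rw [hN, pow_succ]; have := Nat.two_pow_pos s₀; omega)), mul_one]
      rw [hnN]
      refine Finset.sum_bij' (fun i _ => i.val) (fun k _ => (k : ZMod m))
        (fun i _ => Finset.mem_range.2 (ZMod.val_lt i)) (fun k _ => Finset.mem_univ _)
        (fun i _ => ZMod.natCast_zmod_val i)
        (fun k hk => ZMod.val_cast_of_lt (Finset.mem_range.1 hk)) (fun i _ => ?_)
      simp [hL]
    rw [hcount]; simp
  have hnne : (n : ZMod m) ≠ 0 := fun h => by rw [h, zero_mul, AddChar.map_zero_eq_one] at hnum; norm_num at hnum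
  have hmem : (n : ZMod m) ∈ S := hSc _ hnne (by
    rw [hXhn, neg_ne_zero, Nat.cast_ne_zero]; omega)
  have hαn : α = (n : ℤ) ^ 2 := by
    have h := hXS _ hmem
    rw [hXhn, neg_mul_neg, ← sq] at h
    exact_mod_cast h.symm
  have hins : n * (insert (0 : ZMod m) S).card ≤ m := by
    refine card_le_of_mul_eq_zero (Dvd.intro N hnN) (by omega) _ fun c hc => ?_
    rw [show m / n = N by rw [← hnN, Nat.mul_div_cancel_left _ (by omega)]]
    rcases Finset.mem_insert.1 hc with rfl | hc
    · simp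
    by_contra hne
    have h' : ev c (rp y) = 0 := ev_eq_zero_of_shift _ (N : ZMod m) (fun i => by
      simp only [rp_coeff, toAdd_ofAdd]
      rw [← ZMod.natCast_zmod_val i, ← Nat.cast_add]
      change g (i.val + N) = g i.val
      rw [hgN, Nat.add_mod_right, ← hgN]) hne
    have := hXS c hc
    rw [h', mul_zero] at this
    exact hα.ne' (by exact_mod_cast this.symm)
  rw [Finset.card_insert_of_notMem fun h => (hS 0 h).1 rfl] at hins
  have hSN : S.card + 1 ≤ N :=
    Nat.le_of_mul_le_mul_left (hins.trans hnN.ge) (show 0 < n by omega)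
  have hmZ : (m : ℤ) = n * N := by exact_mod_cast hnN.symm
  have hnpos : (0 : ℤ) < n := by omega
  rw [hαn] at eX eY eXY
  have ex : x * ((N : ℤ) - x) = S.card := by
    have h : (n : ℤ) ^ 2 * (x * ((N : ℤ) - x)) = (n : ℤ) ^ 2 * S.card := by
      rw [eX, hXn, hmZ]; ring
    exact mul_left_cancel₀ (by positivity) h
  have hx1 : 1 ≤ x := by
    by_contra h
    have : (n : ℤ) * x ≤ 0 := mul_nonpos_of_nonneg_of_nonpos hnpos.le (by omega)
    omega
  have hxN : x ≤ (N : ℤ) - 1 := by
    by_contra h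
    have : (n : ℤ) * N ≤ n * x := mul_le_mul_of_nonneg_left (by omega) hnpos.le
    omega
  have hSZ : (S.card : ℤ) + 1 ≤ N := by exact_mod_cast hSN
  have hxcase : x = 1 ∨ x = (N : ℤ) - 1 := by
    by_contra h
    push Not at h
    have : 0 < (x - 1) * ((N : ℤ) - 1 - x) := mul_pos (by omega) (by omega)
    nlinarith
  have hScard : (S.card : ℤ) = (N : ℤ) - 1 := by
    rcases hxcase with h | h <;> rw [h] at ex <;> linarith
  obtain ⟨z, hYz, hzx⟩ : ∃ z, Y = n * z ∧ (z = x - 1 ∨ z = x + 1) := by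
    rcases sq_eq_sq_iff_eq_or_eq_neg.1 eXY with h | h
    · exact ⟨x - 1, by rw [mul_sub, mul_one, ← hXn]; linarith, Or.inl rfl⟩
    · exact ⟨x + 1, by rw [mul_add, mul_one, ← hXn]; linarith, Or.inr rfl⟩
  have ez : z * ((N : ℤ) - z) = N * ((n : ℤ) - 1) := by
    have h : (n : ℤ) ^ 2 * (z * ((N : ℤ) - z)) = (n : ℤ) ^ 2 * (N * ((n : ℤ) - 1)) := by
      rw [hYz, hmZ, hScard] at eY
      linear_combination -eY
    exact mul_left_cancel₀ (by positivity) h
  have hn3 : n = 2 ∧ N = 4 ∧ z = 2 := by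
    have hnge : (2 : ℤ) ≤ n := by exact_mod_cast hn2
    have hNge : (2 : ℤ) ≤ N := by exact_mod_cast hN2
    have hpos : 0 < (N : ℤ) * ((n : ℤ) - 1) := mul_pos (by omega) (by omega)
    have hz : z = 2 ∨ z = (N : ℤ) - 2 := by
      rcases hxcase with h | h <;> rcases hzx with h' | h'
      · rw [show z = 0 by omega] at ez; simp at ez; omega
      · left; omega
      · right; omega
      · rw [show z = (N : ℤ) by omega] at ez; simp at ez; omega
    have he : (N : ℤ) * (3 - (n : ℤ)) = 4 := by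
      rcases hz with h | h <;> rw [h] at ez <;> linarith
    have hnlt : (n : ℤ) < 3 := by
      by_contra h
      have : (N : ℤ) * (3 - (n : ℤ)) ≤ 0 := mul_nonpos_of_nonneg_of_nonpos (by omega) (by omega)
      omega
    have hn' : (n : ℤ) = 2 := by omega
    rw [hn'] at he
    have hN' : (N : ℤ) = 4 := by linarith
    exact ⟨by exact_mod_cast hn', by exact_mod_cast hN', by rcases hz with h | h <;> omega⟩
  obtain ⟨hn', hN', rfl⟩ := hn3
  have hm8 : m = 8 := by rw [← hnN, hn', hN']
  have hs1 : s₀ = 1 := by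
    have : s₀ + 1 = 2 := Nat.pow_right_injective (le_refl 2) (show 2 ^ (s₀ + 1) = 2 ^ 2 by rw [← hN]; exact hN')
    omega
  subst hm8
  -- coefficient equations on eight points
  have hY4 : Y = 4 := by rw [hYz, hn']; norm_num
  have hconv : ∀ k : ZMod 8, k ≠ 0 →
      ∑ j : ZMod 8, y.coeff (r j) * y.coeff (r (k - j)) +
        ∑ j : ZMod 8, y.coeff (sr j) * y.coeff (sr (j + k)) = lam := fun k hk => by
    rw [← hlam (r k) (fun e => hk (DihedralGroup.r.inj e)), cmul]
    let e : ZMod 8 ⊕ ZMod 8 ≃ DihedralGroup 8 :=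
      { toFun := Sum.elim r sr
        invFun := fun d => match d with
          | r i => Sum.inl i
          | sr i => Sum.inr i
        left_inv := fun i => by cases i <;> rfl
        right_inv := fun i => by cases i <;> rfl }
    rw [← e.sum_comp, Fintype.sum_sum_type]
    congr 1
    refine Finset.sum_congr rfl fun j _ => ?_
    simp [e, sub_eq_neg_add]
  have hgv : ∀ i : ZMod 8, y.coeff (r i) =
      if i = 2 ∨ i = 6 then 1 else if i = 1 ∨ i = 3 ∨ i = 5 ∨ i = 7 then f 0 else 0 := by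
    have h4 : y.coeff (r (4 : ZMod 8)) = 0 := hp0
    have hf1 : f 1 = 1 := hs1 ▸ hf₀
    have e1 := hlev 1 1 odd_one
    have e6 := hlev 1 3 (by decide)
    have o3 := hlev 0 3 (by decide)
    have o5 := hlev 0 5 (by decide)
    have o7 := hlev 0 7 (by decide)
    have o1 := hlev 0 1 odd_one
    rw [hf1] at e1 e6
    intro i
    fin_cases i
    · exact h0
    · exact o1
    · exact e1
    · exact o3
    · exact h4
    · exact o5
    · exact e6
    · exact o7
  obtain ⟨b, hb⟩ : ∃ b : Bool, f 0 = if b then 1 else 0 := by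
    rcases h01 (r ((2 ^ 0 : ℕ) : ZMod 8)) with h | h
    · exact ⟨false, by simpa [hf] using h⟩
    · exact ⟨true, by simpa [hf] using h⟩
  let γ : ZMod 8 → Bool := fun j => decide (y.coeff (sr j) = 1)
  have hγ : ∀ j, y.coeff (sr j) = if γ j then 1 else 0 := fun j => by
    rcases h01 (sr j) with h | h <;> simp [γ, h]
  have hγ2 : ∀ k j, y.coeff (sr j) * y.coeff (sr (j + k)) =
      ((if γ j && γ (j + k) then 1 else 0 : ℕ) : ℤ) := fun k j => by
    rw [hγ j, hγ (j + k)]; cases γ j <;> cases γ (j + k) <;> rfl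
  have c4 := hconv 4 (by decide)
  have c1 := hconv 1 (by decide)
  rw [Finset.sum_congr rfl fun j (_ : j ∈ Finset.univ) => hγ2 4 j, ← Nat.cast_sum] at c4
  rw [Finset.sum_congr rfl fun j (_ : j ∈ Finset.univ) => hγ2 1 j, ← Nat.cast_sum] at c1
  have hcard : (∑ i : ZMod 8, if γ i then (1 : ℕ) else 0) = 4 := by
    have : ((∑ i : ZMod 8, if γ i then (1 : ℕ) else 0 : ℕ) : ℤ) = 4 := by
      rw [← hY4, hY, Nat.cast_sum]
      exact Finset.sum_congr rfl fun j _ => by rw [hγ j]; split_ifs <;> rfl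
    exact_mod_cast this
  rw [hX, hY4] at eB
  simp only [hgv, hb] at c4 c1 eB
  obtain ⟨v0, v4, v1⟩ := eightVals b
  change 2 * (∑ j : ZMod 8, eightF b j) * 4 = lam * ((8 : ℕ) : ℤ) at eB
  change (∑ j : ZMod 8, eightF b j * eightF b (4 - j)) + _ = lam at c4
  change (∑ j : ZMod 8, eightF b j * eightF b (1 - j)) + _ = lam at c1
  rw [v0] at eB
  rw [v4] at c4
  rw [v1] at c1
  have k4 : ((∑ i : ZMod 8, if γ i && γ (i + 4) then (1 : ℕ) else 0 : ℕ) : ℤ) = 0 := by
    cases b <;> simp only [Bool.false_eq_true, if_false, if_true] at eB c4 <;>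
      norm_num at eB <;> omega
  have k1 : ((∑ i : ZMod 8, if γ i && γ (i + 1) then (1 : ℕ) else 0 : ℕ) : ℤ) = 2 := by
    cases b <;> simp only [Bool.false_eq_true, if_false, if_true] at eB c1 <;>
      norm_num at eB <;> omega
  replace k4 := Int.natCast_inj.1 (k4.trans Nat.cast_zero.symm)
  replace k1 := Int.natCast_inj.1 (k1.trans (Nat.cast_ofNat (n := 2)).symm)
  have key := eight b γ hcard k4 k1
  simp at key

omit hpm hp2 hp in
/-- The point stabiliser is transitive on the other points. -/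
theorem transitive (d d' : DihedralGroup m) (hd : d ≠ 1) (hd' : d' ≠ 1) : Orb G d d' := by
  classical
  refine all_orbit hG (fun x hx e e' he he' => ?_) d d' hd hd'
  have key : ∀ (q : ℕ), q.Prime → q ∣ m → ∀ e, e ≠ 1 → x.coeff e = x.coeff (r (p0 m q)) := by
    intro q hq hqm e he
    have : Fact q.Prime := ⟨hq⟩
    by_contra hne
    let y : DA m := DihedralAlgebra.mk fun f =>
      if f ≠ 1 ∧ x.coeff f = x.coeff e then (1 : ℤ) else 0
    have hy : Rat G y := by
      refine ⟨IA.mk fun σ hσ a b => by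
        have e1 := inv_eq_one (G := G) σ hσ a b
        have e2 : x.coeff ((σ a)⁻¹ * σ b) = x.coeff (a⁻¹ * b) := hx.1 σ hσ a b
        simp only [ne_eq, e1, e2], fun u i => ?_⟩
      simp only [y, coeff_mk, hx.2, DihedralGroup.one_def, ne_eq, DihedralGroup.r.injEq,
        u.isUnit.mul_right_eq_zero]
    have h01 : ∀ f, y.coeff f = 0 ∨ y.coeff f = 1 := fun f => by
      simp only [y, coeff_mk]; split_ifs <;> simp
    have h0 : y.coeff (r 0) = 0 := by simp [y]
    have hp0 : y.coeff (r (p0 m q)) = 0 := by simp [y, Ne.symm hne]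
    have hyd : y.coeff e = 1 := by simp [y, he]
    by_cases hone : ∃ r', r'.Prime ∧ r' ∣ m ∧ r' ≠ 2
    · obtain ⟨r', hr, hrm, hr2⟩ := hone
      by_cases hqr : q = 2
      · subst hqr
        have : Fact r'.Prime := ⟨hr⟩
        have hcst : ∀ f, f ≠ 1 → x.coeff f = x.coeff (r (p0 m r')) := fun f hf => by
          by_contra hne'
          let y' : DA m := DihedralAlgebra.mk fun g =>
            if g ≠ 1 ∧ x.coeff g = x.coeff f then (1 : ℤ) else 0
          refine false_odd hG hrm (Or.inl hr2) hr2 (y := y') (d := f)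
            ⟨IA.mk fun σ hσ a b => by
        have e1 := inv_eq_one (G := G) σ hσ a b
        have e2 : x.coeff ((σ a)⁻¹ * σ b) = x.coeff (a⁻¹ * b) := hx.1 σ hσ a b
        simp only [ne_eq, e1, e2], fun u i => ?_⟩ (fun g => ?_) ?_ ?_ ?_
          · simp only [y', coeff_mk, hx.2, DihedralGroup.one_def, ne_eq, DihedralGroup.r.injEq,
              u.isUnit.mul_right_eq_zero]
          · simp only [y', coeff_mk]; split_ifs <;> simp
          · simp [y']
          · simp [y', Ne.symm hne']
          · simp [y', hf]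
        refine hne ((hcst e he).trans (hcst _ ?_).symm)
        exact fun h => p0_ne_zero hqm (DihedralGroup.r.inj h)
      · exact false_odd hG hqm (Or.inl hqr) hqr hy h01 h0 hp0 hyd
    · push Not at hone
      obtain ⟨a, ha⟩ : ∃ a, m = 2 ^ a := ⟨_, Nat.eq_prime_pow_of_unique_prime_dvd (NeZero.ne m)
        fun {d} hd hdm => hone d hd hdm⟩
      have ha1 : 1 ≤ a := by
        by_contra h
        have := hG.two_le
        rw [show a = 0 by omega, pow_zero] at ha
        omega
      obtain rfl := hone q hq hqm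
      exact false_two hG ha ha1 hy h01 h0 hp0 hyd
  obtain ⟨q, hq, hqm⟩ := Nat.exists_prime_and_dvd (show m ≠ 1 by have := hG.two_le; omega)
  rw [key q hq hqm e he, key q hq hqm e' he']

end

end CfsgLib.LocalEvenB.DihedralSchur
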