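import Cfsg.Agent.Lib.LocalEvenB.DihedralAlgebra

/-!
Schur rings over dihedral groups: invariant functions of a permutation group on a dihedral group
containing the left translations. If no proper nontrivial subgroup gives an invariant relation
then away from the identity every invariant function which is stable under multipliers is
constant, and the point stabiliser is transitive.
-/

set_option autoImplicit false
set_option linter.unusedSectionVars false

open scoped ComplexConjugate

namespace CfsgLib.LocalEvenB.DihedralSchur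

open DihedralGroup DihedralAlgebra MonoidAlgebra

noncomputable section

variable {m : ℕ} [NeZero m] {G : Subgroup (Equiv.Perm (DihedralGroup m))}

/-- `f` is the difference function of a `G`-invariant function of two variables. -/
def Inv (G : Subgroup (Equiv.Perm (DihedralGroup m))) {α : Sort*} (f : DihedralGroup m → α) :
    Prop :=
  ∀ σ ∈ G, ∀ a b, f ((σ a)⁻¹ * σ b) = f (a⁻¹ * b)

/-- The orbits of the point stabiliser. -/
def Orb (G : Subgroup (Equiv.Perm (DihedralGroup m))) (d d' : DihedralGroup m) : Prop :=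
  ∃ σ ∈ G, σ 1 = 1 ∧ σ d = d'

/-- Standing hypotheses. -/
structure Prim (G : Subgroup (Equiv.Perm (DihedralGroup m))) : Prop where
  htr : ∀ d, Equiv.mulLeft d ∈ G
  prim : ∀ H : Subgroup (DihedralGroup m), Inv G (fun d => d ∈ H) → H = ⊥ ∨ H = ⊤
  two_le : 2 ≤ m

theorem Inv.comp {α β : Sort*} {f : DihedralGroup m → α} (hf : Inv G f) (h : α → β) :
    Inv G fun d => h (f d) := fun σ hσ a b => congrArg h (hf σ hσ a b)

theorem Inv.comp₂ {α β γ : Sort*} {f : DihedralGroup m → α} {g : DihedralGroup m → β}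
    (hf : Inv G f) (hg : Inv G g) (h : α → β → γ) : Inv G fun d => h (f d) (g d) :=
  fun σ hσ a b => congrArg₂ h (hf σ hσ a b) (hg σ hσ a b)

theorem inv_eq_one : Inv G fun d => d = 1 := fun σ _ a b => by
  simp only [inv_mul_eq_one, EmbeddingLike.apply_eq_iff_eq]

theorem Inv.orb {α : Sort*} {f : DihedralGroup m → α} (hf : Inv G f) {d d' : DihedralGroup m}
    (h : Orb G d d') : f d' = f d := by
  obtain ⟨σ, hσ, h1, rfl⟩ := h
  simpa [h1] using hf σ hσ 1 d

theorem orb_refl (d : DihedralGroup m) : Orb G d d := ⟨1, one_mem _, rfl, rfl⟩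

theorem orb_trans {a b c : DihedralGroup m} (h : Orb G a b) (h' : Orb G b c) : Orb G a c := by
  obtain ⟨σ, hσ, h1, rfl⟩ := h
  obtain ⟨τ, hτ, h1', rfl⟩ := h'
  exact ⟨τ * σ, mul_mem hτ hσ, by simp [h1, h1'], rfl⟩

theorem orb_symm {a b : DihedralGroup m} (h : Orb G a b) : Orb G b a := by
  obtain ⟨σ, hσ, h1, rfl⟩ := h
  refine ⟨σ⁻¹, inv_mem hσ, ?_, ?_⟩
  · rw [Equiv.Perm.inv_eq_iff_eq]; exact h1.symm
  · simp

theorem orb_ne_one {a b : DihedralGroup m} (h : Orb G a b) (ha : a ≠ 1) : b ≠ 1 := by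
  obtain ⟨σ, hσ, h1, rfl⟩ := h
  exact fun e => ha (σ.injective (e.trans h1.symm))

variable (hG : Prim G)
include hG

theorem orb_smul {σ : Equiv.Perm (DihedralGroup m)} (hσ : σ ∈ G) (a b : DihedralGroup m) :
    Orb G (a⁻¹ * b) ((σ a)⁻¹ * σ b) :=
  ⟨Equiv.mulLeft (σ a)⁻¹ * σ * Equiv.mulLeft a,
    mul_mem (mul_mem (hG.htr _) hσ) (hG.htr _), by simp, by simp⟩

theorem inv_of_orb {α : Sort*} {f : DihedralGroup m → α}
    (h : ∀ d d', Orb G d d' → f d' = f d) : Inv G f :=
  fun _σ hσ a b => h _ _ (orb_smul hG hσ a b)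

theorem inv_orb (d : DihedralGroup m) : Inv G (Orb G d) :=
  inv_of_orb hG fun _ _ h => propext ⟨fun h' => orb_trans h' (orb_symm h), fun h' => orb_trans h' h⟩

theorem closure_orb (d : DihedralGroup m) (hd : d ≠ 1) :
    Subgroup.closure {e | Orb G d e} = ⊤ := by
  set K := Subgroup.closure {e | Orb G d e}
  have key : ∀ x ∈ K, ∀ σ ∈ G, ∀ a, (σ a)⁻¹ * σ (a * x) ∈ K := by
    intro x hx
    induction hx using Subgroup.closure_induction with
    | mem e he =>
      intro σ hσ a
      refine Subgroup.subset_closure (orb_trans he ?_)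
      simpa using orb_smul hG hσ a (a * e)
    | one =>
      intro σ hσ a
      simp
    | mul x y _ _ ihx ihy =>
      intro σ hσ a
      have := mul_mem (ihx σ hσ a) (ihy σ hσ (a * x))
      simpa [mul_assoc] using this
    | inv x _ ih =>
      intro σ hσ a
      simpa [mul_assoc] using inv_mem (ih σ hσ (a * x⁻¹))
  have hK : Inv G (fun e => e ∈ K) := fun σ hσ a b => by
    refine propext ⟨fun h => ?_, fun h => ?_⟩
    · simpa using key _ h σ⁻¹ (inv_mem hσ) (σ a)
    · simpa using key _ h σ hσ a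
  rcases hG.prim K hK with h | h
  · have : d ∈ K := Subgroup.subset_closure (orb_refl d)
    rw [h, Subgroup.mem_bot] at this
    exact absurd this hd
  · exact h

theorem exists_sr {d : DihedralGroup m} (hd : d ≠ 1) : ∃ j, Orb G d (sr j) := by
  by_contra h
  push Not at h
  have hle : Subgroup.closure {e | Orb G d e} ≤ (rotHom (m := m)).range := by
    rw [Subgroup.closure_le]
    intro e he
    cases e with
    | r i => exact ⟨Multiplicative.ofAdd i, rfl⟩
    | sr j => exact absurd he (h j)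
  rw [closure_orb hG d hd] at hle
  obtain ⟨i, hi⟩ := hle (Subgroup.mem_top (sr 0 : DihedralGroup m))
  cases hi

omit hG in
/-- Product coefficient. -/
theorem cmul (x y : DA m) (d : DihedralGroup m) :
    (x * y).coeff d = ∑ t, x.coeff t * y.coeff (t⁻¹ * d) := by
  conv_lhs => rw [eq_sum_single x, Finset.sum_mul]
  simp [coeff_sum, coeff_single_mul_apply]

omit hG in
/-- Invariant elements of the group ring. -/
abbrev IA (G : Subgroup (Equiv.Perm (DihedralGroup m))) (x : DA m) : Prop :=
  Inv G fun d => x.coeff d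

theorem exists_r {d : DihedralGroup m} (hd : d ≠ 1) : ∃ i, Orb G d (r i) := by
  classical
  by_contra h
  push Not at h
  obtain ⟨j, hj⟩ := exists_sr hG hd
  by_cases h2 : ∃ j', j' ≠ j ∧ Orb G d (sr j')
  · obtain ⟨j', hne, hj'⟩ := h2
    set x : DA m := mk fun e => if Orb G d e then 1 else 0 with hx
    have hxI : IA G x := fun σ hσ a b => by
      simp only [hx, coeff_mk, (inv_orb hG d) σ hσ a b]
    set e₀ : DihedralGroup m := sr j * sr j' with he₀
    have he1 : e₀ ≠ 1 := by
      rw [he₀, sr_mul_sr, one_def]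
      intro e
      exact hne (sub_eq_zero.1 (DihedralGroup.r.inj e))
    have hpos : 0 < (x * x).coeff e₀ := by
      rw [cmul]
      refine Finset.sum_pos' (fun t _ => ?_) ⟨sr j, Finset.mem_univ _, ?_⟩
      · simp only [hx, coeff_mk]; split_ifs <;> simp
      · simp only [hx, coeff_mk, he₀, inv_mul_cancel_left, if_pos hj, if_pos hj']
        simp
    obtain ⟨k, hk⟩ := exists_sr hG he1
    have hmul : IA G (x * x) := by
      intro σ hσ a b
      change (x * x).coeff _ = (x * x).coeff _
      rw [cmul, cmul]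
      refine Fintype.sum_equiv ((Equiv.mulLeft (σ a)).trans (σ.symm.trans (Equiv.mulLeft a⁻¹))) _ _
        fun t => ?_
      simp only [Equiv.trans_apply, Equiv.coe_mulLeft]
      have e1 := hxI σ hσ a (σ.symm (σ a * t))
      have e2 := hxI σ hσ (σ.symm (σ a * t)) b
      simp only [Equiv.apply_symm_apply] at e1 e2
      rw [← e1, mul_inv_rev, inv_inv, mul_assoc _ a (a⁻¹ * b), mul_inv_cancel_left, ← e2]
      simp [mul_assoc]
    rw [← hmul.orb hk, cmul] at hpos
    obtain ⟨t, -, ht⟩ := Finset.exists_ne_zero_of_sum_ne_zero hpos.ne'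
    simp only [hx, coeff_mk, ne_eq, mul_eq_zero, ite_eq_right_iff, one_ne_zero, imp_false, not_or,
      not_not] at ht
    cases t with
    | r i => exact h i ht.1
    | sr i =>
      rw [inv_sr, sr_mul_sr] at ht
      exact h _ ht.2
  · push Not at h2
    have hle : Subgroup.closure {e | Orb G d e} ≤ Subgroup.zpowers (sr j : DihedralGroup m) := by
      rw [Subgroup.closure_le]
      intro e he
      cases e with
      | r i => exact absurd he (h i)
      | sr i =>
        rcases eq_or_ne i j with rfl | hne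
        · exact Subgroup.mem_zpowers _
        · exact absurd he (h2 i hne)
    rw [closure_orb hG d hd, top_le_iff] at hle
    have hc := congrArg (fun H : Subgroup (DihedralGroup m) => Nat.card H) hle
    simp only [Nat.card_zpowers, orderOf_sr, Subgroup.card_top, DihedralGroup.nat_card] at hc
    have := hG.two_le
    omega

theorem Inv.forall_of_rot {α : Sort*} {f : DihedralGroup m → α} (hf : Inv G f) (P : α → Prop)
    (h : ∀ i, P (f (r i))) (d : DihedralGroup m) : P (f d) := by
  by_cases hd : d = 1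
  · subst hd; exact h 0
  · obtain ⟨i, hi⟩ := exists_r hG hd
    rw [← hf.orb hi]; exact h i

theorem Inv.symm' {α : Sort*} {f : DihedralGroup m → α} (hf : Inv G f) (d : DihedralGroup m) :
    f d⁻¹ = f d := by
  by_cases hd : d = 1
  · subst hd; simp
  · obtain ⟨j, hj⟩ := exists_sr hG hd
    have hf' : Inv G fun e => f e⁻¹ := fun σ hσ a b => by
      simpa [mul_inv_rev] using hf σ hσ b a
    have h1 := hf'.orb hj
    simp only [inv_sr] at h1
    rw [← h1, hf.orb hj]

omit hG in
theorem IA.mul {x y : DA m} (hx : IA G x) (hy : IA G y) : IA G (x * y) := by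
  intro σ hσ a b
  change (x * y).coeff _ = (x * y).coeff _
  rw [cmul, cmul]
  refine Fintype.sum_equiv ((Equiv.mulLeft (σ a)).trans (σ.symm.trans (Equiv.mulLeft a⁻¹))) _ _
    fun t => ?_
  simp only [Equiv.trans_apply, Equiv.coe_mulLeft]
  have e1 := hx σ hσ a (σ.symm (σ a * t))
  have e2 := hy σ hσ (σ.symm (σ a * t)) b
  simp only [Equiv.apply_symm_apply] at e1 e2
  rw [← e1, mul_inv_rev, inv_inv, mul_assoc _ a (a⁻¹ * b), mul_inv_cancel_left, ← e2]
  simp [mul_assoc]

omit hG in
theorem IA.natCast (n : ℕ) : IA G (n : DA m) := fun σ hσ a b => by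
  classical
  simp only [coeff_natCast, Finsupp.single_apply]
  exact if_congr (by simpa only [eq_comm] using Iff.of_eq (inv_eq_one σ hσ a b)) rfl rfl

omit hG in
theorem IA.one : IA G (1 : DA m) := by simpa using IA.natCast (G := G) (m := m) 1

omit hG in
theorem IA.pow {x : DA m} (hx : IA G x) : ∀ n : ℕ, IA G (x ^ n)
  | 0 => by simpa using IA.one (G := G) (m := m)
  | n + 1 => by rw [pow_succ]; exact IA.mul (IA.pow hx n) hx

omit hG in
theorem IA.sub {x y : DA m} (hx : IA G x) (hy : IA G y) : IA G (x - y) := fun σ hσ a b => by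
  simp only [coeff_sub, Finsupp.sub_apply]
  exact congrArg₂ (· - ·) (hx σ hσ a b) (hy σ hσ a b)

theorem IA.sta_rp {x : DA m} (hx : IA G x) : sta (rp x) = rp x := by
  ext i
  simp only [sta, coeff_mk, rp_coeff, toAdd_inv]
  rw [← inv_r]
  exact hx.symm' hG _

theorem IA.commute {x y : DA m} (hx : IA G x) (hy : IA G y) : Commute x y := by
  unfold Commute SemiconjBy
  ext d
  rw [← (IA.mul hy hx).symm' hG d]
  rw [cmul, cmul]
  refine Fintype.sum_equiv (Equiv.mulLeft d⁻¹) _ _ fun t => ?_
  simp only [Equiv.coe_mulLeft]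
  rw [mul_comm (x.coeff t)]
  congr 1
  · simpa using hy.symm' hG (d⁻¹ * t)
  · simpa [mul_assoc] using (hx.symm' hG t).symm

omit hG in
/-- Reduction modulo `n`. -/
def red (n : ℕ) : DA m →+* MonoidAlgebra (ZMod n) (DihedralGroup m) :=
  mapRingHom _ (Int.castRingHom (ZMod n))

omit hG in
theorem red_eq_iff {n : ℕ} {x y : DA m} :
    red n x = red n y ↔ ∀ d, (n : ℤ) ∣ x.coeff d - y.coeff d := by
  simp only [← ZMod.intCast_zmod_eq_zero_iff_dvd, Int.cast_sub, sub_eq_zero]
  constructor
  · intro h d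
    simpa [red, mapRingHom] using congrArg (fun z => z.coeff d) h
  · intro h
    ext d
    simpa [red, mapRingHom] using h d

omit hG in
theorem natCast_mul_coeff (n : ℕ) (z : DA m) (d : DihedralGroup m) :
    ((n : DA m) * z).coeff d = n * z.coeff d := by
  rw [natCast_def, coeff_single_one_mul]

section Prime

variable {p : ℕ} [hp : Fact p.Prime]

theorem rot_pow_congr {x : DA m} (hx : IA G x) (hodd : p ≠ 2) (k : ℕ) (i : ZMod m) :
    (p : ℤ) ∣ (x ^ p ^ k).coeff (r i) -
      ∑ h : ZMod m with ((p ^ k : ℕ) : ZMod m) * h = i, x.coeff (r h) := by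
  have h := (natCast_dvd_iff _ _).1 (rp_pow_congr (IA.sta_rp hG hx) hodd k)
    (Multiplicative.ofAdd i)
  rw [coeff_sub, Finsupp.sub_apply, powMap_coeff, rp_coeff] at h
  have heq : ∑ a : Multiplicative (ZMod m) with a ^ p ^ k = Multiplicative.ofAdd i,
      (rp x).coeff a = ∑ a : ZMod m with ((p ^ k : ℕ) : ZMod m) * a = i, x.coeff (r a) := by
    refine Finset.sum_equiv Multiplicative.toAdd (fun a => ?_) (fun a _ => ?_)
    · rw [Finset.mem_filter, ← Multiplicative.toAdd.injective.eq_iff]
      simp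
    · simp [rp_coeff]
  rwa [heq] at h

end Prime

omit hG in
theorem mk_eq_coeff (x : DA m) : mk (fun d => x.coeff d) = x := by ext d; simp

omit hG in
theorem IA.mk {f : DihedralGroup m → ℤ} (hf : Inv G f) : IA G (mk f) := fun σ hσ a b => by
  simpa only [coeff_mk] using hf σ hσ a b

omit hG in
/-- Rotations of order prime to `p`. -/
def InB (p : ℕ) (i : ZMod m) : Prop := ((ordCompl[p] m : ℕ) : ZMod m) * i = 0

omit hG in
/-- The rotation support lies in the `p`-regular rotations. -/
def Sup (p : ℕ) (x : DA m) : Prop := ∀ i : ZMod m, ¬InB p i → x.coeff (r i) = 0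

section Prime2

variable {p : ℕ} [hp : Fact p.Prime]

omit hG in
theorem natCast_self_mul (i : ZMod m) : (m : ZMod m) * i = 0 := by simp

omit hG in
theorem ordSplit : (m : ZMod m) = ((ordCompl[p] m : ℕ) : ZMod m) * ((p ^ m.factorization p : ℕ) : ZMod m) := by
  rw [← Nat.cast_mul, mul_comm, Nat.ordProj_mul_ordCompl_eq_self m p]

omit hG in
theorem pow_mul_ne {i : ZMod m} (hi : ¬InB p i) (h : Multiplicative (ZMod m)) :
    h ^ p ^ m.factorization p ≠ Multiplicative.ofAdd i := by
  intro e
  have e' := congrArg Multiplicative.toAdd e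
  simp only [toAdd_pow, toAdd_ofAdd, nsmul_eq_mul] at e'
  apply hi
  rw [InB, ← e', ← mul_assoc, ← ordSplit, natCast_self_mul]

omit hG in
/-- A power of `p` acting trivially on the `p`-regular rotations. -/
theorem exists_kappa : ∃ κ, 0 < κ ∧ m.factorization p ≤ κ ∧
    ∀ i : ZMod m, InB p i → ((p ^ κ : ℕ) : ZMod m) * i = i := by
  set c := ordCompl[p] m with hc
  have hc0 : 0 < c := Nat.ordCompl_pos p (NeZero.ne m)
  have ht : 0 < c.totient := Nat.totient_pos.2 hc0
  refine ⟨c.totient * (m.factorization p + 1), by positivity,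
    le_trans (Nat.le_succ _) (Nat.le_mul_of_pos_left _ ht), fun i hi => ?_⟩
  have h1 := (Nat.ModEq.pow_totient (Nat.coprime_ordCompl hp.out (NeZero.ne m))).pow
    (m.factorization p + 1)
  rw [one_pow, ← pow_mul] at h1
  obtain ⟨t, ht'⟩ := (Nat.modEq_iff_dvd' (Nat.one_le_pow _ _ hp.out.pos)).1 h1.symm
  rw [← hc] at ht'
  rw [show p ^ (c.totient * (m.factorization p + 1)) = c * t + 1 by
    have := Nat.one_le_pow (c.totient * (m.factorization p + 1)) p hp.out.pos
    omega]
  rw [Nat.cast_add, Nat.cast_mul, Nat.cast_one, add_mul, one_mul, mul_comm (c : ZMod m),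
    mul_assoc, show (c : ZMod m) * i = 0 from hi, mul_zero, zero_add]

omit hG in
theorem inB_pow_mul {κ : ℕ} (hκ : m.factorization p ≤ κ) (i : ZMod m) :
    InB p (((p ^ κ : ℕ) : ZMod m) * i) := by
  obtain ⟨t, ht⟩ := Nat.exists_eq_add_of_le hκ
  rw [InB, ← mul_assoc, ht, pow_add, Nat.cast_mul, ← mul_assoc, ← ordSplit]
  simp

theorem pow_congr_of_sup (hodd : p ≠ 2) {x : DA m} (hx : IA G x) (hs : Sup p x) {κ : ℕ}
    (hκ : m.factorization p ≤ κ) (hfix : ∀ i : ZMod m, InB p i → ((p ^ κ : ℕ) : ZMod m) * i = i) :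
    red p (x ^ p ^ κ) = red p x := by
  rw [red_eq_iff]
  intro d
  refine Inv.forall_of_rot hG (f := fun e => (x ^ p ^ κ).coeff e - x.coeff e)
    ((IA.pow hx _).comp₂ hx fun a b => a - b) (fun z => (p : ℤ) ∣ z) (fun i => ?_) d
  have hsum : ∑ h : ZMod m with ((p ^ κ : ℕ) : ZMod m) * h = i, x.coeff (r h) = x.coeff (r i) := by
    by_cases hi : InB p i
    · refine Finset.sum_eq_single i (fun h hh hne => ?_) (fun h => ?_)
      · refine hs h fun hB => hne ?_
        rw [← hfix h hB]; exact (Finset.mem_filter.1 hh).2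
      · exact absurd (Finset.mem_filter.2
          ⟨Finset.mem_univ _, (hfix i hi : ((p ^ κ : ℕ) : ZMod m) * i = i)⟩ :
            i ∈ Finset.univ.filter fun a => ((p ^ κ : ℕ) : ZMod m) * a = i) h
    · rw [hs i hi]
      refine Finset.sum_eq_zero fun h hh => absurd ?_ hi
      rw [← (Finset.mem_filter.1 hh).2]
      exact inB_pow_mul hκ h
  simpa only [hsum] using rot_pow_congr hG hx hodd κ i

theorem sup_mul (hodd : p ≠ 2) {x y : DA m} (hx : IA G x) (hxs : Sup p x) (hy : IA G y)
    (hys : Sup p y) : Sup p (x * y) := by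
  classical
  obtain ⟨κ, hκ0, hκ, hfix⟩ := exists_kappa (m := m) (p := p)
  have hiter : ∀ {z : DA m}, IA G z → Sup p z → ∀ t, red p (z ^ (p ^ κ) ^ t) = red p z := by
    intro z hz hzs t
    induction t with
    | zero => simp
    | succ t ih =>
      rw [pow_succ, pow_mul, map_pow, ih, ← map_pow, pow_congr_of_sup hG hodd hz hzs hκ hfix]
  have key : ∀ (j : ℕ) (w₁ w₂ : DA m), IA G w₁ → Sup p w₁ → IA G w₂ → Sup p w₂ →
      ∀ i, ¬InB p i → (p : ℤ) ^ j ∣ (w₁ * w₂).coeff (r i) := by
    intro j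
    induction j with
    | zero => intro _ _ _ _ _ _ i _; simp
    | succ j ih =>
      intro w₁ w₂ h₁ s₁ h₂ s₂ i hi
      set t := j + 1 + m.factorization p with ht
      have hbig : ∀ z : DA m, IA G z → ∀ i, ¬InB p i →
          (p : ℤ) ^ (j + 1) ∣ (z ^ (p ^ κ) ^ t).coeff (r i) := by
        intro z hz i hi
        have h := rp_pow_div (IA.sta_rp hG hz) hodd (m.factorization p) (κ * t) _ (pow_mul_ne hi)
        rw [rp_coeff, pow_mul p κ t, toAdd_ofAdd] at h
        refine (pow_dvd_pow _ ?_).trans h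
        have : t ≤ κ * t := Nat.le_mul_of_pos_left _ hκ0
        omega
      let tr : DA m → DA m := fun z => DihedralAlgebra.mk fun d =>
        if (p : ℤ) ^ (j + 1) ∣ (z ^ (p ^ κ) ^ t).coeff d then 0 else (z ^ (p ^ κ) ^ t).coeff d
      let rem : DA m → DA m := fun z => DihedralAlgebra.mk fun d =>
        (z.coeff d - (tr z).coeff d) / (p : ℤ)
      have htrI : ∀ z, IA G z → IA G (tr z) := fun z hz => IA.mk <|
        (IA.pow hz _).comp fun c : ℤ => if (p : ℤ) ^ (j + 1) ∣ c then 0 else c
      have htrS : ∀ z, IA G z → Sup p (tr z) := fun z hz i hi => by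
        simp [tr, hbig z hz i hi]
      have htrR : ∀ z, red (p ^ (j + 1)) (tr z) = red (p ^ (j + 1)) (z ^ (p ^ κ) ^ t) := fun z => by
        rw [red_eq_iff]
        intro d
        simp only [tr, coeff_mk, Nat.cast_pow]
        split_ifs with hd <;> simp [hd]
      have hremI : ∀ z, IA G z → IA G (rem z) := fun z hz => IA.mk <|
        hz.comp₂ (htrI z hz) fun a b : ℤ => (a - b) / (p : ℤ)
      have hremS : ∀ z, IA G z → Sup p z → Sup p (rem z) := fun z hz hzs i hi => by
        simp [rem, hzs i hi, htrS z hz i hi]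
      have hdec : ∀ z, IA G z → Sup p z → z = tr z + (p : DA m) * rem z := fun z hz hzs => by
        ext d
        rw [coeff_add, Finsupp.add_apply, natCast_mul_coeff]
        simp only [rem, coeff_mk]
        have h1 : (p : ℤ) ∣ (z ^ (p ^ κ) ^ t).coeff d - z.coeff d :=
          red_eq_iff.1 (hiter hz hzs t) d
        have h2 : (p : ℤ) ^ (j + 1) ∣ (tr z).coeff d - (z ^ (p ^ κ) ^ t).coeff d := by
          simpa using red_eq_iff.1 (htrR z) d
        have h3 := dvd_add h1 ((dvd_pow_self (p : ℤ) (Nat.succ_ne_zero j)).trans h2)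
        simp only [sub_add_sub_cancel'] at h3
        rw [Int.mul_ediv_cancel' (dvd_sub_comm.1 h3)]
        simp [tr]
      have hexp : w₁ * w₂ = tr w₁ * tr w₂ + (p : DA m) * (rem w₁ * w₂ + tr w₁ * rem w₂) := by
        conv_lhs => rw [hdec w₁ h₁ s₁, add_mul]; arg 1; rw [hdec w₂ h₂ s₂, mul_add]
        rw [mul_add, ← mul_assoc (tr w₁) (p : DA m), ← Nat.cast_comm, mul_assoc, mul_assoc]
        abel
      rw [hexp, coeff_add, Finsupp.add_apply, natCast_mul_coeff, coeff_add, Finsupp.add_apply]
      refine dvd_add ?_ ?_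
      · have hh : red (p ^ (j + 1)) (tr w₁ * tr w₂) =
            red (p ^ (j + 1)) ((w₁ * w₂) ^ (p ^ κ) ^ t) := by
          rw [(IA.commute hG h₁ h₂).mul_pow]
          simp only [map_mul, htrR]
        have h := red_eq_iff.1 hh (r i)
        rw [Nat.cast_pow] at h
        simpa using dvd_add h (hbig _ (IA.mul h₁ h₂) i hi)
      · rw [pow_succ']
        exact mul_dvd_mul_left _ (dvd_add
          (ih _ _ (hremI _ h₁) (hremS _ h₁ s₁) h₂ s₂ i hi)
          (ih _ _ (htrI _ h₁) (htrS _ h₁) (hremI _ h₂) (hremS _ h₂ s₂) i hi))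
  intro i hi
  set z := (x * y).coeff (r i)
  refine Int.eq_zero_of_dvd_of_natAbs_lt_natAbs (key z.natAbs x y hx hxs hy hys i hi) ?_
  rw [Int.natAbs_pow, Int.natAbs_natCast]
  exact Nat.lt_pow_self hp.out.one_lt

theorem exists_not_inB (hp2 : p ≠ 2 ∨ ordCompl[p] m = 1) (hpm : p ∣ m) {d : DihedralGroup m}
    (hd : d ≠ 1) : ∃ i, Orb G d (r i) ∧ ¬InB p i := by
  classical
  by_cases hone : ordCompl[p] m = 1
  · obtain ⟨i, hi⟩ := exists_r hG hd
    refine ⟨i, hi, fun hB => ?_⟩
    rw [InB, hone, Nat.cast_one, one_mul] at hB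
    subst hB
    exact orb_ne_one hi hd rfl
  have hodd := hp2.resolve_right hone
  let C : DihedralGroup m → Prop := fun e => ∀ i, Orb G e (r i) → InB p i
  have hC : Inv G C := inv_of_orb hG fun e e' h => propext
    ⟨fun h' i hi => h' i (orb_trans (orb_symm h) hi), fun h' i hi => h' i (orb_trans h hi)⟩
  by_contra hcon
  push Not at hcon
  set x : DA m := DihedralAlgebra.mk fun e => if C e then (1 : ℤ) else 0 with hx
  have hxI : IA G x := IA.mk fun σ hσ a b => by simp only [hC σ hσ a b]
  have hxS : Sup p x := fun i hi => by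
    simp only [hx, coeff_mk]
    exact if_neg fun h => hi (h i (orb_refl _))
  let K : Subgroup (DihedralGroup m) :=
    { carrier := {e | C e}
      one_mem' := fun i hi => by
        by_contra hB
        obtain ⟨σ, -, h1, h2⟩ := hi
        have : (r i : DihedralGroup m) = r 0 := h2.symm.trans h1
        obtain rfl := DihedralGroup.r.inj this
        exact hB (by simp [InB])
      mul_mem' := fun {e f} he hf i hi => by
        by_contra hB
        have hpos : 0 < (x * x).coeff (e * f) := by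
          rw [cmul]
          refine Finset.sum_pos' (fun t _ => ?_) ⟨e, Finset.mem_univ _, ?_⟩
          · simp only [hx, coeff_mk]; split_ifs <;> simp
          · simp only [hx, coeff_mk, inv_mul_cancel_left]
            simp [show C e from he, show C f from hf]
        rw [← (IA.mul hxI hxI).orb hi, sup_mul hG hodd hxI hxS hxI hxS i hB] at hpos
        exact lt_irrefl _ hpos
      inv_mem' := fun {e} he => by
        change C e⁻¹
        rw [hC.symm' hG e]; exact he }
  rcases hG.prim K hC with h | h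
  · have : d ∈ K := hcon
    rw [h, Subgroup.mem_bot] at this
    exact hd this
  · have h1 : (r 1 : DihedralGroup m) ∈ K := by rw [h]; exact Subgroup.mem_top _
    have h2 := (h1 : C (r 1)) 1 (orb_refl _)
    rw [InB, mul_one, ZMod.natCast_eq_zero_iff] at h2
    have hlt : ordCompl[p] m < m := Nat.div_lt_self (NeZero.pos m)
      (Nat.one_lt_pow ((hp.out.factorization_pos_of_dvd (NeZero.ne m) hpm).ne') hp.out.one_lt)
    exact absurd (Nat.le_of_dvd (Nat.ordCompl_pos p (NeZero.ne m)) h2) (not_le.2 hlt)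

end Prime2

omit hG in
/-- Invariant elements whose rotation part is stable under multipliers. -/
def Rat (G : Subgroup (Equiv.Perm (DihedralGroup m))) (x : DA m) : Prop :=
  IA G x ∧ ∀ (u : (ZMod m)ˣ) (i : ZMod m), x.coeff (r (u * i)) = x.coeff (r i)

theorem rot_pow_unit {Q : ℕ} [Fact Q.Prime] (hodd : Q ≠ 2) {x : DA m} (hx : IA G x)
    (u : (ZMod m)ˣ) (hu : (Q : ZMod m) = u) (i : ZMod m) :
    (Q : ℤ) ∣ (x ^ Q).coeff (r (u * i)) - x.coeff (r i) := by
  have h := rot_pow_congr hG (p := Q) hx hodd 1 (u * i)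
  simp only [pow_one, hu] at h
  rwa [show (Finset.univ.filter fun a : ZMod m => (u : ZMod m) * a = u * i) = {i} by
    ext a; simp [u.isUnit.mul_right_inj], Finset.sum_singleton] at h

omit hG in
theorem exists_prime_cast (u : (ZMod m)ˣ) (B : ℕ) :
    ∃ Q, ∃ _ : Fact Q.Prime, Q ≠ 2 ∧ B < Q ∧ (Q : ZMod m) = u := by
  obtain ⟨Q, hQ, hQp, hQu⟩ := Nat.forall_exists_prime_gt_and_eq_mod u.isUnit (B + 2)
  exact ⟨Q, ⟨hQp⟩, by omega, by omega, hQu⟩

theorem Rat.mul {x y : DA m} (hx : Rat G x) (hy : Rat G y) : Rat G (x * y) := by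
  refine ⟨IA.mul hx.1 hy.1, fun u i => ?_⟩
  obtain ⟨Q, _, hodd, hB, hQ⟩ :=
    exists_prime_cast u (((x * y).coeff (r (u * i)) - (x * y).coeff (r i)).natAbs)
  have hfix : ∀ {z : DA m}, Rat G z → red Q (z ^ Q) = red Q z := fun {z} hz => by
    rw [red_eq_iff]
    intro d
    refine Inv.forall_of_rot hG (f := fun e => (z ^ Q).coeff e - z.coeff e)
      ((IA.pow hz.1 _).comp₂ hz.1 fun a b => a - b) (fun c => (Q : ℤ) ∣ c) (fun j => ?_) d
    have h := rot_pow_unit hG hodd hz.1 u hQ (u⁻¹ * j : ZMod m)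
    rwa [Units.mul_inv_cancel_left, hz.2] at h
  have h1 : red Q ((x * y) ^ Q) = red Q (x * y) := by
    rw [(IA.commute hG hx.1 hy.1).mul_pow, map_mul, map_mul, hfix hx, hfix hy]
  have h2 := dvd_sub (rot_pow_unit hG hodd (IA.mul hx.1 hy.1) u hQ i)
    (red_eq_iff.1 h1 (r (u * i)))
  rw [sub_sub_sub_cancel_left] at h2
  refine sub_eq_zero.1 (Int.eq_zero_of_dvd_of_natAbs_lt_natAbs h2 ?_)
  rwa [Int.natAbs_natCast]

/-- If rational invariant functions are constant off the identity then the stabiliser is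
transitive off the identity. -/
theorem all_orbit (hc : ∀ x, Rat G x → ∀ d d', d ≠ 1 → d' ≠ 1 → x.coeff d = x.coeff d')
    (d d' : DihedralGroup m) (hd : d ≠ 1) (hd' : d' ≠ 1) : Orb G d d' := by
  classical
  set x : DA m := DihedralAlgebra.mk fun e => if Orb G d e then (1 : ℤ) else 0 with hx
  have hxI : IA G x := IA.mk ((inv_orb hG d).comp fun P : Prop => if P then (1 : ℤ) else 0)
  have h01 : ∀ e, x.coeff e = 0 ∨ x.coeff e = 1 := fun e => by
    simp only [hx, coeff_mk]; split_ifs <;> simp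
  choose Q hQp hQ2 hQB hQu using fun u : (ZMod m)ˣ => exists_prime_cast u (2 * m)
  let L : (ZMod m)ˣ → DA m := fun u =>
    DihedralAlgebra.mk fun e => (x ^ Q u).coeff e % (Q u : ℤ)
  have hLI : ∀ u, IA G (L u) := fun u => IA.mk ((IA.pow hxI _).comp fun c : ℤ => c % (Q u : ℤ))
  have hLr : ∀ u i, (L u).coeff (r ((u : ZMod m) * i)) = x.coeff (r i) := fun u i => by
    have := hQp u
    have h := rot_pow_unit hG (hQ2 u) hxI u (hQu u) i
    rw [← Int.modEq_iff_dvd] at h
    simp only [L, coeff_mk]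
    rw [← h, Int.emod_eq_of_lt]
    · rcases h01 (r i) with h' | h' <;> simp [h']
    · have := this.out.two_le
      rcases h01 (r i) with h' | h' <;> omega
  have hL01 : ∀ u e, (L u).coeff e = 0 ∨ (L u).coeff e = 1 := fun u e =>
    Inv.forall_of_rot hG (hLI u) (fun c => c = 0 ∨ c = 1) (fun i => by
      have h := hLr u ((u⁻¹ : (ZMod m)ˣ) * i : ZMod m)
      rw [Units.mul_inv_cancel_left] at h
      rw [h]; exact h01 _) e
  have hsum : ∀ u, ∑ e, (L u).coeff e = ∑ e, x.coeff e := fun u => by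
    have := hQp u
    have hb : ∀ z : DA m, (∀ e, z.coeff e = 0 ∨ z.coeff e = 1) →
        0 ≤ ∑ e, z.coeff e ∧ ∑ e, z.coeff e ≤ 2 * (m : ℤ) := fun z hz => by
      refine ⟨Finset.sum_nonneg fun e _ => by rcases hz e with h | h <;> omega, ?_⟩
      refine (Finset.sum_le_card_nsmul _ _ 1 fun e _ => by rcases hz e with h | h <;> omega).trans ?_
      simp [DihedralGroup.card]
    have hmod : ((∑ e, (L u).coeff e : ℤ) : ZMod (Q u)) = ((∑ e, x.coeff e : ℤ) : ZMod (Q u)) := by
      calc ((∑ e, (L u).coeff e : ℤ) : ZMod (Q u))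
          = ((∑ e, (x ^ Q u).coeff e : ℤ) : ZMod (Q u)) := by simp [L]
        _ = ((aug (x ^ Q u) : ℤ) : ZMod (Q u)) := by rw [aug_eq]
        _ = ((aug x : ℤ) : ZMod (Q u)) := by rw [map_pow, Int.cast_pow, ZMod.pow_card]
        _ = _ := by rw [aug_eq]
    rw [← sub_eq_zero, ← Int.cast_sub, ZMod.intCast_zmod_eq_zero_iff_dvd] at hmod
    refine sub_eq_zero.1 (Int.eq_zero_of_dvd_of_natAbs_lt_natAbs hmod ?_)
    have := hb _ (hL01 u)
    have := hb _ h01
    have := hQB u
    omega
  set S : DA m := ∑ u, L u with hS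
  have hSc : ∀ e, S.coeff e = ∑ u, (L u).coeff e := fun e => by simp [S, coeff_sum]
  have hSr : ∀ i, S.coeff (r i) = ∑ u : (ZMod m)ˣ, x.coeff (r (u * i)) := fun i => by
    rw [hSc]
    refine Fintype.sum_equiv (Equiv.inv _) _ _ fun u => ?_
    rw [Equiv.inv_apply, ← hLr u ((u⁻¹ : (ZMod m)ˣ) * i : ZMod m), Units.mul_inv_cancel_left]
  have hSR : Rat G S := by
    refine ⟨fun σ hσ a b => ?_, fun v i => ?_⟩
    · simp only [hSc]
      exact Finset.sum_congr rfl fun u _ => hLI u σ hσ a b
    · rw [hSr, hSr]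
      refine Fintype.sum_equiv (Equiv.mulRight v) _ _ fun u => ?_
      simp [mul_assoc]
  set φ : ℤ := (Fintype.card (ZMod m)ˣ : ℤ)
  have hφ : 0 < φ := Int.natCast_pos.2 Fintype.card_pos
  set Xc : ℤ := ∑ i : ZMod m, x.coeff (r i)
  set O : ℤ := ∑ e, x.coeff e
  have hx1 : x.coeff (1 : DihedralGroup m) = 0 := by
    simp only [hx, coeff_mk]
    exact if_neg fun h => orb_ne_one h hd rfl
  have hS1 : S.coeff (r 0) = 0 := by
    rw [hSr]
    refine Finset.sum_eq_zero fun u _ => ?_
    rw [mul_zero]; exact hx1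
  have e1 : φ * Xc = S.coeff d * ((m : ℤ) - 1) := by
    have h1 : φ * Xc = ∑ i : ZMod m, S.coeff (r i) := by
      simp only [hSr]
      rw [Finset.sum_comm]
      have h' : ∀ u : (ZMod m)ˣ, ∑ i : ZMod m, x.coeff (r (u * i)) = Xc := fun u =>
        Fintype.sum_equiv u.mulLeft _ _ fun i => rfl
      simp [h', φ]
    rw [h1, ← Finset.sum_erase_add _ _ (Finset.mem_univ (0 : ZMod m)), hS1, add_zero]
    have h2 : ∀ i ∈ (Finset.univ : Finset (ZMod m)).erase 0, S.coeff (r i) = S.coeff d :=
      fun i hi => hc S hSR _ _ (fun e => (Finset.mem_erase.1 hi).1 (DihedralGroup.r.inj e)) hd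
    rw [Finset.sum_congr rfl h2, Finset.sum_const, nsmul_eq_mul, Finset.card_erase_of_mem
      (Finset.mem_univ _), Finset.card_univ, ZMod.card, Nat.cast_sub (NeZero.pos m)]
    push_cast; ring
  have e2 : φ * O = S.coeff d * (2 * (m : ℤ) - 1) := by
    have h1 : φ * O = ∑ e, S.coeff e := by
      simp only [hSc]
      rw [Finset.sum_comm]
      simp [hsum, φ, O]
    rw [h1, ← Finset.sum_erase_add _ _ (Finset.mem_univ (1 : DihedralGroup m)),
      show S.coeff (1 : DihedralGroup m) = 0 from hS1, add_zero]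
    have h2 : ∀ e ∈ (Finset.univ : Finset (DihedralGroup m)).erase 1, S.coeff e = S.coeff d :=
      fun e he => hc S hSR _ _ (Finset.mem_erase.1 he).1 hd
    rw [Finset.sum_congr rfl h2, Finset.sum_const, nsmul_eq_mul, Finset.card_erase_of_mem
      (Finset.mem_univ _), Finset.card_univ, DihedralGroup.card,
      Nat.cast_sub (by have := NeZero.pos m; omega)]
    push_cast; ring
  have hOeq : O = (2 * (m : ℤ) - 1) * (O - 2 * Xc) := by
    have h : φ * (O * ((m : ℤ) - 1)) = φ * (Xc * (2 * (m : ℤ) - 1)) := by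
      linear_combination ((m : ℤ) - 1) * e2 - (2 * (m : ℤ) - 1) * e1
    have := mul_left_cancel₀ hφ.ne' h
    linear_combination -2 * this
  by_contra hcon
  have hO1 : 1 ≤ O := by
    have : x.coeff d = 1 := by simp only [hx, coeff_mk]; exact if_pos (orb_refl d)
    rw [← this]
    exact Finset.single_le_sum (fun e _ => by rcases h01 e with h | h <;> omega) (Finset.mem_univ d)
  have hO2 : O ≤ 2 * (m : ℤ) - 2 := by
    have hsub : O = ∑ e ∈ ((Finset.univ : Finset (DihedralGroup m)).erase 1).erase d', x.coeff e := by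
      rw [Finset.sum_erase _ (by simp only [hx, coeff_mk]; exact if_neg hcon),
        Finset.sum_erase _ hx1]
    rw [hsub]
    refine (Finset.sum_le_card_nsmul _ _ 1 fun e _ => by rcases h01 e with h | h <;> omega).trans ?_
    rw [Finset.card_erase_of_mem (Finset.mem_erase.2 ⟨hd', Finset.mem_univ _⟩),
      Finset.card_erase_of_mem (Finset.mem_univ _), Finset.card_univ, DihedralGroup.card]
    have := hG.two_le
    simp only [nsmul_eq_mul, mul_one]
    omega
  rcases le_or_gt (O - 2 * Xc) 0 with h | h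
  · have : (2 * (m : ℤ) - 1) * (O - 2 * Xc) ≤ 0 :=
      mul_nonpos_of_nonneg_of_nonpos (by omega) h
    omega
  · have : (2 * (m : ℤ) - 1) * 1 ≤ (2 * (m : ℤ) - 1) * (O - 2 * Xc) :=
      mul_le_mul_of_nonneg_left h (by omega)
    omega

end

end CfsgLib.LocalEvenB.DihedralSchur
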