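import Cfsg.Agent.Lib.LocalEvenB.DihedralSchur

/-!
Triviality of primitive multiplier-stable invariant functions over a dihedral group.
-/

set_option autoImplicit false
set_option linter.unusedSectionVars false

open scoped ComplexConjugate

namespace CfsgLib.LocalEvenB.DihedralSchur

open DihedralGroup DihedralAlgebra MonoidAlgebra

noncomputable section

variable {m : ℕ} [NeZero m] {G : Subgroup (Equiv.Perm (DihedralGroup m))} {p : ℕ}

/-- A generator of the subgroup of order `p`. -/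
def p0 (m p : ℕ) : ZMod m := ((m / p : ℕ) : ZMod m)

section Arith

variable [hp : Fact p.Prime] (hpm : p ∣ m)
include hpm

theorem mul_p0 : (p : ZMod m) * p0 m p = 0 := by
  rw [p0, ← Nat.cast_mul, Nat.mul_div_cancel' hpm, ZMod.natCast_self]

theorem div_lt' : m / p < m := Nat.div_lt_self (NeZero.pos m) hp.out.one_lt

theorem cast_mul_p0_eq_zero {l : ℕ} : (l : ZMod m) * p0 m p = 0 ↔ p ∣ l := by
  obtain ⟨c, hc⟩ := hpm
  have hc0 : 0 < c := Nat.pos_of_ne_zero fun h => NeZero.ne m (by rw [hc, h, mul_zero])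
  rw [p0, ← Nat.cast_mul, ZMod.natCast_eq_zero_iff,
    show m / p = c by rw [hc, Nat.mul_div_cancel_left _ hp.out.pos], hc,
    Nat.mul_dvd_mul_iff_right hc0]

theorem p0_ne_zero : p0 m p ≠ 0 := fun h => by
  have := (cast_mul_p0_eq_zero hpm (l := 1)).1 (by simp [h])
  exact hp.out.not_dvd_one this

theorem exists_eq_mul_p0 {x : ZMod m} (hx : (p : ZMod m) * x = 0) :
    ∃ l < p, x = (l : ZMod m) * p0 m p := by
  rw [← ZMod.natCast_zmod_val x, ← Nat.cast_mul, ZMod.natCast_eq_zero_iff] at hx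
  obtain ⟨c, hc⟩ := hpm
  have hcp : m / p = c := by rw [hc, Nat.mul_div_cancel_left _ hp.out.pos]
  obtain ⟨l, hl⟩ : c ∣ x.val :=
    (Nat.mul_dvd_mul_iff_left hp.out.pos).1 (by rw [← hc]; exact hx)
  refine ⟨l, ?_, ?_⟩
  · have := ZMod.val_lt x
    rw [hl] at this
    have : c * l < c * p := by rw [mul_comm c p, ← hc]; exact this
    exact Nat.lt_of_mul_lt_mul_left this
  · rw [p0, hcp, ← Nat.cast_mul, mul_comm, ← hl, ZMod.natCast_zmod_val]

omit hpm in
theorem exists_unit (i : ZMod m) {s d : ℕ} (hd : d ∣ m) (hdi : (d : ZMod m) * i = 0)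
    (hs : s.Coprime d) : ∃ u : (ZMod m)ˣ, (u : ZMod m) * i = (s : ZMod m) * i := by
  have : NeZero d := ⟨fun h => NeZero.ne m (by simpa [h] using hd)⟩
  obtain ⟨u, hu⟩ := ZMod.unitsMap_surjective hd (ZMod.unitOfCoprime s hs)
  refine ⟨u, sub_eq_zero.1 ?_⟩
  have h1 : (((u : ZMod m).val : ℤ) - s : ℤ) = ((d : ℤ) * ((((u : ZMod m).val : ℤ) - s) / d)) := by
    refine (Int.mul_ediv_cancel' ?_).symm
    rw [← ZMod.intCast_zmod_eq_zero_iff_dvd]
    push_cast
    have := congrArg (fun z : (ZMod d)ˣ => (z : ZMod d)) hu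
    simp only [ZMod.unitsMap_val, ZMod.coe_unitOfCoprime] at this
    rw [sub_eq_zero, ← this, ZMod.cast_eq_val]
  have h2 : ((u : ZMod m) - s) = (((u : ZMod m).val : ℤ) - s : ℤ) := by simp
  rw [← sub_mul, h2, h1]
  push_cast
  rw [mul_comm (d : ZMod m), mul_assoc, hdi, mul_zero]

end Arith

variable (hG : Prim G) [hp : Fact p.Prime] (hpm : p ∣ m) (hp2 : p ≠ 2 ∨ ordCompl[p] m = 1)
include hG hpm hp2

omit hG hp2 in
theorem rat_mul_p0 {x : DA m} (hx : Rat G x) {l : ℕ} (hl : ¬p ∣ l) :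
    x.coeff (r ((l : ZMod m) * p0 m p)) = x.coeff (r (p0 m p)) := by
  obtain ⟨u, hu⟩ := exists_unit (p0 m p) hpm (mul_p0 hpm) (hp.out.coprime_iff_not_dvd.2 hl).symm
  rw [← hu, hx.2]

omit hG hp2 in
/-- Shifts by the subgroup of order `p`, when the order is divisible by `p²`. -/
theorem shift_high {x : DA m} (hx : Rat G x) {i : ZMod m}
    (hi : ¬InB p ((p : ZMod m) * i)) : x.coeff (r (i + p0 m p)) = x.coeff (r i) := by
  set d := addOrderOf i with hd
  have hdm : d ∣ m := by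
    rw [hd, addOrderOf_dvd_iff_nsmul_eq_zero, nsmul_eq_mul, ZMod.natCast_self, zero_mul]
  have hd0 : (d : ZMod m) * i = 0 := by rw [← nsmul_eq_mul]; exact addOrderOf_nsmul_eq_zero i
  have hnd : ¬d ∣ p * ordCompl[p] m := fun h => hi <| by
    rw [InB, ← mul_assoc, ← Nat.cast_mul, mul_comm _ p, ← nsmul_eq_mul]
    exact addOrderOf_dvd_iff_nsmul_eq_zero.1 h
  have hpd : p ∣ d := by
    by_contra h
    exact hnd (dvd_mul_of_dvd_right ((Nat.Coprime.pow_right _
      (hp.out.coprime_iff_not_dvd.2 h).symm).dvd_of_dvd_mul_left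
        (by rw [Nat.ordProj_mul_ordCompl_eq_self]; exact hdm)) p)
  have hpd2 : p ∣ d / p := by
    by_contra h
    refine hnd ?_
    rw [← Nat.mul_div_cancel' hpd]
    refine mul_dvd_mul_left p ?_
    exact (Nat.Coprime.pow_right _ (hp.out.coprime_iff_not_dvd.2 h).symm).dvd_of_dvd_mul_left
      (by rw [Nat.ordProj_mul_ordCompl_eq_self]; exact (Nat.div_dvd_of_dvd hpd).trans hdm)
  have hdpos : 0 < d := addOrderOf_pos i
  obtain ⟨l, hlp, hl⟩ := exists_eq_mul_p0 hpm (x := ((d / p : ℕ) : ZMod m) * i) (by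
    rw [← mul_assoc, ← Nat.cast_mul, Nat.mul_div_cancel' hpd, hd0])
  have hl0 : ¬p ∣ l := fun h => by
    rw [(cast_mul_p0_eq_zero hpm).2 h, ← nsmul_eq_mul] at hl
    exact absurd (Nat.le_of_dvd (Nat.div_pos (Nat.le_of_dvd hdpos hpd) hp.out.pos)
      (addOrderOf_dvd_iff_nsmul_eq_zero.2 hl)) (not_le.2 (Nat.div_lt_self hdpos hp.out.one_lt))
  obtain ⟨l', hl'⟩ := Nat.exists_mul_mod_eq_one_of_coprime
    (hp.out.coprime_iff_not_dvd.2 hl0).symm hp.out.one_lt
  have hp0 : (((1 + l' * (d / p) : ℕ)) : ZMod m) * i = i + p0 m p := by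
    rw [Nat.cast_add, Nat.cast_one, add_mul, one_mul, Nat.cast_mul, mul_assoc, hl, ← mul_assoc,
      ← Nat.cast_mul, mul_comm l' l, ← Nat.div_add_mod (l * l') p]
    rw [hl'.2]
    rw [Nat.cast_add, add_mul, (cast_mul_p0_eq_zero hpm).2 (dvd_mul_right _ _), Nat.cast_one,
      one_mul, zero_add]
  have hs : (1 + l' * (d / p)).Coprime d := by
    refine Nat.coprime_of_dvd fun k hk hk1 hk2 => ?_
    have hkd : k ∣ d / p := by
      rcases (Nat.Prime.dvd_mul hk).1 (show k ∣ p * (d / p) by rwa [Nat.mul_div_cancel' hpd]) with h | h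
      · rwa [(Nat.prime_dvd_prime_iff_eq hk hp.out).1 h]
      · exact h
    exact hk.not_dvd_one ((Nat.dvd_add_left (dvd_mul_of_dvd_right hkd l')).1 hk1)
  obtain ⟨u, hu⟩ := exists_unit i hdm hd0 hs
  rw [← hp0, ← hu, hx.2]

omit hG hp2 in
theorem sum_coset (F : ZMod m → ℤ) (h0 : ZMod m) :
    ∑ h : ZMod m with (p : ZMod m) * h = (p : ZMod m) * h0, F h =
      ∑ l ∈ Finset.range p, F (h0 + (l : ZMod m) * p0 m p) := by
  rw [eq_comm]
  refine Finset.sum_bij (fun l _ => h0 + (l : ZMod m) * p0 m p) (fun l _ => ?_)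
    (fun a ha b hb hab => ?_) (fun h hh => ?_) (fun l _ => rfl)
  · simp only [Finset.mem_filter, Finset.mem_univ, true_and]
    rw [mul_add, mul_left_comm, mul_p0 hpm, mul_zero, add_zero]
  · simp only [Finset.mem_range] at ha hb
    have hab' := add_left_cancel hab
    rcases le_total a b with hle | hle
    · obtain ⟨c, rfl⟩ := Nat.exists_eq_add_of_le hle
      rw [Nat.cast_add, add_mul, left_eq_add, cast_mul_p0_eq_zero hpm] at hab'
      have := Nat.eq_zero_of_dvd_of_lt hab' (by omega)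
      omega
    · obtain ⟨c, rfl⟩ := Nat.exists_eq_add_of_le hle
      rw [Nat.cast_add, add_mul, add_eq_left, cast_mul_p0_eq_zero hpm] at hab'
      have := Nat.eq_zero_of_dvd_of_lt hab' (by omega)
      omega
  · simp only [Finset.mem_filter, Finset.mem_univ, true_and] at hh
    obtain ⟨l, hl, hl'⟩ := exists_eq_mul_p0 hpm (x := h - h0) (by rw [mul_sub, hh, sub_self])
    exact ⟨l, Finset.mem_range.2 hl, by rw [← hl']; abel⟩

omit hG hp2 in
/-- The non-regular members of a coset of the subgroup of order `p` over a regular rotation. -/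
theorem coset_eq {x : DA m} (hx : Rat G x) {b : ZMod m} (hb : InB p b) {l : ℕ} (hl : ¬p ∣ l) :
    x.coeff (r (b + (l : ZMod m) * p0 m p)) = x.coeff (r (b + p0 m p)) := by
  have hcop : p.Coprime (ordCompl[p] m) := Nat.coprime_ordCompl hp.out (NeZero.ne m)
  obtain ⟨s, hs1, hs2⟩ := Nat.chineseRemainder hcop l 1
  have hd : p * ordCompl[p] m ∣ m := hcop.mul_dvd_of_dvd_of_dvd hpm (Nat.ordCompl_dvd m _)
  have hdi : ((p * ordCompl[p] m : ℕ) : ZMod m) * (b + p0 m p) = 0 := by
    rw [Nat.cast_mul, mul_add, mul_assoc, show ((ordCompl[p] m : ℕ) : ZMod m) * b = 0 from hb,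
      mul_zero, zero_add, mul_comm _ ((ordCompl[p] m : ℕ) : ZMod m), mul_assoc, mul_p0 hpm,
      mul_zero]
  have hscop : s.Coprime (p * ordCompl[p] m) := by
    refine Nat.Coprime.mul_right ?_ ?_
    · rw [Nat.coprime_comm, hp.out.coprime_iff_not_dvd]
      exact fun h => hl ((Nat.ModEq.dvd_iff hs1 dvd_rfl).1 h)
    · have := hs2.gcd_eq
      rw [Nat.gcd_one_left] at this
      exact this
  obtain ⟨u, hu⟩ := exists_unit _ hd hdi hscop
  obtain ⟨t, ht⟩ := Nat.modEq_iff_dvd.1 hs2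
  obtain ⟨t', ht'⟩ := Nat.modEq_iff_dvd.1 hs1
  have aux : ∀ (c a' b' : ℕ) (t : ℤ), (a' : ℤ) - b' = c * t →
      (a' : ZMod m) - (b' : ZMod m) = (c : ZMod m) * (t : ZMod m) := fun c a' b' t h => by
    simpa using congrArg (fun z : ℤ => (z : ZMod m)) h
  have h1 : (1 : ZMod m) - (s : ZMod m) = ((ordCompl[p] m : ℕ) : ZMod m) * (t : ZMod m) :=
    Nat.cast_one (R := ZMod m) ▸ aux _ 1 s t ht
  have h2 : (l : ZMod m) - (s : ZMod m) = (p : ZMod m) * (t' : ZMod m) := aux _ l s t' ht'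
  rw [← hx.2 u (b + p0 m p), hu]
  congr 2
  calc b + (l : ZMod m) * p0 m p
      = (s : ZMod m) * (b + p0 m p) + ((1 - (s : ZMod m)) * b + ((l : ZMod m) - s) * p0 m p) := by
        ring
    _ = (s : ZMod m) * (b + p0 m p) := by
        rw [h1, h2, mul_right_comm, show ((ordCompl[p] m : ℕ) : ZMod m) * b = 0 from hb, zero_mul,
          mul_right_comm, mul_p0 hpm, zero_mul, add_zero, add_zero]

theorem shift_low {x : DA m} (hx : Rat G x) {b : ZMod m} (hb : InB p b)
    (hbne : (p : ZMod m) * b ≠ 0) (hodd : p ≠ 2) :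
    x.coeff (r (b + p0 m p)) = x.coeff (r b) := by
  classical
  set c := x.coeff (r b) with hc
  set y : DA m := DihedralAlgebra.mk fun e => if x.coeff e = c then (1 : ℤ) else 0 with hy
  have hyR : Rat G y := ⟨IA.mk (hx.1.comp fun v : ℤ => if v = c then (1 : ℤ) else 0), fun u i => by
    simp only [hy, coeff_mk, hx.2]⟩
  obtain ⟨h, hh, hhB⟩ := exists_not_inB hG hp2 hpm (d := r ((p : ZMod m) * b)) (fun e =>
    hbne (DihedralGroup.r.inj e))
  have hval : (y ^ p).coeff (r ((p : ZMod m) * b)) = (y ^ p).coeff (r h) :=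
    ((IA.pow hyR.1 p).orb hh).symm
  have h1 := rot_pow_congr hG hyR.1 hodd 1 h
  simp only [pow_one] at h1
  have h2 : (p : ℤ) ∣ (y ^ p).coeff (r h) := by
    suffices h3 : (p : ℤ) ∣ ∑ a : ZMod m with (p : ZMod m) * a = h, y.coeff (r a) by
      simpa using dvd_add h1 h3
    by_cases hex : ∃ h0 : ZMod m, (p : ZMod m) * h0 = h
    · obtain ⟨h0, rfl⟩ := hex
      rw [sum_coset hpm (fun a => y.coeff (r a)) h0]
      have : ∀ l : ℕ, y.coeff (r (h0 + (l : ZMod m) * p0 m p)) = y.coeff (r h0) := by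
        intro l
        induction l with
        | zero => simp
        | succ l ih =>
          rw [Nat.cast_succ, add_mul, one_mul, ← add_assoc, shift_high hpm hyR ?_, ih]
          rw [mul_add, mul_left_comm, mul_p0 hpm, mul_zero, add_zero]
          exact hhB
      simp [this]
    · push Not at hex
      rw [Finset.sum_eq_zero fun a ha => absurd (Finset.mem_filter.1 ha).2 (hex a)]
      exact dvd_zero _
  have h4 := rot_pow_congr hG hyR.1 hodd 1 ((p : ZMod m) * b)
  simp only [pow_one] at h4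
  rw [hval, sum_coset hpm (fun a => y.coeff (r a)) b] at h4
  have hp1 := hp.out.pos
  obtain ⟨k, rfl⟩ : ∃ k, p = k + 1 := ⟨p - 1, by omega⟩
  rw [Finset.sum_range_succ'] at h4
  have hl : ∀ l ∈ Finset.range k, y.coeff (r (b + ((l + 1 : ℕ) : ZMod m) * p0 m (k + 1))) =
      y.coeff (r (b + p0 m (k + 1))) := fun l hl => coset_eq hpm hyR hb fun h => by
    have := Nat.le_of_dvd (Nat.succ_pos l) h
    have := Finset.mem_range.1 hl
    omega
  rw [Finset.sum_congr rfl hl, Finset.sum_const, Finset.card_range, nsmul_eq_mul] at h4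
  have h5 := dvd_sub h2 h4
  simp only [sub_sub_cancel, Nat.cast_zero, zero_mul, add_zero] at h5
  have hyb : y.coeff (r b) = 1 := by simp [hy, hc]
  rw [hyb] at h5
  have hyv : y.coeff (r (b + p0 m (k + 1))) = 1 := by
    by_contra hne
    have h0 : y.coeff (r (b + p0 m (k + 1))) = 0 := by
      simp only [hy, coeff_mk] at hne ⊢
      exact if_neg fun h => hne (if_pos h)
    rw [h0, mul_zero, zero_add, Int.natCast_dvd] at h5
    exact hp.out.not_dvd_one h5
  simpa [hy] using hyv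

/-- Shift invariance off the subgroup of order `p`. -/
theorem shift {x : DA m} (hx : Rat G x) {i : ZMod m} (hi : (p : ZMod m) * i ≠ 0) :
    x.coeff (r (i + p0 m p)) = x.coeff (r i) := by
  by_cases hB : InB p ((p : ZMod m) * i)
  swap
  · exact shift_high hpm hx hB
  set c := ordCompl[p] m with hc
  have hcop : p.Coprime c := Nat.coprime_ordCompl hp.out (NeZero.ne m)
  by_cases hc1 : c = 1
  · rw [InB, ← hc, hc1, Nat.cast_one, one_mul] at hB
    exact absurd hB hi
  have hodd : p ≠ 2 := hp2.resolve_right hc1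
  obtain ⟨t, ht⟩ := Nat.exists_mul_mod_eq_one_of_coprime hcop.symm hp.out.one_lt
  obtain ⟨l, -, hl⟩ := exists_eq_mul_p0 hpm (x := ((c * t : ℕ) : ZMod m) * i) (by
    rw [InB, ← hc] at hB
    calc (p : ZMod m) * (((c * t : ℕ) : ZMod m) * i)
        = (t : ZMod m) * ((c : ZMod m) * ((p : ZMod m) * i)) := by push_cast; ring
      _ = 0 := by rw [hB, mul_zero])
  set b := i - (l : ZMod m) * p0 m p with hb
  have hbi : i = b + (l : ZMod m) * p0 m p := by rw [hb]; abel
  have hpb : (p : ZMod m) * b = (p : ZMod m) * i := by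
    rw [hb, mul_sub, mul_left_comm _ (l : ZMod m), mul_p0 hpm, mul_zero, sub_zero]
  have hbB : InB p b := by
    rw [InB, ← hc, hb, mul_sub, ← hl, ← mul_assoc, ← Nat.cast_mul, sub_eq_zero]
    have h1 : c * (c * t) = c + (c * t / p) * (p * c) := by
      conv_lhs => rw [← Nat.div_add_mod (c * t) p, ht.2]
      ring
    rw [h1, Nat.cast_add, add_mul]
    rw [InB, ← hc] at hB
    rw [Nat.cast_mul (c * t / p), Nat.cast_mul p, mul_assoc _ ((p : ZMod m) * _),
      mul_comm (p : ZMod m), mul_assoc (c : ZMod m), hB, mul_zero, add_zero]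
  have hall : ∀ l : ℕ, x.coeff (r (b + (l : ZMod m) * p0 m p)) = x.coeff (r b) := fun l => by
    by_cases hl : p ∣ l
    · rw [(cast_mul_p0_eq_zero hpm).2 hl, add_zero]
    · rw [coset_eq hpm hx hbB hl]
      exact shift_low hG hpm hp2 hx hbB (hpb ▸ hi) hodd
  rw [hbi, hall l, add_assoc, ← add_one_mul, ← Nat.cast_succ, hall]

end

end CfsgLib.LocalEvenB.DihedralSchur
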