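import Cfsg.Prelude.Def_Transfer
import Cfsg.Prelude.Def_KGroupFacts
import Cfsg.Agent.Lib.PGroup.Frattini

/-!
The inner automorphisms of an extraspecial 2-group with a large elementary abelian subgroup have no
complement in the automorphism group.
-/

set_option autoImplicit false
set_option linter.style.haveILetI false
set_option linter.unusedSectionVars false
open scoped commutatorElement

namespace CfsgLib.LocalEvenB.ExtraspecialAut

variable {Q : Type*} [Group Q] [Finite Q]

section

variable (hQ : Cfsg.IsExtraspecial 2 Q)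
include hQ

theorem sq_mem (x : Q) : x * x ∈ Subgroup.center Q := by
  haveI : Fact (Nat.Prime 2) := ⟨Nat.prime_two⟩
  rw [← hQ.1.2.1, ← sq]
  exact PGroup.Frattini.pow_mem_frattini hQ.1.1 x

theorem comm_mem (x y : Q) : ⁅x, y⁆ ∈ Subgroup.center Q := by
  rw [← hQ.1.2.2]
  exact Subgroup.commutator_mem_commutator (Subgroup.mem_top x) (Subgroup.mem_top y)

theorem center_sq {c : Q} (hc : c ∈ Subgroup.center Q) : c * c = 1 := by
  have h := congrArg Subtype.val (pow_card_eq_one' (x := (⟨c, hc⟩ : Subgroup.center Q)))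
  rw [hQ.2] at h
  simpa [sq] using h

theorem center_eq {c d : Q} (hc : c ∈ Subgroup.center Q) (hd : d ∈ Subgroup.center Q) (hc1 : c ≠ 1)
    (hd1 : d ≠ 1) : c = d := by
  classical
  by_contra hne
  haveI := Fintype.ofFinite (Subgroup.center Q)
  have h3 : ({⟨1, one_mem _⟩, ⟨c, hc⟩, ⟨d, hd⟩} : Finset (Subgroup.center Q)).card = 3 := by
    rw [Finset.card_insert_of_notMem, Finset.card_insert_of_notMem, Finset.card_singleton]
    · simp [hne]
    · simp [Ne.symm hc1, Ne.symm hd1]
  have := Finset.card_le_univ ({⟨1, one_mem _⟩, ⟨c, hc⟩, ⟨d, hd⟩} : Finset (Subgroup.center Q))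
  rw [← Nat.card_eq_fintype_card, hQ.2, h3] at this
  omega

/-- Two elements not commuting with `v` have a product commuting with `v`. -/
theorem commute_mul {x y v : Q} (hx : ¬ Commute x v) (hy : ¬ Commute y v) : Commute (x * y) v := by
  have hxc : ⁅x, v⁆ ≠ 1 := fun h => hx (commutatorElement_eq_one_iff_commute.mp h)
  have hyc : ⁅y, v⁆ ≠ 1 := fun h => hy (commutatorElement_eq_one_iff_commute.mp h)
  have he := center_eq hQ (comm_mem hQ x v) (comm_mem hQ y v) hxc hyc
  rw [← commutatorElement_eq_one_iff_commute]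
  have hc := (Subgroup.mem_center_iff.mp (comm_mem hQ y v)) x
  calc ⁅x * y, v⁆ = x * ⁅y, v⁆ * x⁻¹ * ⁅x, v⁆ := by simp only [commutatorElement_def]; group
    _ = ⁅y, v⁆ * ⁅x, v⁆ := by rw [hc]; group
    _ = 1 := by rw [he]; exact center_sq hQ (comm_mem hQ y v)

theorem commute_mul_iff {x y v : Q} (hy : ¬ Commute y v) : Commute (x * y) v ↔ ¬ Commute x v := by
  refine ⟨fun h hx => hy ?_, fun hx => commute_mul hQ hx hy⟩
  simpa using (hx.inv_left).mul_left h

theorem conj_of_not_commute {x v : Q} (hx : ¬ Commute x v) : v * x * v = x * (v * v * ⁅v, x⁆) := by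
  have hc := Subgroup.mem_center_iff.mp (comm_mem hQ v x)
  calc v * x * v = ⁅v, x⁆ * x * (v * v) := by rw [commutatorElement_def]; group
    _ = x * ⁅v, x⁆ * (v * v) := by rw [hc x]
    _ = x * (⁅v, x⁆ * (v * v)) := by group
    _ = x * (v * v * ⁅v, x⁆) := by rw [(Subgroup.mem_center_iff.mp (comm_mem hQ v x)) (v * v)]

end

open scoped Classical in
/-- The transvection attached to `v`. -/
noncomputable def tv (hQ : Cfsg.IsExtraspecial 2 Q) (v : Q) (hv : v * v ≠ 1) : MulAut Q :=
  MulEquiv.ofBijective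
    (MonoidHom.mk' (fun x => if Commute x v then x else x * v) fun x y => by
      by_cases hx : Commute x v <;> by_cases hy : Commute y v
      · rw [if_pos (hx.mul_left hy), if_pos hx, if_pos hy]
      · rw [if_neg (fun h => hy (by simpa using hx.inv_left.mul_left h)), if_pos hx, if_neg hy, mul_assoc]
      · rw [if_neg (fun h => hx (by simpa using h.mul_left hy.inv_left)), if_neg hx, if_pos hy, mul_assoc,
          hy.eq, mul_assoc]
      · rw [if_pos (commute_mul hQ hx hy), if_neg hx, if_neg hy]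
        have h1 : v * v * ⁅v, y⁆ = 1 := by
          have hne : ⁅v, y⁆ ≠ 1 := fun h => hy (commutatorElement_eq_one_iff_commute.mp h).symm
          rw [center_eq hQ (comm_mem hQ v y) (sq_mem hQ v) hne hv]
          exact center_sq hQ (sq_mem hQ v)
        calc x * y = x * (y * (v * v * ⁅v, y⁆)) := by rw [h1, mul_one]
          _ = x * (v * y * v) := by rw [conj_of_not_commute hQ hy]
          _ = x * v * (y * v) := by group)
    (Finite.injective_iff_bijective.mp ((injective_iff_map_eq_one _).mpr fun x hx => by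
      simp only [MonoidHom.mk'_apply] at hx
      split_ifs at hx with h
      · exact hx
      · exact absurd (eq_inv_of_mul_eq_one_left hx ▸ (Commute.refl v).inv_left) h))

section

variable (hQ : Cfsg.IsExtraspecial 2 Q)
include hQ

theorem tv_of_commute {v x : Q} (hv : v * v ≠ 1) (h : Commute x v) : tv hQ v hv x = x := by
  simp [tv, h]

theorem tv_of_not {v x : Q} (hv : v * v ≠ 1) (h : ¬ Commute x v) : tv hQ v hv x = x * v := by
  simp [tv, h]

theorem tv_sq {v : Q} (hv : v * v ≠ 1) : tv hQ v hv * tv hQ v hv = MulAut.conj v := by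
  refine MulEquiv.ext fun x => ?_
  rw [MulAut.mul_apply, MulAut.conj_apply]
  by_cases h : Commute x v
  · rw [tv_of_commute hQ hv h, tv_of_commute hQ hv h, ← h.eq, mul_inv_cancel_right]
  · have hne : ⁅v, x⁆ ≠ 1 := fun e => h (commutatorElement_eq_one_iff_commute.mp e).symm
    have he := center_eq hQ (comm_mem hQ v x) (sq_mem hQ v) hne hv
    rw [tv_of_not hQ hv h, tv_of_not hQ hv (fun hc => h (by simpa using hc.mul_left (Commute.refl v).inv_left))]
    calc x * v * v = x * (v * v) := mul_assoc _ _ _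
      _ = (v * v) * x := (Subgroup.mem_center_iff.mp (sq_mem hQ v)) x
      _ = ⁅v, x⁆ * x := by rw [he]
      _ = v * x * v⁻¹ := by rw [commutatorElement_def]; group

theorem tv_comm {u v : Q} (hu : u * u ≠ 1) (hv : v * v ≠ 1) (huv : Commute u v) :
    tv hQ u hu * tv hQ v hv = tv hQ v hv * tv hQ u hu := by
  refine MulEquiv.ext fun x => ?_
  simp only [MulAut.mul_apply]
  by_cases h1 : Commute x u <;> by_cases h2 : Commute x v
  · rw [tv_of_commute hQ hv h2, tv_of_commute hQ hu h1, tv_of_commute hQ hv h2]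
  · rw [tv_of_not hQ hv h2, tv_of_commute hQ hu h1, tv_of_commute hQ hu (h1.mul_left huv.symm),
      tv_of_not hQ hv h2]
  · rw [tv_of_commute hQ hv h2, tv_of_not hQ hu h1, tv_of_commute hQ hv (h2.mul_left huv)]
  · rw [tv_of_not hQ hv h2, tv_of_not hQ hu h1,
      tv_of_not hQ hu (fun hc => h1 (by simpa using hc.mul_left huv.symm.inv_left)),
      tv_of_not hQ hv (fun hc => h2 (by simpa using hc.mul_left huv.inv_left)), mul_assoc, mul_assoc, huv.eq]

theorem conj_eq_one_iff' {c : Q} : (MulAut.conj c : MulAut Q) = 1 ↔ c ∈ Subgroup.center Q := by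
  rw [Subgroup.mem_center_iff]
  constructor
  · intro h x
    have hx := congrArg (fun f : MulAut Q => f x) h
    simp only [MulAut.conj_apply, MulAut.one_apply] at hx
    calc x * c = c * x * c⁻¹ * c := by rw [hx]
      _ = c * x := by group
  · intro h
    refine MulEquiv.ext fun x => ?_
    rw [MulAut.conj_apply, MulAut.one_apply, ← h x]; group

variable {L : Subgroup (MulAut Q)} (hL : (Cfsg.Inn Q).IsComplement' L)
include hL

theorem exists_lift (α : MulAut Q) : ∃ d : Q, MulAut.conj d * α ∈ L := by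
  obtain ⟨⟨⟨i, d, rfl⟩, ⟨l, hl⟩⟩, hil⟩ := hL.2 α
  refine ⟨d⁻¹, ?_⟩
  rw [← hil, map_inv]
  simpa using hl

theorem center_of_mem {c : Q} (h : (MulAut.conj c : MulAut Q) ∈ L) : c ∈ Subgroup.center Q := by
  rw [← conj_eq_one_iff' hQ]
  exact Subgroup.mem_bot.mp (hL.disjoint.eq_bot ▸ Subgroup.mem_inf.mpr ⟨⟨c, rfl⟩, h⟩)

theorem not_commute_of_lift {v : Q} (hv : v * v ≠ 1) (hvc : v ∉ Subgroup.center Q) {d : Q}
    (hd : MulAut.conj d * tv hQ v hv ∈ L) : ¬ Commute d v := by
  intro hc
  have h2 : MulAut.conj (d * tv hQ v hv d * v) ∈ L := by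
    have hcomp : tv hQ v hv * MulAut.conj d = MulAut.conj (tv hQ v hv d) * tv hQ v hv :=
      MulEquiv.ext fun x => by simp [map_mul, map_inv]
    have := L.mul_mem hd hd
    rwa [mul_assoc, ← mul_assoc (tv hQ v hv), hcomp, mul_assoc, tv_sq, ← map_mul, ← map_mul,
      ← mul_assoc] at this
  have h3 := center_of_mem hQ hL h2
  rw [tv_of_commute hQ hv hc] at h3
  have h4 := mul_mem (inv_mem (sq_mem hQ d)) h3
  rw [inv_mul_cancel_left] at h4
  exact hvc h4

theorem commute_of_lifts {u v : Q} (hu : u * u ≠ 1) (hv : v * v ≠ 1) (huv : Commute u v)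
    (huc : u ∉ Subgroup.center Q) (huvc : u * v ∉ Subgroup.center Q) {d d' : Q}
    (hd : MulAut.conj d * tv hQ v hv ∈ L) (hd' : MulAut.conj d' * tv hQ u hu ∈ L) : Commute d u := by
  have hcomp : ∀ (w : Q) (hw : w * w ≠ 1) (c : Q),
      tv hQ w hw * MulAut.conj c = MulAut.conj (tv hQ w hw c) * tv hQ w hw :=
    fun w hw c => MulEquiv.ext fun x => by simp [map_mul, map_inv]
  have e1 : MulAut.conj d * tv hQ v hv * (MulAut.conj d' * tv hQ u hu) =
      MulAut.conj (d * tv hQ v hv d') * (tv hQ v hv * tv hQ u hu) := by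
    rw [mul_assoc, ← mul_assoc (tv hQ v hv), hcomp, map_mul]; group
  have e2 : MulAut.conj d' * tv hQ u hu * (MulAut.conj d * tv hQ v hv) =
      MulAut.conj (d' * tv hQ u hu d) * (tv hQ v hv * tv hQ u hu) := by
    rw [mul_assoc, ← mul_assoc (tv hQ u hu), hcomp, mul_assoc (MulAut.conj (tv hQ u hu d)),
      tv_comm hQ hu hv huv, map_mul]; group
  have h1 := L.mul_mem (L.mul_mem hd hd') (L.inv_mem (L.mul_mem hd' hd))
  rw [e1, e2, mul_inv_rev, mul_assoc, ← mul_assoc (tv hQ v hv * tv hQ u hu), mul_inv_cancel, one_mul,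
    ← map_inv, ← map_mul] at h1
  have h2 := center_of_mem hQ hL h1
  -- work modulo the centre
  set f := QuotientGroup.mk' (Subgroup.center Q)
  have hcm : ∀ a b : Q, f a * f b = f b * f a := fun a b => by
    rw [← map_mul, ← map_mul]
    refine QuotientGroup.eq.mpr ?_
    rw [show (a * b)⁻¹ * (b * a) = ⁅b⁻¹, a⁻¹⁆ by rw [commutatorElement_def]; group]
    exact comm_mem hQ _ _
  have h3 : f (d * tv hQ v hv d') = f (d' * tv hQ u hu d) := by
    have h3' := (QuotientGroup.eq_one_iff (N := Subgroup.center Q) _).mpr h2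
    change f _ = 1 at h3'
    rwa [map_mul f _ (_ : Q)⁻¹, map_inv, mul_inv_eq_one] at h3'
  by_contra hdu
  rw [tv_of_not hQ hu hdu, map_mul, map_mul, map_mul, ← mul_assoc, hcm d' d] at h3
  by_cases hdv : Commute d' v
  · rw [tv_of_commute hQ hv hdv, left_eq_mul] at h3
    exact huc ((QuotientGroup.eq_one_iff u).mp h3)
  · rw [tv_of_not hQ hv hdv, map_mul, ← mul_assoc, mul_right_inj] at h3
    have h4 : f (u * v) = 1 := by
      rw [map_mul, h3, ← map_mul]
      exact (QuotientGroup.eq_one_iff _).mpr (sq_mem hQ u)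
    exact huvc ((QuotientGroup.eq_one_iff _).mp h4)

theorem no_complement {A : Subgroup Q} (hA : Cfsg.IsElementaryAbelian 2 A) (hcard : 16 ≤ Nat.card A) :
    False := by
  have hAc : ∀ a ∈ A, ∀ b ∈ A, Commute a b := fun a ha b hb =>
    congrArg Subtype.val (hA.1.is_comm.comm ⟨a, ha⟩ ⟨b, hb⟩)
  have hA2 : ∀ a ∈ A, a * a = 1 := fun a ha => by rw [← sq]; exact hA.2 a ha
  -- an element of order four
  obtain ⟨w, hw⟩ : ∃ w : Q, w * w ≠ 1 := by
    by_contra hno
    push Not at hno
    have hab : (⊤ : Subgroup Q) ≤ Subgroup.center Q := fun a _ => Subgroup.mem_center_iff.mpr fun b => by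
      have hab := hno (b * a)
      calc b * a = (b * a)⁻¹ := eq_inv_of_mul_eq_one_left hab
        _ = a⁻¹ * b⁻¹ := mul_inv_rev b a
        _ = a * b := by rw [← eq_inv_of_mul_eq_one_left (hno a), ← eq_inv_of_mul_eq_one_left (hno b)]
    have h1 := Subgroup.card_le_of_le hab
    rw [Subgroup.card_top, hQ.2] at h1
    have h2 := Subgroup.card_le_card_group A
    omega
  -- the part of A centralising w
  set B := A ⊓ Subgroup.centralizer ({w} : Set Q)
  have hBcard : 8 ≤ Nat.card B := by
    by_cases hall : A ≤ Subgroup.centralizer ({w} : Set Q)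
    · have : B = A := inf_eq_left.mpr hall
      rw [this]; omega
    · obtain ⟨a₀, ha₀, hna⟩ := Set.not_subset.mp hall
      have hna' : ¬ Commute a₀ w := fun h => hna (Subgroup.mem_centralizer_singleton_iff.mpr h)
      have : Nat.card A ≤ Nat.card (B × Bool) := by
        classical
        refine Nat.card_le_card_of_injective
          (fun a : A => if h : Commute (a : Q) w then
              (⟨(a : Q), Subgroup.mem_inf.mpr ⟨a.2, Subgroup.mem_centralizer_singleton_iff.mpr h⟩⟩, true)
            else (⟨(a : Q) * a₀, Subgroup.mem_inf.mpr ⟨mul_mem a.2 ha₀,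
              Subgroup.mem_centralizer_singleton_iff.mpr (commute_mul hQ h hna')⟩⟩, false)) ?_
        intro a b hab
        simp only at hab
        split_ifs at hab <;> simp_all [Prod.ext_iff]
      rw [Nat.card_prod, Nat.card_eq_fintype_card (α := Bool), Fintype.card_bool] at this
      omega
  haveI := Fintype.ofFinite B
  haveI := Fintype.ofFinite (Subgroup.center Q)
  have hpick : ∀ s : Finset B, s.card < 8 → ∃ e : B, e ∉ s := fun s hs => by
    by_contra hno
    push Not at hno
    have := Finset.card_le_card (fun x _ => hno x : (Finset.univ : Finset B) ⊆ s)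
    rw [Finset.card_univ, ← Nat.card_eq_fintype_card] at this
    omega
  classical
  -- e₁, e₂, e₁e₂ are not central
  obtain ⟨e₁, he₁⟩ := hpick (Finset.univ.filter fun e : B => (e : Q) ∈ Subgroup.center Q) (by
    have : (Finset.univ.filter fun e : B => (e : Q) ∈ Subgroup.center Q).card ≤ 2 := by
      rw [← hQ.2, Nat.card_eq_fintype_card (α := {e : Q // e ∈ Subgroup.center Q}), ← Finset.card_univ]
      refine Finset.card_le_card_of_injOn (fun e => if h : (e : Q) ∈ Subgroup.center Q then ⟨e, h⟩ else ⟨1, one_mem _⟩)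
        (fun _ _ => Finset.mem_univ _) ?_
      intro a ha b hb hab
      simp only [Finset.coe_filter, Finset.mem_univ, true_and, Set.mem_ofPred_eq] at ha hb
      simp only [dif_pos ha, dif_pos hb, Subtype.mk.injEq] at hab
      exact Subtype.ext hab
    omega)
  simp only [Finset.mem_filter, Finset.mem_univ, true_and] at he₁
  obtain ⟨e₂, he₂⟩ := hpick (Finset.univ.filter fun e : B =>
      (e : Q) ∈ Subgroup.center Q ∨ (e₁ : Q) * e ∈ Subgroup.center Q) (by
    have : (Finset.univ.filter fun e : B =>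
        (e : Q) ∈ Subgroup.center Q ∨ (e₁ : Q) * e ∈ Subgroup.center Q).card ≤ 4 := by
      refine (Finset.card_le_card (t := (Finset.univ.filter fun e : B => (e : Q) ∈ Subgroup.center Q) ∪
        (Finset.univ.filter fun e : B => (e₁ : Q) * e ∈ Subgroup.center Q)) (by intro e; simp)).trans ?_
      refine (Finset.card_union_le _ _).trans ?_
      have hb : ∀ c : Q, (Finset.univ.filter fun e : B => c * (e : Q) ∈ Subgroup.center Q).card ≤ 2 := by
        intro c
        rw [← hQ.2, Nat.card_eq_fintype_card (α := {e : Q // e ∈ Subgroup.center Q}), ← Finset.card_univ]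
        refine Finset.card_le_card_of_injOn
          (fun e => if h : c * (e : Q) ∈ Subgroup.center Q then ⟨c * e, h⟩ else ⟨1, one_mem _⟩)
          (fun _ _ => Finset.mem_univ _) ?_
        intro a ha b hb hab
        simp only [Finset.coe_filter, Finset.mem_univ, true_and, Set.mem_ofPred_eq] at ha hb
        simp only [dif_pos ha, dif_pos hb, Subtype.mk.injEq, mul_right_inj] at hab
        exact Subtype.ext hab
      have h1 := hb 1
      simp only [one_mul] at h1
      have h2 := hb (e₁ : Q)
      omega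
    omega)
  simp only [Finset.mem_filter, Finset.mem_univ, true_and, not_or] at he₂
  obtain ⟨he₂, he₁₂⟩ := he₂
  obtain ⟨a, ha⟩ := e₁
  obtain ⟨b, hb⟩ := e₂
  simp only at he₁ he₂ he₁₂
  have haA := (Subgroup.mem_inf.mp ha).1
  have hbA := (Subgroup.mem_inf.mp hb).1
  have haw : Commute a w := Subgroup.mem_centralizer_singleton_iff.mp (Subgroup.mem_inf.mp ha).2
  have hbw : Commute b w := Subgroup.mem_centralizer_singleton_iff.mp (Subgroup.mem_inf.mp hb).2
  -- elements w e
  have hsq : ∀ e ∈ A, Commute e w → (w * e) * (w * e) = w * w := fun e he hc => by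
    rw [hc.mul_mul_mul_comm, hA2 e he, mul_one]
  have hwc : w ∉ Subgroup.center Q := fun h => hw (center_sq hQ h)
  have hnc : ∀ e ∈ A, Commute e w → w * e ∉ Subgroup.center Q := fun e he hc h => by
    exact hw (hsq e he hc ▸ center_sq hQ h)
  have hww : ∀ e ∈ A, Commute e w → e ∉ Subgroup.center Q → (w * e) * w ∉ Subgroup.center Q :=
    fun e he hc hec h => hec (by
      rw [mul_assoc, hc.eq, ← mul_assoc] at h
      have h' := mul_mem (inv_mem (sq_mem hQ w)) h
      rwa [inv_mul_cancel_left] at h')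
  obtain ⟨d, hd⟩ := exists_lift hQ hL (tv hQ w hw)
  have key : ∀ e ∈ A, Commute e w → e ∉ Subgroup.center Q → Commute d (w * e) := fun e he hc hec => by
    have hu : (w * e) * (w * e) ≠ 1 := by rw [hsq e he hc]; exact hw
    obtain ⟨d', hd'⟩ := exists_lift hQ hL (tv hQ (w * e) hu)
    exact commute_of_lifts hQ hL hu hw ((Commute.refl w).mul_left hc) (hnc e he hc) (hww e he hc hec) hd hd'
  have k1 := key a haA haw he₁
  have k2 := key b hbA hbw he₂
  have k3 := key (a * b) (mul_mem haA hbA) (haw.mul_left hbw) he₁₂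
  refine not_commute_of_lift hQ hL hw hwc hd ?_
  have h := (k1.mul_right k2).mul_right k3.inv_right
  rwa [hbw.symm.eq, show w * a * (b * w) * (w * (a * b))⁻¹ = w * (a * b * w * (a * b)⁻¹) * w⁻¹ by group,
    (haw.mul_left hbw).eq, show w * (w * (a * b) * (a * b)⁻¹) * w⁻¹ = w by group] at h

end

end CfsgLib.LocalEvenB.ExtraspecialAut
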