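import Mathlib.GroupTheory.Transfer
import Mathlib.GroupTheory.Abelianization.Defs

/-!
A subgroup `M` meeting its other conjugates inside `H ⊴ M` (abelian quotient) has a normal
complement modulo `H`, by transfer.
-/

set_option autoImplicit false

namespace CfsgLib.LocalEvenB.FrobeniusTransfer

variable {G : Type*} [Group G] [Finite G]

theorem exists_normal_inf_eq {M H : Subgroup G} (hHM : H ≤ M) [hn : (H.subgroupOf M).Normal]
    (hab : ∀ a ∈ M, ∀ b ∈ M, a * b * a⁻¹ * b⁻¹ ∈ H)
    (hcl : ∀ m ∈ M, m ∉ H → ∀ g : G, g * m * g⁻¹ ∈ M → g ∈ M) :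
    ∃ K : Subgroup G, K.Normal ∧ commutator G ≤ K ∧ K ⊓ M = H := by
  classical
  letI : CommGroup (M ⧸ H.subgroupOf M) :=
    { (inferInstance : Group (M ⧸ H.subgroupOf M)) with
      mul_comm := by
        rintro ⟨a⟩ ⟨b⟩
        show ((a * b : M) : M ⧸ H.subgroupOf M) = (b * a : M)
        rw [QuotientGroup.eq, Subgroup.mem_subgroupOf]
        have := hab _ (inv_mem b.2) _ (inv_mem a.2)
        simpa [mul_assoc] using this }
  let φ : M →* M ⧸ H.subgroupOf M := QuotientGroup.mk' _
  let τ : G →* M ⧸ H.subgroupOf M := MonoidHom.transfer φ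
  have hφ : ∀ y : M, φ y = 1 ↔ (y : G) ∈ H := fun y => by
    rw [QuotientGroup.mk'_apply, QuotientGroup.eq_one_iff, Subgroup.mem_subgroupOf]
  have key : ∀ x : M, τ x = φ x := by
    intro x
    letI := Fintype.ofFinite (Quotient (MulAction.orbitRel (Subgroup.zpowers (x : G)) (G ⧸ M)))
    simp only [τ]
    rw [MonoidHom.transfer_eq_prod_quotient_orbitRel_zpowers_quot φ (x : G)]
    have hfix : (x : G) • ((1 : G) : G ⧸ M) = ((1 : G) : G ⧸ M) := by
      rw [MulAction.Quotient.smul_coe, QuotientGroup.eq, smul_eq_mul]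
      simpa using inv_mem x.2
    have hout : (Quotient.mk'' ((1 : G) : G ⧸ M) :
        Quotient (MulAction.orbitRel (Subgroup.zpowers (x : G)) (G ⧸ M))).out = ((1 : G) : G ⧸ M) := by
      set o := (Quotient.mk'' ((1 : G) : G ⧸ M) :
        Quotient (MulAction.orbitRel (Subgroup.zpowers (x : G)) (G ⧸ M))).out
      have h1 : o ∈ MulAction.orbit (Subgroup.zpowers (x : G)) ((1 : G) : G ⧸ M) :=
        MulAction.orbitRel_apply.mp (Quotient.exact (Quotient.out_eq _))
      obtain ⟨⟨z, hz⟩, hzo⟩ := h1
      rw [← hzo]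
      have : z ∈ MulAction.stabilizer G ((1 : G) : G ⧸ M) :=
        (Subgroup.zpowers_le.mpr (MulAction.mem_stabilizer_iff.mpr hfix)) hz
      exact MulAction.mem_stabilizer_iff.mp this
    refine (Finset.prod_eq_single (Quotient.mk'' ((1 : G) : G ⧸ M)) ?_ ?_).trans ?_
    · intro q _ hq
      have hg : q.out.out ∉ M := fun hmem => hq <| by
        have : q.out = ((1 : G) : G ⧸ M) := by
          rw [← QuotientGroup.out_eq' q.out, QuotientGroup.eq]
          simpa using hmem
        rw [← this, Quotient.out_eq']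
      rw [hφ]
      by_contra hy
      have hmem := QuotientGroup.out_conj_pow_minimalPeriod_mem M (x : G) q.out
      refine hg (hcl _ hmem hy _ ?_)
      have hp := pow_mem x.2 (Function.minimalPeriod ((x : G) • ·) q.out)
      convert hp using 1
      group
    · intro h; exact absurd (Finset.mem_univ _) h
    · have hper : Function.minimalPeriod ((x : G) • ·)
          (Quotient.mk'' ((1 : G) : G ⧸ M) :
            Quotient (MulAction.orbitRel (Subgroup.zpowers (x : G)) (G ⧸ M))).out = 1 := by
        rw [Function.minimalPeriod_eq_one_iff_isFixedPt, hout]; exact hfix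
      have hc : (Quotient.mk'' ((1 : G) : G ⧸ M) :
            Quotient (MulAction.orbitRel (Subgroup.zpowers (x : G)) (G ⧸ M))).out.out ∈ M := by
        rw [hout]
        have h := QuotientGroup.eq.mp (QuotientGroup.out_eq' ((1 : G) : G ⧸ M))
        simpa using h
      rw [← div_eq_one, ← map_div, hφ]
      simp only [Subgroup.coe_div, hper, pow_one]
      have := hab _ (inv_mem hc) _ x.2
      simpa [mul_assoc, div_eq_mul_inv] using this
  refine ⟨τ.ker, inferInstance, Abelianization.commutator_subset_ker τ, ?_⟩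
  ext x
  constructor
  · rintro ⟨h1, h2⟩
    exact (hφ ⟨x, h2⟩).mp (key ⟨x, h2⟩ ▸ h1)
  · intro hx
    exact ⟨(key ⟨x, hHM hx⟩).trans ((hφ _).mpr hx), hHM hx⟩

end CfsgLib.LocalEvenB.FrobeniusTransfer
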