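import Mathlib.GroupTheory.Sylow
import Mathlib.Algebra.Group.Subgroup.Order
import Mathlib.GroupTheory.Nilpotent
import Mathlib.GroupTheory.SpecificGroups.Cyclic
import Cfsg.Agent.Lib.LocalEvenB.FrobeniusTransfer

/-!
Flavell's generation lemma: a maximal subgroup `H` of a maximal subgroup `M` closed under
`⟨H, gHg⁻¹⟩ ∩ M = H` has normal closure meeting `M` in `H`.
-/

set_option autoImplicit false

namespace CfsgLib.LocalEvenB.Flavell

variable {G : Type*} [Group G] [Finite G]

/-- the conjugate `g H g⁻¹` -/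
def cj (g : G) (H : Subgroup G) : Subgroup G := H.map (MulAut.conj g).toMonoidHom

omit [Finite G] in
theorem mem_cj {g x : G} {H : Subgroup G} : x ∈ cj g H ↔ g⁻¹ * x * g ∈ H := by
  simp only [cj]; rw [Subgroup.mem_map_equiv, MulAut.conj_symm_apply]

omit [Finite G] in
theorem conj_mem_cj {g x : G} {H : Subgroup G} (hx : x ∈ H) : g * x * g⁻¹ ∈ cj g H :=
  ⟨x, hx, rfl⟩

omit [Finite G] in
theorem coatom_data {H M : Subgroup G} (hHM : H ≤ M) [(H.subgroupOf M).Normal]
    (hmax : IsCoatom (H.subgroupOf M)) :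
    (∀ x ∈ M, x ∉ H → H ⊔ Subgroup.zpowers x = M) ∧
      ∀ a ∈ M, ∀ b ∈ M, a * b * a⁻¹ * b⁻¹ ∈ H := by
  have h1 : ∀ x : M, (x : G) ∉ H → H.subgroupOf M ⊔ Subgroup.zpowers x = ⊤ := fun x hx => by
    refine hmax.2 _ (lt_of_le_of_ne le_sup_left fun he => hx ?_)
    exact Subgroup.mem_subgroupOf.mp (he ▸ Subgroup.mem_sup_right (Subgroup.mem_zpowers x))
  refine ⟨fun x hx hxH => ?_, fun a ha b hb => ?_⟩
  · have := congrArg (Subgroup.map M.subtype) (h1 ⟨x, hx⟩ hxH)
    rwa [Subgroup.map_sup, MonoidHom.map_zpowers, Subgroup.map_subgroupOf_eq_of_le hHM,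
      ← MonoidHom.range_eq_map, Subgroup.range_subtype] at this
  · let q := QuotientGroup.mk' (H.subgroupOf M)
    by_cases haH : a ∈ H
    · have h2 : b * a⁻¹ * b⁻¹ ∈ H := Subgroup.mem_subgroupOf.mp
        ((inferInstance : (H.subgroupOf M).Normal).conj_mem ⟨a⁻¹, inv_mem ha⟩
          (Subgroup.mem_subgroupOf.mpr (inv_mem haH)) ⟨b, hb⟩)
      have := mul_mem haH h2
      simpa [mul_assoc] using this
    · have h3 : ∀ y : M, q y ∈ Subgroup.zpowers (q ⟨a, ha⟩) := fun y => by
        have : y ∈ H.subgroupOf M ⊔ Subgroup.zpowers (⟨a, ha⟩ : M) := by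
          rw [h1 ⟨a, ha⟩ haH]; exact Subgroup.mem_top _
        have h4 : H.subgroupOf M ⊔ Subgroup.zpowers (⟨a, ha⟩ : M) ≤
            (Subgroup.zpowers (q ⟨a, ha⟩)).comap q := by
          refine sup_le (fun z hz => ?_) (Subgroup.zpowers_le.mpr (Subgroup.mem_zpowers (q ⟨a, ha⟩)))
          show q z ∈ Subgroup.zpowers (q ⟨a, ha⟩)
          rw [show q z = 1 from (QuotientGroup.eq_one_iff z).mpr hz]; exact one_mem _
        exact h4 this
      obtain ⟨k, hk⟩ := h3 ⟨b, hb⟩
      have h5 : q (⟨a, ha⟩ * ⟨b, hb⟩ * ⟨a, ha⟩⁻¹ * ⟨b, hb⟩⁻¹) = 1 := by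
        simp only [map_mul, map_inv, ← hk]; group
      exact Subgroup.mem_subgroupOf.mp ((QuotientGroup.eq_one_iff _).mp h5)

theorem normalClosure_inf {H M : Subgroup G} (hHM : H ≤ M)
    (hcl : ∀ g : G, (H ⊔ cj g H) ⊓ M = H) (hmaxH : IsCoatom (H.subgroupOf M))
    (hmaxM : IsCoatom M) : Subgroup.normalClosure (H : Set G) ⊓ M = H := by
  have hle : H ≤ Subgroup.normalClosure (H : Set G) ⊓ M :=
    le_inf Subgroup.le_normalClosure hHM
  by_cases hcase : ∃ g : G, (H ⊔ cj g H).Normal
  · obtain ⟨g, hg⟩ := hcase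
    refine le_antisymm ((inf_le_inf_right M ?_).trans (hcl g).le) hle
    exact Subgroup.normalClosure_le_normal (SetLike.coe_subset_coe.mpr le_sup_left)
  have hMN : M ≤ Subgroup.normalizer (H : Set G) := by
    rw [Subgroup.le_normalizer_iff]
    intro g hg x hx
    have hsub : cj g H ≤ M := fun y hy => by
      have := mul_mem (mul_mem hg (hHM (mem_cj.mp hy))) (inv_mem hg)
      simpa [mul_assoc] using this
    have h1 := hcl g
    rw [inf_eq_left.mpr (sup_le hHM hsub)] at h1
    exact h1.le (Subgroup.mem_sup_right (conj_mem_cj hx))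
  have hN : Subgroup.normalizer (H : Set G) = M := by
    refine (hmaxM.le_iff.mp hMN).resolve_left fun htop => hcase ⟨1, ?_⟩
    have : cj (1 : G) H = H := by ext x; simp [mem_cj]
    rw [this, sup_idem]; exact Subgroup.normalizer_eq_top_iff.mp htop
  haveI := (Subgroup.normal_subgroupOf_iff_le_normalizer hHM).mpr hMN
  obtain ⟨hgen, hab⟩ := coatom_data hHM hmaxH
  have hclaim : ∀ m ∈ M, m ∉ H → ∀ g : G, g * m * g⁻¹ ∈ M → g ∈ M := by
    intro m hm hmH g hg
    have hm' : g * m * g⁻¹ ∉ H := fun h => hmH <| by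
      have : g⁻¹ * (g * m * g⁻¹) * g ∈ (H ⊔ cj g⁻¹ H) ⊓ M := by
        refine ⟨Subgroup.mem_sup_right ?_, ?_⟩
        · simpa using conj_mem_cj (g := g⁻¹) h
        · simpa [mul_assoc] using hm
      rw [hcl] at this
      simpa [mul_assoc] using this
    set T := H ⊔ cj g H
    have hMT : M ≤ Subgroup.normalizer (T : Set G) := by
      rw [← hgen _ hg hm']
      refine sup_le (le_sup_left.trans Subgroup.le_normalizer) (Subgroup.zpowers_le.mpr ?_)
      have h1 : g * m * g⁻¹ ∈ Subgroup.normalizer (cj g H : Set G) := by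
        rw [Subgroup.mem_normalizer_iff]
        intro y
        rw [mem_cj, mem_cj, Subgroup.mem_normalizer_iff.mp (hMN hm) (g⁻¹ * y * g)]
        simp [mul_assoc]
      exact Subgroup.normalizer_inf_normalizer_le_normalizer_sup H (cj g H) ⟨hMN hg, h1⟩
    have hT : T ≤ M := by
      rcases hmaxM.le_iff.mp hMT with h | h
      · exact absurd ⟨g, Subgroup.normalizer_eq_top_iff.mp h⟩ hcase
      · exact h ▸ Subgroup.le_normalizer
    have hTH : T = H := by rw [← hcl g]; exact (inf_eq_left.mpr hT).symm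
    rw [← hN]
    have hle' : cj g H ≤ H := le_sup_right.trans hTH.le
    exact Subgroup.mem_normalizer_iff''.mpr fun y => ⟨fun hy => mem_cj.mp
      ((Subgroup.eq_of_le_of_card_ge hle' (by rw [cj, Subgroup.card_map_of_injective
        (MulAut.conj g).injective])).symm ▸ hy), fun hy => hle' (mem_cj.mpr hy)⟩
  obtain ⟨K, hK, -, hKM⟩ := FrobeniusTransfer.exists_normal_inf_eq hHM hab hclaim
  refine le_antisymm ?_ hle
  have hHK : H ≤ K := hKM.ge.trans inf_le_left
  exact (inf_le_inf_right M (Subgroup.normalClosure_le_normal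
    (SetLike.coe_subset_coe.mpr hHK))).trans hKM.le

theorem exists_generating_conjugate [IsSimpleGroup G] (hG : ¬ IsMulCommutative G) {H M : Subgroup G}
    (hmaxM : IsCoatom M) (hHM : H ≤ M) [hn : (H.subgroupOf M).Normal]
    (hidx : (H.relIndex M).Prime) : ∃ g : G, H ⊔ cj g H = ⊤ := by
  have hmaxH : IsCoatom (H.subgroupOf M) := by
    refine ⟨fun h => hidx.ne_one ?_, fun K hK => ?_⟩
    · rw [Subgroup.relIndex, h, Subgroup.index_top]
    · rcases hidx.eq_one_or_self_of_dvd _ (Subgroup.index_dvd_of_le hK.le) with h | h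
      · exact Subgroup.index_eq_one.mp h
      · exact absurd (Subgroup.eq_of_le_of_card_ge hK.le (by
          have h1 := K.card_mul_index
          have h2 := (H.subgroupOf M).card_mul_index
          have h3 : K.index = (H.subgroupOf M).index := h
          rw [h3, ← h2] at h1
          exact (Nat.eq_of_mul_eq_mul_right (Nat.pos_of_ne_zero Subgroup.index_ne_zero_of_finite)
            h1).le)) hK.ne
  obtain ⟨hgen, hab⟩ := coatom_data hHM hmaxH
  have hMbot : M ≠ ⊥ := fun h => hidx.ne_one (by rw [h]; simp)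
  have hnorm : ∀ R : Subgroup G, R ≠ ⊥ → R ≤ M → M ≤ Subgroup.normalizer (R : Set G) →
      Subgroup.normalizer (R : Set G) = M := fun R hR hRM hMR => by
    refine (hmaxM.le_iff.mp hMR).resolve_left fun h => hR ?_
    exact (Subgroup.normalizer_eq_top_iff.mp h).eq_bot_or_eq_top.resolve_right
      fun ht => hmaxM.1 (top_le_iff.mp (ht ▸ hRM))
  have hNM : Subgroup.normalizer (M : Set G) = M := hnorm M hMbot le_rfl Subgroup.le_normalizer
  by_cases hH : H = ⊥
  · exfalso
    subst hH
    obtain ⟨K, hK, hKc, hKM⟩ := FrobeniusTransfer.exists_normal_inf_eq hHM hab fun m hm hm1 g hg => by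
      rw [← hNM]
      have hz : Subgroup.zpowers m = M := by simpa using hgen m hm hm1
      have hle : cj g M ≤ M := by
        rw [← hz, cj, MonoidHom.map_zpowers, hz]
        exact Subgroup.zpowers_le.mpr hg
      exact Subgroup.mem_normalizer_iff''.mpr fun y => ⟨fun hy => mem_cj.mp
        ((Subgroup.eq_of_le_of_card_ge hle (by rw [cj, Subgroup.card_map_of_injective
          (MulAut.conj g).injective])).symm ▸ hy), fun hy => hle (mem_cj.mpr hy)⟩
    rcases hK.eq_bot_or_eq_top with h | h
    · apply hG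
      rw [h, le_bot_iff, commutator_def, Subgroup.commutator_eq_bot_iff_le_centralizer] at hKc
      exact ⟨⟨fun a b => hKc (Subgroup.mem_top b) a (Subgroup.mem_top a)⟩⟩
    · rw [h, top_inf_eq] at hKM; exact hMbot hKM
  by_contra hcon
  push Not at hcon
  have hHN : Subgroup.normalizer (H : Set G) = M :=
    hnorm H hH hHM ((Subgroup.normal_subgroupOf_iff_le_normalizer hHM).mp hn)
  set r := H.relIndex M
  haveI : Fact r.Prime := ⟨hidx⟩
  have hcl : ∀ g : G, (H ⊔ cj g H) ⊓ M = H := by
    intro g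
    refine le_antisymm ?_ (le_inf le_sup_left hHM)
    intro y ⟨hy1, hy2⟩
    by_contra hyH
    have hMT : M ≤ H ⊔ cj g H := by
      rw [← hgen y hy2 hyH]; exact sup_le le_sup_left (Subgroup.zpowers_le.mpr hy1)
    have hKM : cj g H ≤ M := le_sup_right.trans ((hmaxM.le_iff.mp hMT).resolve_left (hcon g)).le
    have hgM : g ∉ M := fun hg => hyH <| by
      have : cj g H ≤ H := fun z hz => by
        have := (Subgroup.mem_normalizer_iff''.mp (hHN.ge hg) z).mpr (mem_cj.mp hz)
        exact this
      exact (sup_eq_left.mpr this).le hy1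
    -- the elements of order prime to `r` generate a subgroup normalised by `M` and by `g`
    let s : Set G := {z | z ∈ M ∧ (orderOf z).Coprime r}
    have hs : ∀ z ∈ s, z ∈ H := by
      rintro z ⟨hz, hzc⟩
      let q := QuotientGroup.mk' (H.subgroupOf M)
      have h1 : orderOf (q ⟨z, hz⟩) ∣ orderOf z := by
        rw [← Subgroup.orderOf_mk z hz]; exact orderOf_map_dvd q _
      have h2 : orderOf (q ⟨z, hz⟩) ∣ r := orderOf_dvd_natCard _
      have h3 : q ⟨z, hz⟩ = 1 := orderOf_eq_one_iff.mp (Nat.eq_one_of_dvd_coprimes hzc h1 h2)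
      exact Subgroup.mem_subgroupOf.mp ((QuotientGroup.eq_one_iff _).mp h3)
    set R := Subgroup.closure s
    have hMR : M ≤ Subgroup.normalizer (R : Set G) := by
      rw [Subgroup.le_normalizer_iff]
      intro a ha z hz
      have : R ≤ R.comap (MulAut.conj a).toMonoidHom := (Subgroup.closure_le _).mpr fun w hw =>
        Subgroup.subset_closure ⟨mul_mem (mul_mem ha hw.1) (inv_mem ha), by
          show (orderOf ((MulAut.conj _).toMonoidHom w)).Coprime r
          rw [orderOf_injective _ (MulEquiv.injective _)]; exact hw.2⟩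
      exact this hz
    have hgR : g ∈ Subgroup.normalizer (R : Set G) := by
      have h1 : cj g R ≤ R := by
        rw [cj, MonoidHom.map_closure, Subgroup.closure_le]
        rintro _ ⟨w, hw, rfl⟩
        exact Subgroup.subset_closure ⟨hKM ⟨w, hs w hw, rfl⟩, by
          show (orderOf ((MulAut.conj _).toMonoidHom w)).Coprime r
          rw [orderOf_injective _ (MulEquiv.injective _)]; exact hw.2⟩
      exact Subgroup.mem_normalizer_iff''.mpr fun y => ⟨fun hy => mem_cj.mp
        ((Subgroup.eq_of_le_of_card_ge h1 (by rw [cj, Subgroup.card_map_of_injective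
          (MulAut.conj g).injective])).symm ▸ hy), fun hy => h1 (mem_cj.mpr hy)⟩
    have hR : R = ⊥ := by
      by_contra hR
      exact hgM (hnorm R hR ((Subgroup.closure_le _).mpr fun z hz => hz.1) hMR ▸ hgR)
    have hMr : IsPGroup r M := fun z => by
      obtain ⟨k, m, hm, hord⟩ :=
        Nat.exists_eq_pow_mul_and_not_dvd (orderOf_pos z).ne' r hidx.ne_one
      refine ⟨k, ?_⟩
      have h1 : ((z ^ r ^ k : M) : G) ∈ R := Subgroup.subset_closure ⟨(z ^ r ^ k).2, by
        rw [Subgroup.orderOf_coe, orderOf_pow, hord, Nat.gcd_mul_right_left,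
          Nat.mul_div_cancel_left _ (pow_pos hidx.pos k)]
        exact (hidx.coprime_iff_not_dvd.mpr hm).symm⟩
      rw [hR, Subgroup.mem_bot] at h1
      exact Subtype.ext h1
    haveI := hMr.isNilpotent
    have hKidx : IsCoatom ((cj g H).subgroupOf M) := by
      have hcard : Nat.card ((cj g H).subgroupOf M) = Nat.card (H.subgroupOf M) := by
        rw [Nat.card_congr (Subgroup.subgroupOfEquivOfLe hKM).toEquiv,
          Nat.card_congr (Subgroup.subgroupOfEquivOfLe hHM).toEquiv, cj,
          Subgroup.card_map_of_injective (MulAut.conj g).injective]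
      refine ⟨fun h => hmaxH.1 (Subgroup.eq_top_of_card_eq _ ?_), fun L hL => ?_⟩
      · rw [← hcard, h, Subgroup.card_top]
      · have hidx' : ((cj g H).subgroupOf M).index = r := by
          have h1 := ((cj g H).subgroupOf M).card_mul_index
          have h2 := (H.subgroupOf M).card_mul_index
          rw [hcard, ← h2] at h1
          exact Nat.eq_of_mul_eq_mul_left Nat.card_pos h1
        rcases hidx.eq_one_or_self_of_dvd _ (hidx' ▸ Subgroup.index_dvd_of_le hL.le) with h | h
        · exact Subgroup.index_eq_one.mp h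
        · have h1 := L.card_mul_index
          have h2 := ((cj g H).subgroupOf M).card_mul_index
          rw [h, ← h2, hidx'] at h1
          exact absurd (Subgroup.eq_of_le_of_card_ge hL.le
            (Nat.eq_of_mul_eq_mul_right hidx.pos h1).le) hL.ne
    have hKn : ((cj g H).subgroupOf M).Normal :=
      Subgroup.NormalizerCondition.normal_of_coatom _ Group.normalizerCondition_of_isNilpotent hKidx
    have hKne : cj g H ≠ ⊥ := fun h => hH <| by
      rwa [cj, Subgroup.map_eq_bot_iff_of_injective _ (MulAut.conj g).injective] at h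
    have hNK := hnorm _ hKne hKM ((Subgroup.normal_subgroupOf_iff_le_normalizer hKM).mp hKn)
    refine hgM (hNM ▸ ?_)
    have hle : cj g M ≤ M := fun z hz => by
      rw [← hNK, Subgroup.mem_normalizer_iff]
      intro w
      rw [mem_cj, mem_cj, Subgroup.mem_normalizer_iff.mp (hHN.ge (mem_cj.mp hz)) (g⁻¹ * w * g)]
      simp [mul_assoc]
    exact Subgroup.mem_normalizer_iff''.mpr fun z => ⟨fun hz => mem_cj.mp
      ((Subgroup.eq_of_le_of_card_ge hle (by rw [cj, Subgroup.card_map_of_injective
        (MulAut.conj g).injective])).symm ▸ hz), fun hz => hle (mem_cj.mpr hz)⟩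
  have h := normalClosure_inf hHM hcl hmaxH hmaxM
  rcases (Subgroup.normalClosure_normal (s := (H : Set G))).eq_bot_or_eq_top with h' | h'
  · rw [h', bot_inf_eq] at h; exact hH h.symm
  · rw [h', top_inf_eq] at h; exact hmaxH.1 (by rw [h]; simp)

end CfsgLib.LocalEvenB.Flavell
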