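import Mathlib

/-!
# A 2-group with an involutory automorphism fixing exactly a central four-group

The automorphism `ρ` of order dividing 3 commutes with `τ` and is fixed-point-free on the
four-group `V` of fixed points of `τ`.
-/

set_option autoImplicit false
set_option linter.unusedSectionVars false

namespace CfsgLib.LocalEvenB.FourFixed

open scoped commutatorElement

/-- The configuration. -/
structure Conf {T : Type*} [Group T] (V : Subgroup T) (τ ρ : MulAut T) : Prop where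
  pgroup : IsPGroup 2 T
  central : V ≤ Subgroup.center T
  card : Nat.card V = 4
  sq : ∀ v ∈ V, v * v = 1
  tau2 : ∀ x, τ (τ x) = x
  rho3 : ∀ x, ρ (ρ (ρ x)) = x
  comm : ∀ x, τ (ρ x) = ρ (τ x)
  fix : ∀ x, τ x = x ↔ x ∈ V
  freeV : ∀ v ∈ V, ρ v = v → v = 1

variable {T : Type*} [Group T] {V : Subgroup T} {τ ρ : MulAut T}

namespace Conf

theorem commute (h : Conf V τ ρ) {v : T} (hv : v ∈ V) (x : T) : v * x = x * v :=
  (Subgroup.mem_center_iff.1 (h.central hv) x).symm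

theorem inv_eq (h : Conf V τ ρ) {v : T} (hv : v ∈ V) : v⁻¹ = v :=
  inv_eq_of_mul_eq_one_right (h.sq v hv)

theorem tau_mem (h : Conf V τ ρ) {v : T} (hv : v ∈ V) : τ v = v := (h.fix v).2 hv

theorem rho_mem (h : Conf V τ ρ) {v : T} (hv : v ∈ V) : ρ v ∈ V :=
  (h.fix _).1 (by rw [h.comm, h.tau_mem hv])

theorem normal (h : Conf V τ ρ) : V.Normal :=
  ⟨fun v hv x => by rw [← h.commute hv x, mul_inv_cancel_right]; exact hv⟩

theorem rel (h : Conf V τ ρ) {v : T} (hv : v ∈ V) : v * ρ v * ρ (ρ v) = 1 := by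
  refine h.freeV _ (mul_mem (mul_mem hv (h.rho_mem hv)) (h.rho_mem (h.rho_mem hv))) ?_
  rw [map_mul, map_mul, h.rho3, ← h.commute hv (ρ v * ρ (ρ v)), mul_assoc v]

theorem rho_sq_eq (h : Conf V τ ρ) {v : T} (hv : v ∈ V) : ρ (ρ v) = v * ρ v := by
  rw [← inv_eq_of_mul_eq_one_right (h.rel hv), h.inv_eq (mul_mem hv (h.rho_mem hv))]

theorem V_cases (h : Conf V τ ρ) {v u : T} (hv : v ∈ V) (hv1 : v ≠ 1) (hu : u ∈ V) :
    u = 1 ∨ u = v ∨ u = ρ v ∨ u = ρ (ρ v) := by
  classical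
  have hρv : ρ v ≠ 1 := fun e => hv1 (ρ.injective (e.trans (map_one ρ).symm))
  have hρρv : ρ (ρ v) ≠ 1 := fun e => hρv (ρ.injective (e.trans (map_one ρ).symm))
  have h12 : v ≠ ρ v := fun e => hv1 (h.freeV v hv e.symm)
  have h23 : ρ v ≠ ρ (ρ v) := fun e => h12 (ρ.injective e)
  have h13 : v ≠ ρ (ρ v) := fun e => h12 (by
    calc v = ρ (ρ (ρ v)) := (h.rho3 v).symm
      _ = ρ v := by rw [← e])
  by_contra hne
  simp only [not_or] at hne
  obtain ⟨e0, e1, e2, e3⟩ := hne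
  let s : Finset T := {1, v, ρ v, ρ (ρ v), u}
  have hs : s.card = 5 := by
    simp [s, hv1.symm, hρv.symm, hρρv.symm, Ne.symm e0, h12, h13, h23, Ne.symm e1, Ne.symm e2,
      Ne.symm e3]
  have hle : (s : Set T) ⊆ (V : Set T) := by
    intro x hx
    simp only [s, Finset.coe_insert, Finset.coe_singleton, Set.mem_insert_iff,
      Set.mem_singleton_iff] at hx
    rcases hx with rfl | rfl | rfl | rfl | rfl
    · exact one_mem V
    · exact hv
    · exact h.rho_mem hv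
    · exact h.rho_mem (h.rho_mem hv)
    · exact hu
  have : Finite V := Nat.finite_of_card_ne_zero (by rw [h.card]; norm_num)
  have := Set.ncard_le_ncard hle (Set.toFinite _)
  rw [Set.ncard_coe_finset, hs, ← Nat.card_coe_set_eq] at this
  have hc : Nat.card (V : Set T) = 4 := h.card
  omega

theorem exists_ne_one (h : Conf V τ ρ) : ∃ v ∈ V, v ≠ 1 := by
  refine V.bot_or_exists_ne_one.resolve_left fun e => ?_
  have := h.card
  rw [e, Subgroup.card_bot] at this
  omega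

end Conf

/-- The fixed-point subgroup of an automorphism. -/
def fixedSubgroup (ρ : MulAut T) : Subgroup T where
  carrier := {x | ρ x = x}
  mul_mem' {a b} ha hb := by
    simp only [Set.mem_ofPred_eq] at *
    rw [map_mul, ha, hb]
  one_mem' := map_one ρ
  inv_mem' {a} ha := by
    simp only [Set.mem_ofPred_eq] at *
    rw [map_inv, ha]

/-- The elements whose class modulo `V` is fixed by `τ`. -/
def layer {V : Subgroup T} {τ ρ : MulAut T} (h : Conf V τ ρ) : Subgroup T where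
  carrier := {x | x⁻¹ * τ x ∈ V}
  mul_mem' {a b} ha hb := by
    simp only [Set.mem_ofPred_eq] at *
    have : (a * b)⁻¹ * τ (a * b) = a⁻¹ * τ a * (b⁻¹ * τ b) := by
      calc (a * b)⁻¹ * τ (a * b) = b⁻¹ * ((a⁻¹ * τ a) * τ b) := by rw [map_mul]; group
        _ = b⁻¹ * (τ b * (a⁻¹ * τ a)) := by rw [h.commute ha]
        _ = (a⁻¹ * τ a) * (b⁻¹ * τ b) := by rw [h.commute ha (b⁻¹ * τ b)]; group
    rw [this]; exact mul_mem ha hb
  one_mem' := by simp
  inv_mem' {a} ha := by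
    simp only [Set.mem_ofPred_eq] at *
    have : a⁻¹⁻¹ * τ a⁻¹ = (a⁻¹ * τ a)⁻¹ := by
      calc a⁻¹⁻¹ * τ a⁻¹ = a * ((a⁻¹ * τ a)⁻¹ * a⁻¹) := by rw [map_inv]; group
        _ = a * (a⁻¹ * (a⁻¹ * τ a)⁻¹) := by rw [h.commute (inv_mem ha)]
        _ = (a⁻¹ * τ a)⁻¹ := by group
    rw [this]; exact inv_mem ha

namespace Conf

variable (h : Conf V τ ρ)
include h

theorem mem_layer {x : T} : x ∈ layer h ↔ x⁻¹ * τ x ∈ V := Iff.rfl

theorem le_layer : V ≤ layer h := fun v hv => h.mem_layer.2 (by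
  rw [h.tau_mem hv, inv_mul_cancel]; exact one_mem V)

theorem delta_mul {a : T} (ha : a ∈ layer h) (b : T) :
    (a * b)⁻¹ * τ (a * b) = a⁻¹ * τ a * (b⁻¹ * τ b) := by
  rw [h.commute ha (b⁻¹ * τ b), map_mul]
  calc (a * b)⁻¹ * (τ a * τ b) = b⁻¹ * ((a⁻¹ * τ a) * τ b) := by group
    _ = b⁻¹ * (τ b * (a⁻¹ * τ a)) := by rw [h.commute ha]
    _ = b⁻¹ * τ b * (a⁻¹ * τ a) := by group

theorem delta_rho (x : T) : (ρ x)⁻¹ * τ (ρ x) = ρ (x⁻¹ * τ x) := by
  rw [h.comm, map_mul, map_inv]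

theorem rho_layer {x : T} (hx : x ∈ layer h) : ρ x ∈ layer h :=
  h.mem_layer.2 (by rw [h.delta_rho]; exact h.rho_mem (h.mem_layer.1 hx))

theorem delta_eq_one {x : T} : x⁻¹ * τ x = 1 ↔ x ∈ V := by
  rw [inv_mul_eq_one, eq_comm, h.fix]

variable [Finite T]

theorem free {x : T} (hx : ρ x = x) : x = 1 := by
  classical
  have := Fintype.ofFinite T
  by_contra hne
  let C := fixedSubgroup ρ
  have hmem : ∀ y : ↥C, τ (y : T) ∈ C := fun y => by
    change ρ (τ (y : T)) = τ (y : T)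
    rw [← h.comm, show ρ (y : T) = y from y.2]
  let σ : Equiv.Perm ↥C :=
    { toFun := fun y => ⟨τ y, hmem y⟩
      invFun := fun y => ⟨τ y, hmem y⟩
      left_inv := fun y => Subtype.ext (h.tau2 y)
      right_inv := fun y => Subtype.ext (h.tau2 y) }
  have hσ : σ ^ 2 ^ 1 = 1 := by
    ext y
    simp [pow_two, σ, h.tau2]
  have : Fact (Nat.Prime 2) := ⟨Nat.prime_two⟩
  have : Nontrivial ↥C := ⟨⟨⟨x, hx⟩, 1, fun e => hne (congrArg Subtype.val e)⟩⟩
  have h2 : 2 ∣ Fintype.card ↥C := by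
    obtain ⟨k, hk0, hk⟩ := (h.pgroup.to_subgroup C).nontrivial_iff_card.1 inferInstance
    rw [← Nat.card_eq_fintype_card, hk]
    exact dvd_pow_self 2 (by omega)
  obtain ⟨b, hb, hb1⟩ := Equiv.Perm.exists_fixed_point_of_prime' h2 hσ
    (show σ 1 = 1 from Subtype.ext (map_one τ))
  have hτb : τ (b : T) = b := congrArg Subtype.val hb
  exact hb1 (Subtype.ext (h.freeV _ ((h.fix _).1 hτb) b.2))

theorem free_coset (N : Subgroup T) (hN : ∀ n ∈ N, ρ n ∈ N) {x : T} (hx : x⁻¹ * ρ x ∈ N) :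
    x ∈ N := by
  classical
  have := Fintype.ofFinite T
  have hmem : ∀ y : {y : T // x⁻¹ * y ∈ N}, x⁻¹ * ρ y.1 ∈ N := fun y => by
    have : x⁻¹ * ρ y.1 = x⁻¹ * ρ x * ρ (x⁻¹ * y.1) := by rw [map_mul, map_inv]; group
    rw [this]; exact mul_mem hx (hN _ y.2)
  let f : {y : T // x⁻¹ * y ∈ N} → {y : T // x⁻¹ * y ∈ N} := fun y => ⟨ρ y.1, hmem y⟩
  let σ : Equiv.Perm {y : T // x⁻¹ * y ∈ N} :=
    { toFun := f
      invFun := fun y => f (f y)
      left_inv := fun y => Subtype.ext (h.rho3 y.1)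
      right_inv := fun y => Subtype.ext (h.rho3 y.1) }
  have hσ : σ ^ 3 ^ 1 = 1 := by
    ext y
    simp [pow_succ, σ, f, h.rho3]
  have : Fact (Nat.Prime 3) := ⟨Nat.prime_three⟩
  have : Fact (Nat.Prime 2) := ⟨Nat.prime_two⟩
  have hc : Fintype.card {y : T // x⁻¹ * y ∈ N} = Nat.card N := by
    rw [← Nat.card_eq_fintype_card]
    exact Nat.card_congr ((Equiv.mulLeft x⁻¹).subtypeEquiv fun y => Iff.rfl)
  have h3 : ¬ 3 ∣ Fintype.card {y : T // x⁻¹ * y ∈ N} := by
    obtain ⟨k, hk⟩ := (h.pgroup.to_subgroup N).exists_card_eq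
    rw [hc, hk]
    intro hd
    exact absurd ((Nat.prime_dvd_prime_iff_eq Nat.prime_three Nat.prime_two).1
      (Nat.prime_three.dvd_of_dvd_pow hd)) (by norm_num)
  obtain ⟨b, hb⟩ := Equiv.Perm.exists_fixed_point_of_prime h3 hσ
  have hb1 : b.1 = 1 := h.free (congrArg Subtype.val hb)
  have := b.2
  rw [hb1, mul_one] at this
  exact inv_mem_iff.1 this

/-- An involution-invariant subgroup properly above `V` contains a further element of the layer. -/
theorem exists_layer (K : Subgroup T) (hVK : V ≤ K) (hτ : ∀ k ∈ K, τ k ∈ K) (hne : K ≠ V) :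
    ∃ x ∈ K, x ∈ layer h ∧ x ∉ V := by
  classical
  have := h.normal
  have := Fintype.ofFinite T
  let Kb : Subgroup (T ⧸ V) := K.map (QuotientGroup.mk' V)
  let τb : MulAut (T ⧸ V) := QuotientGroup.congr V V τ (by
    ext y
    exact ⟨fun ⟨v, hv, e⟩ => e ▸ (h.tau_mem hv).symm ▸ hv,
      fun hy => ⟨y, hy, h.tau_mem hy⟩⟩)
  have hτb : ∀ x : T, τb (QuotientGroup.mk x) = QuotientGroup.mk (τ x) := fun x => rfl
  have hmem : ∀ y : ↥Kb, τb (y : T ⧸ V) ∈ Kb := by
    rintro ⟨_, k, hk, rfl⟩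
    exact ⟨τ k, hτ k hk, rfl⟩
  have htwo : ∀ y : T ⧸ V, τb (τb y) = y := fun y =>
    QuotientGroup.induction_on y fun x => by rw [hτb, hτb, h.tau2]
  let σ : Equiv.Perm ↥Kb :=
    { toFun := fun y => ⟨τb y, hmem y⟩
      invFun := fun y => ⟨τb y, hmem y⟩
      left_inv := fun y => Subtype.ext (htwo y)
      right_inv := fun y => Subtype.ext (htwo y) }
  have hσ : σ ^ 2 ^ 1 = 1 := by
    ext y
    simp [pow_two, σ, htwo]
  have : Fact (Nat.Prime 2) := ⟨Nat.prime_two⟩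
  obtain ⟨k, hk, hkV⟩ := SetLike.exists_of_lt (lt_of_le_of_ne hVK hne.symm)
  have : Nontrivial ↥Kb := ⟨⟨⟨QuotientGroup.mk k, ⟨k, hk, rfl⟩⟩, 1,
    fun e => hkV ((QuotientGroup.eq_one_iff k).1 (congrArg Subtype.val e))⟩⟩
  have h2 : 2 ∣ Fintype.card ↥Kb := by
    obtain ⟨j, hj0, hj⟩ := ((h.pgroup.to_quotient V).to_subgroup Kb).nontrivial_iff_card.1
      inferInstance
    rw [← Nat.card_eq_fintype_card, hj]
    exact dvd_pow_self 2 (by omega)
  obtain ⟨⟨_, x, hxK, rfl⟩, hb, hb1⟩ := Equiv.Perm.exists_fixed_point_of_prime' h2 hσ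
    (show σ 1 = 1 from Subtype.ext (map_one τb))
  refine ⟨x, hxK, ?_, fun hxV => hb1 (Subtype.ext ((QuotientGroup.eq_one_iff x).2 hxV))⟩
  have e : (QuotientGroup.mk (τ x) : T ⧸ V) = QuotientGroup.mk x := congrArg Subtype.val hb
  exact h.mem_layer.2 (QuotientGroup.eq.1 e.symm)

theorem layer_ne (hT : V ≠ ⊤) : layer h ≠ V := by
  obtain ⟨x, -, hx, hxV⟩ := h.exists_layer ⊤ le_top (fun _ _ => trivial) hT.symm
  exact fun e => hxV (e ▸ hx)

theorem layer_cases {a w : T} (ha : a ∈ layer h) (haV : a ∉ V) (hw : w ∈ layer h) :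
    w ∈ V ∨ a⁻¹ * w ∈ V ∨ (ρ a)⁻¹ * w ∈ V ∨ (ρ (ρ a))⁻¹ * w ∈ V := by
  have key : ∀ {b : T}, b ∈ layer h → b⁻¹ * τ b = w⁻¹ * τ w → b⁻¹ * w ∈ V := by
    intro b hb e
    have e1 : (b⁻¹)⁻¹ * τ b⁻¹ = (b⁻¹ * τ b)⁻¹ := by
      refine eq_inv_of_mul_eq_one_left ?_
      have := h.delta_mul (inv_mem hb) b
      rw [inv_mul_cancel, map_one, inv_one, one_mul] at this
      exact this.symm
    rw [← h.delta_eq_one, h.delta_mul (inv_mem hb), e1, e, inv_mul_cancel]
  rcases h.V_cases (h.mem_layer.1 ha) (fun e => haV (h.delta_eq_one.1 e)) (h.mem_layer.1 hw)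
    with e | e | e | e
  · exact Or.inl (h.delta_eq_one.1 e)
  · exact Or.inr (Or.inl (key ha e.symm))
  · exact Or.inr (Or.inr (Or.inl (key (h.rho_layer ha) (by rw [h.delta_rho]; exact e.symm))))
  · exact Or.inr (Or.inr (Or.inr (key (h.rho_layer (h.rho_layer ha))
      (by rw [h.delta_rho, h.delta_rho]; exact e.symm))))

/-- Elements modulo `V` determined by one element of the layer. -/
theorem layer_le_of_mem (K : Subgroup T) (hVK : V ≤ K) (hρ : ∀ k ∈ K, ρ k ∈ K) {a : T}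
    (ha : a ∈ layer h) (haV : a ∉ V) (haK : a ∈ K) : layer h ≤ K := by
  intro w hw
  have key : ∀ {b : T}, b ∈ K → b⁻¹ * w ∈ V → w ∈ K := fun {b} hb hc => by
    have := mul_mem hb (hVK hc)
    rwa [mul_inv_cancel_left] at this
  rcases h.layer_cases ha haV hw with e | e | e | e
  · exact hVK e
  · exact key haK e
  · exact key (hρ a haK) e
  · exact key (hρ _ (hρ a haK)) e

theorem card_layer (hT : V ≠ ⊤) : Nat.card (layer h) = 16 := by
  let f : ↥(layer h) →* ↥V :=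
    { toFun := fun w => ⟨(w : T)⁻¹ * τ w, w.2⟩
      map_one' := Subtype.ext (by simp)
      map_mul' := fun a b => Subtype.ext (h.delta_mul a.2 b) }
  have hker : f.ker = V.subgroupOf (layer h) := by
    ext w
    rw [MonoidHom.mem_ker, Subgroup.mem_subgroupOf, ← h.delta_eq_one, Subtype.ext_iff]
    rfl
  obtain ⟨a, -, ha, haV⟩ := h.exists_layer ⊤ le_top (fun _ _ => trivial) hT.symm
  have hsurj : f.range = ⊤ := by
    rw [eq_top_iff]
    intro u _
    rcases h.V_cases (h.mem_layer.1 ha) (fun e => haV (h.delta_eq_one.1 e)) u.2 with e | e | e | e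
    · exact ⟨1, Subtype.ext (by rw [e]; simp [f])⟩
    · exact ⟨⟨a, ha⟩, Subtype.ext e.symm⟩
    · exact ⟨⟨ρ a, h.rho_layer ha⟩, Subtype.ext ((h.delta_rho a).trans e.symm)⟩
    · exact ⟨⟨ρ (ρ a), h.rho_layer (h.rho_layer ha)⟩, Subtype.ext (by
        change (ρ (ρ a))⁻¹ * τ (ρ (ρ a)) = _
        rw [h.delta_rho, h.delta_rho, e])⟩
  rw [← Subgroup.card_mul_index f.ker, Subgroup.index_ker, hsurj, Subgroup.card_top, hker,
    Nat.card_congr (Subgroup.subgroupOfEquivOfLe h.le_layer).toEquiv, h.card]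

theorem layer_comm {w : T} (hw : w ∈ layer h) (t : T) : ⁅w, t⁆ ∈ V := by
  have := h.normal
  by_cases hT : V = ⊤
  · exact hT ▸ trivial
  have : Fact (Nat.Prime 2) := ⟨Nat.prime_two⟩
  let K : Subgroup T := (Subgroup.center (T ⧸ V)).comap (QuotientGroup.mk' V)
  have hK : ∀ {x : T}, x ∈ K ↔ ∀ t : T, ⁅x, t⁆ ∈ V := by
    intro x
    simp only [K, Subgroup.mem_comap, Subgroup.mem_center_iff]
    constructor
    · intro hx t
      rw [← QuotientGroup.eq_one_iff, ← QuotientGroup.mk'_apply, map_commutatorElement,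
        commutatorElement_eq_one_iff_mul_comm]
      exact (hx _).symm
    · intro hx y
      obtain ⟨t, rfl⟩ := QuotientGroup.mk'_surjective V y
      refine (commutatorElement_eq_one_iff_mul_comm.1 ?_).symm
      rw [← map_commutatorElement, QuotientGroup.mk'_apply, QuotientGroup.eq_one_iff]
      exact hx t
  have hinv : ∀ φ : MulAut T, (∀ v ∈ V, φ v ∈ V) → ∀ x ∈ K, φ x ∈ K := by
    intro φ hφ x hx
    rw [hK] at hx ⊢
    intro t
    rw [← φ.apply_symm_apply t, ← map_commutatorElement]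
    exact hφ _ (hx _)
  have hVK : V ≤ K := fun v hv => hK.2 fun t => by
    rw [commutatorElement_eq_one_iff_mul_comm.2 (h.commute hv t)]; exact one_mem V
  have hne : K ≠ V := by
    have : Nontrivial (T ⧸ V) := by
      rw [← Finite.one_lt_card_iff_nontrivial, ← Subgroup.index_eq_card]
      exact Subgroup.one_lt_index_of_ne_top hT
    have : Nontrivial (Subgroup.center (T ⧸ V)) := (h.pgroup.to_quotient V).center_nontrivial
    obtain ⟨z, hz⟩ := exists_ne (1 : Subgroup.center (T ⧸ V))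
    obtain ⟨x, hx⟩ := QuotientGroup.mk'_surjective V z
    intro e
    have : x ∈ V := e ▸ (Subgroup.mem_comap.2 (hx ▸ z.2))
    exact hz (Subtype.ext (hx.symm.trans ((QuotientGroup.eq_one_iff x).2 this)))
  obtain ⟨a, haK, ha, haV⟩ := h.exists_layer K hVK
    (hinv τ fun v hv => (h.tau_mem hv).symm ▸ hv) hne
  exact hK.1 (h.layer_le_of_mem K hVK (hinv ρ fun v hv => h.rho_mem hv) ha haV haK hw) t

omit [Finite T]

theorem comm_mul_right {x s t : T} (hs : ⁅x, t⁆ ∈ V) : ⁅x, s * t⁆ = ⁅x, s⁆ * ⁅x, t⁆ := by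
  calc ⁅x, s * t⁆ = ⁅x, s⁆ * (s * ⁅x, t⁆ * s⁻¹) := by simp only [commutatorElement_def]; group
    _ = ⁅x, s⁆ * ⁅x, t⁆ := by rw [← h.commute hs s]; group

theorem comm_mul_left {x y t : T} (hy : ⁅y, t⁆ ∈ V) : ⁅x * y, t⁆ = ⁅y, t⁆ * ⁅x, t⁆ := by
  calc ⁅x * y, t⁆ = x * ⁅y, t⁆ * x⁻¹ * ⁅x, t⁆ := by simp only [commutatorElement_def]; group
    _ = ⁅y, t⁆ * ⁅x, t⁆ := by rw [← h.commute hy x]; group

theorem comm_symm {x t : T} (hx : ⁅x, t⁆ ∈ V) : ⁅t, x⁆ = ⁅x, t⁆ := by
  rw [← commutatorElement_inv, h.inv_eq hx]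

theorem comm_inv {x t : T} (hx : ∀ s, ⁅x, s⁆ ∈ V) : ⁅x, t⁻¹⁆ = ⁅x, t⁆ := by
  have := h.comm_mul_right (s := t⁻¹) (hx t)
  rw [inv_mul_cancel, commutatorElement_one_right] at this
  rw [eq_inv_of_mul_eq_one_left this.symm, h.inv_eq (hx t)]

theorem comm_V {v : T} (hv : v ∈ V) (x : T) : ⁅x, v⁆ = 1 :=
  commutatorElement_eq_one_iff_mul_comm.2 (h.commute hv x).symm

variable [Finite T]

/-- Two consecutive images commute when their commutator is central and the product of the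
three images is in `V`. -/
theorem comm_rho {x : T} (h1 : ⁅x, ρ x⁆ ∈ V) (h2 : x * ρ x * ρ (ρ x) ∈ V) : ⁅x, ρ x⁆ = 1 := by
  refine h.free ?_
  have h12 : ⁅ρ x, x⁆ ∈ V := by rw [← commutatorElement_inv]; exact inv_mem h1
  have e : ρ (ρ x) = (ρ x)⁻¹ * x⁻¹ * (x * ρ x * ρ (ρ x)) := by group
  have e2 : ⁅ρ x, ρ (ρ x)⁆ = ⁅ρ x, (ρ x)⁻¹ * x⁻¹⁆ := by
    conv_lhs => rw [e]
    rw [h.comm_mul_right (by rw [h.comm_V h2]; exact one_mem V), h.comm_V h2, mul_one]
  rw [map_commutatorElement, e2]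
  calc ⁅ρ x, (ρ x)⁻¹ * x⁻¹⁆ = (ρ x)⁻¹ * x⁻¹ * (⁅x, ρ x⁆ * (x * ρ x)) := by
        simp only [commutatorElement_def]; group
    _ = ⁅x, ρ x⁆ := by rw [h.commute h1]; group

theorem layer_abelian {a b : T} (ha : a ∈ layer h) (hb : b ∈ layer h) : a * b = b * a := by
  by_cases haV : a ∈ V
  · exact h.commute haV b
  have h2 : a * ρ a * ρ (ρ a) ∈ V := by
    rw [← h.delta_eq_one, h.delta_mul (mul_mem ha (h.rho_layer ha)), h.delta_mul ha, h.delta_rho,
      h.delta_rho, h.delta_rho, h.rel ha]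
  have h1 : ⁅a, ρ a⁆ = 1 := h.comm_rho (h.layer_comm ha _) h2
  have h3 : ⁅a, ρ (ρ a)⁆ = 1 := by
    have e : ρ (ρ a) = (ρ a)⁻¹ * a⁻¹ * (a * ρ a * ρ (ρ a)) := by group
    rw [e, h.comm_mul_right (h.layer_comm ha _), h.comm_mul_right (h.layer_comm ha _),
      h.comm_V h2, h.comm_inv (h.layer_comm ha), h.comm_inv (h.layer_comm ha), h1,
      commutatorElement_self, one_mul, one_mul]
  rw [← commutatorElement_eq_one_iff_mul_comm]
  have key : ∀ {c : T}, c⁻¹ * b ∈ V → ⁅a, c⁆ = 1 → ⁅a, b⁆ = 1 := fun {c} hc e => by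
    rw [show b = c * (c⁻¹ * b) by group, h.comm_mul_right (h.layer_comm ha _), e, h.comm_V hc,
      one_mul]
  rcases h.layer_cases ha haV hb with e | e | e | e
  · exact h.comm_V e a
  · exact key e (commutatorElement_self a)
  · exact key e h1
  · exact key e h3

/-- The automorphism induced on `T / V`. -/
theorem map_eq {φ : MulAut T} (hφ : ∀ v ∈ V, φ v ∈ V) : V.map φ.toMonoidHom = V := by
  refine Subgroup.eq_of_le_of_card_ge ?_ (by rw [Subgroup.card_map_of_injective φ.injective])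
  rintro _ ⟨v, hv, rfl⟩
  exact hφ v hv

end Conf

/-- `τ` on `T / V`. -/
noncomputable def barTau [Finite T] (h : Conf V τ ρ) [V.Normal] : MulAut (T ⧸ V) :=
  QuotientGroup.congr V V τ (h.map_eq fun v hv => (h.tau_mem hv).symm ▸ hv)

/-- `ρ` on `T / V`. -/
noncomputable def barRho [Finite T] (h : Conf V τ ρ) [V.Normal] : MulAut (T ⧸ V) :=
  QuotientGroup.congr V V ρ (h.map_eq fun v hv => h.rho_mem hv)

variable [Finite T]

theorem barTau_mk (h : Conf V τ ρ) [V.Normal] (x : T) :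
    barTau h (QuotientGroup.mk x) = QuotientGroup.mk (τ x) := rfl

theorem barRho_mk (h : Conf V τ ρ) [V.Normal] (x : T) :
    barRho h (QuotientGroup.mk x) = QuotientGroup.mk (ρ x) := rfl

/-- The configuration on `T / V`. -/
theorem Conf.quotient (h : Conf V τ ρ) [V.Normal] (hT : V ≠ ⊤) :
    Conf ((layer h).map (QuotientGroup.mk' V)) (barTau h) (barRho h) where
  pgroup := h.pgroup.to_quotient V
  central := by
    rintro _ ⟨w, hw, rfl⟩
    rw [Subgroup.mem_center_iff]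
    intro y
    obtain ⟨t, rfl⟩ := QuotientGroup.mk'_surjective V y
    refine (commutatorElement_eq_one_iff_mul_comm.1 ?_).symm
    rw [← map_commutatorElement, QuotientGroup.mk'_apply, QuotientGroup.eq_one_iff]
    exact h.layer_comm hw t
  card := by
    have h1 := Subgroup.relIndex_ker (QuotientGroup.mk' V) (K := layer h)
    rw [QuotientGroup.ker_mk'] at h1
    have h2 := Subgroup.card_mul_index (V.subgroupOf (layer h))
    rw [Nat.card_congr (Subgroup.subgroupOfEquivOfLe h.le_layer).toEquiv, h.card,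
      h.card_layer hT] at h2
    rw [← h1]
    change (V.subgroupOf (layer h)).index = 4
    omega
  sq := by
    rintro _ ⟨w, hw, rfl⟩
    rw [← map_mul, QuotientGroup.mk'_apply, QuotientGroup.eq_one_iff, ← h.delta_eq_one,
      h.delta_mul hw]
    exact h.sq _ hw
  tau2 := fun y => QuotientGroup.induction_on y fun x => by rw [barTau_mk, barTau_mk, h.tau2]
  rho3 := fun y => QuotientGroup.induction_on y fun x => by
    rw [barRho_mk, barRho_mk, barRho_mk, h.rho3]
  comm := fun y => QuotientGroup.induction_on y fun x => by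
    rw [barRho_mk, barTau_mk, barTau_mk, barRho_mk, h.comm]
  fix := fun y => QuotientGroup.induction_on y fun x => by
    rw [barTau_mk, eq_comm, QuotientGroup.eq, ← h.mem_layer]
    constructor
    · exact fun hx => ⟨x, hx, rfl⟩
    · rintro ⟨w, hw, e⟩
      have := QuotientGroup.eq.1 e
      have := mul_mem hw (h.le_layer this)
      rwa [mul_inv_cancel_left] at this
  freeV := by
    rintro _ ⟨w, hw, rfl⟩ e
    rw [QuotientGroup.mk'_apply, barRho_mk, eq_comm, QuotientGroup.eq] at e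
    exact (QuotientGroup.eq_one_iff w).2 (h.free_coset V (fun v hv => h.rho_mem hv) e)

theorem Conf.mem_quotient_layer (h : Conf V τ ρ) [V.Normal] {x : T} :
    (QuotientGroup.mk x : T ⧸ V) ∈ (layer h).map (QuotientGroup.mk' V) ↔ x ∈ layer h := by
  constructor
  · rintro ⟨w, hw, e⟩
    have := QuotientGroup.eq.1 e
    have := mul_mem hw (h.le_layer this)
    rwa [mul_inv_cancel_left] at this
  · exact fun hx => ⟨x, hx, rfl⟩

end CfsgLib.LocalEvenB.FourFixed
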