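import Cfsg.Agent.Lib.LocalEvenB.FourFixedRigidity

/-!
# The classification up to the quadratic map, and the relations in the non-abelian case
-/

set_option autoImplicit false
set_option linter.unusedSectionVars false

namespace CfsgLib.LocalEvenB.FourFixed

open scoped commutatorElement

universe u

/-- The permutation of four points induced by `ρ` on a four-group. -/
def cyc : Fin 4 → Fin 4 := ![0, 2, 3, 1]

/-- The addition of a four-group. -/
def add4 : Fin 4 → Fin 4 → Fin 4 := ![![0, 1, 2, 3], ![1, 0, 3, 2], ![2, 3, 0, 1], ![3, 2, 1, 0]]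

/-- A linear map of the four-group commuting with its conjugate, and whose three conjugates add
up to zero, is zero. -/
theorem linear_zero : ∀ a b : Fin 4, ∀ f : Fin 4 → Fin 4, f = ![0, a, b, add4 a b] →
    ∀ g : Fin 4 → Fin 4, g = (fun i => cyc (f (cyc (cyc i)))) →
    (∀ i, add4 (add4 (f i) (g i)) (cyc (g (cyc (cyc i)))) = 0) →
    (∀ i, f (g i) = g (f i)) → ∀ i, f i = 0 := by
  intro a b f hf g hg
  subst hf hg
  revert a b
  decide +kernel

section rigidity

variable {T : Type*} [Group T] [Finite T] {V : Subgroup T} {τ ρ : MulAut T}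

theorem Conf.quotient_ne (h : Conf V τ ρ) [V.Normal] (hTW : layer h ≠ ⊤) :
    (layer h).map (QuotientGroup.mk' V) ≠ ⊤ := fun e =>
  hTW (eq_top_iff.2 fun x _ => h.mem_quotient_layer.1 (e ▸ trivial))

/-- There is no third layer on top of a non-abelian one. -/
theorem Conf.quotient_comm (h : Conf V τ ρ) (hV : V.Normal) (hT : V ≠ ⊤) (hTW : layer h ≠ ⊤)
    (hSW : layer (h.quotient hT) ≠ ⊤)
    (hsq : ∀ x : T, x * x ∈ layer h) (hcm : ∀ x y : T, ⁅x, y⁆ ∈ layer h) :
    ∀ x y : T, ⁅x, y⁆ ∈ V := by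
  classical
  have hq := h.quotient hT
  -- the second layer
  let D : Subgroup T := (layer hq).comap (QuotientGroup.mk' V)
  have hD : ∀ {d : T}, d ∈ D ↔ d⁻¹ * τ d ∈ layer h := fun {d} => by
    rw [← h.mem_quotient_layer]
    rfl
  have hDab : ∀ {d d' : T}, d ∈ D → d' ∈ D → ⁅d, d'⁆ ∈ V := fun {d d'} hd hd' => by
    rw [← QuotientGroup.eq_one_iff, ← QuotientGroup.mk'_apply, map_commutatorElement,
      commutatorElement_eq_one_iff_mul_comm]
    exact hq.layer_abelian hd hd'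
  have := hq.normal
  have hS : (layer h).map (QuotientGroup.mk' V) ≠ ⊤ := h.quotient_ne hTW
  have hq2 := hq.quotient hS
  -- `[layer, D] = 1`
  have hWD : ∀ {w d : T}, w ∈ layer h → d ∈ D → ⁅w, d⁆ = 1 := by
    have hδ : ∀ {w : T}, w ∈ layer h → ∀ x : T, ⁅w, x⁻¹ * τ x⁆ = 1 := by
      intro w hw x
      have h1 : ⁅w⁻¹, τ x⁆ = ⁅w, x⁆ := by
        rw [← (h.inverted hTW hw).1, ← map_commutatorElement, h.tau_mem (h.layer_comm hw x)]
      have h2 : ⁅w⁻¹, τ x⁆ = ⁅w, τ x⁆ := by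
        have := h.comm_mul_left (x := w⁻¹) (h.layer_comm hw (τ x))
        rw [inv_mul_cancel, commutatorElement_one_left] at this
        rw [eq_inv_of_mul_eq_one_right this.symm, h.inv_eq (h.layer_comm hw _)]
      rw [h.comm_mul_right (h.layer_comm hw _), h.comm_inv (h.layer_comm hw), ← h2, h1]
      exact h.sq _ (h.layer_comm hw _)
    intro w d hw hd
    -- every class of `D` modulo the layer is `x⁻¹ τ x`
    obtain ⟨y, -, hy, hyV⟩ := hq.exists_layer ⊤ le_top (fun _ _ => trivial) hS.symm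
    obtain ⟨z, -, hz, hzV⟩ := hq2.exists_layer ⊤ le_top (fun _ _ => trivial)
      (hq.quotient_ne hSW).symm
    obtain ⟨z₁, rfl⟩ := QuotientGroup.mk_surjective z
    obtain ⟨z₀, rfl⟩ := QuotientGroup.mk_surjective z₁
    let π : T →* (T ⧸ V) ⧸ (layer h).map (QuotientGroup.mk' V) :=
      (QuotientGroup.mk' _).comp (QuotientGroup.mk' V)
    have hπ : ∀ {t : T}, π t = 1 ↔ t ∈ layer h := fun {t} =>
      (QuotientGroup.eq_one_iff _).trans h.mem_quotient_layer
    have hz' : π (z₀⁻¹ * τ z₀) ∈ (layer hq).map (QuotientGroup.mk' _) := hz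
    have hz1 : π (z₀⁻¹ * τ z₀) ≠ 1 := fun e => hzV (hq2.delta_eq_one.1 e)
    have hd' : π d ∈ (layer hq).map (QuotientGroup.mk' _) := ⟨_, hd, rfl⟩
    have key : ∀ x : T, π d = π (x⁻¹ * τ x) → ⁅w, d⁆ = 1 := by
      intro x e
      have : (x⁻¹ * τ x)⁻¹ * d ∈ layer h := hπ.1 (by rw [map_mul, map_inv, e, inv_mul_cancel])
      rw [show d = x⁻¹ * τ x * ((x⁻¹ * τ x)⁻¹ * d) by group,
        h.comm_mul_right (h.layer_comm hw _), hδ hw,
        commutatorElement_eq_one_iff_mul_comm.2 (h.layer_abelian hw this), one_mul]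
    rcases hq2.V_cases hz' hz1 hd' with e | e | e | e
    · exact key 1 (by rw [e]; simp)
    · exact key z₀ e
    · exact key (ρ z₀) (by rw [h.delta_rho, e]; rfl)
    · exact key (ρ (ρ z₀)) (by rw [h.delta_rho, h.delta_rho, e]; rfl)
  -- squares of `D`
  have hDsq : ∀ {d : T}, d ∈ D → d * d ∈ layer h := fun _ => hsq _
  have hinj : ∀ {w w' : T}, w ∈ layer h → w' ∈ layer h → w * w = w' * w' → w⁻¹ * w' ∈ V := by
    intro w w' hw hw' e
    refine h.mem_V_of_sq hTW (mul_mem (inv_mem hw) hw') ?_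
    calc w⁻¹ * w' * (w⁻¹ * w') = w⁻¹ * (w' * w⁻¹) * w' := by group
      _ = w⁻¹ * (w⁻¹ * w') * w' := by rw [h.layer_abelian hw' (inv_mem hw)]
      _ = (w * w)⁻¹ * (w' * w') := by group
      _ = 1 := by rw [e, inv_mul_cancel]
  -- the identity `[d², y] = [d, y]²`
  have hI : ∀ {d : T}, d ∈ D → ∀ y : T, ⁅d * d, y⁆ = ⁅d, y⁆ * ⁅d, y⁆ := by
    intro d hd y
    calc ⁅d * d, y⁆ = d * ⁅d, y⁆ * d⁻¹ * ⁅d, y⁆ := by simp only [commutatorElement_def]; group
      _ = ⁅d, y⁆ * ⁅d, y⁆ := by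
        rw [← commutatorElement_eq_one_iff_mul_comm.1 (hWD (hcm d y) hd), mul_inv_cancel_right]
  -- a basis of the layer
  obtain ⟨a, -, ha, haV⟩ := h.exists_layer ⊤ le_top (fun _ _ => trivial) hT.symm
  have ha2 : a * ρ a * ρ (ρ a) ∈ V := by
    rw [← h.delta_eq_one, h.delta_mul (mul_mem ha (h.rho_layer ha)), h.delta_mul ha, h.delta_rho,
      h.delta_rho, h.delta_rho, h.rel ha]
  set va := a * a with hva
  have hvaV : va ∈ V := h.sq_mem_V hTW ha
  have hva1 : va ≠ 1 := fun e => haV (h.mem_V_of_sq hTW ha e)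
  let rep : Fin 4 → T := ![1, a, ρ a, ρ (ρ a)]
  have hrep : ∀ i, rep i ∈ layer h := by
    intro i; fin_cases i
    exacts [one_mem _, ha, h.rho_layer ha, h.rho_layer (h.rho_layer ha)]
  let e : Fin 4 → T := ![1, va, ρ va, ρ (ρ va)]
  have he : ∀ i, rep i * rep i = e i := by
    intro i
    fin_cases i <;> simp [rep, e, hva, map_mul]
  have heV : ∀ i, e i ∈ V := fun i => he i ▸ h.sq_mem_V hTW (hrep i)
  have hesurj : ∀ {u : T}, u ∈ V → ∃ i, e i = u := by
    intro u hu
    rcases h.V_cases hvaV hva1 hu with q | q | q | q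
    exacts [⟨0, q.symm⟩, ⟨1, q.symm⟩, ⟨2, q.symm⟩, ⟨3, q.symm⟩]
  have hρva : ρ va ≠ 1 := fun q => hva1 (ρ.injective (q.trans (map_one ρ).symm))
  have hρρva : ρ (ρ va) ≠ 1 := fun q => hρva (ρ.injective (q.trans (map_one ρ).symm))
  have h12 : va ≠ ρ va := fun q => hva1 (h.freeV va hvaV q.symm)
  have h23 : ρ va ≠ ρ (ρ va) := fun q => h12 (ρ.injective q)
  have h13 : va ≠ ρ (ρ va) := fun q => h12 (by
    calc va = ρ (ρ (ρ va)) := (h.rho3 va).symm
      _ = ρ va := by rw [← q])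
  have heinj : Function.Injective e := by
    intro i j q
    fin_cases i <;> fin_cases j <;>
      first
      | rfl
      | exact absurd q hva1 | exact absurd q.symm hva1 | exact absurd q hρva
      | exact absurd q.symm hρva | exact absurd q hρρva | exact absurd q.symm hρρva
      | exact absurd q h12 | exact absurd q.symm h12 | exact absurd q h13
      | exact absurd q.symm h13 | exact absurd q h23 | exact absurd q.symm h23
  have hecyc : ∀ i, e (cyc i) = ρ (e i) := by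
    intro i
    fin_cases i <;> simp [e, cyc, h.rho3]
  have hadd : ∀ i j, e (add4 i j) = e i * e j := by
    have r1 : ρ (ρ va) = va * ρ va := h.rho_sq_eq hvaV
    have q1 := h.sq va hvaV
    have q2 := h.sq _ (h.rho_mem hvaV)
    have c1 := h.commute hvaV (ρ va)
    intro i j
    have t : va * (va * ρ va) = ρ va := by rw [← mul_assoc, q1, one_mul]
    have t' : ρ va * (va * ρ va) = va := by rw [c1, ← mul_assoc, q2, one_mul]
    fin_cases i <;> fin_cases j <;> simp [e, add4, r1, q1, q2, c1.symm, t, t', mul_assoc]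
  -- the maps
  have hc : ∀ y : T, ∀ i, ∃ j, e j = ⁅rep i, y⁆ := fun y i => hesurj (h.layer_comm (hrep i) y)
  choose L hL using hc
  have hcong : ∀ {w w' : T}, w ∈ layer h → w⁻¹ * w' ∈ V → ∀ y : T, ⁅w', y⁆ = ⁅w, y⁆ := by
    intro w w' hw hv y
    have hvy : ⁅w⁻¹ * w', y⁆ = 1 := commutatorElement_eq_one_iff_mul_comm.2 (h.commute hv y)
    conv_lhs => rw [show w' = w * (w⁻¹ * w') by group]
    rw [h.comm_mul_left (by rw [hvy]; exact one_mem V), hvy, one_mul]
  have hrepadd : ∀ i j, (rep (add4 i j))⁻¹ * (rep i * rep j) ∈ V := by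
    intro i j
    refine hinj (hrep _) (mul_mem (hrep i) (hrep j)) ?_
    calc rep (add4 i j) * rep (add4 i j) = e i * e j := by rw [he, hadd]
      _ = rep i * (rep i * rep j) * rep j := by rw [← he i, ← he j]; group
      _ = rep i * (rep j * rep i) * rep j :=
        congrArg (fun t => rep i * t * rep j) (h.layer_abelian (hrep i) (hrep j))
      _ = rep i * rep j * (rep i * rep j) := by group
  have hLadd : ∀ y i j, L y (add4 i j) = add4 (L y i) (L y j) := by
    intro y i j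
    refine heinj ?_
    rw [hL, ← hcong (hrep _) (hrepadd i j), h.comm_mul_left (h.layer_comm (hrep j) y), hadd, hL,
      hL, h.commute (h.layer_comm (hrep j) y)]
  have hLrho : ∀ y i, L (ρ y) (cyc i) = cyc (L y i) := by
    intro y i
    refine heinj ?_
    have hr : (rep (cyc i))⁻¹ * ρ (rep i) ∈ V := by
      refine hinj (hrep _) (h.rho_layer (hrep i)) ?_
      rw [he, hecyc, ← map_mul, he]
    rw [hecyc, hL, hL, map_commutatorElement, hcong (hrep _) hr]
  have hfree : ∀ x : T, x * ρ x * ρ (ρ x) ∈ layer h := by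
    intro x
    refine h.free_coset (layer h) (fun n hn => h.rho_layer hn) ?_
    have e1 : (x * ρ x * ρ (ρ x))⁻¹ * ρ (x * ρ x * ρ (ρ x)) =
        ⁅(ρ (ρ x))⁻¹ * (ρ x)⁻¹, x⁻¹⁆ := by
      rw [map_mul, map_mul, h.rho3]
      simp only [commutatorElement_def]
      group
    rw [e1]
    exact hcm _ _
  have hLzero : ∀ y i, L y i = 0 := by
    intro y
    have hg : ∀ i, L (ρ y) i = cyc (L y (cyc (cyc i))) := fun i => by
      rw [← hLrho]; congr 1; fin_cases i <;> rfl
    have hh : ∀ i, L (ρ (ρ y)) i = cyc (L (ρ y) (cyc (cyc i))) := fun i => by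
      rw [← hLrho]; congr 1; fin_cases i <;> rfl
    have h0 : L y 0 = 0 := heinj (by rw [hL]; simp [rep, e])
    have hf : L y = ![0, L y 1, L y 2, add4 (L y 1) (L y 2)] := by
      funext i
      fin_cases i
      · exact h0
      · rfl
      · rfl
      · exact hLadd y 1 2
    refine linear_zero (L y 1) (L y 2) (L y) hf (fun i => cyc (L y (cyc (cyc i)))) rfl
      (fun i => ?_) (fun i => ?_)
    · rw [← hg, ← hg (cyc (cyc i)), ← hh]
      refine heinj ?_
      rw [hadd, hadd, hL, hL, hL, ← h.comm_mul_right (h.layer_comm (hrep i) _),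
        ← h.comm_mul_right (h.layer_comm (hrep i) _)]
      exact commutatorElement_eq_one_iff_mul_comm.2 (h.layer_abelian (hrep i) (hfree y))
    · rw [← hg, ← hg (L y i)]
      -- choose a square root of `rep i` in `D`
      obtain ⟨d, hd, hdr⟩ : ∃ d ∈ D, (rep i)⁻¹ * (d * d) ∈ V := by
        have hm : (QuotientGroup.mk (rep i) : T ⧸ V) ∈ (layer h).map (QuotientGroup.mk' V) :=
          ⟨_, hrep i, rfl⟩
        obtain ⟨b, -, hb, hbV⟩ := hq.exists_layer ⊤ le_top (fun _ _ => trivial) hS.symm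
        have hbb : b * b ≠ 1 := fun q => hbV (hq.mem_V_of_sq hSW hb q)
        obtain ⟨b₀, rfl⟩ := QuotientGroup.mk_surjective b
        have key : ∀ d : T, (QuotientGroup.mk d : T ⧸ V) ∈ layer hq →
            (QuotientGroup.mk (rep i) : T ⧸ V) = QuotientGroup.mk d * QuotientGroup.mk d →
            ∃ d ∈ D, (rep i)⁻¹ * (d * d) ∈ V :=
          fun d hd' q => ⟨d, hd', QuotientGroup.eq.1 q⟩
        rcases hq.V_cases (hq.sq_mem_V hSW hb) hbb hm with q | q | q | q
        · exact key 1 (one_mem _) (by rw [q]; simp)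
        · exact key b₀ hb q
        · exact key (ρ b₀) (hq.rho_layer hb) (by rw [q, map_mul]; rfl)
        · exact key (ρ (ρ b₀)) (hq.rho_layer (hq.rho_layer hb)) (by rw [q, map_mul, map_mul]; rfl)
      have hstep : ∀ x z : T, e (L z (L x i)) = ⁅⁅d, x⁆, z⁆ := by
        intro x z
        rw [hL]
        refine (hcong (hrep _) (hinj (hrep _) (hcm d x) ?_) z).symm
        rw [he, hL, ← hI hd, hcong (hrep i) hdr]
      refine heinj ?_
      rw [hstep, hstep]
      -- `[[d, x], z] = [[d, z], x]`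
      set g1 := ⁅d, ρ y⁆ with hg1
      set g2 := ⁅d, y⁆ with hg2
      have hu : ⁅d, ⁅ρ y, y⁆⁆ = 1 := by
        rw [commutatorElement_eq_one_iff_mul_comm]
        exact (commutatorElement_eq_one_iff_mul_comm.1 (hWD (hcm _ _) hd)).symm
      have k1 : ⁅d, ρ y * y⁆ = g1 * (ρ y * g2 * (ρ y)⁻¹) := by
        simp only [hg1, hg2, commutatorElement_def]; group
      have k2 : ⁅d, y * ρ y⁆ = g2 * (y * g1 * y⁻¹) := by
        simp only [hg1, hg2, commutatorElement_def]; group
      have k3 : ρ y * y = ⁅ρ y, y⁆ * (y * ρ y) := by simp only [commutatorElement_def]; group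
      have k4 : ⁅d, ρ y * y⁆ = ⁅d, y * ρ y⁆ := by
        rw [k3]
        calc ⁅d, ⁅ρ y, y⁆ * (y * ρ y)⁆
            = ⁅d, ⁅ρ y, y⁆⁆ * (⁅ρ y, y⁆ * ⁅d, y * ρ y⁆ * ⁅ρ y, y⁆⁻¹) := by
              simp only [commutatorElement_def]; group
          _ = ⁅d, y * ρ y⁆ := by
              rw [hu, one_mul, h.layer_abelian (hcm _ _) (hcm d (y * ρ y)), mul_inv_cancel_right]
      have k5 : ρ y * g2 * (ρ y)⁻¹ = ⁅ρ y, g2⁆ * g2 := by
        simp only [commutatorElement_def]; group
      have k6 : y * g1 * y⁻¹ = ⁅y, g1⁆ * g1 := by simp only [commutatorElement_def]; group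
      have c1 : ⁅ρ y, g2⁆ = ⁅g2, ρ y⁆ := h.comm_symm (h.layer_comm (hcm d y) _)
      have c2 : ⁅y, g1⁆ = ⁅g1, y⁆ := h.comm_symm (h.layer_comm (hcm d (ρ y)) _)
      have k7 : g1 * (⁅g2, ρ y⁆ * g2) = g2 * (⁅g1, y⁆ * g1) := by
        rw [← c1, ← k5, ← k1, k4, k2, k6, c2]
      have hg : g1 * g2 = g2 * g1 := h.layer_abelian (hcm _ _) (hcm _ _)
      have k8 : ⁅g2, ρ y⁆ * (g1 * g2) = ⁅g1, y⁆ * (g1 * g2) := by
        conv_rhs => rw [hg]
        rw [← mul_assoc, h.commute (h.layer_comm (hcm d y) _) g1, mul_assoc, k7, ← mul_assoc,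
          ← h.commute (h.layer_comm (hcm d (ρ y)) _) g2, mul_assoc]
      exact (mul_right_cancel k8).symm
  -- the layer is central
  have hcentral : ∀ {w : T}, w ∈ layer h → ∀ y : T, ⁅w, y⁆ = 1 := by
    intro w hw y
    obtain ⟨i, hi⟩ := hesurj (h.sq_mem_V hTW hw)
    rw [← he] at hi
    rw [hcong (hrep i) (hinj (hrep i) hw hi), ← hL, hLzero]
    rfl
  intro x y
  refine h.mem_V_of_sq hTW (hcm x y) ?_
  have : ⁅x * x, y⁆ = ⁅x, y⁆ * ⁅x, y⁆ := by
    calc ⁅x * x, y⁆ = x * ⁅x, y⁆ * x⁻¹ * ⁅x, y⁆ := by simp only [commutatorElement_def]; group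
      _ = ⁅x, y⁆ * ⁅x, y⁆ := by
        rw [← commutatorElement_eq_one_iff_mul_comm.1 (hcentral (hcm x y) x), mul_inv_cancel_right]
  rw [← this]
  exact hcentral (hsq x) y

theorem Conf.card_quotient (h : Conf V τ ρ) : Nat.card T = 4 * Nat.card (T ⧸ V) := by
  rw [Subgroup.card_eq_card_quotient_mul_card_subgroup V, h.card, mul_comm]

end rigidity

/-- Either the group is abelian, or it has order 64 and is elementary abelian over `V`. -/
theorem dichotomy {T : Type u} [Group T] [Finite T] {V : Subgroup T} {τ ρ : MulAut T}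
    (h : Conf V τ ρ) : (∀ a b : T, a * b = b * a) ∨
      (Nat.card T = 64 ∧ layer h ≠ ⊤ ∧ ∀ x y : T, x * x ∈ V ∧ ⁅x, y⁆ ∈ V) := by
  induction hc : Nat.card T using Nat.strong_induction_on generalizing T with
  | _ m ih =>
  subst hc
  by_cases hTW : layer h = ⊤
  · exact Or.inl fun a b => h.layer_abelian (hTW ▸ trivial) (hTW ▸ trivial)
  have hV := h.normal
  have hT : V ≠ ⊤ := fun e => hTW (top_le_iff.1 (e ▸ h.le_layer))
  have hq := h.quotient hT
  have hlt : Nat.card (T ⧸ V) < Nat.card T := by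
    have : 0 < Nat.card (T ⧸ V) := Nat.card_pos
    have := h.card_quotient
    omega
  have habel : (∀ a b : T ⧸ V, a * b = b * a) → (∀ a b : T, a * b = b * a) ∨
      (Nat.card T = 64 ∧ layer h ≠ ⊤ ∧ ∀ x y : T, x * x ∈ V ∧ ⁅x, y⁆ ∈ V) := by
    intro hab
    have hcV : ∀ x y : T, ⁅x, y⁆ ∈ V := fun x y => by
      rw [← QuotientGroup.eq_one_iff, ← QuotientGroup.mk'_apply, map_commutatorElement,
        commutatorElement_eq_one_iff_mul_comm]
      exact hab _ _
    rcases hq.exponent_two_or hab with ⟨hexp, htop⟩ | hinv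
    · refine Or.inr ⟨?_, hTW, fun x y => ⟨(QuotientGroup.eq_one_iff _).1 (hexp x), hcV x y⟩⟩
      have h16 := hq.card_layer (h.quotient_ne hTW)
      rw [htop, Subgroup.card_top] at h16
      rw [h.card_quotient, h16]
    · obtain ⟨n, -, a, hgen, -⟩ := hq.homocyclic hab hinv
      obtain ⟨a₀, rfl⟩ := QuotientGroup.mk_surjective a
      have hprod : a₀ * ρ a₀ * ρ (ρ a₀) ∈ V := by
        refine h.free_coset V (fun v hv => h.rho_mem hv) ?_
        have e1 : (a₀ * ρ a₀ * ρ (ρ a₀))⁻¹ * ρ (a₀ * ρ a₀ * ρ (ρ a₀)) =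
            ⁅(ρ (ρ a₀))⁻¹ * (ρ a₀)⁻¹, a₀⁻¹⁆ := by
          rw [map_mul, map_mul, h.rho3]
          simp only [commutatorElement_def]
          group
        rw [e1]
        exact hcV _ _
      have hc1 : ⁅a₀, ρ a₀⁆ = 1 := h.comm_rho (hcV _ _) hprod
      let S : Set T := insert a₀ (insert (ρ a₀) (V : Set T))
      have hS : Subgroup.closure S = ⊤ := by
        have hle : (⊤ : Subgroup (T ⧸ V)) ≤ (Subgroup.closure S).map (QuotientGroup.mk' V) := by
          rw [← hgen, Subgroup.closure_le]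
          rintro z (rfl | rfl)
          · exact ⟨a₀, Subgroup.subset_closure (by simp [S]), rfl⟩
          · exact ⟨ρ a₀, Subgroup.subset_closure (by simp [S]), rfl⟩
        refine eq_top_iff.2 fun x _ => ?_
        obtain ⟨y, hy, e⟩ := hle (x := (QuotientGroup.mk x : T ⧸ V)) trivial
        have hv : y⁻¹ * x ∈ V := QuotientGroup.eq.1 e
        have := mul_mem hy (Subgroup.subset_closure (k := S) (by simp [S, hv] : y⁻¹ * x ∈ S))
        rwa [mul_inv_cancel_left] at this
      refine Or.inl fun x y => ?_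
      have hx : x ∈ Subgroup.closure S := hS ▸ trivial
      have hy : y ∈ Subgroup.closure S := hS ▸ trivial
      have hSS : ∀ p ∈ S, ∀ q ∈ S, p * q = q * p := by
        have hc := commutatorElement_eq_one_iff_mul_comm.1 hc1
        rintro p (rfl | rfl | hp) q (rfl | rfl | hq')
        all_goals first
          | rfl | exact hc | exact hc.symm | exact h.commute hp _ | exact (h.commute hq' _).symm
      have : IsMulCommutative ↥(Subgroup.closure S) :=
        Subgroup.isMulCommutative_closure fun p hp q hq => hSS p hp q hq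
      exact congrArg Subtype.val
        (this.is_comm.comm (⟨x, hx⟩ : Subgroup.closure S) ⟨y, hy⟩)
  rcases ih _ hlt hq rfl with hab | ⟨-, hSW, hel⟩
  · exact habel hab
  · refine habel fun a b => ?_
    obtain ⟨a, rfl⟩ := QuotientGroup.mk_surjective a
    obtain ⟨b, rfl⟩ := QuotientGroup.mk_surjective b
    refine commutatorElement_eq_one_iff_mul_comm.1 ((QuotientGroup.eq_one_iff ⁅a, b⁆).2
      (h.quotient_comm hV hT hTW hSW (fun x => h.mem_quotient_layer.1 (hel x x).1)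
        (fun x y => h.mem_quotient_layer.1 (hel x y).2) a b))

/-- The relations of the two non-abelian groups, for a parameter `s`. -/
structure Rel {G : Type*} [Group G] (b : Bool) (x y d e z₁ z₂ : G) : Prop where
  z₁_sq : z₁ * z₁ = 1
  z₂_sq : z₂ * z₂ = 1
  z₁_comm : z₁ * z₂ = z₂ * z₁ ∧ z₁ * d = d * z₁ ∧ z₁ * e = e * z₁ ∧ z₁ * x = x * z₁ ∧ z₁ * y = y * z₁
  z₂_comm : z₂ * d = d * z₂ ∧ z₂ * e = e * z₂ ∧ z₂ * x = x * z₂ ∧ z₂ * y = y * z₂
  d_sq : d * d = z₁
  e_sq : e * e = z₂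
  x_sq : x * x = if b then z₂ else 1
  y_sq : y * y = if b then z₁ * z₂ else 1
  de : d * e = e * d
  dx : d * x = x * d * z₁
  dy : d * y = y * d * (z₁ * z₂)
  ex : e * x = x * e * (z₁ * z₂)
  ey : e * y = y * e * z₂
  xy : x * y = y * x

section relations

variable {T : Type*} [Group T] [Finite T] {V : Subgroup T} {τ ρ : MulAut T}

theorem Conf.exists_rel (h : Conf V τ ρ) (hTW : layer h ≠ ⊤)
    (hel : ∀ x y : T, x * x ∈ V ∧ ⁅x, y⁆ ∈ V) :
    ∃ (b : Bool) (x y d e z₁ z₂ : T), Rel b x y d e z₁ z₂ ∧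
      Subgroup.closure {x, y, d, e, z₁, z₂} = ⊤ := by
  have := h.normal
  have hcm : ∀ x y : T, ⁅x, y⁆ ∈ V := fun x y => (hel x y).2
  have hδW : ∀ x : T, x⁻¹ * τ x ∈ layer h := fun x => by
    set d := x⁻¹ * τ x with hd
    have hτd : τ d = d⁻¹ := by rw [hd, map_mul, map_inv, h.tau2, mul_inv_rev, inv_inv]
    refine h.mem_layer.2 ?_
    rw [hτd, ← mul_inv_rev]
    exact inv_mem (hel d d).1
  have hT : V ≠ ⊤ := fun e => hTW (top_le_iff.1 (e ▸ h.le_layer))
  have hprod : ∀ u : T, u * ρ u * ρ (ρ u) ∈ V := fun u => by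
    refine h.free_coset V (fun v hv => h.rho_mem hv) ?_
    have e1 : (u * ρ u * ρ (ρ u))⁻¹ * ρ (u * ρ u * ρ (ρ u)) =
        ⁅(ρ (ρ u))⁻¹ * (ρ u)⁻¹, u⁻¹⁆ := by
      rw [map_mul, map_mul, h.rho3]
      simp only [commutatorElement_def]
      group
    rw [e1]
    exact hcm _ _
  obtain ⟨x₁, hx₁⟩ : ∃ x : T, x ∉ layer h := by
    by_contra q
    exact hTW (eq_top_iff.2 fun x _ => by_contra fun hx => q ⟨x, hx⟩)
  -- `[u, u⁻¹ τ u] = (u⁻¹ τ u)²`
  have hkey : ∀ u : T, ⁅u, u⁻¹ * τ u⁆ = u⁻¹ * τ u * (u⁻¹ * τ u) := by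
    intro u
    set d := u⁻¹ * τ u with hd
    have h1 : u * d * (u * d) = u * u := by
      rw [hd, mul_inv_cancel_left, ← map_mul, h.tau_mem (hel u u).1]
    have hdd : (d * d)⁻¹ = d * d := h.inv_eq (hel d d).1
    calc ⁅u, d⁆ = u * d * (u * d) * d⁻¹ * u⁻¹ * u⁻¹ * d⁻¹ := by
          simp only [commutatorElement_def]; group
      _ = u * u * (d⁻¹ * (u * u)⁻¹) * d⁻¹ := by rw [h1]; group
      _ = (d * d)⁻¹ := by rw [← h.commute (inv_mem (hel u u).1)]; group
      _ = d * d := hdd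
  have hcmr : ∀ a p q : T, ⁅a, p * q⁆ = ⁅a, p⁆ * ⁅a, q⁆ := fun a p q => h.comm_mul_right (hcm _ _)
  have hcml : ∀ a p q : T, ⁅p * q, a⁆ = ⁅q, a⁆ * ⁅p, a⁆ := fun a p q => h.comm_mul_left (hcm _ _)
  have hcV : ∀ (a : T) {v : T}, v ∈ V → ⁅a, v⁆ = 1 := fun a v hv => h.comm_V hv a
  have hcsymm : ∀ a p : T, ⁅p, a⁆ = ⁅a, p⁆ := fun a p => h.comm_symm (hcm a p)
  have main : ∀ x : T, x ∉ layer h → ∀ z : T, z = x⁻¹ * τ x * (x⁻¹ * τ x) →
      z ≠ 1 ∧ ⁅x, ρ (x⁻¹ * τ x)⁆ = z * ρ z ∧ ⁅ρ x, x⁻¹ * τ x⁆ = z * ρ z := by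
    intro x hx z hz
    set d := x⁻¹ * τ x with hd
    have hdW := hδW x
    have hdV : d ∉ V := fun q => hx (h.mem_layer.2 q)
    have hzV : z ∈ V := hz ▸ (hel d d).1
    have hm : ⁅x, ρ d⁆ = ⁅ρ x, d⁆ := by
      have h1 := hkey (x * ρ x)
      set k := d⁻¹ * (ρ x)⁻¹ * d * ρ x with hk'
      have hk : k ∈ V := by
        have := hcm d⁻¹ (ρ x)⁻¹
        rw [commutatorElement_def, inv_inv, inv_inv] at this
        exact this
      have h3 : (x * ρ x)⁻¹ * τ (x * ρ x) = d * ρ d * k := by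
        calc (x * ρ x)⁻¹ * τ (x * ρ x) = d * k * ((ρ x)⁻¹ * τ (ρ x)) := by
              rw [map_mul τ x (ρ x), hk', hd]; group
          _ = d * ρ d * k := by rw [h.delta_rho, mul_assoc, h.commute hk, ← mul_assoc]
      rw [h3, hcmr, hcV _ hk, mul_one, hcmr, hcml, hcml, ← map_commutatorElement, hkey x] at h1
      have h4 : d * ρ d * k * (d * ρ d * k) = d * d * ρ (d * d) := by
        have c1 : d * ρ d = ρ d * d := h.layer_abelian hdW (h.rho_layer hdW)
        calc d * ρ d * k * (d * ρ d * k) = d * ρ d * (k * (d * ρ d)) * k := by group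
          _ = d * (ρ d * d) * ρ d * (k * k) := by rw [h.commute hk (d * ρ d)]; group
          _ = d * d * ρ (d * d) := by rw [h.sq k hk, ← c1, map_mul ρ d d]; group
      rw [h4, ← hz] at h1
      -- `h1 : [ρx,d] z · (ρ z · [x, ρ d]) = z · ρ z`
      have hA := hcm (ρ x) d
      have hB := hcm x (ρ d)
      have h5 : ⁅ρ x, d⁆ * ⁅x, ρ d⁆ * (z * ρ z) = 1 * (z * ρ z) := by
        rw [one_mul]
        calc ⁅ρ x, d⁆ * ⁅x, ρ d⁆ * (z * ρ z) = ⁅ρ x, d⁆ * z * (ρ z * ⁅x, ρ d⁆) := by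
              rw [mul_assoc, h.commute hB (z * ρ z)]; group
          _ = z * ρ z := h1
      have h6 := mul_right_cancel h5
      rw [← inv_eq_of_mul_eq_one_right h6, h.inv_eq hA]
    refine ⟨hz ▸ fun q => hdV (h.mem_V_of_sq hTW hdW q), ?_⟩
    set m := ⁅x, ρ d⁆ with hm'
    have hmV : m ∈ V := hcm _ _
    have h7 : ⁅x, ρ (ρ d)⁆ = ρ (ρ m) := by rw [hm, map_commutatorElement, map_commutatorElement, h.rho3]
    have h8 : z * m * ρ (ρ m) = 1 := by
      rw [← h7, hz, ← hkey x, hm', ← hcmr, ← hcmr, hcV _ (hprod d)]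
    rw [h.rho_sq_eq hmV] at h8
    have h9 : z = ρ m := by
      have h10 : z * m * (m * ρ m) = z * ρ m := by
        rw [mul_assoc, ← mul_assoc m, h.sq m hmV, one_mul]
      rw [h10] at h8
      rw [eq_inv_of_mul_eq_one_left h8, h.inv_eq (h.rho_mem hmV)]
    have h11 : m = z * ρ z := by
      rw [← h.rho_sq_eq hzV, h9, h.rho3]
    exact ⟨h11, hm ▸ h11⟩
  -- normalise the square
  obtain ⟨x, hx, hsq⟩ : ∃ x : T, x ∉ layer h ∧
      (x * x = 1 ∨ x * x = ρ (x⁻¹ * τ x * (x⁻¹ * τ x))) := by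
    set z := x₁⁻¹ * τ x₁ * (x₁⁻¹ * τ x₁) with hz
    set d := x₁⁻¹ * τ x₁ with hd
    obtain ⟨hz1, hm, -⟩ := main x₁ hx₁ z rfl
    have hzV : z ∈ V := (hel d d).1
    rcases h.V_cases hzV hz1 (hel x₁ x₁).1 with q | q | q | q
    · exact ⟨x₁, hx₁, Or.inl q⟩
    rotate_left
    · exact ⟨x₁, hx₁, Or.inr q⟩
    all_goals
      have heW : ρ d ∈ layer h := h.rho_layer (hδW x₁)
      have hx' : x₁ * ρ d ∉ layer h := fun hh => hx₁ (by
        have := mul_mem hh (inv_mem heW)
        rwa [mul_inv_cancel_right] at this)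
      have hτe := (h.inverted hTW heW).1
      have hd' : (x₁ * ρ d)⁻¹ * τ (x₁ * ρ d) = d * ((ρ d)⁻¹ * (ρ d)⁻¹) := by
        rw [map_mul τ x₁ (ρ d), hτe]
        calc (x₁ * ρ d)⁻¹ * (τ x₁ * (ρ d)⁻¹) = (ρ d)⁻¹ * d * (ρ d)⁻¹ := by rw [hd]; group
          _ = d * ((ρ d)⁻¹ * (ρ d)⁻¹) := by
            rw [h.layer_abelian (inv_mem heW) (show d ∈ layer h from hδW x₁)]; group
      have hz' : (x₁ * ρ d)⁻¹ * τ (x₁ * ρ d) * ((x₁ * ρ d)⁻¹ * τ (x₁ * ρ d)) = z := by
        rw [hd']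
        have hv : (ρ d)⁻¹ * (ρ d)⁻¹ ∈ V := by rw [← mul_inv_rev]; exact inv_mem (hel (ρ d) (ρ d)).1
        set v := (ρ d)⁻¹ * (ρ d)⁻¹
        calc d * v * (d * v) = d * (v * d) * v := by group
          _ = d * d * (v * v) := by rw [h.commute hv d]; group
          _ = z := by rw [h.sq v hv, mul_one]
      have hnew : x₁ * ρ d * (x₁ * ρ d) = x₁ * x₁ * z := by
        have hc' : ⁅ρ d, x₁⁆ = z * ρ z := by rw [hcsymm, hm]
        calc x₁ * ρ d * (x₁ * ρ d) = x₁ * (⁅ρ d, x₁⁆ * (x₁ * ρ d)) * ρ d := by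
              simp only [commutatorElement_def]; group
          _ = x₁ * ((z * ρ z) * (x₁ * ρ d)) * ρ d := by rw [hc']
          _ = x₁ * ((x₁ * ρ d) * (z * ρ z)) * ρ d := by
              rw [h.commute (mul_mem hzV (h.rho_mem hzV))]
          _ = x₁ * x₁ * (ρ d * ((z * ρ z) * ρ d)) := by group
          _ = x₁ * x₁ * (ρ d * ρ d * (z * ρ z)) := by
              rw [h.commute (mul_mem hzV (h.rho_mem hzV)) (ρ d)]; group
          _ = x₁ * x₁ * z := by
              rw [← map_mul, ← hz, h.commute hzV (ρ z), ← mul_assoc (ρ z),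
                h.sq _ (h.rho_mem hzV), one_mul]
      refine ⟨x₁ * ρ d, hx', ?_⟩
      rw [hz', hnew, q]
    · refine Or.inr ?_
      rw [h.rho_sq_eq hzV, h.commute hzV (ρ z), mul_assoc, h.sq z hzV, mul_one]
    · exact Or.inl (h.sq z hzV)
  set d := x⁻¹ * τ x with hd
  set z₁ := d * d with hz₁
  obtain ⟨hz1, hxe, hyd⟩ := main x hx z₁ rfl
  have hdW : d ∈ layer h := hδW x
  have hzV : z₁ ∈ V := (hel d d).1
  have hz2 := h.rho_mem hzV
  have hswap : ∀ a p : T, a * p = p * a * ⁅a, p⁆ := fun a p => by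
    rw [← h.commute (hcm a p) (p * a), commutatorElement_def]; group
  have cxd : ⁅x, d⁆ = z₁ := hkey x
  have cye : ⁅ρ x, ρ d⁆ = ρ z₁ := by rw [← map_commutatorElement, cxd]
  obtain ⟨b, hb⟩ : ∃ b : Bool, x * x = if b then ρ z₁ else 1 := by
    rcases hsq with q | q
    · exact ⟨false, q⟩
    · exact ⟨true, q⟩
  refine ⟨b, x, ρ x, d, ρ d, z₁, ρ z₁, ?_, ?_⟩
  · exact
      { z₁_sq := h.sq _ hzV
        z₂_sq := h.sq _ hz2
        z₁_comm := ⟨h.commute hzV _, h.commute hzV _, h.commute hzV _, h.commute hzV _,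
          h.commute hzV _⟩
        z₂_comm := ⟨h.commute hz2 _, h.commute hz2 _, h.commute hz2 _, h.commute hz2 _⟩
        d_sq := rfl
        e_sq := (map_mul ρ d d).symm
        x_sq := hb
        y_sq := by
          rw [← map_mul, hb]
          cases b
          · simp
          · simpa using h.rho_sq_eq hzV
        de := h.layer_abelian hdW (h.rho_layer hdW)
        dx := by rw [hswap, hcsymm x d, cxd]
        dy := by rw [hswap, hcsymm (ρ x) d, hyd]
        ex := by rw [hswap, hcsymm x (ρ d), hxe]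
        ey := by rw [hswap, hcsymm (ρ x) (ρ d), cye]
        xy := commutatorElement_eq_one_iff_mul_comm.1 (h.comm_rho (hcm _ _) (hprod x)) }
  · set K := Subgroup.closure ({x, ρ x, d, ρ d, z₁, ρ z₁} : Set T)
    have hm : ∀ t ∈ ({x, ρ x, d, ρ d, z₁, ρ z₁} : Set T), t ∈ K := fun t ht =>
      Subgroup.subset_closure ht
    have hVK : V ≤ K := by
      intro v hv
      rcases h.V_cases hzV hz1 hv with q | q | q | q <;> rw [q]
      · exact one_mem K
      · exact hm _ (by simp)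
      · exact hm _ (by simp)
      · rw [h.rho_sq_eq hzV]; exact mul_mem (hm _ (by simp)) (hm _ (by simp))
    have hWK : ∀ w, w ∈ layer h → w ∈ K := by
      intro w hw
      have hdV : d ∉ V := fun q => hx (h.mem_layer.2 q)
      have key : ∀ {c : T}, c ∈ K → c⁻¹ * w ∈ V → w ∈ K := fun {c} hc q => by
        have := mul_mem hc (hVK q)
        rwa [mul_inv_cancel_left] at this
      rcases h.layer_cases hdW hdV hw with q | q | q | q
      · exact hVK q
      · exact key (hm _ (by simp)) q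
      · exact key (hm _ (by simp)) q
      · refine key ?_ q
        have e1 : ρ (ρ d) = (ρ d)⁻¹ * d⁻¹ * (d * ρ d * ρ (ρ d)) := by group
        rw [e1]
        exact mul_mem (mul_mem (inv_mem (hm _ (by simp))) (inv_mem (hm _ (by simp))))
          (hVK (hprod d))
    refine eq_top_iff.2 fun t _ => ?_
    have hne : (layer h).map (QuotientGroup.mk' V) ≠ ⊤ := h.quotient_ne hTW
    have hq := h.quotient hT
    have := hq.normal
    have hxV : (QuotientGroup.mk x : T ⧸ V) ∉ (layer h).map (QuotientGroup.mk' V) :=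
      fun q => hx (h.mem_quotient_layer.1 q)
    have hall : ∀ u : T, (QuotientGroup.mk u : T ⧸ V) ∈ layer hq := fun u =>
      h.mem_quotient_layer.2 (hδW u)
    have key : ∀ {c : T}, c ∈ K → (QuotientGroup.mk c : T ⧸ V)⁻¹ * QuotientGroup.mk t ∈
        (layer h).map (QuotientGroup.mk' V) → t ∈ K := fun {c} hc q => by
      have := mul_mem hc (hWK _ (((h.mem_quotient_layer (x := c⁻¹ * t)).1 q)))
      rwa [mul_inv_cancel_left] at this
    rcases hq.layer_cases (hall x) hxV (hall t) with q | q | q | q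
    · exact key (one_mem K) (by simpa using q)
    · exact key (hm _ (by simp)) q
    · exact key (c := ρ x) (hm _ (by simp)) q
    · refine key (c := ρ (ρ x)) ?_ q
      have e1 : ρ (ρ x) = (ρ x)⁻¹ * x⁻¹ * (x * ρ x * ρ (ρ x)) := by group
      rw [e1]
      exact mul_mem (mul_mem (inv_mem (hm _ (by simp))) (inv_mem (hm _ (by simp))))
        (hVK (hprod x))

end relations

end CfsgLib.LocalEvenB.FourFixed
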