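import Cfsg.Agent.Lib.LocalEvenB.FourFixedBasic

/-!
# The abelian case, and the impossibility of a further non-abelian layer
-/

set_option autoImplicit false

namespace CfsgLib.LocalEvenB.FourFixed

open scoped commutatorElement

variable {T : Type*} [Group T] [Finite T] {V : Subgroup T} {τ ρ : MulAut T}

/-- The involution of a cyclic 2-group. -/
theorem eq_half {G : Type*} [Group G] [Finite G] {b u : G} {n : ℕ} (hn : 1 ≤ n)
    (hb : orderOf b = 2 ^ n) (hu : u ∈ Subgroup.zpowers b) (hu2 : u * u = 1) (hu1 : u ≠ 1) :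
    u = b ^ 2 ^ (n - 1) := by
  obtain ⟨j, hj⟩ := mem_powers_iff_mem_zpowers.2 hu
  have hj' : b ^ (j % 2 ^ n) = u := by rw [← hb, pow_mod_orderOf]; exact hj
  obtain ⟨i, hi, rfl⟩ : ∃ i, i < 2 ^ n ∧ b ^ i = u :=
    ⟨j % 2 ^ n, Nat.mod_lt _ (by positivity), hj'⟩
  have h2n : 2 ^ n = 2 * 2 ^ (n - 1) := by rw [← pow_succ']; congr 1; omega
  rw [← pow_add, ← orderOf_dvd_iff_pow_eq_one, hb] at hu2
  obtain ⟨c, hc⟩ := hu2
  rcases c with _ | _ | c
  · exact absurd (by rw [show i = 0 by omega]; exact pow_zero b) hu1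
  · rw [show i = 2 ^ (n - 1) by omega]
  · have : 2 ^ n * 2 ≤ 2 ^ n * (c + 1 + 1) := Nat.mul_le_mul_left _ (by omega)
    omega

namespace Conf

variable (h : Conf V τ ρ)
include h

/-- Above the first layer, `τ` inverts the layer. -/
theorem inverted (hTW : layer h ≠ ⊤) {w : T} (hw : w ∈ layer h) :
    τ w = w⁻¹ ∧ w⁻¹ * τ w = w * w := by
  have := h.normal
  have hT : V ≠ ⊤ := fun e => hTW (top_le_iff.1 (e ▸ h.le_layer))
  have hq := h.quotient hT
  have hne : ((layer h).map (QuotientGroup.mk' V)) ≠ ⊤ := by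
    intro e
    refine hTW (eq_top_iff.2 fun x _ => h.mem_quotient_layer.1 ?_)
    rw [e]; trivial
  obtain ⟨y, -, hy, hyV⟩ := hq.exists_layer ⊤ le_top (fun _ _ => trivial) hne.symm
  -- every class of the layer is a commutator with `τ`
  have hd : (y⁻¹ * barTau h y) ∈ (layer h).map (QuotientGroup.mk' V) := hy
  have hd1 : y⁻¹ * barTau h y ≠ 1 := fun e => hyV (hq.delta_eq_one.1 e)
  have hsurj : ∀ u : T, u ∈ layer h → ∃ x : T,
      (QuotientGroup.mk (x⁻¹ * τ x) : T ⧸ V) = QuotientGroup.mk u := by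
    intro u hu
    have hu' : (QuotientGroup.mk u : T ⧸ V) ∈ (layer h).map (QuotientGroup.mk' V) := ⟨u, hu, rfl⟩
    obtain ⟨y₀, rfl⟩ := QuotientGroup.mk_surjective y
    have key : ∀ x : T, (QuotientGroup.mk x : T ⧸ V)⁻¹ * barTau h (QuotientGroup.mk x) =
        QuotientGroup.mk (x⁻¹ * τ x) := fun x => rfl
    rcases hq.V_cases hd hd1 hu' with e | e | e | e
    · exact ⟨1, by simpa using e.symm⟩
    · exact ⟨y₀, by rw [← key, e]⟩
    · exact ⟨ρ y₀, by rw [h.delta_rho, ← barRho_mk h, ← key, e]⟩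
    · exact ⟨ρ (ρ y₀), by rw [h.delta_rho, h.delta_rho, ← barRho_mk h, ← barRho_mk h, ← key, e]⟩
  obtain ⟨x, hx⟩ := hsurj w hw
  set v := (x⁻¹ * τ x)⁻¹ * w with hv'
  have hv : v ∈ V := QuotientGroup.eq.1 hx
  have hw' : w = x⁻¹ * τ x * v := by rw [hv']; group
  have hτ : τ w = w⁻¹ := by
    rw [hw', map_mul, h.tau_mem hv, map_mul, map_inv, h.tau2, mul_inv_rev, h.inv_eq hv,
      ← h.commute hv, mul_inv_rev, inv_inv]
  refine ⟨hτ, ?_⟩
  have h2 : (w⁻¹ * τ w) * (w⁻¹ * τ w) = 1 := h.sq _ hw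
  rw [hτ] at h2 ⊢
  rw [← mul_inv_rev] at h2 ⊢
  exact (inv_eq_of_mul_eq_one_right h2).symm.trans (inv_inv _)

theorem sq_mem_V (hTW : layer h ≠ ⊤) {w : T} (hw : w ∈ layer h) : w * w ∈ V :=
  (h.inverted hTW hw).2 ▸ hw

theorem mem_V_of_sq (hTW : layer h ≠ ⊤) {w : T} (hw : w ∈ layer h) (e : w * w = 1) : w ∈ V :=
  h.delta_eq_one.1 ((h.inverted hTW hw).2.trans e)

/-- In an abelian configuration an involution outside `V` forces exponent two. -/
theorem exponent_two_or (hab : ∀ a b : T, a * b = b * a) :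
    ((∀ x : T, x * x = 1) ∧ layer h = ⊤) ∨ ∀ x : T, x * x = 1 → x ∈ V := by
  by_cases hall : ∀ x : T, x * x = 1 → x ∈ V
  · exact Or.inr hall
  simp only [not_forall] at hall
  obtain ⟨u, hu, huV⟩ := hall
  refine Or.inl ?_
  set d := u⁻¹ * τ u with hd
  have hd2 : d * d = 1 := by
    rw [hd, mul_assoc, ← mul_assoc (τ u), hab (τ u) u⁻¹, mul_assoc, ← mul_assoc u⁻¹, ← mul_inv_rev,
      hu, inv_one, one_mul, ← map_mul, hu, map_one]
  have hτd : τ d = d := by
    calc τ d = d⁻¹ := by rw [hd, map_mul, map_inv, h.tau2, mul_inv_rev, inv_inv]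
      _ = d := inv_eq_of_mul_eq_one_right hd2
  have huW : u ∈ layer h := h.mem_layer.2 ((h.fix _).1 hτd)
  have hW : layer h = ⊤ := by
    by_contra hne
    exact huV (h.mem_V_of_sq hne huW hu)
  refine ⟨fun x => ?_, hW⟩
  have hprod : ∀ a b : T, a * a = 1 → b * b = 1 → a * b * (a * b) = 1 := fun a b ha hb => by
    rw [mul_assoc, ← mul_assoc b, hab b a, mul_assoc, hb, mul_one, ha]
  have hρu : ρ u * ρ u = 1 := by rw [← map_mul, hu, map_one]
  have hρρu : ρ (ρ u) * ρ (ρ u) = 1 := by rw [← map_mul, hρu, map_one]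
  have key : ∀ {c : T}, c * c = 1 → c⁻¹ * x ∈ V → x * x = 1 := fun {c} hc hx => by
    have := hprod c (c⁻¹ * x) hc (h.sq _ hx)
    rwa [mul_inv_cancel_left] at this
  rcases h.layer_cases huW huV (hW ▸ trivial : x ∈ layer h) with e | e | e | e
  · exact h.sq x e
  · exact key hu e
  · exact key hρu e
  · exact key hρρu e

/-- The homocyclic case. -/
theorem homocyclic (hab : ∀ a b : T, a * b = b * a) (hV : ∀ x : T, x * x = 1 → x ∈ V) :
    ∃ n : ℕ, 1 ≤ n ∧ ∃ a : T, Subgroup.closure {a, ρ a} = ⊤ ∧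
      Nonempty (T ≃* Multiplicative (ZMod (2 ^ n)) × Multiplicative (ZMod (2 ^ n))) := by
  classical
  letI : CommGroup T := { (inferInstance : Group T) with mul_comm := hab }
  have : Fact (Nat.Prime 2) := ⟨Nat.prime_two⟩
  let K : ℕ → Subgroup T := fun k => (powMonoidHom (α := T) (2 ^ k)).ker
  have hK : ∀ {k : ℕ} {x : T}, x ∈ K k ↔ x ^ 2 ^ k = 1 := fun {k x} => by
    simp [K, MonoidHom.mem_ker]
  have hKle : ∀ k : ℕ, Nat.card (K k) ≤ 4 ^ k := by
    intro k
    induction k with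
    | zero =>
      have : K 0 = ⊥ := by ext x; simp [hK]
      rw [this, Subgroup.card_bot, pow_zero]
    | succ k ih =>
      let f : ↥(K (k + 1)) →* ↥(K k) :=
        { toFun := fun x => ⟨(x : T) ^ 2, hK.2 (by
            rw [← pow_mul, ← pow_succ']; exact hK.1 x.2)⟩
          map_one' := Subtype.ext (one_pow 2)
          map_mul' := fun a b => Subtype.ext (mul_pow (a : T) b 2) }
      have hker : Nat.card f.ker ≤ 4 := by
        refine le_trans (Nat.card_le_card_of_injective (fun x : f.ker => (⟨((x : ↥(K (k+1))) : T),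
          hV _ (by rw [← pow_two]; exact congrArg Subtype.val x.2)⟩ : V))
          (fun a b e => Subtype.ext (Subtype.ext (congrArg (fun z : V => (z : T)) e)))) ?_
        rw [h.card]
      rw [← Subgroup.card_mul_index f.ker, Subgroup.index_ker, pow_succ']
      exact Nat.mul_le_mul hker ((Subgroup.card_le_of_le (le_top (a := f.range))).trans
        (by rw [Subgroup.card_top]; exact ih))
  obtain ⟨a, ha⟩ := Monoid.exists_orderOf_eq_exponent (Monoid.ExponentExists.of_finite (G := T))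
  obtain ⟨n, hn⟩ := IsPGroup.iff_orderOf.1 h.pgroup a
  obtain ⟨v, hv, hv1⟩ := h.exists_ne_one
  have hn0 : 1 ≤ n := by
    by_contra hn0
    have hz : n = 0 := by omega
    refine hv1 ?_
    have := Monoid.pow_exponent_eq_one v
    rwa [← ha, hn, hz, pow_zero, pow_one] at this
  have hexp : ∀ x : T, x ^ 2 ^ n = 1 := fun x => by
    rw [← hn, ha]; exact Monoid.pow_exponent_eq_one x
  have hρa : orderOf (ρ a) = 2 ^ n := by rw [MulEquiv.orderOf_eq, hn]
  -- the two cyclic groups meet trivially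
  have huniq : ∀ {b u : T}, orderOf b = 2 ^ n → u ∈ Subgroup.zpowers b → u * u = 1 → u ≠ 1 →
      u = b ^ 2 ^ (n - 1) := fun hb hu hu2 hu1 => eq_half hn0 hb hu hu2 hu1
  have hdisj : Disjoint (Subgroup.zpowers a) (Subgroup.zpowers (ρ a)) := by
    rw [Subgroup.disjoint_def]
    intro g hg hg'
    by_contra hg1
    obtain ⟨m, hm⟩ := IsPGroup.iff_orderOf.1 h.pgroup g
    have hm0 : m ≠ 0 := fun e => hg1 (orderOf_eq_one_iff.1 (by rw [hm, e, pow_zero]))
    set u := g ^ 2 ^ (m - 1) with hu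
    have hu1 : u ≠ 1 := pow_ne_one_of_lt_orderOf (by positivity)
      (by rw [hm]; exact Nat.pow_lt_pow_right one_lt_two (by omega))
    have hu2 : u * u = 1 := by
      rw [hu, ← pow_add, ← two_mul, ← pow_succ', show m - 1 + 1 = m by omega, ← hm,
        pow_orderOf_eq_one]
    have e1 := huniq hn (pow_mem hg _) hu2 hu1
    have e2 := huniq hρa (pow_mem hg' _) hu2 hu1
    rw [← map_pow, ← e1] at e2
    exact hu1 (h.free e2.symm)
  let ψ : ↥(Subgroup.zpowers a) × ↥(Subgroup.zpowers (ρ a)) →* T :=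
    MonoidHom.coprod (Subgroup.zpowers a).subtype (Subgroup.zpowers (ρ a)).subtype
  have hψ : Function.Injective ψ := by
    rw [← MonoidHom.ker_eq_bot_iff, eq_bot_iff]
    rintro ⟨x, y⟩ hxy
    have e : (x : T) * y = 1 := hxy
    have hx : (x : T) ∈ Subgroup.zpowers (ρ a) := by
      rw [eq_inv_of_mul_eq_one_left e]; exact inv_mem y.2
    have hx1 : (x : T) = 1 := Subgroup.disjoint_def.1 hdisj x.2 hx
    rw [Subgroup.mem_bot]
    refine Prod.ext (Subtype.ext hx1) (Subtype.ext ?_)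
    rw [hx1, one_mul] at e
    exact e
  have hb : Function.Bijective ψ := by
    refine (Nat.bijective_iff_injective_and_card ψ).2 ⟨hψ, le_antisymm
      (Nat.card_le_card_of_injective ψ hψ) ?_⟩
    have htop : K n = ⊤ := eq_top_iff.2 fun x _ => hK.2 (hexp x)
    rw [Nat.card_prod, Nat.card_zpowers, Nat.card_zpowers, hn, hρa, ← mul_pow,
      ← Subgroup.card_top (G := T), ← htop]
    exact hKle n
  refine ⟨n, hn0, a, eq_top_iff.2 fun x _ => ?_, ⟨?_⟩⟩
  · obtain ⟨⟨y, z⟩, rfl⟩ := hb.2 x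
    exact mul_mem (Subgroup.zpowers_le.2 (Subgroup.subset_closure (by simp)) y.2)
      (Subgroup.zpowers_le.2 (Subgroup.subset_closure (by simp)) z.2)
  · have hc : ∀ b : T, orderOf b = 2 ^ n →
        Nonempty (↥(Subgroup.zpowers b) ≃* Multiplicative (ZMod (2 ^ n))) := by
      intro b hb
      refine ⟨(zmodCyclicMulEquiv (inferInstance : IsCyclic ↥(Subgroup.zpowers b))).symm.trans ?_⟩
      rw [Nat.card_zpowers, hb]
    exact (MulEquiv.ofBijective ψ hb).symm.trans
      (MulEquiv.prodCongr (hc a hn).some (hc (ρ a) hρa).some)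

end Conf

end CfsgLib.LocalEvenB.FourFixed
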