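import Cfsg.Agent.Lib.LocalEvenB.HSubgroup
import Cfsg.Agent.Lib.Solvable.Supersolvable
import Cfsg.Agent.Lib.Solvable.Basic

/-!
Supersolvability from H-subgroups of a fixed order in the Sylow subgroups of a normal subgroup.
-/

set_option autoImplicit false
set_option linter.style.haveILetI false
set_option linter.unusedSectionVars false
open scoped commutatorElement

namespace CfsgLib.LocalEvenB.HSupersolvable

open HSubgroup

universe u

/-- The subgroup acting as a `p`-group on every normal section of order `p`. -/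
def kgen (p : ℕ) (G : Type*) [Group G] : Subgroup G :=
  Subgroup.closure (Set.range (fun g : G => g ^ (p - 1)) ∪ Set.range (fun gh : G × G => ⁅gh.1, gh.2⁆))

section

variable {G H : Type*} [Group G] [Finite G] [Group H] {p : ℕ} [Fact p.Prime]

theorem map_kgen_le (f : G →* H) : (kgen p G).map f ≤ kgen p H := by
  rw [kgen, MonoidHom.map_closure, Subgroup.closure_le]
  rintro _ ⟨z, (⟨g, rfl⟩ | ⟨⟨g, h⟩, rfl⟩), rfl⟩
  · exact Subgroup.subset_closure (Or.inl ⟨f g, by simp⟩)
  · exact Subgroup.subset_closure (Or.inr ⟨(f g, f h), by simp [map_commutatorElement]⟩)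

theorem kgen_le_of (T : Subgroup G) (h1 : ∀ g : G, g ^ (p - 1) ∈ T) (h2 : ∀ g h : G, ⁅g, h⁆ ∈ T) :
    kgen p G ≤ T := by
  rw [kgen, Subgroup.closure_le]
  rintro _ (⟨g, rfl⟩ | ⟨⟨g, h⟩, rfl⟩)
  · exact h1 g
  · exact h2 g h

/-- A `p'`-element of `kgen` centralises every normal cyclic `p`-subgroup. -/
theorem centralizes_cyclic (N : Subgroup H) [Finite H] [N.Normal] [IsCyclic N] (hN : IsPGroup p N)
    {y : H} (hy : y ∈ kgen p H) (hcop : (orderOf y).Coprime p) :
    y ∈ Subgroup.centralizer (N : Set H) := by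
  set φ : H →* MulAut N := MulAut.conjNormal
  obtain ⟨k, hk⟩ := hN.exists_card_eq
  have hcomm : ∀ α β : MulAut N, α * β = β * α := fun α β =>
    (IsCyclic.mulAutMulEquiv N).injective (by rw [map_mul, map_mul, mul_comm])
  let T : Subgroup H :=
    { carrier := {g | φ g ^ (p ^ k) = 1}
      one_mem' := by simp
      mul_mem' := fun {a b} ha hb => by
        show φ (a * b) ^ (p ^ k) = 1
        rw [map_mul, (show Commute (φ a) (φ b) from hcomm _ _).mul_pow, ha, hb, one_mul]
      inv_mem' := fun {a} ha => by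
        show φ a⁻¹ ^ (p ^ k) = 1
        rw [map_inv, inv_pow, ha, inv_one] }
  have hT : kgen p H ≤ T := by
    refine kgen_le_of T (fun g => ?_) fun g h => ?_
    · show φ (g ^ (p - 1)) ^ (p ^ k) = 1
      rw [map_pow, ← pow_mul]
      refine orderOf_dvd_iff_pow_eq_one.mp ((orderOf_dvd_natCard _).trans ?_)
      rw [IsCyclic.card_mulAut, hk]
      rcases Nat.eq_zero_or_pos k with rfl | hk0
      · simp
      · rw [Nat.totient_prime_pow Fact.out hk0, mul_comm]
        exact Nat.mul_dvd_mul_left _ (pow_dvd_pow p (Nat.sub_le k 1))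
    · show φ ⁅g, h⁆ ^ (p ^ k) = 1
      rw [map_commutatorElement, commutatorElement_eq_one_iff_mul_comm.mpr (hcomm _ _), one_pow]
  have h1 : orderOf (φ y) ∣ Nat.gcd (p ^ k) (orderOf y) :=
    Nat.dvd_gcd (orderOf_dvd_iff_pow_eq_one.mpr (hT hy)) (orderOf_map_dvd φ y)
  rw [Nat.Coprime.gcd_eq_one (hcop.pow_right k).symm, Nat.dvd_one, orderOf_eq_one_iff] at h1
  intro z hz
  have h2 := congrArg Subtype.val (congrArg (fun f : MulAut N => f ⟨z, hz⟩) h1)
  simp only [MulAut.one_apply, φ, MulAut.conjNormal_apply] at h2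
  calc z * y = y * z * y⁻¹ * y := by rw [h2]
    _ = y * z := by group

theorem trivial_on_section {D I : Subgroup G} [I.Normal] [D.Normal] (hID : I ≤ D)
    (hidx : Nat.card I * p = Nat.card D) {y a : G} (hy : y ∈ kgen p G) (hcop : (orderOf y).Coprime p)
    (ha : a ∈ D) : a⁻¹ * (y * a * y⁻¹) ∈ I := by
  set f := QuotientGroup.mk' I
  haveI : (D.map f).Normal := ‹D.Normal›.map f (QuotientGroup.mk'_surjective I)
  have hcard : Nat.card ↥(D.map f) = p := by
    have h := Solvable.Basic.card_map_mk_of_le I D hID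
    rw [← hidx, mul_comm (Nat.card I)] at h
    exact Nat.eq_of_mul_eq_mul_right Nat.card_pos h
  haveI := isCyclic_of_prime_card hcard
  have h := centralizes_cyclic (D.map f) (IsPGroup.of_card (n := 1) (by rw [hcard, pow_one]))
    (map_kgen_le f ⟨y, hy, rfl⟩) (Nat.Coprime.coprime_dvd_left (orderOf_map_dvd f y) hcop)
  have h' := h (f a) ⟨a, ha, rfl⟩
  rw [← QuotientGroup.eq_one_iff]
  show f (a⁻¹ * (y * a * y⁻¹)) = 1
  rw [map_mul, map_mul, map_mul, map_inv, map_inv, ← h', mul_assoc, mul_inv_cancel, mul_one,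
    inv_mul_cancel]

theorem centralizes_normal {d : ℕ} (hd : ∃ m : ℕ, 1 ≤ m ∧ d = p ^ m) {R : Subgroup G} [R.Normal]
    (hR : IsPGroup p R) (hlarge : d < Nat.card R)
    (hF : ∀ E : Subgroup G, E ≤ R → (Nat.card E = d ∨ (d = 2 ∧ Nat.card E = 4)) → E.Normal)
    {y : G} (hyK : y ∈ kgen p G) (hcop : (orderOf y).Coprime p) :
    y ∈ Subgroup.centralizer (R : Set G) := by
  induction hn : Nat.card R using Nat.strong_induction_on generalizing R with
  | _ n ih =>
  subst hn
  obtain ⟨m, hm1, hdm⟩ := hd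
  have h2 := (Fact.out : p.Prime).two_le
  have hyR : y ∈ Subgroup.normalizer (R : Set G) := by
    rw [Subgroup.normalizer_eq_top]; exact Subgroup.mem_top y
  have hnR : ∀ g : G, g ∈ Subgroup.normalizer (R : Set G) := fun g => by
    rw [Subgroup.normalizer_eq_top]; exact Subgroup.mem_top g
  have hproper : ∀ X : Subgroup G, X.Normal → X ≤ R → X ≠ R → d < Nat.card X →
      y ∈ Subgroup.centralizer (X : Set G) := fun X hXn hX hne hdX =>
    @ih _ (lt_of_le_of_ne (Subgroup.card_le_of_le hX)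
      fun e => hne (Subgroup.eq_of_le_of_card_ge hX e.ge)) X hXn (hR.to_le hX) hdX
      (fun E hE => hF E (hE.trans hX)) rfl
  haveI : Nontrivial R := by
    rw [← Finite.one_lt_card_iff_nontrivial]
    exact lt_of_le_of_lt (hdm ▸ Nat.one_le_pow _ _ (by omega)) hlarge
  have hphine : phi R ≠ R := fun e => by
    obtain ⟨K, hK, -⟩ := (eq_top_or_exists_le_coatom (⊥ : Subgroup R)).resolve_left bot_ne_top
    refine hK.1 ((Subgroup.eq_top_iff' K).mpr fun z => ?_)
    obtain ⟨w, hw, he⟩ := (mem_phi_iff.mp (e.symm ▸ z.2 : (z : G) ∈ phi R)).2 K hK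
    exact (Subtype.ext he : w = z) ▸ hw
  haveI hphin : (phi R).Normal := Subgroup.normalizer_eq_top_iff.mp
    (eq_top_iff.mpr fun g _ => normalizer_phi R (hnR g))
  by_cases hsmall : Nat.card ↥(phi R) < d
  · -- every maximal subgroup is normal
    refine centralizes_of_max hR hyR hcop fun r hr K hK => ?_
    set M := K.map R.subtype
    haveI : M.Normal := by
      have hphiM : phi R ≤ M := fun z hz => (mem_phi_iff.mp hz).2 K hK
      refine ⟨fun x hx g => ?_⟩
      set X := phi R ⊔ Subgroup.zpowers x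
      have hxR : x ∈ R := Subgroup.map_subtype_le K hx
      have hXR : X ≤ R := sup_le (phi_le R) (Subgroup.zpowers_le.mpr hxR)
      obtain ⟨f, hf⟩ := (hR.to_le (phi_le R)).exists_card_eq
      have hfm : f < m := (Nat.pow_lt_pow_iff_right h2).mp (by rw [← hf, ← hdm]; exact hsmall)
      have hXc : Nat.card X ≤ d := by
        have hN : X = (Subgroup.zpowers (QuotientGroup.mk' (phi R) x)).comap (QuotientGroup.mk' (phi R)) := by
          rw [← MonoidHom.map_zpowers, Subgroup.comap_map_eq, QuotientGroup.ker_mk', sup_comm]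
        have hmap : X.map (QuotientGroup.mk' (phi R)) = Subgroup.zpowers (QuotientGroup.mk' (phi R) x) := by
          rw [hN, Subgroup.map_comap_eq_self_of_surjective (QuotientGroup.mk'_surjective _)]
        have h := Solvable.Basic.card_map_mk_of_le (phi R) X le_sup_left
        rw [hmap, Nat.card_zpowers] at h
        have ho : orderOf (QuotientGroup.mk' (phi R) x) ≤ p := by
          refine orderOf_le_of_pow_eq_one (by omega) ?_
          rw [← map_pow]
          exact (QuotientGroup.eq_one_iff _).mpr (pow_mem_phi hR hxR)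
        rw [← h, hdm]
        calc orderOf (QuotientGroup.mk' (phi R) x) * Nat.card ↥(phi R)
            ≤ p * p ^ f := by rw [hf]; exact Nat.mul_le_mul_right _ ho
          _ = p ^ (f + 1) := by rw [pow_succ']
          _ ≤ p ^ m := Nat.pow_le_pow_right (by omega) hfm
      have hMd : d ≤ Nat.card M := by
        have h1 := card_max hR hK
        obtain ⟨f', hf'⟩ := (hR.to_le (Subgroup.map_subtype_le K)).exists_card_eq
        obtain ⟨k, hk⟩ := hR.exists_card_eq
        rw [hf', hk, ← pow_succ] at h1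
        have h3 := Nat.pow_right_injective h2 h1
        have h4 : m < k := (Nat.pow_lt_pow_iff_right h2).mp (by rw [← hdm, ← hk]; exact hlarge)
        rw [hf', hdm]
        exact Nat.pow_le_pow_right (by omega) (by omega)
      obtain ⟨F, hXF, hFM, hFc⟩ := exists_between (hR.to_le (Subgroup.map_subtype_le K))
        (sup_le hphiM (Subgroup.zpowers_le.mpr hx) : X ≤ M) (m := m) (hdm ▸ hXc) (hdm ▸ hMd)
      exact hFM ((hF F (hFM.trans (Subgroup.map_subtype_le K)) (Or.inl (hFc.trans hdm.symm))).conj_mem x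
        (hXF (Subgroup.mem_sup_right (Subgroup.mem_zpowers x))) g)
    exact trivial_on_section (Subgroup.map_subtype_le _) (card_max hR hK) hyK hcop hr
  replace hsmall := not_lt.mp hsmall
  have hmember : ∀ E : Subgroup G, E ≤ R → (Nat.card E = d ∨ (d = 2 ∧ Nat.card E = 4)) →
      ¬ E ≤ phi R → y ∈ Subgroup.centralizer ((E ⊔ phi R : Subgroup G) : Set G) ∨ E = R := by
    intro E hE hc hEphi
    by_cases heq : E ⊔ phi R = R
    · exact Or.inr (eq_of_sup_phi hE heq)
    haveI := hF E hE hc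
    refine Or.inl (hproper _ inferInstance (sup_le hE (phi_le R)) heq ?_)
    refine lt_of_le_of_lt hsmall (lt_of_le_of_ne (Subgroup.card_le_of_le le_sup_right) fun e => ?_)
    exact hEphi (le_sup_left.trans (Subgroup.eq_of_le_of_card_ge le_sup_right e.ge).symm.le)
  have hcentphi : y ∈ Subgroup.centralizer (phi R : Set G) := by
    rcases lt_or_eq_of_le hsmall with h | h
    · exact hproper _ hphin (phi_le R) hphine h
    by_cases hex : ∃ E : Subgroup G, E ≤ R ∧ Nat.card E = d ∧ E ≠ phi R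
    · obtain ⟨E, hE, hc, hne⟩ := hex
      have hnle : ¬ E ≤ phi R := fun hl => hne (Subgroup.eq_of_le_of_card_ge hl (by omega))
      rcases hmember E hE (Or.inl hc) hnle with h' | h'
      · exact Subgroup.centralizer_le (SetLike.coe_subset_coe.mpr le_sup_right) h'
      · rw [h'] at hc; omega
    · simp only [not_exists, not_and, not_not] at hex
      haveI := cyclic_of_unique hR (lt_of_le_of_ne (phi_le R) hphine)
        (fun F hF hc => hex F hF (hc.trans h.symm))
      exact centralizes_cyclic (phi R) (hR.to_le (phi_le R)) hyK hcop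
  have hfix : ∀ s ∈ R, (s ^ p = 1 ∨ (p = 2 ∧ s ^ 4 = 1)) → s * y = y * s := by
    intro s hs hsp
    by_cases hsphi : s ∈ phi R
    · exact hcentphi s hsphi
    obtain ⟨E, hsE, hER, hEc, hcyc⟩ : ∃ E : Subgroup G, s ∈ E ∧ E ≤ R ∧
        (Nat.card E = d ∨ (d = 2 ∧ Nat.card E = 4)) ∧
        (Nat.card E = d ∨ E = Subgroup.zpowers s) := by
      by_cases hso : orderOf s ≤ d
      · obtain ⟨E, h1, h2', h3⟩ := exists_between hR (Subgroup.zpowers_le.mpr hs) (m := m)
          (by rwa [Nat.card_zpowers, ← hdm]) (by rw [← hdm]; exact hlarge.le)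
        exact ⟨E, h1 (Subgroup.mem_zpowers s), h2', Or.inl (h3.trans hdm.symm), Or.inl (h3.trans hdm.symm)⟩
      · rcases hsp with hsp | ⟨hp2, hs4⟩
        · exact absurd ((orderOf_le_of_pow_eq_one (by omega) hsp).trans
            (hdm ▸ Nat.le_self_pow (by omega) p)) hso
        · subst hp2
          have ho : orderOf s ∣ 4 := orderOf_dvd_of_pow_eq_one hs4
          have hle : orderOf s ≤ 4 := Nat.le_of_dvd (by omega) ho
          have hm : m = 1 := by
            by_contra hne
            exact hso (hle.trans (hdm ▸ Nat.pow_le_pow_right (n := 2) (by omega) (show 2 ≤ m by omega)))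
          subst hm
          have h4 : orderOf s = 4 := by
            have : orderOf s ∈ (4 : ℕ).divisors := Nat.mem_divisors.mpr ⟨ho, by omega⟩
            rw [show (4 : ℕ).divisors = {1, 2, 4} by decide] at this
            simp only [Finset.mem_insert, Finset.mem_singleton] at this
            omega
          exact ⟨_, Subgroup.mem_zpowers s, Subgroup.zpowers_le.mpr hs,
            Or.inr ⟨by simpa using hdm, by rw [Nat.card_zpowers, h4]⟩, Or.inr rfl⟩
    rcases hmember E hER hEc (fun hl => hsphi (hl hsE)) with h' | h'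
    · exact h' s (Subgroup.mem_sup_left hsE)
    · subst h'
      rcases hcyc with hc | hc
      · omega
      · haveI : IsCyclic E := by rw [hc]; infer_instance
        exact centralizes_cyclic E hR hyK hcop s hs
  -- the commutators with y
  have hstep : ∀ r ∈ R, Commute y (r⁻¹ * (y * r * y⁻¹)) → y * r * y⁻¹ = r := by
    intro r hr hc
    set s := r⁻¹ * (y * r * y⁻¹) with hs
    have hit : ∀ i : ℕ, y ^ i * r * (y ^ i)⁻¹ = r * s ^ i := by
      intro i
      induction i with
      | zero => simp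
      | succ i ih =>
        calc y ^ (i + 1) * r * (y ^ (i + 1))⁻¹ = y * (y ^ i * r * (y ^ i)⁻¹) * y⁻¹ := by group
          _ = (y * r * y⁻¹) * (y * s ^ i * y⁻¹) := by rw [ih]; group
          _ = r * s * s ^ i := by
              rw [(hc.pow_right i).eq, mul_inv_cancel_right, hs]; group
          _ = r * s ^ (i + 1) := by rw [pow_succ', mul_assoc]
    have h1 := hit (orderOf y)
    rw [pow_orderOf_eq_one, one_mul, inv_one, mul_one, left_eq_mul] at h1
    obtain ⟨j, hj⟩ := IsPGroup.iff_orderOf.mp hR ⟨s, mul_mem (inv_mem hr)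
      (‹R.Normal›.conj_mem r hr y)⟩
    rw [Subgroup.orderOf_mk] at hj
    have hd1 : orderOf s ∣ 1 := by
      have hg := Nat.dvd_gcd (orderOf_dvd_of_pow_eq_one h1) (dvd_refl (orderOf s))
      rw [hj] at hg ⊢
      rwa [Nat.Coprime.gcd_eq_one (hcop.pow_right j)] at hg
    have hs1 : s = 1 := orderOf_eq_one_iff.mp (Nat.dvd_one.mp hd1)
    calc y * r * y⁻¹ = r * s := by rw [hs]; group
      _ = r := by rw [hs1, mul_one]
  set C := R ⊓ Subgroup.centralizer (phi R : Set G) with hC
  have hsC : ∀ r ∈ R, r⁻¹ * (y * r * y⁻¹) ∈ C := by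
    intro r hr
    refine Subgroup.mem_inf.mpr ⟨mul_mem (inv_mem hr) (‹R.Normal›.conj_mem r hr y), fun f hf => ?_⟩
    have hrf : r * f * r⁻¹ ∈ phi R := hphin.conj_mem f hf r
    have e1 : (y * r * y⁻¹) * f * (y * r * y⁻¹)⁻¹ = r * f * r⁻¹ := by
      have hyf : y⁻¹ * f * y = f := by rw [mul_assoc, hcentphi f hf, inv_mul_cancel_left]
      calc (y * r * y⁻¹) * f * (y * r * y⁻¹)⁻¹ = y * (r * (y⁻¹ * f * y) * r⁻¹) * y⁻¹ := by group
        _ = y * (r * f * r⁻¹) * y⁻¹ := by rw [hyf]
        _ = r * f * r⁻¹ := by rw [← hcentphi _ hrf]; group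
    calc f * (r⁻¹ * (y * r * y⁻¹)) = r⁻¹ * (r * f * r⁻¹) * (y * r * y⁻¹) := by group
      _ = r⁻¹ * (y * r * y⁻¹) * f := by rw [← e1]; group
  intro r hr
  suffices h : y * r * y⁻¹ = r by rw [← mul_inv_eq_iff_eq_mul.mp h]
  refine hstep r hr ?_
  by_cases hCR : C = R
  · set u := y * r * y⁻¹ with hu_def
    set s := r⁻¹ * u with hs_def
    have hsR : s ∈ R := (Subgroup.mem_inf.mp (hsC r hr)).1
    have hcen : ∀ z ∈ R, ∀ f ∈ phi R, Commute f z := fun z hz f hf =>
      (Subgroup.mem_inf.mp (hCR.symm ▸ hz : z ∈ C)).2 f hf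
    have hz := comm_mem_phi hR hsR hr
    have hp' : u ^ p = r ^ p := by
      rw [hu_def, conj_pow, ← hcentphi _ (pow_mem_phi hR hr)]; group
    have hmul := OddOrder.OmegaLemma.mul_pow_central (u := r) (v := s) (z := ⁅s, r⁆)
      (by rw [commutatorElement_def]; group) (hcen s hsR _ hz) (hcen r hr _ hz) p
    rw [show r * s = u by rw [hs_def]; group, hp', ← mul_assoc,
      ((hcen r hr _ hz).pow_left (p.choose 2)).pow_right p |>.eq, mul_assoc, left_eq_mul] at hmul
    have hzp : ⁅s, r⁆ ^ p = 1 := by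
      have h1 : Commute (s ^ p) r := hcen r hr _ (pow_mem_phi hR hsR)
      have hc' := OddOrder.OmegaLemma.pow_mul_comm_central (u := r) (v := s) (z := ⁅s, r⁆)
        (by rw [commutatorElement_def]; group) (hcen s hsR _ hz) (hcen r hr _ hz) p
      rw [h1.eq] at hc'
      simpa using hc'
    refine (hfix s hsR ?_).symm
    rcases eq_or_ne p 2 with hp2 | hp2
    · refine Or.inr ⟨hp2, ?_⟩
      subst hp2
      rw [Nat.choose_self, pow_one] at hmul
      rw [show (4 : ℕ) = 2 * 2 from rfl, pow_mul, eq_inv_of_mul_eq_one_right hmul, inv_pow, hzp, inv_one]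
    · obtain ⟨c, hc⟩ := (Fact.out : p.Prime).dvd_choose_self (k := 2) (by omega)
        (lt_of_le_of_ne h2 (Ne.symm hp2))
      rw [hc, pow_mul, hzp, one_pow, one_mul] at hmul
      exact Or.inl hmul
  · by_cases hCphi : C ≤ phi R
    · exact (hcentphi _ (hCphi (hsC r hr))).symm
    haveI : (Subgroup.centralizer (phi R : Set G)).Normal := ⟨fun c hc g f hf => by
      have hf' : g⁻¹ * f * g ∈ phi R := by simpa using hphin.conj_mem f hf g⁻¹
      calc f * (g * c * g⁻¹) = g * ((g⁻¹ * f * g) * c) * g⁻¹ := by group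
        _ = g * (c * (g⁻¹ * f * g)) * g⁻¹ := by rw [hc _ hf']
        _ = g * c * g⁻¹ * f := by group⟩
    haveI hCn : C.Normal := Subgroup.normal_inf_normal _ _
    have hne : C ⊔ phi R ≠ R := fun e => hCR (eq_of_sup_phi inf_le_left e)
    have := hproper _ inferInstance (sup_le inf_le_left (phi_le R)) hne
      (lt_of_le_of_lt hsmall (lt_of_le_of_ne (Subgroup.card_le_of_le le_sup_right) fun e =>
        hCphi (le_sup_left.trans (Subgroup.eq_of_le_of_card_ge le_sup_right e.ge).symm.le)))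
    exact (this _ (Subgroup.mem_sup_left (hsC r hr))).symm

theorem exists_eigen_add {V : Type*} [AddCommGroup V] [Module (ZMod p) V] [Finite V] [Nontrivial V]
    (T : Module.End (ZMod p) V) (hT : ∀ v : V, T^[p] v = T v) :
    ∃ (v : V) (r : ℕ), v ≠ 0 ∧ T v = r • v := by
  have hTp : T ^ p = T := LinearMap.ext fun v => by rw [Module.End.pow_apply, hT]
  by_contra hno
  push Not at hno
  have hunit : ∀ r : ZMod p, IsUnit (T - algebraMap (ZMod p) (Module.End (ZMod p) V) r) := by
    intro r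
    rw [Module.End.isUnit_iff]
    refine Finite.injective_iff_bijective.mp ((injective_iff_map_eq_zero _).mpr fun v hv => ?_)
    by_contra hv0
    rw [LinearMap.sub_apply, Module.algebraMap_end_apply, sub_eq_zero,
      show r • v = r.val • v by rw [← Nat.cast_smul_eq_nsmul (ZMod p), ZMod.natCast_zmod_val]] at hv
    exact hno v r.val hv0 hv
  have h0 : IsUnit (Polynomial.aeval T (∏ r : ZMod p, (Polynomial.X - Polynomial.C r))) := by
    refine Finset.prod_induction _ (fun q => IsUnit (Polynomial.aeval T q))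
      (fun a b ha hb => by rw [map_mul]; exact ha.mul hb) (by rw [map_one]; exact isUnit_one) fun r _ => ?_
    rw [map_sub, Polynomial.aeval_X, Polynomial.aeval_C]
    exact hunit r
  have hprod : (∏ r : ZMod p, (Polynomial.X - Polynomial.C r)) = Polynomial.X ^ p - Polynomial.X := by
    have hroots := FiniteField.roots_X_pow_card_sub_X (ZMod p)
    rw [ZMod.card] at hroots
    have hm : (Polynomial.X ^ p - Polynomial.X : Polynomial (ZMod p)).Monic :=
      Polynomial.monic_X_pow_sub ((Polynomial.degree_X_le).trans_lt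
        (by exact_mod_cast (Fact.out : p.Prime).one_lt))
    rw [← Polynomial.prod_multiset_X_sub_C_of_monic_of_roots_card_eq hm (by
      rw [hroots, FiniteField.X_pow_card_sub_X_natDegree_eq _ (Fact.out : p.Prime).one_lt]
      simp [ZMod.card]), hroots]
    rfl
  rw [hprod, map_sub, Polynomial.aeval_X_pow, Polynomial.aeval_X, hTp, sub_self, isUnit_zero_iff] at h0
  obtain ⟨x, hx⟩ := exists_ne (0 : V)
  exact hx (by simpa using (LinearMap.congr_fun h0 x).symm)

theorem exists_eigen {A : Type*} [CommGroup A] [Finite A] [Nontrivial A] (hpow : ∀ x : A, x ^ p = 1)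
    (e : MulAut A) (he : e ^ (p - 1) = 1) : ∃ (x : A) (r : ℕ), x ≠ 1 ∧ e x = x ^ r := by
  have htor : ∀ v : Additive A, (p : ℕ) • v = 0 := fun v =>
    Additive.toMul.injective (by simpa using hpow (Additive.toMul v))
  letI : Module (ZMod p) (Additive A) := AddCommGroup.zmodModule htor
  haveI : Finite (Additive A) := inferInstanceAs (Finite A)
  let φ : Additive A →+ Additive A := MonoidHom.toAdditive e.toMonoidHom
  have hit : ∀ (k : ℕ) (v : Additive A), φ^[k] v = Additive.ofMul ((e ^ k) (Additive.toMul v)) := by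
    intro k
    induction k with
    | zero => intro v; simp
    | succ k ih =>
      intro v
      rw [Function.iterate_succ_apply', ih, pow_succ']
      rfl
  obtain ⟨v, r, hv, hr⟩ := exists_eigen_add (p := p) (φ.toZModLinearMap p) fun v => by
    rw [AddMonoidHom.coe_toZModLinearMap, hit, show e ^ p = e by
      rw [show p = p - 1 + 1 from (Nat.sub_add_cancel (Fact.out : p.Prime).one_le).symm, pow_succ, he,
        one_mul]]
    rfl
  refine ⟨Additive.toMul v, r, fun h => hv (Additive.toMul.injective h), ?_⟩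
  exact congrArg Additive.toMul hr

theorem exists_scalar {N : Subgroup G} [N.Normal] (hcomm : IsMulCommutative N)
    (hpow : ∀ x ∈ N, x ^ p = 1) [Nontrivial N] {g : G}
    (hg : ∀ x ∈ N, g ^ (p - 1) * x = x * g ^ (p - 1)) :
    ∃ (x : G) (r : ℕ), x ∈ N ∧ x ≠ 1 ∧ g * x * g⁻¹ = x ^ r := by
  letI : CommGroup N := { (inferInstance : Group N) with mul_comm := fun a b => hcomm.is_comm.comm a b }
  let e : MulAut N := MulAut.conjNormal g
  have hp1 : e ^ (p - 1) = 1 := by
    refine MulEquiv.ext fun x => Subtype.ext ?_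
    simp only [e, ← map_pow, MulAut.conjNormal_apply, MulAut.one_apply, hg x x.2, mul_inv_cancel_right]
  obtain ⟨x, r, hx1, hx⟩ := exists_eigen (p := p) (fun x : N => Subtype.ext (by simpa using hpow x x.2)) e hp1
  refine ⟨x, r, x.2, fun h => hx1 (Subtype.ext h), ?_⟩
  have := congrArg Subtype.val hx
  simpa [e] using this

end

/-- A normal `p`-subgroup on whose sections `kgen` acts as a `p`-group has cyclic chief factors. -/
theorem core_aux {p : ℕ} [Fact p.Prime] : ∀ (n : ℕ) (G : Type u) [Group G] [Finite G] (P : Subgroup G)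
    [P.Normal], Nat.card P = n → IsPGroup p P → Cfsg.IsSupersolvable (G ⧸ P) →
    (∀ y ∈ kgen p G, (orderOf y).Coprime p → y ∈ Subgroup.centralizer (P : Set G)) →
    Cfsg.IsSupersolvable G := by
  intro n
  induction n using Nat.strong_induction_on with
  | _ n ih =>
  intro G _ _ P _ hn hP hGP hK
  rcases eq_or_ne P ⊥ with hPb | hPb
  · subst hPb
    exact Solvable.Supersolvable.of_mulEquiv QuotientGroup.quotientBot hGP
  obtain ⟨N, hNn, hNne, hNP, hNmin'⟩ := Solvable.Basic.exists_minimal_normal_le (H := P) hPb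
  have hNmin : ∀ K : Subgroup G, K.Normal → K ≠ ⊥ → K ≤ N → K = N := fun K hK hne hle =>
    (hNmin' K hK hle).resolve_left hne
  have hNp : IsPGroup p N := hP.to_le hNP
  haveI : Nontrivial N := N.nontrivial_iff_ne_bot.mpr hNne
  haveI := hNp.center_nontrivial
  -- N is elementary abelian
  have hphiN : phi N = ⊥ := by
    by_contra hne
    haveI : (phi N).Normal := Subgroup.normalizer_eq_top_iff.mp (eq_top_iff.mpr fun g _ =>
      normalizer_phi N (by rw [Subgroup.normalizer_eq_top]; exact Subgroup.mem_top g))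
    have he := hNmin _ inferInstance hne (phi_le N)
    obtain ⟨K, hK, -⟩ := (eq_top_or_exists_le_coatom (⊥ : Subgroup N)).resolve_left bot_ne_top
    refine hK.1 ((Subgroup.eq_top_iff' K).mpr fun z => ?_)
    obtain ⟨w, hw, hwe⟩ := (mem_phi_iff.mp (he.symm ▸ z.2 : (z : G) ∈ phi N)).2 K hK
    exact (Subtype.ext hwe : w = z) ▸ hw
  have hcomm : IsMulCommutative N := ⟨⟨fun a b => Subtype.ext (commutatorElement_eq_one_iff_mul_comm.mp
    (Subgroup.mem_bot.mp (hphiN ▸ comm_mem_phi hNp a.2 b.2)))⟩⟩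
  have hpow : ∀ x ∈ N, x ^ p = 1 := fun x hx => Subgroup.mem_bot.mp (hphiN ▸ pow_mem_phi hNp hx)
  -- kgen centralises N
  have hKN : kgen p G ≤ Subgroup.centralizer (N : Set G) := by
    set φ : G →* MulAut N := MulAut.conjNormal
    set A := (kgen p G).map φ
    have hA : IsPGroup p A := by
      rintro ⟨_, g, hg, rfl⟩
      obtain ⟨k, hk⟩ := Fusion.Basic.exists_pow_coprime (p := p) g
      refine ⟨k, Subtype.ext ?_⟩
      show φ g ^ (p ^ k) = 1
      rw [← map_pow]
      refine MulEquiv.ext fun x => Subtype.ext ?_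
      have h := Subgroup.centralizer_le (SetLike.coe_subset_coe.mpr hNP)
        (hK _ ((kgen p G).pow_mem hg _) hk) x x.2
      simp only [φ, MulAut.conjNormal_apply, MulAut.one_apply]
      rw [← h, mul_inv_cancel_right]
    haveI : (kgen p G).Normal := ⟨fun z hz g => map_kgen_le (MulAut.conj g).toMonoidHom ⟨z, hz, rfl⟩⟩
    have hdvd : p ∣ Nat.card N := (hNp.card_eq_or_dvd).resolve_left Finite.one_lt_card.ne'
    have hone : (1 : N) ∈ MulAction.fixedPoints A N := fun a => map_one (a : MulAut N)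
    obtain ⟨b, hb, hb1⟩ := hA.exists_fixed_point_of_prime_dvd_card_of_fixed_point N hdvd hone
    set W := N ⊓ Subgroup.centralizer (kgen p G : Set G)
    have hbW : (b : G) ∈ W := by
      refine Subgroup.mem_inf.mpr ⟨b.2, fun z hz => ?_⟩
      have h := congrArg Subtype.val (hb ⟨φ z, z, hz, rfl⟩)
      calc z * b = z * b * z⁻¹ * z := by group
        _ = b * z := congrArg (· * z) h
    haveI : W.Normal := Subgroup.normal_inf_normal _ _
    have hWN : W = N := hNmin W inferInstance
      (fun e => hb1 (Subtype.ext (Subgroup.mem_bot.mp (e ▸ hbW)).symm)) inf_le_left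
    exact Subgroup.le_centralizer_iff.mp (hWN.symm.le.trans inf_le_right)
  have habel : ∀ (g h : G) (x : G), x ∈ N → g * (h * x * h⁻¹) * g⁻¹ = h * (g * x * g⁻¹) * h⁻¹ := by
    intro g h x hx
    have hx' : h * g * x * (h * g)⁻¹ ∈ N := hNn.conj_mem x hx _
    have hc := hKN (show ⁅g, h⁆ ∈ kgen p G from Subgroup.subset_closure (Or.inr ⟨(g, h), rfl⟩)) _ hx'
    calc g * (h * x * h⁻¹) * g⁻¹ = ⁅g, h⁆ * (h * g * x * (h * g)⁻¹) * ⁅g, h⁆⁻¹ := by
          rw [commutatorElement_def]; group
      _ = h * g * x * (h * g)⁻¹ := by rw [← hc]; group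
      _ = h * (g * x * g⁻¹) * h⁻¹ := by group
  have hscalar : ∀ g : G, ∃ r : ℕ, ∀ x ∈ N, g * x * g⁻¹ = x ^ r := by
    intro g
    obtain ⟨x, r, hx, hx1, he⟩ := exists_scalar hcomm hpow (g := g) fun x hx =>
      (hKN (Subgroup.subset_closure (Or.inl ⟨g, rfl⟩)) x hx).symm
    let W : Subgroup G :=
      { carrier := {z | z ∈ N ∧ g * z * g⁻¹ = z ^ r}
        one_mem' := ⟨one_mem N, by simp⟩
        mul_mem' := fun {a b} ha hb => ⟨mul_mem ha.1 hb.1, by
          rw [← conj_mul, ha.2, hb.2, (show Commute a b from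
            congrArg Subtype.val (hcomm.is_comm.comm ⟨a, ha.1⟩ ⟨b, hb.1⟩)).mul_pow]⟩
        inv_mem' := fun {a} ha => ⟨inv_mem ha.1, by rw [inv_pow, ← ha.2]; group⟩ }
    haveI : W.Normal := ⟨fun z hz h => ⟨hNn.conj_mem z hz.1 h, by
      rw [habel g h z hz.1, hz.2, conj_pow]⟩⟩
    have hWN : W = N := hNmin W inferInstance
      (fun e => hx1 (Subgroup.mem_bot.mp (e ▸ (show x ∈ W from ⟨hx, he⟩)))) fun z hz => hz.1
    exact ⟨r, fun z hz => (show z ∈ W from hWN.symm ▸ hz).2⟩
  obtain ⟨⟨x, hx⟩, hx1⟩ := exists_ne (1 : N)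
  haveI : (Subgroup.zpowers x).Normal := ⟨fun z hz g => by
    obtain ⟨i, rfl⟩ := hz
    obtain ⟨r, hr⟩ := hscalar g
    rw [← conj_zpow, hr x hx]
    exact zpow_mem (pow_mem (Subgroup.mem_zpowers x) r) i⟩
  have hzN : Subgroup.zpowers x = N := hNmin _ inferInstance
    (fun e => hx1 (Subtype.ext (Subgroup.zpowers_eq_bot.mp e))) (Subgroup.zpowers_le.mpr hx)
  haveI : IsCyclic N := by rw [← hzN]; infer_instance
  haveI : (P.map (QuotientGroup.mk' N)).Normal := ‹P.Normal›.map _ (QuotientGroup.mk'_surjective N)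
  refine Solvable.Supersolvable.of_isCyclic_normal N (ih _ ?_ (G ⧸ N) (P.map (QuotientGroup.mk' N)) rfl
    (hP.map _) ?_ ?_)
  · rw [← hn, ← Solvable.Basic.card_map_mk_of_le N P hNP]
    exact lt_mul_of_one_lt_right Nat.card_pos Finite.one_lt_card
  · exact Solvable.Supersolvable.of_mulEquiv (QuotientGroup.quotientQuotientEquivQuotient N P hNP).symm hGP
  · intro yb hyb hcop
    have hmap : kgen p (G ⧸ N) ≤ (kgen p G).map (QuotientGroup.mk' N) :=
      kgen_le_of _ (fun q => by
        obtain ⟨g, rfl⟩ := QuotientGroup.mk'_surjective N q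
        exact ⟨g ^ (p - 1), Subgroup.subset_closure (Or.inl ⟨g, rfl⟩), map_pow _ _ _⟩) fun q q' => by
        obtain ⟨g, rfl⟩ := QuotientGroup.mk'_surjective N q
        obtain ⟨g', rfl⟩ := QuotientGroup.mk'_surjective N q'
        exact ⟨⁅g, g'⁆, Subgroup.subset_closure (Or.inr ⟨(g, g'), rfl⟩), map_commutatorElement _ _ _⟩
    obtain ⟨y, hy, rfl⟩ := hmap hyb
    obtain ⟨k, hk⟩ := Fusion.Basic.exists_pow_coprime (p := p) y
    obtain ⟨i, hi⟩ := exists_pow_eq_self_of_coprime (hcop.pow_right k).symm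
    have hcen := hK _ (pow_mem hy _) hk
    rw [← hi]
    refine Subgroup.pow_mem _ ?_ i
    rw [← map_pow]
    rintro _ ⟨z, hz, rfl⟩
    rw [← map_mul, ← map_mul, hcen z hz]

theorem normal_of_hyp {G : Type*} [Group G] [Finite G] {p : ℕ} [Fact p.Prime] {F R : Subgroup G}
    (hR : IsPGroup p R) (hFR : F ≤ R)
    (hH : ∀ g : G, F.map (MulAut.conj g).toMonoidHom ⊓ Subgroup.normalizer (F : Set G) ≤ F) :
    R ≤ Subgroup.normalizer (F : Set G) := by
  by_contra hcon
  set N := R ⊓ Subgroup.normalizer (F : Set G) with hN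
  have hNR : N < R := lt_of_le_of_ne inf_le_left fun h => hcon (inf_eq_left.mp h)
  haveI := hR.isNilpotent
  obtain ⟨⟨u, hu⟩, huN, huC⟩ := SetLike.exists_of_lt (Group.normalizerCondition_of_isNilpotent
    (N.subgroupOf R) (lt_top_iff_ne_top.mpr fun h => hNR.ne
      (le_antisymm hNR.le (Subgroup.subgroupOf_eq_top.mp h))))
  refine huC (Subgroup.mem_inf.mpr ⟨hu, ?_⟩)
  rw [Subgroup.mem_normalizer_iff_map_conj_eq]
  refine Subgroup.eq_of_le_of_card_ge (fun z hz => hH u (Subgroup.mem_inf.mpr ⟨hz, ?_⟩))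
    (le_of_eq (Subgroup.card_map_of_injective (MulAut.conj u).injective).symm)
  obtain ⟨w, hw, rfl⟩ := hz
  exact (Subgroup.mem_inf.mp ((Subgroup.mem_normalizer_iff.mp huN ⟨w, hFR hw⟩).mp
    (Subgroup.mem_subgroupOf.mpr (Subgroup.mem_inf.mpr ⟨hFR hw, Subgroup.le_normalizer hw⟩)))).2

def HCond (G : Type*) [Group G] (E : Subgroup G) : Prop :=
  ∀ (p : ℕ), p.Prime → ∀ P : Subgroup G, P ≤ E → IsPGroup p P → ¬ p ∣ P.relIndex E → ¬ IsCyclic ↥P →
      ∃ D : Subgroup G, D ≤ P ∧ 1 < Nat.card D ∧ Nat.card D < Nat.card P ∧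
        ∀ F : Subgroup G, F ≤ P → (Nat.card F = Nat.card D ∨ (Nat.card D = 2 ∧ Nat.card F = 4)) →
          ∀ g : G, F.map (MulAut.conj g).toMonoidHom ⊓ Subgroup.normalizer (F : Set G) ≤ F

set_option maxHeartbeats 1000000 in
theorem main : ∀ (n : ℕ) (G : Type u) [Group G] [Finite G] (E : Subgroup G) [E.Normal],
    Nat.card E = n → Cfsg.IsSupersolvable (G ⧸ E) → HCond G E → Cfsg.IsSupersolvable G := by
  intro n
  induction n using Nat.strong_induction_on with
  | _ n ih =>
  intro G _ _ E _ hn hGE h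
  rcases eq_or_ne E ⊥ with hEb | hEb
  · subst hEb
    exact Solvable.Supersolvable.of_mulEquiv QuotientGroup.quotientBot hGE
  have hE1 : Nat.card E ≠ 1 := fun e => hEb (Subgroup.card_eq_one.mp e)
  set p := (Nat.card E).minFac with hpdef
  haveI : Fact p.Prime := ⟨Nat.minFac_prime hE1⟩
  have hmin : ∀ q : ℕ, q.Prime → q ∣ Nat.card E → p ≤ q := fun q hq hd => Nat.minFac_le_of_dvd hq.two_le hd
  obtain ⟨S₀⟩ : Nonempty (Sylow p E) := inferInstance
  set S := (S₀ : Subgroup E).map E.subtype with hS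
  have hSp : IsPGroup p S := S₀.2.map _
  have hSE : S ≤ E := Subgroup.map_subtype_le _
  have hSidx : ¬ p ∣ S.relIndex E := by
    rw [Subgroup.relIndex, Subgroup.subgroupOf, hS,
      Subgroup.comap_map_eq_self_of_injective E.subtype_injective]
    exact S₀.not_dvd_index
  have hmem := h p Fact.out S hSE hSp hSidx
  have hnpc : Cfsg.HasNormalPComplement p E := by
    by_cases hc : IsCyclic S
    · haveI : IsCyclic (S₀ : Subgroup E) := ((Subgroup.equivMapOfInjective _ _ E.subtype_injective).isCyclic).mpr hc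
      exact npc_of_cyclic hmin S₀
    obtain ⟨D, hDS, hD1, hDlt, hDF⟩ := hmem hc
    refine npc_of_hyp (d := Nat.card D) (hyp_of_sylow S₀ fun F hF hFc g z hz => ?_) hmin
      (exists_pow_card (hSp.to_le hDS) hD1) S₀
      (lt_of_lt_of_eq hDlt (Subgroup.card_map_of_injective E.subtype_injective))
    have h' := hDF (F.map E.subtype) (Subgroup.map_mono hF)
      (by rwa [Subgroup.card_map_of_injective E.subtype_injective]) (g : G)
    have hz' : (z : G) ∈ F.map E.subtype := by
      obtain ⟨⟨w, hw, hwz⟩, hzN⟩ := hz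
      refine h' (Subgroup.mem_inf.mpr ⟨⟨_, ⟨w, hw, rfl⟩, congrArg Subtype.val hwz⟩, ?_⟩)
      exact Subgroup.le_normalizer_map E.subtype ⟨z, hzN, rfl⟩
    obtain ⟨w, hw, he⟩ := hz'
    exact (Subtype.ext he : w = z) ▸ hw
  set K0 := (Cfsg.pResidual p E).map E.subtype with hK0
  haveI hK0n : K0.Normal := by
    haveI : (Cfsg.pResidual p E).Characteristic := Subgroup.characteristic_iff_map_le.mpr fun φ => by
      rw [Cfsg.pResidual, MonoidHom.map_closure, Subgroup.closure_le]
      rintro _ ⟨z, hz, rfl⟩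
      exact Subgroup.subset_closure (show (orderOf (φ z)).Coprime p by rw [MulEquiv.orderOf_eq]; exact hz)
    exact Subgroup.normalizer_eq_top_iff.mp (eq_top_iff.mpr fun g _ =>
      char_normalizer (Cfsg.pResidual p E) (by rw [Subgroup.normalizer_eq_top]; exact Subgroup.mem_top g))
  have hK0E : K0 ≤ E := Subgroup.map_subtype_le _
  have hcopK : (Nat.card K0).Coprime p := by
    rw [hK0, Subgroup.card_map_of_injective E.subtype_injective]
    exact Fusion.Basic.npc_iff_coprime.mp hnpc
  have hgen : ∀ e ∈ E, ∃ w ∈ K0, ∃ u ∈ S, e = w * u := by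
    intro e he
    obtain ⟨w, hw, u, hu, heq⟩ := Fusion.Basic.exists_eq_pResidual_mul S₀ ⟨e, he⟩
    exact ⟨w, ⟨w, hw, rfl⟩, u, ⟨u, hu, rfl⟩, congrArg Subtype.val heq⟩
  have hSK : ∀ z ∈ S, z ∈ K0 → z = 1 := fun z hz hzK => by
    obtain ⟨k, hk⟩ := hSp.exists_card_eq
    have hdis := Subgroup.inf_eq_bot_of_coprime (H := S) (K := K0) (hk ▸ (hcopK.symm.pow_left k))
    exact Subgroup.mem_bot.mp (hdis ▸ Subgroup.mem_inf.mpr ⟨hz, hzK⟩)
  set π := QuotientGroup.mk' K0
  set Eb := E.map π
  have hEbS : Eb = S.map π := by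
    refine le_antisymm ?_ (Subgroup.map_mono hSE)
    rintro _ ⟨e, he, rfl⟩
    obtain ⟨w, hw, u, hu, rfl⟩ := hgen e he
    exact ⟨u, hu, by rw [map_mul, show π w = 1 from (QuotientGroup.eq_one_iff w).mpr hw, one_mul]⟩
  have hinj : Set.InjOn π S := fun a ha b hb hab => by
    have := hSK _ (mul_mem (inv_mem ha) hb) (QuotientGroup.eq.mp hab)
    rwa [inv_mul_eq_one] at this
  have hcardS : ∀ F : Subgroup G, F ≤ S → Nat.card ↥(F.map π) = Nat.card F := fun F hF =>
    (Nat.card_congr (Set.BijOn.mk (fun z hz => ⟨z, hz, rfl⟩) (hinj.mono hF)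
      (fun z hz => hz) : Set.BijOn π F (F.map π : Set (G ⧸ K0))).equiv).symm
  haveI hEbn : Eb.Normal := ‹E.Normal›.map π (QuotientGroup.mk'_surjective K0)
  have hEbp : IsPGroup p Eb := hEbS ▸ hSp.map π
  have hGK : Cfsg.IsSupersolvable (G ⧸ K0) := by
    have hq : Cfsg.IsSupersolvable ((G ⧸ K0) ⧸ Eb) :=
      Solvable.Supersolvable.of_mulEquiv (QuotientGroup.quotientQuotientEquivQuotient K0 E hK0E).symm hGE
    by_cases hc : IsCyclic S
    · haveI : IsCyclic Eb := by
        rw [hEbS]
        exact isCyclic_of_surjective _ (π.subgroupMap_surjective S)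
      exact Solvable.Supersolvable.of_isCyclic_normal Eb hq
    obtain ⟨D, hDS, hD1, hDlt, hDF⟩ := hmem hc
    refine core_aux _ (G ⧸ K0) Eb rfl hEbp hq fun y hy hcop => ?_
    refine centralizes_normal (exists_pow_card (hSp.to_le hDS) hD1) hEbp
      (by rw [hEbS, hcardS S le_rfl]; exact hDlt) (fun Fb hFb hFc => ?_) hy hcop
    set F := S ⊓ Fb.comap π with hFdef
    have hFeq : F.map π = Fb := by
      refine le_antisymm (Subgroup.map_le_iff_le_comap.mpr inf_le_right) fun q hq' => ?_
      obtain ⟨u, hu, rfl⟩ := (hEbS ▸ hFb hq' : q ∈ S.map π)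
      exact ⟨u, Subgroup.mem_inf.mpr ⟨hu, hq'⟩, rfl⟩
    have hFS : F ≤ S := inf_le_left
    have hFH := hDF F hFS (by rwa [← hcardS F hFS, hFeq])
    have hSN := normal_of_hyp hSp hFS hFH
    refine ⟨fun q hq' gb => ?_⟩
    obtain ⟨g, rfl⟩ := QuotientGroup.mk'_surjective K0 gb
    rw [← hFeq] at hq' ⊢
    obtain ⟨z, hz, rfl⟩ := hq'
    have hfr := Sylow.normalizer_sup_eq_top S₀
    have hgmem : g ∈ E ⊔ Subgroup.normalizer (S : Set G) := by
      rw [sup_comm, hfr]; exact Subgroup.mem_top g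
    obtain ⟨e, he, m, hm, rfl⟩ := Subgroup.mem_sup_of_normal_left.mp hgmem
    obtain ⟨w, hw, u, hu, rfl⟩ := hgen e he
    have hmz : m * z * m⁻¹ ∈ F := hFH m (Subgroup.mem_inf.mpr
      ⟨⟨z, hz, rfl⟩, hSN ((Subgroup.mem_normalizer_iff.mp hm z).mp (hFS hz))⟩)
    refine ⟨u * (m * z * m⁻¹) * u⁻¹, (Subgroup.mem_normalizer_iff.mp (hSN hu) _).mp hmz, ?_⟩
    simp only [π, map_mul, map_inv,
      show (QuotientGroup.mk' K0) w = 1 from (QuotientGroup.eq_one_iff w).mpr hw, one_mul, inv_one,
      mul_one, mul_inv_rev, mul_assoc]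
  refine ih (Nat.card K0) ?_ G K0 rfl hGK ?_
  · rw [← hn]
    refine lt_of_le_of_ne (Subgroup.card_le_of_le hK0E) fun e => ?_
    have h1 : p ∣ Nat.card K0 := e ▸ Nat.minFac_dvd _
    exact (Fact.out : p.Prime).coprime_iff_not_dvd.mp hcopK.symm h1
  · intro q hq P hPK hP hidx hnc
    refine h q hq P (hPK.trans hK0E) hP ?_ hnc
    by_cases hqp : q = p
    · subst hqp
      exfalso
      obtain ⟨k, hk⟩ := hP.exists_card_eq
      have hbot : P = ⊥ := by
        have hdis := Subgroup.inf_eq_bot_of_coprime (H := P) (K := K0) (hk ▸ (hcopK.symm.pow_left k))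
        rwa [inf_eq_left.mpr hPK] at hdis
      exact hnc (by subst hbot; infer_instance)
    · rw [← Subgroup.relIndex_mul_relIndex P K0 E hPK hK0E]
      haveI := Fact.mk hq
      intro hd
      rcases hq.dvd_mul.mp hd with h' | h'
      · exact hidx h'
      · have h2 : S.relIndex E ∣ Nat.card E := Subgroup.relIndex_dvd_card _ _
        have hKp : ∃ j, K0.relIndex E = p ^ j := by
          obtain ⟨j, hj⟩ := Fusion.Basic.exists_index_pResidual (G := E) (p := p)
          exact ⟨j, by rw [Subgroup.relIndex, Subgroup.subgroupOf, hK0,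
            Subgroup.comap_map_eq_self_of_injective E.subtype_injective, hj]⟩
        obtain ⟨j, hj⟩ := hKp
        rw [hj] at h'
        exact hqp ((Nat.prime_dvd_prime_iff_eq hq Fact.out).mp (hq.dvd_of_dvd_pow h'))

end CfsgLib.LocalEvenB.HSupersolvable
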