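import Mathlib
import Cfsg.Agent.Lib.Perm.SL2Unipotent

/-!
G. Higman's theorem in ring form: a representation of `SL₂(F)`, `F` finite of characteristic two with at
least four elements, in which the elements of order three satisfy `x² + x + 1 = 0`, is a multiple of the
natural one, and exists only in characteristic two.
-/

set_option autoImplicit false
set_option linter.style.haveILetI false
set_option linter.unusedSectionVars false

namespace CfsgLib.LocalEvenB.HigmanRing

open Matrix CfsgLib.Perm.SL2Unipotent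
open scoped MatrixGroups

universe u v

variable {F : Type u} [Field F] [CharP F 2]

theorem two_zero : (2 : F) = 0 := CharTwo.two_eq_zero

theorem add_one_ne {a : F} (h : a ≠ 1) : a + 1 ≠ 0 := fun e => h (CharTwo.add_eq_zero.1 e)

/-- The Weyl element. -/
def wel (b : F) : SL(2, F) := up b * low b⁻¹ * up b

theorem wel_val {b : F} (hb : b ≠ 0) : (wel b).1 = !![0, b; b⁻¹, 0] := by
  have key : (1 : F) + 1 = 0 := by linear_combination (two_zero (F := F))
  ext i j
  fin_cases i <;> fin_cases j <;>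
    simp [wel, up_val, low_val, Matrix.SpecialLinearGroup.coe_mul, Matrix.mul_apply, Fin.sum_univ_two, hb, key]

/-- The torus element. -/
def tel (b : F) : SL(2, F) := wel b * wel 1

theorem tel_val {b : F} (hb : b ≠ 0) : (tel b).1 = !![b, 0; 0, b⁻¹] := by
  show (wel b).1 * (wel 1).1 = _
  rw [wel_val hb, wel_val one_ne_zero]
  simp

theorem wel_sq {b : F} (hb : b ≠ 0) : wel b * wel b = 1 := by
  apply sl_ext <;> simp [SpecialLinearGroup.coe_mul, wel_val hb, hb]

theorem tel_mul {a b : F} (ha : a ≠ 0) (hb : b ≠ 0) : tel a * tel b = tel (a * b) := by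
  apply sl_ext <;> simp [SpecialLinearGroup.coe_mul, tel_val ha, tel_val hb, tel_val (mul_ne_zero ha hb), mul_comm]

theorem tel_up {a : F} (ha : a ≠ 0) (x : F) : tel a * up x = up (a ^ 2 * x) * tel a := by
  apply sl_ext <;> simp [SpecialLinearGroup.coe_mul, up_val, tel_val ha]
  field_simp

theorem wel_up (x : F) : wel 1 * up x * wel 1 = low x := by
  apply sl_ext <;> simp [SpecialLinearGroup.coe_mul, up_val, low_val, wel_val one_ne_zero, mul_assoc,
    Matrix.mul_apply, Fin.sum_univ_two]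

/-- Two monoid homomorphisms agreeing on both root subgroups are equal. -/
theorem hom_ext {M : Type v} [Monoid M] {f f' : SL(2, F) →* M} (hu : ∀ c, f (up c) = f' (up c))
    (hl : ∀ c, f (low c) = f' (low c)) : f = f' := by
  refine MonoidHom.ext fun g => ?_
  have hg : g ∈ Cfsg.lowerUnipotentSL2 F ⊔ Cfsg.upperUnipotentSL2 F := by rw [sup_eq_top]; trivial
  have hle : Cfsg.lowerUnipotentSL2 F ⊔ Cfsg.upperUnipotentSL2 F ≤ f.eqLocus f' :=
    sup_le (fun x hx => by obtain ⟨c, rfl⟩ := mem_lower.1 hx; exact hl c)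
      (fun x hx => by obtain ⟨c, rfl⟩ := mem_upper.1 hx; exact hu c)
  exact hle hg

section CharTwo

variable {C : Type v} [Ring C]

theorem add_self' (hC : (2 : C) = 0) (x : C) : x + x = 0 := by rw [← two_mul, hC, zero_mul]

theorem eq_of_add' (hC : (2 : C) = 0) {x y : C} (h : x + y = 0) : x = y := by
  calc x = x + (y + y) := by rw [add_self' hC, add_zero]
    _ = x + y + y := (add_assoc _ _ _).symm
    _ = y := by rw [h, zero_add]

theorem neg_eq' (hC : (2 : C) = 0) (x : C) : -x = x := by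
  rw [neg_eq_iff_add_eq_zero, add_self' hC]

variable [Finite F]

/-- In characteristic two the representation is a multiple of the natural one. -/
theorem exists_map (hC : (2 : C) = 0) (ρ : SL(2, F) →* Matrix (Fin 2) (Fin 2) C)
    (hu : ρ (up 1) = !![1, 1; 0, 1]) (hl : ρ (low 1) = !![1, 0; 1, 1])
    (hrel : ∀ a : F, a ≠ 0 → ρ (up a) * ρ (low a⁻¹) + ρ (low a⁻¹) * ρ (up a) = 1)
    (hF : ∃ a : F, a ≠ 0 ∧ a ≠ 1) : ∃ φ : F →+* C, ∀ g : SL(2, F), ρ g = g.1.map φ := by
  classical
  have dd := add_self' hC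
  let P : F → C := fun a => ρ (up a) 0 0
  let B : F → C := fun a => ρ (up a) 0 1
  -- the unipotent images
  have hUform : ∀ a, ρ (up a) = !![P a, B a; 0, P a] := fun a => by
    have h : ρ (up a) * ρ (up 1) = ρ (up 1) * ρ (up a) := by rw [← map_mul, ← map_mul, up_mul, up_mul, add_comm]
    rw [hu, Matrix.eta_fin_two (ρ (up a)), Matrix.mul_fin_two, Matrix.mul_fin_two] at h
    have e00 := congrFun (congrFun h 0) 0
    have e01 := congrFun (congrFun h 0) 1
    simp at e00 e01
    rw [Matrix.eta_fin_two (ρ (up a))]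
    congr 1
    ext i j
    fin_cases i <;> fin_cases j <;> simp [P, B, e00]
    rw [← add_left_inj (ρ (up a) 0 1)]
    simpa [add_comm] using e01.symm
  have hw1 : ρ (wel 1) = !![0, 1; 1, 0] := by
    rw [wel, inv_one, map_mul, map_mul, hu, hl, Matrix.mul_fin_two, Matrix.mul_fin_two]
    simp [dd]
  have hLform : ∀ a, ρ (low a) = !![P a, 0; B a, P a] := fun a => by
    rw [← wel_up, map_mul, map_mul, hw1, hUform, Matrix.mul_fin_two, Matrix.mul_fin_two]
    simp
  have hP1 : P 1 = 1 := by simp [P, hu]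
  have hB1 : B 1 = 1 := by simp [B, hu]
  have hP0 : P 0 = 1 := by simp [P, up_zero]
  have hB0 : B 0 = 0 := by simp [B, up_zero]
  have hadd : ∀ a b, P (a + b) = P a * P b ∧ B (a + b) = P a * B b + B a * P b := fun a b => by
    have h : ρ (up (a + b)) = ρ (up a) * ρ (up b) := by rw [← map_mul, up_mul]
    rw [hUform, hUform, hUform, Matrix.mul_fin_two] at h
    have e00 := congrFun (congrFun h 0) 0
    have e01 := congrFun (congrFun h 0) 1
    simp at e00 e01
    exact ⟨e00, e01⟩
  have hPP : ∀ a b, P a * P b = P b * P a := fun a b => by rw [← (hadd a b).1, ← (hadd b a).1, add_comm]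
  have hUU : ∀ a, P a * P a = 1 ∧ P a * B a + B a * P a = 0 := fun a => by
    obtain ⟨h1, h2⟩ := hadd a a
    rw [CharTwo.add_self_eq_zero, hP0] at h1
    rw [CharTwo.add_self_eq_zero, hB0] at h2
    exact ⟨h1.symm, h2.symm⟩
  have hPB : ∀ a, P a * B a = B a * P a := fun a => eq_of_add' hC (hUU a).2
  have hr : ∀ a : F, a ≠ 0 → B a * B a⁻¹ = 1 ∧ B a⁻¹ * B a = 1 ∧ B a * P a⁻¹ = P a⁻¹ * B a := by
    intro a ha
    have h := hrel a ha
    rw [hUform, hLform, Matrix.mul_fin_two, Matrix.mul_fin_two] at h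
    have e00 := congrFun (congrFun h 0) 0
    have e01 := congrFun (congrFun h 0) 1
    have e11 := congrFun (congrFun h 1) 1
    simp at e00 e01 e11
    rw [hPP a⁻¹ a] at e00 e11
    refine ⟨?_, ?_, eq_of_add' hC e01⟩
    · calc B a * B a⁻¹ = (P a * P a⁻¹ + P a * P a⁻¹) + B a * B a⁻¹ := by rw [dd, zero_add]
        _ = 1 := by rw [← e00]; abel
    · calc B a⁻¹ * B a = (P a * P a⁻¹ + P a * P a⁻¹) + B a⁻¹ * B a := by rw [dd, zero_add]
        _ = 1 := by rw [← e11]; abel
  let K : F → C := fun a => P a + P a⁻¹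
  have hw : ∀ a : F, a ≠ 0 → ρ (wel a) = !![K a, B a; B a⁻¹, K a] := by
    intro a ha
    rw [wel, map_mul, map_mul]
    have h := hrel a ha
    have hUU' : ρ (up a) * ρ (up a) = 1 := by rw [← map_mul, up_mul, CharTwo.add_self_eq_zero, up_zero, map_one]
    have e : ρ (up a) * ρ (low a⁻¹) * ρ (up a) = ρ (up a) - ρ (low a⁻¹) := by
      rw [mul_assoc, show ρ (low a⁻¹) * ρ (up a) = 1 - ρ (up a) * ρ (low a⁻¹) from eq_sub_of_add_eq (by rw [add_comm]; exact h),
        mul_sub, mul_one, ← mul_assoc, hUU', one_mul]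
    rw [e, hUform, hLform]
    ext i j
    fin_cases i <;> fin_cases j <;> simp [K, sub_eq_add_neg, neg_eq' hC]
  have ht : ∀ a : F, a ≠ 0 → ρ (tel a) = !![B a, K a; K a, B a⁻¹] := fun a ha => by
    rw [tel, map_mul, hw a ha, hw1, Matrix.mul_fin_two]; simp
  have hKinv : ∀ a, K a⁻¹ = K a := fun a => by simp [K, inv_inv, add_comm]
  have hK2 : ∀ a : F, a ≠ 0 → K a * K a = 0 := fun a ha => by
    have h : ρ (wel a) * ρ (wel a) = 1 := by rw [← map_mul, wel_sq ha, map_one]
    rw [hw a ha, Matrix.mul_fin_two] at h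
    have e00 := congrFun (congrFun h 0) 0
    simp at e00
    rw [(hr a ha).1] at e00
    simpa using e00
  have hKK : ∀ a b, K a * K b = K b * K a := fun a b => by
    simp only [K, mul_add, add_mul, hPP]; abel
  have hmul : ∀ a b : F, a ≠ 0 → b ≠ 0 → B (a * b) = B a * B b + K a * K b ∧
      K (a * b) = B a * K b + K a * B b⁻¹ := fun a b ha hb => by
    have h : ρ (tel (a * b)) = ρ (tel a) * ρ (tel b) := by rw [← map_mul, tel_mul ha hb]
    rw [ht a ha, ht b hb, ht _ (mul_ne_zero ha hb), Matrix.mul_fin_two] at h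
    have e00 := congrFun (congrFun h 0) 0
    have e01 := congrFun (congrFun h 0) 1
    simp at e00 e01
    exact ⟨e00, e01⟩
  have hBB : ∀ a b, B a * B b = B b * B a := by
    intro a b
    rcases eq_or_ne a 0 with rfl | ha
    · rw [hB0]; simp
    rcases eq_or_ne b 0 with rfl | hb
    · rw [hB0]; simp
    have h1 := (hmul a b ha hb).1
    have h2 := (hmul b a hb ha).1
    rw [mul_comm] at h2
    rw [h1, hKK a b] at h2
    exact add_right_cancel h2
  have hBK : ∀ a : F, a ≠ 0 → B a * K a = K a * B a := fun a ha => by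
    simp only [K, mul_add, add_mul, hPB, (hr a ha).2.2]
  have hsq : ∀ a : F, a ≠ 0 → B (a ^ 2) = B a * B a := fun a ha => by
    rw [pow_two, (hmul a a ha ha).1, hK2 a ha, add_zero]
  have hjac : ∀ a : F, B (a + 1) = B a + P a := fun a => by
    rw [(hadd a 1).2, hB1, hP1, mul_one, mul_one, add_comm]
  -- a unit: `B(a)² + 1`
  have hunit : ∀ a : F, a ≠ 1 → IsUnit (B a * B a + 1) := fun a ha => by
    have e : B (a + 1) * B (a + 1) = B a * B a + 1 := by
      rw [hjac, add_mul, mul_add, mul_add, hPB, (hUU a).1,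
        show B a * B a + B a * P a + (B a * P a + 1) = B a * B a + 1 + (B a * P a + B a * P a) by abel, dd, add_zero]
    rw [← e]
    have hj : IsUnit (B (a + 1)) :=
      ⟨⟨_, _, (hr _ (add_one_ne ha)).1, (hr _ (add_one_ne ha)).2.1⟩, rfl⟩
    exact hj.mul hj
  -- the images of `up x` commute with all `B a`
  have hPBc : ∀ a x : F, P x * B a = B a * P x := by
    intro a x
    rcases eq_or_ne a 0 with rfl | ha
    · rw [hB0]; simp
    rcases eq_or_ne a 1 with rfl | ha1
    · rw [hB1]; simp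
    have h : ρ (tel a) * ρ (up x) = ρ (up (a ^ 2 * x)) * ρ (tel a) := by rw [← map_mul, ← map_mul, tel_up ha]
    rw [ht a ha, hUform, hUform, Matrix.mul_fin_two, Matrix.mul_fin_two] at h
    have e00 := congrFun (congrFun h 0) 0
    have e01 := congrFun (congrFun h 0) 1
    have e10 := congrFun (congrFun h 1) 0
    have e11 := congrFun (congrFun h 1) 1
    simp at e00 e01 e10 e11
    set β := B a
    set D := B a⁻¹
    set κ := K a
    set p := P x
    set p' := P (a ^ 2 * x)
    set q := B x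
    set q' := B (a ^ 2 * x)
    obtain ⟨hβD, hDβ, -⟩ := hr a ha
    have hκβ : κ * β = β * κ := (hBK a ha).symm
    have hκD : κ * D = D * κ := by
      have h1 := hBK a⁻¹ (inv_ne_zero ha)
      rw [hKinv a] at h1
      exact h1.symm
    have hq' : q' = β * β * q := by
      have h1 : β * q + κ * p = p' * κ + q' * D := e01
      rw [show κ * p = p' * κ from e10, add_comm] at h1
      have h2 := add_left_cancel h1
      calc q' = q' * D * β := by rw [mul_assoc, hDβ, mul_one]
        _ = β * q * β := by rw [← h2]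
        _ = β * β * q := by rw [mul_assoc, hBB x a, ← mul_assoc]
    -- `p' = κ q β + D p β`
    have hp' : p' = κ * q * β + D * p * β := by
      calc p' = p' * D * β := by rw [mul_assoc, hDβ, mul_one]
        _ = (κ * q + D * p) * β := by rw [← e11]
        _ = _ := add_mul _ _ _
    -- the commutators
    set γ := p * β + β * p with hγ
    have hsym : γ = P a * q + q * P a := by
      have hc : P a * B x + B a * P x = P x * B a + B x * P a := by
        rw [← (hadd a x).2, ← (hadd x a).2, add_comm]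
      apply eq_of_add' hC
      calc γ + (P a * q + q * P a) = (P a * q + β * p) + (p * β + q * P a) := by rw [hγ]; abel
        _ = 0 := by rw [hc, dd]
    have hsym' : p * D + D * p = P a⁻¹ * q + q * P a⁻¹ := by
      have hc : P a⁻¹ * B x + B a⁻¹ * P x = P x * B a⁻¹ + B x * P a⁻¹ := by
        rw [← (hadd a⁻¹ x).2, ← (hadd x a⁻¹).2, add_comm]
      apply eq_of_add' hC
      calc p * D + D * p + (P a⁻¹ * q + q * P a⁻¹) = (P a⁻¹ * q + D * p) + (p * D + q * P a⁻¹) := by abel
        _ = 0 := by rw [hc, dd]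
    have hδ : κ * q + q * κ = γ + D * γ * D := by
      have h1 : D * γ * D = p * D + D * p := by
        rw [hγ, mul_add, add_mul, mul_assoc D (p * β) D, mul_assoc p β D, hβD, mul_one, ← mul_assoc D β p, hDβ,
          one_mul, add_comm]
      rw [h1, hsym, hsym']
      simp only [κ, K, add_mul, mul_add]
      abel
    have hmain : β * p + (κ * q * β + D * p * β) * β + β * β * q * κ = 0 := by
      rw [← hp', ← hq', add_assoc, ← e00, dd]
    have h3 : D * γ * D * (β * β) = p * β + D * p * β * β := by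
      calc D * γ * D * (β * β) = D * γ * β := by rw [mul_assoc (D * γ) D, ← mul_assoc D β β, hDβ, one_mul]
        _ = D * β * p * β + D * p * β * β := by rw [hγ]; simp only [mul_add, add_mul, mul_assoc]; abel
        _ = _ := by rw [hDβ, one_mul]
    have hqκ : β * β * q * κ = q * κ * (β * β) := by
      calc β * β * q * κ = q * (β * β) * κ := by
            rw [show β * β * q = q * (β * β) by
              rw [mul_assoc, hBB a x, ← mul_assoc, hBB a x, mul_assoc]]
        _ = q * κ * (β * β) := by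
            rw [mul_assoc q, mul_assoc β, ← hκβ, ← mul_assoc β, ← hκβ, mul_assoc κ, ← mul_assoc q]
    have hfin : γ * (β * β + 1) = 0 := by
      calc γ * (β * β + 1) = γ * (β * β) + γ + (D * p * β * β + D * p * β * β) := by
            rw [dd, add_zero, mul_add, mul_one]
        _ = β * p + (γ + D * γ * D) * (β * β) + D * p * β * β := by
            rw [add_mul γ (D * γ * D), h3, hγ]; abel
        _ = β * p + (κ * q + q * κ) * (β * β) + D * p * β * β := by rw [hδ]
        _ = β * p + (κ * q * β + D * p * β) * β + β * β * q * κ := by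
            rw [hqκ]; simp only [add_mul, mul_assoc]; abel
        _ = 0 := hmain
    have := (hunit a ha1).mul_left_eq_zero.1 hfin
    exact eq_of_add' hC this
  have hKBc : ∀ a b, K b * B a = B a * K b := fun a b => by simp only [K, add_mul, mul_add, hPBc]
  let S : F → C := fun a => B a + B a⁻¹
  have hS : ∀ a b : F, a ≠ 0 → b ≠ 0 → S a * K b = K a * S b := by
    intro a b ha hb
    have h1 := (hmul a b ha hb).2
    have h2 := (hmul b a hb ha).2
    rw [mul_comm b a] at h2
    rw [h1] at h2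
    apply eq_of_add' hC
    calc S a * K b + K a * S b
        = (B a * K b + K a * B b⁻¹) + (B a⁻¹ * K b + K a * B b) := by simp only [S, add_mul, mul_add]; abel
      _ = (B b * K a + K b * B a⁻¹) + (B a⁻¹ * K b + K a * B b) := by rw [h2]
      _ = 0 := by
        rw [hKBc a⁻¹ b, ← hKBc b a, add_comm (B a⁻¹ * K b), dd]
  obtain ⟨a0, ha0, ha01⟩ := hF
  obtain ⟨i0, hi0⟩ : IsUnit (S a0) := by
    have e : S a0 = B a0⁻¹ * (B a0 * B a0 + 1) := by
      rw [mul_add, mul_one, ← mul_assoc, (hr a0 ha0).2.1, one_mul]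
    rw [e]
    exact IsUnit.mul ⟨⟨_, _, (hr a0 ha0).2.1, (hr a0 ha0).1⟩, rfl⟩ (hunit a0 ha01)
  set c := (↑i0⁻¹ : C) * K a0 with hc
  have hKc : ∀ b : F, b ≠ 0 → K b = c * S b := fun b hb => by
    calc K b = (↑i0⁻¹ : C) * (S a0 * K b) := by rw [← mul_assoc, ← hi0, Units.inv_mul, one_mul]
      _ = c * S b := by rw [hS a0 b ha0 hb, hc, mul_assoc]
  have hcc : c * c = 0 := by
    have h1 : Commute (K a0) (↑i0⁻¹ : C) := Commute.units_inv_right (by
      show K a0 * (i0 : C) = i0 * K a0
      rw [hi0]; simp only [S, mul_add, add_mul, hKBc])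
    rw [hc, mul_assoc, ← mul_assoc (K a0), h1.eq, mul_assoc, hK2 a0 ha0, mul_zero, mul_zero]
  have hPx : ∀ x : F, x ≠ 0 → P x = 1 + c * (B x + 1) := by
    intro x hx
    obtain ⟨b, hb⟩ := FiniteField.isSquare_of_char_two (ringChar.eq F 2) x
    have hb0 : b ≠ 0 := fun e => hx (by rw [hb, e, mul_zero])
    have hbx : b ^ 2 * 1 = x := by rw [mul_one, pow_two, hb]
    have h : ρ (tel b) * ρ (up 1) = ρ (up x) * ρ (tel b) := by rw [← map_mul, ← map_mul, tel_up hb0, hbx]
    rw [ht b hb0, hUform 1, hP1, hB1, hUform x, Matrix.mul_fin_two, Matrix.mul_fin_two] at h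
    have e11 := congrFun (congrFun h 1) 1
    simp at e11
    calc P x = P x * B b⁻¹ * B b := by rw [mul_assoc, (hr b hb0).2.1, mul_one]
      _ = (K b + B b⁻¹) * B b := by rw [← e11]
      _ = c * (B x + 1) + 1 := by
        rw [add_mul, (hr b hb0).2.1, hKc b hb0, mul_assoc]
        congr 2
        rw [hb, ← pow_two b, hsq b hb0]
        simp only [S, add_mul, (hr b hb0).2.1]
      _ = _ := add_comm _ _
  have hBc : B a0 * c = c * B a0 := by
    have h1 : Commute (B a0) (↑i0⁻¹ : C) := Commute.units_inv_right (by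
      show B a0 * (i0 : C) = i0 * B a0
      rw [hi0]; simp only [S, mul_add, add_mul, hBB])
    rw [hc, ← mul_assoc, h1.eq, mul_assoc, mul_assoc, hKBc]
  have hc0 : c = 0 := by
    have h1 := (hadd a0 1).1
    rw [hP1, mul_one, hPx _ (add_one_ne ha01), hPx _ ha0, hjac, hPx _ ha0] at h1
    have h2 : c * (1 + c * (B a0 + 1)) = 0 := by
      have h3 := add_left_cancel h1
      have h4 : c * (B a0 + (1 + c * (B a0 + 1)) + 1) + c * (B a0 + 1) = 0 := by rw [h3, dd]
      rw [← mul_add, show B a0 + (1 + c * (B a0 + 1)) + 1 + (B a0 + 1)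
        = (B a0 + B a0) + (1 + 1) + (1 + c * (B a0 + 1)) by abel, dd, dd, zero_add, zero_add] at h4
      exact h4
    rw [mul_add, mul_one, ← mul_assoc, hcc, zero_mul, add_zero] at h2
    exact h2
  have hP : ∀ x, P x = 1 := fun x => by
    rcases eq_or_ne x 0 with rfl | hx
    · exact hP0
    · rw [hPx x hx, hc0, zero_mul, add_zero]
  have hK0 : ∀ a, K a = 0 := fun a => by simp only [K, hP]; exact dd 1
  let φ : F →+* C :=
    { toFun := B
      map_one' := hB1
      map_mul' := fun a b => by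
        rcases eq_or_ne a 0 with rfl | ha
        · simp [hB0]
        rcases eq_or_ne b 0 with rfl | hb
        · simp [hB0]
        rw [(hmul a b ha hb).1, hK0, zero_mul, add_zero]
      map_zero' := hB0
      map_add' := fun a b => by rw [(hadd a b).2, hP, hP, one_mul, mul_one, add_comm] }
  refine ⟨φ, fun g => ?_⟩
  let ρ' : SL(2, F) →* Matrix (Fin 2) (Fin 2) C :=
    { toFun := fun g => g.1.map φ
      map_one' := by simp
      map_mul' := fun a b => by show (a.1 * b.1).map φ = _; rw [Matrix.map_mul] }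
  have e : ρ = ρ' := by
    refine hom_ext (fun a => ?_) fun a => ?_
    · rw [hUform, hP]
      ext i j
      fin_cases i <;> fin_cases j <;> simp [ρ', up_val, φ, hB0, hB1]
    · rw [hLform, hP]
      ext i j
      fin_cases i <;> fin_cases j <;> simp [ρ', low_val, φ, hB0, hB1]
  exact DFunLike.congr_fun e g

end CharTwo

section FourZero

variable [Finite F] {C : Type v} [Ring C]

/-- Modulo two the representation is natural; this forces characteristic two. -/
theorem two_eq_zero (h4 : (4 : C) = 0) (ρ : SL(2, F) →* Matrix (Fin 2) (Fin 2) C)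
    (hu : ρ (up 1) = !![-1, 1; 0, 1]) (hl : ρ (low 1) = !![1, 0; 1, -1])
    (hrel : ∀ a : F, a ≠ 0 → ρ (up a) * ρ (low a⁻¹) + ρ (low a⁻¹) * ρ (up a) = -1)
    (hF : ∃ a : F, a ≠ 0 ∧ a ≠ 1) : (2 : C) = 0 := by
  classical
  have h2c : ∀ x : C, x * 2 = 2 * x := fun x => (Commute.ofNat_right x 2).eq
  let J : Ideal C := Ideal.span {(2 : C)}
  haveI : J.IsTwoSided := ⟨fun {x} b hx => by
    obtain ⟨c, rfl⟩ := Ideal.mem_span_singleton'.1 hx
    refine Ideal.mem_span_singleton'.2 ⟨c * b, ?_⟩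
    rw [mul_assoc, h2c, ← mul_assoc]⟩
  let π : C →+* C ⧸ J := Ideal.Quotient.mk J
  have hJ2 : (2 : C ⧸ J) = 0 := by
    rw [show (2 : C ⧸ J) = π 2 from (map_ofNat π 2).symm]
    exact Ideal.Quotient.eq_zero_iff_mem.2 (Ideal.subset_span rfl)
  let ρ2 : SL(2, F) →* Matrix (Fin 2) (Fin 2) (C ⧸ J) := (π.mapMatrix.toMonoidHom).comp ρ
  have hρ2 : ∀ g, ρ2 g = π.mapMatrix (ρ g) := fun g => rfl
  obtain ⟨φ, hφ⟩ := exists_map hJ2 ρ2
    (by rw [hρ2, hu]; ext i j; fin_cases i <;> fin_cases j <;> simp [neg_eq' hJ2])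
    (by rw [hρ2, hl]; ext i j; fin_cases i <;> fin_cases j <;> simp [neg_eq' hJ2])
    (fun a ha => by
      rw [hρ2, hρ2, ← map_mul π.mapMatrix, ← map_mul π.mapMatrix, ← map_add, hrel a ha, map_neg, map_one]
      exact neg_eq' (C := Matrix (Fin 2) (Fin 2) (C ⧸ J)) (by
        ext i j; fin_cases i <;> fin_cases j <;> simp [← Matrix.diagonal_ofNat, hJ2]) 1) hF
  let P : F → C := fun a => ρ (up a) 0 0
  let Q : F → C := fun a => ρ (up a) 0 1
  have hP2 : ∀ a, ∃ X, P a = 1 + X * 2 := fun a => by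
    have h := congrFun (congrFun (hφ (up a)) 0) 0
    simp [hρ2, up_val] at h
    have h2 : π (P a - 1) = 0 := by rw [map_sub, map_one]; exact sub_eq_zero.2 h
    obtain ⟨X, hX⟩ := Ideal.mem_span_singleton'.1 (Ideal.Quotient.eq_zero_iff_mem.1 h2)
    exact ⟨X, by rw [hX]; abel⟩
  have hUform : ∀ a, ρ (up a) = !![P a, Q a; 0, P a + 2 * Q a] := fun a => by
    have h : ρ (up a) * ρ (up 1) = ρ (up 1) * ρ (up a) := by rw [← map_mul, ← map_mul, up_mul, up_mul, add_comm]
    rw [hu, Matrix.eta_fin_two (ρ (up a)), Matrix.mul_fin_two, Matrix.mul_fin_two] at h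
    have e00 := congrFun (congrFun h 0) 0
    have e01 := congrFun (congrFun h 0) 1
    simp at e00 e01
    rw [Matrix.eta_fin_two (ρ (up a))]
    ext i j
    fin_cases i <;> fin_cases j <;> simp [P, Q, e00]
    rw [two_mul]
    calc ρ (up a) 1 1 = ρ (up a) 0 1 + (-ρ (up a) 0 1 + ρ (up a) 1 1) := by abel
      _ = ρ (up a) 0 1 + (ρ (up a) 0 0 + ρ (up a) 0 1) := by rw [← e01]
      _ = _ := by abel
  have hw1 : ρ (wel 1) = !![0, -1; -1, 0] := by
    rw [wel, inv_one, map_mul, map_mul, hu, hl, Matrix.mul_fin_two, Matrix.mul_fin_two]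
    simp
  have hLform : ∀ a, ρ (low a) = !![P a + 2 * Q a, 0; Q a, P a] := fun a => by
    rw [← wel_up, map_mul, map_mul, hw1, hUform, Matrix.mul_fin_two, Matrix.mul_fin_two]
    simp
  have hw : ∀ a : F, a ≠ 0 → ρ (wel a) = -ρ (up a) - ρ (low a⁻¹) := by
    intro a ha
    have hUU : ρ (up a) * ρ (up a) = 1 := by rw [← map_mul, up_mul, CharTwo.add_self_eq_zero, up_zero, map_one]
    rw [wel, map_mul, map_mul, mul_assoc,
      show ρ (low a⁻¹) * ρ (up a) = -1 - ρ (up a) * ρ (low a⁻¹) from eq_sub_of_add_eq (by rw [add_comm]; exact hrel a ha),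
      mul_sub, mul_neg, mul_one, ← mul_assoc, hUU, one_mul]
  let K : F → C := fun a => P a + (P a⁻¹ + 2 * Q a⁻¹)
  have ht : ∀ a : F, a ≠ 0 → ρ (tel a) 0 0 = Q a ∧ ρ (tel a) 0 1 = K a ∧
      ρ (tel a) 1 0 = P a⁻¹ + (P a + 2 * Q a) := fun a ha => by
    rw [tel, map_mul, hw a ha, hw1, hUform, hLform, Matrix.eta_fin_two (-_ - _), Matrix.mul_fin_two]
    simp [K]
    refine ⟨?_, ?_⟩ <;> abel
  have hK : ∀ a, ∃ Y, K a = Y * 2 := fun a => by
    obtain ⟨X, hX⟩ := hP2 a
    obtain ⟨X', hX'⟩ := hP2 a⁻¹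
    exact ⟨1 + X + X' + Q a⁻¹, by simp only [K, hX, hX', ← h2c (Q a⁻¹), add_mul, one_mul]; rw [← one_add_one_eq_two]; noncomm_ring⟩
  have hK' : ∀ a, ∃ Y, P a⁻¹ + (P a + 2 * Q a) = Y * 2 := fun a => by
    obtain ⟨Y, hY⟩ := hK a⁻¹
    exact ⟨Y, by rw [← hY]; simp [K]⟩
  have hQmul : ∀ a b : F, a ≠ 0 → b ≠ 0 → Q (a * b) = Q a * Q b := fun a b ha hb => by
    have h : ρ (tel (a * b)) = ρ (tel a) * ρ (tel b) := by rw [← map_mul, tel_mul ha hb]
    have e := congrFun (congrFun h 0) 0
    rw [Matrix.mul_apply, Fin.sum_univ_two, (ht a ha).1, (ht b hb).1, (ht a ha).2.1, (ht b hb).2.2,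
      (ht _ (mul_ne_zero ha hb)).1] at e
    obtain ⟨Y, hY⟩ := hK a
    obtain ⟨Z, hZ⟩ := hK' b
    rw [e, hY, hZ, mul_assoc Y, ← mul_assoc 2 Z, ← h2c Z, mul_assoc Z, show (2 : C) * 2 = 4 by norm_num, h4,
      mul_zero, mul_zero, add_zero]
  have hQ1 : Q 1 = 1 := by simp [Q, hu]
  obtain ⟨a, ha, ha1⟩ := hF
  have hj : a + 1 ≠ 0 := add_one_ne ha1
  have hP : P a = Q (a + 1) - Q a := by
    have h : ρ (up a) * ρ (up 1) = ρ (up (a + 1)) := by rw [← map_mul, up_mul]
    rw [hUform, hu, Matrix.mul_fin_two] at h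
    have e01 := congrFun (congrFun h 0) 1
    simp at e01
    show P a = ρ (up (a + 1)) 0 1 - Q a
    rw [← e01]; abel
  have hQQ : Q (a + 1) * Q a = Q a * Q (a + 1) := by
    rw [← hQmul _ _ hj ha, ← hQmul _ _ ha hj, mul_comm]
  have hPQ : P a * Q a = Q a * P a := by rw [hP, sub_mul, mul_sub, hQQ]
  obtain ⟨X, hX⟩ := hP2 a
  have hsq : P a * Q a + Q a * (P a + 2 * Q a) = 0 := by
    have h : ρ (up a) * ρ (up a) = 1 := by rw [← map_mul, up_mul, CharTwo.add_self_eq_zero, up_zero, map_one]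
    rw [hUform, Matrix.mul_fin_two] at h
    have e01 := congrFun (congrFun h 0) 1
    simpa using e01
  have h2P : (2 : C) * P a = 2 := by
    rw [hX, mul_add, mul_one, ← mul_assoc, ← h2c X, mul_assoc, show (2 : C) * 2 = 4 by norm_num, h4, mul_zero, add_zero]
  have hfin : (2 : C) * Q a * Q (a + 1) = 0 := by
    calc (2 : C) * Q a * Q (a + 1) = 2 * Q a * (Q a + P a) := by rw [hP]; abel_nf
      _ = 2 * (Q a * Q a) + 2 * (Q a * P a) := by rw [mul_add, mul_assoc, mul_assoc]
      _ = P a * Q a + Q a * (P a + 2 * Q a) := by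
        rw [hPQ, mul_add, ← mul_assoc (Q a) 2, h2c, mul_assoc, two_mul (Q a * P a)]; abel
      _ = 0 := hsq
  calc (2 : C) = 2 * Q a * Q (a + 1) * (Q (a + 1)⁻¹ * Q a⁻¹) := by
        rw [← mul_assoc, mul_assoc (2 * Q a), ← hQmul _ _ hj (inv_ne_zero hj), mul_inv_cancel₀ hj, hQ1, mul_one,
          mul_assoc, ← hQmul _ _ ha (inv_ne_zero ha), mul_inv_cancel₀ ha, hQ1, mul_one]
    _ = 0 := by rw [hfin, zero_mul]

end FourZero

section Units

variable {R : Type v} [Ring R]

/-- The entries with respect to matrix units. -/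
def coef (E : Fin 2 → Fin 2 → R) (i j : Fin 2) (r : R) : R := E 0 i * r * E j 0 + E 1 i * r * E j 1

theorem exists_entries (E : Fin 2 → Fin 2 → R)
    (hm : ∀ i j k l, E i j * E k l = if j = k then E i l else 0) (hone : E 0 0 + E 1 1 = 1) :
    ∃ Ψ : R →+* Matrix (Fin 2) (Fin 2) ↥(Subring.centralizer (Set.range fun p : Fin 2 × Fin 2 => E p.1 p.2)),
      (∀ r i j, (Ψ r i j : R) = coef E i j r) ∧
      ∀ r : R, r = coef E 0 0 r * E 0 0 + coef E 0 1 r * E 0 1 + coef E 1 0 r * E 1 0 + coef E 1 1 r * E 1 1 := by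
  have hmem : ∀ i j r, coef E i j r ∈ Subring.centralizer (Set.range fun p : Fin 2 × Fin 2 => E p.1 p.2) := by
    intro i j r
    rw [Subring.mem_centralizer_iff]
    rintro _ ⟨⟨k, l⟩, rfl⟩
    show E k l * coef E i j r = coef E i j r * E k l
    simp only [coef, mul_add, add_mul]
    rw [← mul_assoc, ← mul_assoc, ← mul_assoc, ← mul_assoc, hm k l 0 i, hm k l 1 i, mul_assoc (E 0 i * r),
      mul_assoc (E 1 i * r), hm j 0 k l, hm j 1 k l]
    fin_cases k <;> fin_cases l <;> simp
  refine ⟨{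
    toFun := fun r => Matrix.of fun i j => ⟨coef E i j r, hmem i j r⟩
    map_one' := by
      ext i j
      fin_cases i <;> fin_cases j <;> simp [coef, hm, hone]
    map_mul' := fun r s => by
      ext i l
      simp only [Matrix.of_apply, Matrix.mul_apply, Fin.sum_univ_two, Subring.coe_add, Subring.coe_mul]
      show coef E i l (r * s) = coef E i 0 r * coef E 0 l s + coef E i 1 r * coef E 1 l s
      have hr : r * s = r * (E 0 0 + E 1 1) * s := by rw [hone, mul_one]
      have hk : ∀ a b : Fin 2, ∀ (y : R), E a 0 * (E 0 b * y) = E a b * y ∧ E a 1 * (E 1 b * y) = E a b * y ∧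
          E a 0 * (E 1 b * y) = 0 ∧ E a 1 * (E 0 b * y) = 0 := fun a b y => by
        simp [← mul_assoc, hm]
      have h00 : E 0 0 = E 0 0 * E 0 0 := by rw [hm]; simp
      have h11 : E 1 1 = E 1 0 * E 0 1 := by rw [hm]; simp
      simp only [coef, hr, mul_add, add_mul, mul_assoc]
      simp only [fun a b y => (hk a b y).1, fun a b y => (hk a b y).2.1, fun a b y => (hk a b y).2.2.1,
        fun a b y => (hk a b y).2.2.2, mul_zero, add_zero, zero_add]
      abel
    map_zero' := by ext i j; simp [coef]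
    map_add' := fun r s => by ext i j; simp [coef, mul_add, add_mul]; abel }, fun r i j => rfl, fun r => ?_⟩
  simp only [coef, add_mul, mul_assoc, hm]
  simp
  calc r = (E 0 0 + E 1 1) * (r * (E 0 0 + E 1 1)) := by rw [hone, mul_one, one_mul]
    _ = _ := by simp only [mul_add, add_mul]; abel

/-- Combinations of `1, u, l, u l`. -/
def comb (u l : R) (a b c d : ℤ) : R := a • (1 : R) + b • u + c • l + d • (u * l)

theorem comb_add (u l : R) (a b c d a' b' c' d' : ℤ) :
    comb u l a b c d + comb u l a' b' c' d' = comb u l (a + a') (b + b') (c + c') (d + d') := by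
  simp only [comb]; module

theorem comb_mul {u l : R} (huu : u * u = 1) (hll : l * l = 1) (hlu : l * u = -1 - u * l) (a b c d a' b' c' d' : ℤ) :
    comb u l a b c d * comb u l a' b' c' d' = comb u l (a * a' + b * b' + c * c' - c * b' - d * d')
      (a * b' + b * a' - c * d' + d * c' - d * b') (a * c' + c * a' + b * d' - c * d' - d * b')
      (a * d' + b * c' - c * b' + d * a' - d * d') := by
  have h1 : u * (u * l) = l := by rw [← mul_assoc, huu, one_mul]
  have h2 : u * l * u = -u - l := by rw [mul_assoc, hlu, mul_sub, mul_neg, mul_one, h1]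
  have h3 : l * (u * l) = -l - u := by rw [← mul_assoc, hlu, sub_mul, neg_mul, one_mul, mul_assoc, hll, mul_one]
  have h4 : u * l * l = u := by rw [mul_assoc, hll, mul_one]
  have h5 : u * l * (u * l) = -(u * l) - 1 := by rw [← mul_assoc, h2, sub_mul, neg_mul, hll]
  simp only [comb, add_mul, mul_add, smul_mul_assoc, mul_smul_comm, smul_smul, one_mul, mul_one, huu, hll,
    h1, h2, h3, h4, h5, hlu]
  module

theorem comb_mod {u l : R} (h4 : (4 : R) = 0) (a b c d : ℤ) :
    comb u l a b c d = comb u l (a % 4) (b % 4) (c % 4) (d % 4) := by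
  have h : ∀ z : ℤ, (z : R) = ((z % 4 : ℤ) : R) := fun z => by
    conv_lhs => rw [← Int.emod_add_mul_ediv z 4]
    push_cast
    rw [h4, zero_mul, add_zero]
  simp only [comb, zsmul_eq_mul, ← h]

variable [Finite F]

/-- The ring form of Higman's theorem. -/
theorem exists_natural (h4 : (4 : R) = 0) (ρ : SL(2, F) →* R)
    (hrel : ∀ a : F, a ≠ 0 → ρ (up a) * ρ (low a⁻¹) + ρ (low a⁻¹) * ρ (up a) = -1)
    (hF : ∃ a : F, a ≠ 0 ∧ a ≠ 1) :
    (2 : R) = 0 ∧ ∃ (E : Fin 2 → Fin 2 → R) (φ : F →+* R),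
      (∀ i j k l, E i j * E k l = if j = k then E i l else 0) ∧ E 0 0 + E 1 1 = 1 ∧
      (∀ c i j, φ c * E i j = E i j * φ c) ∧
      ∀ g : SL(2, F), ρ g = φ (g.1 0 0) * E 0 0 + φ (g.1 0 1) * E 0 1 + φ (g.1 1 0) * E 1 0 + φ (g.1 1 1) * E 1 1 := by
  classical
  set u := ρ (up 1)
  set l := ρ (low 1)
  have huu : u * u = 1 := by rw [← map_mul, up_mul, CharTwo.add_self_eq_zero, up_zero, map_one]
  have hll : l * l = 1 := by rw [← map_mul, low_mul, CharTwo.add_self_eq_zero, low_zero, map_one]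
  have hlu : l * u = -1 - u * l := by
    have h := hrel 1 one_ne_zero
    rw [inv_one] at h
    exact eq_sub_of_add_eq (by rw [add_comm]; exact h)
  have hN := comb_mul huu hll hlu
  let E : Fin 2 → Fin 2 → R := fun i j =>
    if i = 0 then (if j = 0 then comb u l 3 1 3 1 else comb u l 1 3 2 2)
    else (if j = 0 then comb u l 3 2 3 2 else comb u l 2 3 1 3)
  have hone : E 0 0 + E 1 1 = 1 := by
    simp [E, comb_add]
    rw [comb_mod h4]; norm_num [comb]
  have hzero : comb u l 0 0 0 0 = 0 := by simp [comb]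
  have hm : ∀ i j k m, E i j * E k m = if j = k then E i m else 0 := by
    intro i j k m
    fin_cases i <;> fin_cases j <;> fin_cases k <;> fin_cases m <;> simp [E, hN] <;> rw [comb_mod h4] <;>
      norm_num [hzero]
  set Cr := Subring.centralizer (Set.range fun p : Fin 2 × Fin 2 => E p.1 p.2)
  obtain ⟨Ψ, hΨ, hrec⟩ := exists_entries E hm hone
  let ρ' : SL(2, F) →* Matrix (Fin 2) (Fin 2) ↥Cr := Ψ.toMonoidHom.comp ρ
  have hu' : comb u l 0 1 0 0 = u := by simp [comb]
  have hl' : comb u l 0 0 1 0 = l := by simp [comb]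
  have h3 : (3 : R) = -1 := by rw [eq_neg_iff_add_eq_zero, ← h4]; norm_num
  have h4' : (4 : ↥Cr) = 0 := Cr.subtype_injective (by rw [map_ofNat, map_zero]; exact h4)
  have hΨu : ρ' (up 1) = !![-1, 1; 0, 1] := by
    refine Matrix.ext fun i j => Subtype.ext ?_
    show (Ψ u i j : R) = _
    rw [hΨ, coef, ← hu']
    fin_cases i <;> fin_cases j <;> simp [E, hN, comb_add] <;> rw [comb_mod h4] <;> norm_num [comb] <;> exact h3
  have hΨl : ρ' (low 1) = !![1, 0; 1, -1] := by
    refine Matrix.ext fun i j => Subtype.ext ?_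
    show (Ψ l i j : R) = _
    rw [hΨ, coef, ← hl']
    fin_cases i <;> fin_cases j <;> simp [E, hN, comb_add] <;> rw [comb_mod h4] <;> norm_num [comb] <;> exact h3
  have hrel' : ∀ a : F, a ≠ 0 → ρ' (up a) * ρ' (low a⁻¹) + ρ' (low a⁻¹) * ρ' (up a) = -1 := fun a ha => by
    show Ψ _ * Ψ _ + Ψ _ * Ψ _ = -1
    rw [← map_mul Ψ, ← map_mul Ψ, ← map_add, hrel a ha, map_neg, map_one]
  have h2 : (2 : ↥Cr) = 0 := two_eq_zero h4' ρ' hΨu hΨl hrel' hF
  have hneg : (-1 : ↥Cr) = 1 := neg_eq' h2 1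
  have h2R : (2 : R) = 0 := by simpa [map_ofNat] using congrArg Cr.subtype h2
  have hnegM : (-1 : Matrix (Fin 2) (Fin 2) ↥Cr) = 1 := by
    ext i j
    fin_cases i <;> fin_cases j <;> simp [hneg]
  obtain ⟨φ, hφ⟩ := exists_map h2 ρ' (by rw [hΨu, hneg]) (by rw [hΨl, hneg])
    (fun a ha => by rw [hrel' a ha, hnegM]) hF
  refine ⟨h2R, E, (Cr.subtype).comp φ, hm, hone, fun c i j => ?_, fun g => ?_⟩
  · exact ((Subring.mem_centralizer_iff.1 (φ c).2) _ ⟨(i, j), rfl⟩).symm
  · conv_lhs => rw [hrec (ρ g)]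
    have e : ∀ i j, coef E i j (ρ g) = (φ (g.1 i j) : R) := fun i j => by
      rw [← hΨ]
      exact congrArg Subtype.val (congrFun (congrFun (hφ g) i) j)
    simp [e]

end Units

end CfsgLib.LocalEvenB.HigmanRing
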