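import Cfsg.Agent.Lib.Fusion.Transfer
import Mathlib.GroupTheory.SpecificGroups.Cyclic

/-!
The Thompson transfer lemma with an extremal conjugate, for an element of the subgroup generated by the elements
of odd order.
-/

set_option autoImplicit false
set_option linter.style.haveILetI false
set_option linter.unusedSectionVars false

namespace CfsgLib.LocalEvenB.HullExtremal

open Subgroup

variable {G : Type*} [Group G] [Finite G]

/-- An involution outside `T ⊴ S` with `S/T` cyclic has an extremal conjugate in `T`. -/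
theorem exists_extremal (S : Sylow 2 G) (T : Subgroup G) (hTS : T ≤ S)
    [hTn : (T.subgroupOf (S : Subgroup G)).Normal]
    (hcyc : IsCyclic (↥(S : Subgroup G) ⧸ T.subgroupOf (S : Subgroup G)))
    (y : G) (hy : orderOf y = 2) (hyH : y ∈ closure {g : G | Odd (orderOf g)}) :
    ∃ g : G, g * y * g⁻¹ ∈ T ∧
      ¬ 2 ∣ ((S : Subgroup G) ⊓ centralizer {g * y * g⁻¹}).relIndex (centralizer {g * y * g⁻¹}) ∧
      ((S : Subgroup G) ⊓ centralizer {y}).map (MulAut.conj g).toMonoidHom ≤
        (S : Subgroup G) ⊓ centralizer {g * y * g⁻¹} := by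
  classical
  haveI : Fact (Nat.Prime 2) := ⟨Nat.prime_two⟩
  have hy2 : y ^ 2 = 1 := orderOf_dvd_iff_pow_eq_one.mp hy.dvd
  set P : Subgroup G := (S : Subgroup G) with hP
  let A := P ⧸ T.subgroupOf P
  let _iA : CommGroup A :=
    { (inferInstance : Group A) with
      mul_comm := fun a b => IsCyclic.isMulCommutative.is_comm.comm a b }
  let φ : P →* A := QuotientGroup.mk' (T.subgroupOf P)
  have htr : MonoidHom.transfer φ y = 1 := by
    refine MonoidHom.mem_ker.mp ((closure_le _).2 (fun g hg => MonoidHom.mem_ker.2 ?_) hyH)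
    obtain ⟨m, hm⟩ := IsPGroup.iff_card.mp (S.2.to_quotient (T.subgroupOf P))
    refine orderOf_eq_one_iff.mp (Nat.eq_one_of_dvd_coprimes (a := orderOf g) (b := 2 ^ m)
      (Nat.Coprime.pow_right m (Nat.coprime_two_right.mpr hg)) (orderOf_map_dvd _ g) ?_)
    rw [← hm]
    exact orderOf_dvd_natCard _
  -- the fixed points whose representative conjugates `y` into `T`
  set F1 : Set (G ⧸ P) := {x | ∀ g : G, (g : G ⧸ P) = x → g⁻¹ * y * g ∈ T} with hF1
  have hrep : ∀ g : G, g⁻¹ * y * g ∈ T → (g : G ⧸ P) ∈ F1 := by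
    intro g hg g' hg'
    have hs : g'⁻¹ * g ∈ P := QuotientGroup.eq.mp hg'
    have h := hTn.conj_mem ⟨_, hTS hg⟩ hg ⟨_, hs⟩
    have e : g'⁻¹ * g * (g⁻¹ * y * g) * (g'⁻¹ * g)⁻¹ = g'⁻¹ * y * g' := by group
    rw [← e]; exact h
  haveI : Fintype (Quotient (MulAction.orbitRel (zpowers y) (G ⧸ P))) := Fintype.ofFinite _
  set k : Quotient (MulAction.orbitRel (zpowers y) (G ⧸ P)) → ℕ :=
    fun q => Function.minimalPeriod (y • ·) q.out with hk
  have hk2 : ∀ q, k q = 1 ∨ k q = 2 := fun q => by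
    refine (Nat.dvd_prime Nat.prime_two).mp (Function.IsPeriodicPt.minimalPeriod_dvd ?_)
    show y • y • q.out = q.out
    rw [smul_smul, ← sq, hy2, one_smul]
  -- the value at a fixed point squares to one
  set v : Quotient (MulAction.orbitRel (zpowers y) (G ⧸ P)) → A :=
    fun q => φ ⟨_, QuotientGroup.out_conj_pow_minimalPeriod_mem P y q.out⟩ with hv
  have hprod : ∏ q, v q = 1 := by
    rw [← htr, MonoidHom.transfer_eq_prod_quotient_orbitRel_zpowers_quot]
  have hv2 : ∀ q, v q * v q = 1 := fun q => by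
    rw [hv, ← map_mul, ← map_one φ]
    congr 1
    refine Subtype.ext ?_
    show (q.out.out⁻¹ * y ^ k q * q.out.out) * (q.out.out⁻¹ * y ^ k q * q.out.out) = 1
    calc _ = q.out.out⁻¹ * (y ^ k q * y ^ k q) * q.out.out := by group
      _ = 1 := by rw [← pow_add, ← two_mul, pow_mul, hy2, one_pow]; group
  have hvT : ∀ q, k q = 1 → (v q = 1 ↔ q.out ∈ F1) := fun q hq => by
    have h1 : v q = 1 ↔ q.out.out⁻¹ * y ^ k q * q.out.out ∈ T :=
      (QuotientGroup.eq_one_iff _).trans Iff.rfl
    rw [h1, hq, pow_one]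
    exact ⟨fun h => by simpa using hrep q.out.out h, fun h => h _ (QuotientGroup.out_eq' _)⟩
  -- parity
  haveI : Fintype A := Fintype.ofFinite _
  set B := Finset.univ.filter fun q => v q ≠ 1 with hB
  have hBeven : Even B.card := by
    by_cases hne : B = ∅
    · simp [hne]
    obtain ⟨q₀, hq₀⟩ := Finset.nonempty_iff_ne_empty.mpr hne
    have hq₀' : v q₀ ≠ 1 := (Finset.mem_filter.mp hq₀).2
    have huniq : ∀ q ∈ B, v q = v q₀ := by
      intro q hq
      have hq' : v q ≠ 1 := (Finset.mem_filter.mp hq).2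
      haveI : IsCyclic A := hcyc
      have hcard := IsCyclic.card_pow_eq_one_le (α := A) (n := 2) two_pos
      by_contra hne'
      have hsub : ({1, v q, v q₀} : Finset A) ⊆ Finset.univ.filter (fun a : A => a ^ 2 = 1) := by
        intro a ha
        simp only [Finset.mem_insert, Finset.mem_singleton] at ha
        simp only [Finset.mem_filter, Finset.mem_univ, true_and, sq]
        rcases ha with rfl | rfl | rfl <;> simp [hv2]
      have h3 : ({1, v q, v q₀} : Finset A).card = 3 := by
        simp [hne', Ne.symm hq', Ne.symm hq₀']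
      have := (Finset.card_le_card hsub).trans hcard
      omega
    have hp : ∏ q ∈ B, v q = 1 := by
      rw [hB, Finset.prod_filter_ne_one]; exact hprod
    rw [Finset.prod_congr rfl huniq, Finset.prod_const] at hp
    have hord : orderOf (v q₀) = 2 := orderOf_eq_prime (by rw [sq]; exact hv2 q₀) hq₀'
    exact even_iff_two_dvd.mpr (hord ▸ orderOf_dvd_of_pow_eq_one hp)
  have hBsub : ∀ q, v q ≠ 1 → k q = 1 := fun q hq => by
    refine (hk2 q).resolve_right fun h => hq ?_
    show φ _ = 1
    rw [← map_one φ]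
    congr 1
    refine Subtype.ext ?_
    show q.out.out⁻¹ * y ^ k q * q.out.out = 1
    rw [h, hy2]; group
  set C := Finset.univ.filter fun q => k q = 1 ∧ v q = 1 with hC
  have hsum : P.index = C.card + B.card + 2 * (Finset.univ.filter fun q => k q ≠ 1).card := by
    have h0 : P.index = ∑ q, k q := index_eq_sum_minimalPeriod P y
    rw [h0, ← Finset.sum_filter_add_sum_filter_not Finset.univ (fun q => k q = 1)]
    congr 1
    · rw [Finset.sum_congr rfl (fun q hq => (Finset.mem_filter.mp hq).2), Finset.sum_const, smul_eq_mul,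
        mul_one, ← Finset.card_union_of_disjoint]
      · congr 1
        ext q
        simp only [hC, hB, Finset.mem_filter, Finset.mem_univ, true_and, Finset.mem_union]
        constructor
        · intro h; by_cases h' : v q = 1 <;> simp [h, h']
        · rintro (h | h); exacts [h.1, hBsub q h]
      · rw [Finset.disjoint_left]
        intro q h1 h2
        exact (Finset.mem_filter.mp h2).2 (Finset.mem_filter.mp h1).2.2
    · rw [Finset.sum_congr rfl (fun q hq => (hk2 q).resolve_left (Finset.mem_filter.mp hq).2),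
        Finset.sum_const, smul_eq_mul, mul_comm]
  have hCodd : Odd C.card := by
    have h1 : Odd P.index := Nat.odd_iff.mpr (by have := S.not_dvd_index; rw [← hP] at this; omega)
    rw [hsum] at h1
    simp only [Nat.odd_add, Nat.even_mul, even_two, true_or, iff_true] at h1
    exact h1.mpr hBeven
  have hF1fix : ∀ x ∈ F1, ∀ z : zpowers y, z • x = x := by
    intro x hx z
    obtain ⟨g, rfl⟩ := QuotientGroup.mk_surjective x
    have hg := hTS (hx g rfl)
    obtain ⟨n, hn⟩ := mem_zpowers_iff.mp z.2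
    show ((z : G) • (g : G ⧸ P)) = _
    rw [MulAction.Quotient.smul_mk, smul_eq_mul, QuotientGroup.eq, ← hn]
    have e : ((y ^ n) * g)⁻¹ * g = (g⁻¹ * y * g) ^ (-n) := by
      rw [show g⁻¹ * y * g = g⁻¹ * y * (g⁻¹)⁻¹ by group, conj_zpow]; group
    rw [e]; exact P.zpow_mem hg _
  have hF1card : Nat.card F1 = C.card := by
    rw [← Fintype.card_coe, ← Nat.card_eq_fintype_card]
    refine Nat.card_congr
      { toFun := fun x => ⟨Quotient.mk'' (x : G ⧸ P), ?_⟩
        invFun := fun q => ⟨(q : Quotient (MulAction.orbitRel (zpowers y) (G ⧸ P))).out, ?_⟩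
        left_inv := fun x => ?_
        right_inv := fun q => Subtype.ext (Quotient.out_eq' _) }
    · have hout : (Quotient.mk'' (x : G ⧸ P) : Quotient (MulAction.orbitRel (zpowers y) (G ⧸ P))).out =
          (x : G ⧸ P) := by
        have h : (Quotient.mk'' (x : G ⧸ P) : Quotient (MulAction.orbitRel (zpowers y) (G ⧸ P))).out ∈
            MulAction.orbit (zpowers y) (x : G ⧸ P) :=
          MulAction.orbitRel_apply.mp (Quotient.exact' (Quotient.out_eq' _))
        obtain ⟨z, hz⟩ := h
        rw [← hz]; exact hF1fix _ x.2 z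
      have hk1 : k (Quotient.mk'' (x : G ⧸ P)) = 1 := by
        refine Function.minimalPeriod_eq_one_iff_isFixedPt.mpr ?_
        rw [hout]
        exact hF1fix _ x.2 ⟨y, mem_zpowers y⟩
      simp only [hC, Finset.mem_filter, Finset.mem_univ, true_and]
      exact ⟨hk1, (hvT _ hk1).mpr (by rw [hout]; exact x.2)⟩
    · have h := (Finset.mem_filter.mp q.2).2
      exact (hvT _ h.1).mp h.2
    · refine Subtype.ext ?_
      have h : (Quotient.mk'' (x : G ⧸ P) : Quotient (MulAction.orbitRel (zpowers y) (G ⧸ P))).out ∈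
          MulAction.orbit (zpowers y) (x : G ⧸ P) :=
        MulAction.orbitRel_apply.mp (Quotient.exact' (Quotient.out_eq' _))
      obtain ⟨z, hz⟩ := h
      exact hz.symm.trans (hF1fix _ x.2 z)
  -- a Sylow subgroup of `C(y)` over `C_S(y)`
  set Cy := centralizer ({y} : Set G) with hCy
  obtain ⟨U, hU⟩ := ((S.2.to_le (inf_le_left : P ⊓ Cy ≤ P)).comap_of_injective Cy.subtype
    Cy.subtype_injective).exists_le_sylow
  have hinv : ∀ (u : Cy) (x : G ⧸ P), x ∈ F1 → (u : G) • x ∈ F1 := by
    intro u x hx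
    obtain ⟨g, rfl⟩ := QuotientGroup.mk_surjective x
    refine hrep ((u : G) * g) ?_
    have hc : y * (u : G) = (u : G) * y := (mem_centralizer_singleton_iff.mp u.2).symm
    rw [show ((u : G) * g)⁻¹ * y * ((u : G) * g) = g⁻¹ * ((u : G)⁻¹ * (y * u)) * g by group, hc,
      inv_mul_cancel_left]
    exact hx g rfl
  let _act : MulAction U F1 :=
    { smul := fun u x => ⟨((u : Cy) : G) • (x : G ⧸ P), hinv u x x.2⟩
      one_smul := fun x => Subtype.ext (one_smul G (x : G ⧸ P))
      mul_smul := fun u w x => Subtype.ext (mul_smul ((u : Cy) : G) ((w : Cy) : G) (x : G ⧸ P)) }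
  have hfix := U.2.card_modEq_card_fixedPoints F1
  obtain ⟨⟨x, hxF⟩, hx⟩ : ∃ x : F1, x ∈ MulAction.fixedPoints U F1 := by
    by_contra hno
    push Not at hno
    have h0 : Nat.card (MulAction.fixedPoints U F1) = 0 := by
      rw [Nat.card_eq_zero]; exact Or.inl ⟨fun z => hno z z.2⟩
    rw [h0, hF1card] at hfix
    exact Nat.not_even_iff_odd.mpr hCodd (Nat.even_iff.mpr hfix)
  obtain ⟨g, rfl⟩ := QuotientGroup.mk_surjective x
  have hyT : g⁻¹ * y * g ∈ T := hxF g rfl
  have hUS : ∀ u : Cy, u ∈ (U : Subgroup Cy) → g⁻¹ * (u : G) * g ∈ P := by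
    intro u hu
    have h := congrArg Subtype.val (hx ⟨u, hu⟩)
    have h' : ((u : G) • (g : G ⧸ P)) = (g : G ⧸ P) := h
    rw [MulAction.Quotient.smul_mk, smul_eq_mul, QuotientGroup.eq] at h'
    have := inv_mem h'
    simpa [mul_assoc] using this
  refine ⟨g⁻¹, by rwa [inv_inv], ?_, ?_⟩
  · rw [inv_inv]
    set y' := g⁻¹ * y * g
    set ψ := (MulAut.conj g⁻¹).toMonoidHom
    have hle : ((U : Subgroup Cy).map Cy.subtype).map ψ ≤ P ⊓ centralizer {y'} := by
      rintro _ ⟨_, ⟨u, hu, rfl⟩, rfl⟩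
      refine ⟨by simpa [ψ] using hUS u hu, mem_centralizer_singleton_iff.mpr ?_⟩
      have hc : (u : G) * y = y * u := mem_centralizer_singleton_iff.mp u.2
      show g⁻¹ * (u : G) * g⁻¹⁻¹ * (g⁻¹ * y * g) = g⁻¹ * y * g * (g⁻¹ * (u : G) * g⁻¹⁻¹)
      calc g⁻¹ * (u : G) * g⁻¹⁻¹ * (g⁻¹ * y * g) = g⁻¹ * ((u : G) * y) * g := by group
        _ = g⁻¹ * (y * u) * g := by rw [hc]
        _ = _ := by group
    have hmap : Cy.map ψ = centralizer {y'} := by
      refine le_antisymm ?_ ?_
      · rintro _ ⟨u, hu, rfl⟩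
        have hc : u * y = y * u := mem_centralizer_singleton_iff.mp hu
        rw [mem_centralizer_singleton_iff]
        show g⁻¹ * u * g⁻¹⁻¹ * (g⁻¹ * y * g) = g⁻¹ * y * g * (g⁻¹ * u * g⁻¹⁻¹)
        calc g⁻¹ * u * g⁻¹⁻¹ * (g⁻¹ * y * g) = g⁻¹ * (u * y) * g := by group
          _ = g⁻¹ * (y * u) * g := by rw [hc]
          _ = _ := by group
      · intro w hw
        refine ⟨g * w * g⁻¹, ?_, by simp [ψ, mul_assoc]⟩
        have hc : w * y' = y' * w := mem_centralizer_singleton_iff.mp hw
        rw [SetLike.mem_coe, mem_centralizer_singleton_iff]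
        calc g * w * g⁻¹ * y = g * (w * (g⁻¹ * y * g)) * g⁻¹ := by group
          _ = g * ((g⁻¹ * y * g) * w) * g⁻¹ := by rw [hc]
          _ = y * (g * w * g⁻¹) := by group
    intro hd
    refine U.not_dvd_index (hd.trans ?_)
    refine (relIndex_dvd_of_le_left _ hle).trans (dvd_of_eq ?_)
    rw [← hmap, relIndex_map_map_of_injective _ _ (MulAut.conj g⁻¹).injective, relIndex, subgroupOf,
      comap_map_eq_self_of_injective Cy.subtype_injective]
  · rintro _ ⟨s, hs, rfl⟩
    refine ⟨by simpa using hUS ⟨s, hs.2⟩ (hU hs), mem_centralizer_singleton_iff.mpr ?_⟩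
    have hc : s * y = y * s := mem_centralizer_singleton_iff.mp hs.2
    rw [inv_inv]
    show g⁻¹ * s * g⁻¹⁻¹ * (g⁻¹ * y * g) = g⁻¹ * y * g * (g⁻¹ * s * g⁻¹⁻¹)
    calc g⁻¹ * s * g⁻¹⁻¹ * (g⁻¹ * y * g) = g⁻¹ * (s * y) * g := by group
      _ = g⁻¹ * (y * s) * g := by rw [hc]
      _ = _ := by group

end CfsgLib.LocalEvenB.HullExtremal
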