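import Cfsg.Prelude.Def_IsolatedElements
import Cfsg.Prelude.Def_CaseTheorems
import Cfsg.Agent.Lib.Fusion.Alperin
import Cfsg.Agent.Lib.OddOrder.FixedPointFree
import Cfsg.Agent.Lib.Solvable.Cores

/-!
Isolated `p`-elements: centrality in `p`-subgroups, quotients, the cyclic Sylow case.
-/

set_option autoImplicit false
set_option linter.unusedSectionVars false

namespace CfsgLib.LocalEvenB.Isolated

open Cfsg

variable {G : Type*} [Group G] [Finite G] {p : ℕ} [Fact p.Prime]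

theorem le_centralizer {x : G} (hiso : IsIsolated x) {R : Subgroup G} (hR : IsPGroup p R)
    (hx : x ∈ R) : R ≤ Subgroup.centralizer ({x} : Set G) := by
  by_contra hcon
  set C := R ⊓ Subgroup.centralizer ({x} : Set G)
  have hCR : C < R := lt_of_le_of_ne inf_le_left fun h => hcon (inf_eq_left.mp h)
  haveI := hR.isNilpotent
  have hlt := Group.normalizerCondition_of_isNilpotent (C.subgroupOf R)
    (lt_top_iff_ne_top.mpr fun h => hCR.ne (le_antisymm hCR.le (Subgroup.subgroupOf_eq_top.mp h)))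
  obtain ⟨⟨u, hu⟩, huN, huC⟩ := SetLike.exists_of_lt hlt
  have hxC : x ∈ C := Subgroup.mem_inf.mpr ⟨hx, Subgroup.mem_centralizer_singleton_iff.mpr rfl⟩
  have hmem : u * x * u⁻¹ ∈ C := (Subgroup.mem_normalizer_iff.mp huN ⟨x, hx⟩).mp hxC
  have hc : Commute x (u * x * u⁻¹) :=
    (Subgroup.mem_centralizer_singleton_iff.mp (Subgroup.mem_inf.mp hmem).2).symm
  refine huC (Subgroup.mem_inf.mpr ⟨hu, Subgroup.mem_centralizer_singleton_iff.mpr ?_⟩)
  calc u * x = u * x * u⁻¹ * u := by group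
    _ = x * u := by rw [hiso u hc]

theorem normalizer_le {x : G} (hiso : IsIsolated x) {R : Subgroup G} (hR : IsPGroup p R)
    (hx : x ∈ R) : Subgroup.normalizer (R : Set G) ≤ Subgroup.centralizer ({x} : Set G) := by
  intro n hn
  have hmem := (Subgroup.mem_normalizer_iff.mp hn x).mp hx
  have := hiso n (Subgroup.mem_centralizer_singleton_iff.mp (le_centralizer hiso hR hx hmem)).symm
  rw [Subgroup.mem_centralizer_singleton_iff]
  calc n * x = n * x * n⁻¹ * n := by group
    _ = x * n := by rw [this]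

/-- A conjugate of `x` in a subgroup is conjugate to `x` inside it. -/
theorem exists_conj {x : G} (hx : ∃ k : ℕ, orderOf x = p ^ k) (hiso : IsIsolated x) {H : Subgroup G}
    (hxH : x ∈ H) {g : G} (hg : g * x * g⁻¹ ∈ H) :
    ∃ h ∈ H, h * (g * x * g⁻¹) * h⁻¹ = x := by
  obtain ⟨k, hk⟩ := hx
  have hp1 : IsPGroup p (Subgroup.zpowers (⟨x, hxH⟩ : H)) :=
    IsPGroup.of_card (n := k) (by rw [Nat.card_zpowers, Subgroup.orderOf_mk, hk])
  have hp2 : IsPGroup p (Subgroup.zpowers (⟨g * x * g⁻¹, hg⟩ : H)) :=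
    IsPGroup.of_card (n := k) (by
      rw [Nat.card_zpowers, Subgroup.orderOf_mk,
        show g * x * g⁻¹ = (MulAut.conj g) x from rfl, MulEquiv.orderOf_eq, hk])
  obtain ⟨P, hP⟩ := hp1.exists_le_sylow
  obtain ⟨Q, hQ⟩ := hp2.exists_le_sylow
  obtain ⟨h, hh⟩ := MulAction.exists_smul_eq H Q P
  refine ⟨h, h.2, ?_⟩
  have h1 : h * ⟨g * x * g⁻¹, hg⟩ * h⁻¹ ∈ (P : Subgroup H) := by
    rw [← hh]
    exact ⟨⟨g * x * g⁻¹, hg⟩, hQ (Subgroup.mem_zpowers _), rfl⟩
  have hPp : IsPGroup p ((P : Subgroup H).map H.subtype) := P.isPGroup'.map _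
  have hxm : x ∈ (P : Subgroup H).map H.subtype :=
    ⟨⟨x, hxH⟩, hP (Subgroup.mem_zpowers _), rfl⟩
  have h2 := Subgroup.mem_centralizer_singleton_iff.mp (le_centralizer hiso hPp hxm ⟨_, h1, rfl⟩)
  have h3 : (h : G) * (g * x * g⁻¹) * (h : G)⁻¹ = ((h : G) * g) * x * ((h : G) * g)⁻¹ := by group
  rw [h3]
  refine hiso _ ?_
  rw [← h3]
  exact h2.symm

theorem stronglyClosed_step {x : G} (hx : ∃ k : ℕ, orderOf x = p ^ k) (hiso : IsIsolated x)
    (P : Sylow p G) (hxP : x ∈ (P : Subgroup G)) {y : G} (hy : y ∈ Subgroup.zpowers x) {g : G}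
    (hg : g * y * g⁻¹ ∈ (P : Subgroup G)) : g * y * g⁻¹ = y := by
  obtain ⟨m, rfl⟩ := hy
  set H := Subgroup.centralizer ({g * x ^ m * g⁻¹} : Set G)
  have hxH : x ∈ H := Subgroup.mem_centralizer_singleton_iff.mpr
    (Subgroup.mem_centralizer_singleton_iff.mp (le_centralizer hiso P.isPGroup' hxP hg)).symm
  have hgH : g * x * g⁻¹ ∈ H := Subgroup.mem_centralizer_singleton_iff.mpr (by group)
  obtain ⟨h, hh, he⟩ := exists_conj hx hiso hxH hgH
  have hh' := Subgroup.mem_centralizer_singleton_iff.mp hh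
  have h4 : (MulAut.conj h) (g * x ^ m * g⁻¹) = x ^ m := by
    rw [← MulAut.conj_apply, map_zpow, map_zpow]
    exact congrArg (· ^ m) he
  rw [MulAut.conj_apply, hh', mul_assoc, mul_inv_cancel, mul_one] at h4
  exact h4

theorem isolated_quotient {x : G} (hx : ∃ k : ℕ, orderOf x = p ^ k) (hiso : IsIsolated x)
    (N : Subgroup G) [N.Normal] : IsIsolated (QuotientGroup.mk x : G ⧸ N) := by
  intro q hq
  obtain ⟨g, rfl⟩ := QuotientGroup.mk_surjective q
  set f := QuotientGroup.mk' N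
  change Commute (f x) (f g * f x * (f g)⁻¹) at hq
  show f g * f x * (f g)⁻¹ = f x
  rw [← map_inv, ← map_mul, ← map_mul] at hq ⊢
  set H := (Subgroup.centralizer ({f x, f (g * x * g⁻¹)} : Set (G ⧸ N))).comap f ⊓
    (Subgroup.centralizer ({f x, f (g * x * g⁻¹)} : Set (G ⧸ N)) |> fun C =>
      (Subgroup.centralizer (C : Set (G ⧸ N))).comap f)
  have hmem : ∀ a : G, (f a = f x ∨ f a = f (g * x * g⁻¹)) → a ∈ H := by
    intro a ha
    refine Subgroup.mem_inf.mpr ⟨?_, ?_⟩
    · intro z hz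
      rcases hz with rfl | rfl <;> rcases ha with e | e <;> rw [e]
      · exact hq.eq
      · exact hq.symm.eq
    · intro c hc
      rcases ha with e | e <;> rw [e]
      · exact (hc _ (Or.inl rfl)).symm
      · exact (hc _ (Or.inr rfl)).symm
  obtain ⟨h, hh, he⟩ := exists_conj hx hiso (hmem x (Or.inl rfl)) (hmem _ (Or.inr rfl))
  have hc : f (g * x * g⁻¹) * f h = f h * f (g * x * g⁻¹) :=
    (Subgroup.mem_inf.mp hh).1 _ (Or.inr rfl)
  calc f (g * x * g⁻¹) = f h * f (g * x * g⁻¹) * (f h)⁻¹ := by rw [← hc]; group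
    _ = f x := by rw [← map_inv, ← map_mul, ← map_mul, he]

/-- An automorphism of `p'`-order of a cyclic `p`-group fixing a non-trivial element is trivial. -/
theorem centralizes_of_cyclic {P : Subgroup G} (hP : IsPGroup p P) [IsCyclic P] {x n : G}
    (hxP : x ∈ P) (hx1 : x ≠ 1) (hn : n ∈ Subgroup.normalizer (P : Set G))
    (hcop : (orderOf n).Coprime p) (hfix : n * x = x * n) :
    n ∈ Subgroup.centralizer (P : Set G) := by
  obtain ⟨⟨u, hu⟩, hgen⟩ := IsCyclic.exists_zpow_surjective (G := P)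
  have hgen' : ∀ y ∈ P, ∃ j : ℤ, u ^ j = y := fun y hy => by
    obtain ⟨j, hj⟩ := hgen ⟨y, hy⟩
    exact ⟨j, by simpa using congrArg Subtype.val hj⟩
  obtain ⟨r, hr⟩ := hgen' _ ((Subgroup.mem_normalizer_iff.mp hn u).mp hu)
  have hconj : ∀ j : ℤ, n * u ^ j * n⁻¹ = u ^ (r * j) := fun j => by
    rw [zpow_mul, hr, conj_zpow]
  obtain ⟨a, ha⟩ := IsPGroup.iff_orderOf.mp hP ⟨u, hu⟩
  rw [Subgroup.orderOf_mk] at ha
  obtain ⟨m, hm⟩ := hgen' x hxP
  have h1 : n * x * n⁻¹ = x := by rw [hfix]; group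
  rw [← hm, hconj, zpow_eq_zpow_iff_modEq, Int.modEq_comm, Int.modEq_iff_dvd, ha] at h1
  have hnd : ¬ ((p : ℤ) ^ a ∣ m) := fun hd => hx1 <| by
    rw [← hm]; exact orderOf_dvd_iff_zpow_eq_one.mp (by rw [ha]; exact_mod_cast hd)
  have hr1 : (p : ℤ) ∣ r - 1 := by
    by_contra hnp
    refine hnd ?_
    have hcop' : IsCoprime ((p : ℤ) ^ a) (r - 1) :=
      ((Nat.prime_iff_prime_int.mp (Fact.out : p.Prime)).coprime_iff_not_dvd.mpr hnp).pow_left
    refine hcop'.dvd_of_dvd_mul_left ?_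
    have : r * m - m = (r - 1) * m := by ring
    push_cast at h1
    rwa [this] at h1
  have hpow : ∀ i : ℕ, n ^ i * u * (n ^ i)⁻¹ = u ^ (r ^ i) := by
    intro i
    induction i with
    | zero => simp
    | succ i ih =>
      calc n ^ (i + 1) * u * (n ^ (i + 1))⁻¹ = n * (n ^ i * u * (n ^ i)⁻¹) * n⁻¹ := by group
        _ = u ^ (r ^ (i + 1)) := by rw [ih, hconj, pow_succ', ]
  have hdvd : ((p : ℤ) ^ a) ∣ r ^ (p ^ a) - 1 := by
    refine dvd_trans (pow_dvd_pow _ (Nat.le_succ a)) ?_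
    have := dvd_sub_pow_of_dvd_sub (p := p) (a := r) (b := 1) hr1 a
    simpa using this
  have hfixu : n ^ (p ^ a) * u * (n ^ (p ^ a))⁻¹ = u := by
    rw [hpow]
    conv_rhs => rw [← zpow_one u]
    rw [zpow_eq_zpow_iff_modEq, Int.modEq_comm, Int.modEq_iff_dvd, ha]
    push_cast; exact hdvd
  have hmem : n ∈ Subgroup.zpowers (n ^ (p ^ a)) := by
    obtain ⟨i, hi⟩ := exists_pow_eq_self_of_coprime (hcop.pow_right a).symm
    exact ⟨i, (zpow_natCast _ _).trans hi⟩
  intro y hy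
  obtain ⟨j, rfl⟩ := hgen' y hy
  have hcu : Commute (n ^ (p ^ a)) u := by
    show n ^ (p ^ a) * u = u * n ^ (p ^ a)
    calc n ^ (p ^ a) * u = n ^ (p ^ a) * u * (n ^ (p ^ a))⁻¹ * n ^ (p ^ a) := by group
      _ = _ := by rw [hfixu]
  obtain ⟨i, hi⟩ := hmem
  have hnu : Commute n u := by rw [← hi]; exact hcu.zpow_left i
  exact hnu.symm.zpow_left j

theorem npc_of_cyclic {x : G} (hx : ∃ k : ℕ, orderOf x = p ^ k) (hiso : IsIsolated x) (hx1 : x ≠ 1)
    (hcyc : ∀ P : Sylow p G, IsCyclic (P : Subgroup G)) : HasNormalPComplement p G := by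
  obtain ⟨k, hk⟩ := hx
  obtain ⟨P, hP⟩ := (IsPGroup.of_card (p := p) (n := k)
    (by rw [Nat.card_zpowers, hk] : Nat.card (Subgroup.zpowers x) = p ^ k)).exists_le_sylow
  haveI := hcyc P
  have hab : IsMulCommutative (P : Subgroup G) := ⟨⟨IsCyclic.commGroup.mul_comm⟩⟩
  refine Fusion.Transfer.npc_of_controls_self P fun y hy g hg => ?_
  obtain ⟨n, hn, he⟩ := Fusion.Transfer.controls_normalizer_of_comm P hab y hy g hg
  refine ⟨1, one_mem _, ?_⟩
  rw [one_mul, inv_one, mul_one, ← he]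
  obtain ⟨j, hj⟩ := Fusion.Basic.exists_pow_coprime (p := p) n
  have hxP := hP (Subgroup.mem_zpowers x)
  have hNx := normalizer_le hiso P.isPGroup' hxP
  set M := Subgroup.normalizer ((P : Subgroup G) : Set G)
  have hC : n ^ (p ^ j) ∈ Subgroup.centralizer ((P : Subgroup G) : Set G) :=
    centralizes_of_cyclic P.isPGroup' hxP hx1 (pow_mem hn _) hj
      (Subgroup.mem_centralizer_singleton_iff.mp (hNx (pow_mem hn _)))
  set C' := (Subgroup.centralizer ((P : Subgroup G) : Set G)).subgroupOf M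
  haveI : C'.Normal := ⟨fun c hc m => Subgroup.mem_subgroupOf.mpr fun z hz => by
    have hz' : (m : G)⁻¹ * z * m ∈ (P : Subgroup G) :=
      (Subgroup.mem_normalizer_iff''.mp m.2 z).mp hz
    have := Subgroup.mem_subgroupOf.mp hc _ hz'
    simp only [Subgroup.coe_mul, Subgroup.coe_inv]
    calc z * ((m : G) * c * (m : G)⁻¹) = m * (((m : G)⁻¹ * z * m) * c) * (m : G)⁻¹ := by group
      _ = m * (c * ((m : G)⁻¹ * z * m)) * (m : G)⁻¹ := by rw [this]
      _ = _ := by group⟩
  have hidx : ¬ p ∣ C'.index := fun hd => by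
    have hle : (P : Subgroup G).subgroupOf M ≤ C' := fun z hz => Subgroup.mem_subgroupOf.mpr
      fun w hw => congrArg Subtype.val (hab.is_comm.comm (⟨w, hw⟩ : (P : Subgroup G)) ⟨z, hz⟩)
    have := hd.trans (Subgroup.index_dvd_of_le hle)
    exact P.not_dvd_index (this.trans (Subgroup.relIndex_dvd_index_of_le Subgroup.le_normalizer))
  have hmem : (⟨n, hn⟩ : M) ∈ C' := by
    have h2 : (⟨n, hn⟩ : M) ^ (p ^ j) ∈ C' := Subgroup.mem_subgroupOf.mpr hC
    have h3 := C'.pow_index_mem ⟨n, hn⟩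
    have hg : Nat.gcd (p ^ j) C'.index = 1 :=
      ((Fact.out : p.Prime).coprime_iff_not_dvd.mpr hidx).pow_left j
    have := Nat.gcd_eq_gcd_ab (p ^ j) C'.index
    rw [hg] at this
    have h4 : (⟨n, hn⟩ : M) = ((⟨n, hn⟩ : M) ^ (p ^ j)) ^ (Nat.gcdA (p ^ j) C'.index) *
        ((⟨n, hn⟩ : M) ^ C'.index) ^ (Nat.gcdB (p ^ j) C'.index) := by
      rw [← zpow_natCast, ← zpow_natCast _ C'.index, ← zpow_mul, ← zpow_mul, ← zpow_add, ← this,
        Nat.cast_one, zpow_one]
    rw [h4]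
    exact mul_mem (zpow_mem h2 _) (zpow_mem h3 _)
  rw [← Subgroup.mem_subgroupOf.mp hmem y hy]; group

theorem inZStar_of_rank_one (hp : p ≠ 2) (hrk : PRankLE p 1 G) {x : G} (hx : orderOf x = p)
    (hiso : IsIsolated x) : InZStar p x := by
  have hcyc : ∀ P : Sylow p G, IsCyclic (P : Subgroup G) := by
    intro P
    rcases subsingleton_or_nontrivial (P : Subgroup G) with h | h
    · exact isCyclic_of_subsingleton
    have hc : ∀ z ∈ Subgroup.center (P : Subgroup G), z ≠ 1 → z ^ p = 1 → ∀ y : (P : Subgroup G),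
        y ^ p = 1 → y ∈ Subgroup.zpowers z := by
      intro z hz hz1 hzp y hyp
      by_contra hy
      set E := Subgroup.zpowers (z : G) ⊔ Subgroup.zpowers (y : G)
      have hcomm : Commute (z : G) (y : G) :=
        congrArg Subtype.val (Subgroup.mem_center_iff.mp hz y).symm
      have hE : E ≤ Subgroup.centralizer ({(z : G), (y : G)} : Set G) := by
        refine sup_le ?_ ?_ <;> refine Subgroup.zpowers_le.mpr ?_ <;> intro w hw <;>
          rcases hw with rfl | rfl
        · rfl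
        · exact hcomm.symm.eq
        · exact hcomm.eq
        · rfl
      have hab : E ≤ Subgroup.centralizer (E : Set G) :=
        Subgroup.le_centralizer_iff.mp (sup_le
          (Subgroup.zpowers_le.mpr fun w hw => ((hE hw) _ (Or.inl rfl)).symm)
          (Subgroup.zpowers_le.mpr fun w hw => ((hE hw) _ (Or.inr rfl)).symm))
      have hpow : ∀ w ∈ E, w ^ p = 1 := by
        intro w hw
        obtain ⟨s, ⟨i, rfl⟩, t, ⟨j, rfl⟩, rfl⟩ :
            ∃ s ∈ Subgroup.zpowers (z : G), ∃ t ∈ Subgroup.zpowers (y : G), s * t = w := by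
          have hn : Subgroup.zpowers (y : G) ≤ Subgroup.normalizer (Subgroup.zpowers (z : G) : Set G) :=
            le_sup_right.trans ((hab.trans (Subgroup.centralizer_le
              (SetLike.coe_subset_coe.mpr le_sup_left))).trans (Subgroup.centralizer_le_normalizer _))
          have hw' : w ∈ ((Subgroup.zpowers (z : G) ⊔ Subgroup.zpowers (y : G) : Subgroup G) : Set G) := hw
          rw [Subgroup.coe_mul_of_right_le_normalizer_left _ _ hn] at hw'
          exact Set.mem_mul.mp hw'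
        have hzp' : (z : G) ^ p = 1 := by simpa using congrArg Subtype.val hzp
        have hyp' : (y : G) ^ p = 1 := by simpa using congrArg Subtype.val hyp
        rw [(hcomm.zpow_zpow i j).mul_pow, ← zpow_natCast, ← zpow_natCast ((y : G) ^ j), ← zpow_mul,
          ← zpow_mul, mul_comm i, mul_comm j, zpow_mul, zpow_mul, zpow_natCast, zpow_natCast, hzp',
          hyp', one_zpow, one_zpow, one_mul]
      have hcard := hrk E ⟨⟨fun u v => Subtype.ext (hab v.2 u u.2)⟩⟩ hpow
      rw [pow_one] at hcard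
      have hzord : orderOf (z : G) = p := by
        rw [Subgroup.orderOf_coe]; exact orderOf_eq_prime hzp hz1
      have heq : Subgroup.zpowers (z : G) = E :=
        Subgroup.eq_of_le_of_card_ge le_sup_left (by rwa [Nat.card_zpowers, hzord])
      have hyE : (y : G) ∈ Subgroup.zpowers (z : G) := heq ▸ Subgroup.mem_sup_right (Subgroup.mem_zpowers _)
      obtain ⟨i, hi⟩ := hyE
      exact hy ⟨i, Subtype.ext (by simpa using hi)⟩
    haveI := P.isPGroup'.center_nontrivial
    obtain ⟨⟨z, hz⟩, hzord⟩ := exists_prime_orderOf_dvd_card' (G := Subgroup.center (P : Subgroup G)) p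
      (((P.isPGroup'.to_subgroup _).nontrivial_iff_card.mp inferInstance).elim fun n hn =>
        hn.2 ▸ dvd_pow_self p hn.1.ne')
    rw [Subgroup.orderOf_mk] at hzord
    have hz1 : z ≠ 1 := fun h => (Fact.out : p.Prime).ne_one (by rw [← hzord, h, orderOf_one])
    have hzp : z ^ p = 1 := orderOf_dvd_iff_pow_eq_one.mp hzord.dvd
    refine OddOrder.FixedPointFree.isCyclic_of_unique_order_p hp P.isPGroup' fun u v hu hv hu1 => ?_
    have h1 : u ∈ Subgroup.zpowers z := hc z hz hz1 hzp u hu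
    have hle : Subgroup.zpowers u = Subgroup.zpowers z :=
      Subgroup.eq_of_le_of_card_ge (Subgroup.zpowers_le.mpr h1)
        (by rw [Nat.card_zpowers, Nat.card_zpowers, hzord, orderOf_eq_prime hu hu1])
    exact hle ▸ hc z hz hz1 hzp v hv
  have hnpc := npc_of_cyclic ⟨1, by rw [hx, pow_one]⟩ hiso
    (fun h => (Fact.out : p.Prime).ne_one (by rw [← hx, h, orderOf_one])) hcyc
  have hle : pResidual p G ≤ pPrimeCore p G :=
    le_sSup ⟨inferInstance, Fusion.Basic.npc_iff_coprime.mp hnpc⟩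
  intro g
  refine hle ?_
  obtain ⟨P⟩ : Nonempty (Sylow p G) := inferInstance
  haveI := hcyc P
  obtain ⟨w, hw, u, hu, rfl⟩ := Fusion.Basic.exists_eq_pResidual_mul P g
  obtain ⟨w', hw', u', hu', rfl⟩ := Fusion.Basic.exists_eq_pResidual_mul P x
  rw [← QuotientGroup.eq_one_iff, QuotientGroup.mk_mul, QuotientGroup.mk_mul, QuotientGroup.mk_mul,
    QuotientGroup.mk_inv, QuotientGroup.mk_inv, QuotientGroup.mk_mul, QuotientGroup.mk_mul,
    (QuotientGroup.eq_one_iff w).mpr hw, (QuotientGroup.eq_one_iff w').mpr hw', one_mul, one_mul]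
  have hcm : u * u' = u' * u :=
    congrArg Subtype.val (IsCyclic.commGroup.mul_comm (⟨u, hu⟩ : (P : Subgroup G)) ⟨u', hu'⟩)
  rw [← QuotientGroup.mk_inv, ← QuotientGroup.mk_inv, ← QuotientGroup.mk_mul, ← QuotientGroup.mk_mul,
    ← QuotientGroup.mk_mul, hcm]
  simp

end CfsgLib.LocalEvenB.Isolated
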