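import Cfsg.Prelude.Def_LocalEven
import Cfsg.Agent.Lib.LocalEven.Residual
import Cfsg.Agent.Lib.LocalEven.Commutators
import Cfsg.Agent.Lib.Components.GenFitting
import Cfsg.Agent.Lib.Coprime.Sylow
import Cfsg.Agent.Lib.Fusion.Basic
import Cfsg.Agent.Lib.Solvable.FrattiniFitting
import Cfsg.Agent.S2790

/-!
Isolated `p`-minimal subgroups: the normal closure of `O^p(P)` modulo `O_p(G)`.
-/

set_option autoImplicit false
set_option linter.style.haveILetI false
set_option linter.unusedSectionVars false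

namespace CfsgLib.LocalEvenB.IsolatedMinimal

open Cfsg Subgroup CfsgLib.Solvable CfsgLib.Components
open scoped commutatorElement Pointwise

variable {G : Type*} [Group G] [Finite G] {p : ℕ} [Fact p.Prime]

/-- Elements of order prime to `p` of `N S` lie in `N`. -/
theorem mem_of_coprime_sup {N S : Subgroup G} (hS : IsPGroup p S)
    (hn : S ≤ normalizer (N : Set G)) {g : G} (hg : g ∈ N ⊔ S) (hc : (orderOf g).Coprime p) :
    g ∈ N := by
  set M := N ⊔ S
  haveI : (N.subgroupOf M).Normal :=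
    (normal_subgroupOf_iff_le_normalizer le_sup_left).mpr (sup_le le_normalizer hn)
  set f := QuotientGroup.mk' (N.subgroupOf M)
  have hq : ∃ k : ℕ, f ⟨g, hg⟩ ^ p ^ k = 1 := by
    obtain ⟨s, hs, n, hn', e⟩ := exists_mul_of_mem_sup hn (by rwa [sup_comm] : g ∈ S ⊔ N)
    obtain ⟨k, hk⟩ := hS ⟨s, hs⟩
    refine ⟨k, ?_⟩
    have h1 : (⟨g, hg⟩ : M) = ⟨s, mem_sup_right hs⟩ * ⟨n, mem_sup_left hn'⟩ := Subtype.ext e.symm
    have h2 : f ⟨n, mem_sup_left hn'⟩ = 1 := (QuotientGroup.eq_one_iff _).mpr hn'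
    rw [h1, map_mul, h2, mul_one, ← map_pow,
      show (⟨s, mem_sup_right hs⟩ : M) ^ p ^ k = 1 from Subtype.ext (by simpa using congrArg Subtype.val hk),
      map_one]
  obtain ⟨k, hk⟩ := hq
  have h1 : orderOf (f ⟨g, hg⟩) = 1 := Nat.eq_one_of_dvd_coprimes (hc.pow_right k)
    ((orderOf_map_dvd f _).trans (orderOf_mk g hg).dvd) (orderOf_dvd_iff_pow_eq_one.mpr hk)
  exact (QuotientGroup.eq_one_iff (⟨g, hg⟩ : M)).mp (orderOf_eq_one_iff.mp h1)

theorem le_of_le_sup {A N S : Subgroup G} (hA : A ≤ closure {g | g ∈ A ∧ (orderOf g).Coprime p})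
    (hS : IsPGroup p S) (hn : S ≤ normalizer (N : Set G)) (h : A ≤ N ⊔ S) : A ≤ N :=
  hA.trans ((closure_le _).mpr fun _ hg => mem_of_coprime_sup hS hn (h hg.1) hg.2)

/-- The configuration, after factoring out `O_p(G)`. -/
structure Iso (p : ℕ) (S A L Q Y : Subgroup G) : Prop where
  hS : IsPGroup p S
  hSL : S ≤ L
  hQS : Q ≤ S
  hLQ : L ≤ normalizer (Q : Set G)
  hA : A ≤ closure {g | g ∈ A ∧ (orderOf g).Coprime p}
  hAinv : S ≤ normalizer (A : Set G)
  hAY : A ≤ Y
  hYn : Y.Normal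
  hYmin : ∀ N : Subgroup G, N.Normal → A ≤ N → Y ≤ N
  hnotL : ¬ A ≤ L
  hover : ∀ H : Subgroup G, S ≤ H → A ≤ H ∨ H ≤ L
  hgen : ∀ H : Subgroup G, S ≤ H → H ≤ A ⊔ (H ⊓ L)
  hQA : ∀ K : Subgroup G, K.Normal → Q ≤ K → A ≤ K
  hcore : pCore p G = ⊥

variable {S A L Q Y : Subgroup G}

theorem Iso.normal_le (h : Iso p S A L Q Y) (N : Subgroup G) [N.Normal] : A ≤ N ∨ N ≤ L := by
  rcases h.hover (N ⊔ S) le_sup_right with h1 | h1
  · exact Or.inl (le_of_le_sup h.hA h.hS ((normalizer_eq_top N).symm ▸ le_top) h1)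
  · exact Or.inr (le_sup_left.trans h1)

theorem Iso.commute_of_le (h : Iso p S A L Q Y) {B : Subgroup G} (hBL : B ≤ L)
    (hQB : Q ≤ normalizer (B : Set G)) (hB : B ⊓ Q = ⊥) : B ≤ centralizer (Q : Set G) := by
  intro b hb
  rw [mem_centralizer_iff]
  intro q hq
  have h1 : ⁅b, q⁆ ∈ B ⊓ Q := by
    refine mem_inf.mpr ⟨?_, ?_⟩
    · rw [commutatorElement_def, mul_assoc, mul_assoc]
      refine mul_mem hb ?_
      rw [← mul_assoc]
      exact (mem_normalizer_iff.mp (hQB hq) b⁻¹).mp (inv_mem hb)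
    · rw [commutatorElement_def]
      exact mul_mem ((mem_normalizer_iff.mp (h.hLQ (hBL hb)) q).mp hq) (inv_mem hq)
  rw [hB, mem_bot, commutatorElement_eq_one_iff_mul_comm] at h1
  exact h1.symm

theorem Iso.inf_eq_bot_of_subnormal (h : Iso p S A L Q Y) {B : Subgroup G} (hB : B.IsSubnormal)
    (hn : B ≤ normalizer ((B ⊓ Q : Subgroup G) : Set G)) : B ⊓ Q = ⊥ := by
  refine le_bot_iff.mp (h.hcore ▸ LocalEven.Residual.le_pCore_of_isSubnormal ?_
    (h.hS.to_le (inf_le_right.trans h.hQS)))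
  exact Subgroup.IsSubnormal.step _ _ inf_le_left hB
    ((normal_subgroupOf_iff_le_normalizer inf_le_left).mpr hn)

theorem inf_le_normalizer_inf (h : Iso p S A L Q Y) {B : Subgroup G} (hBL : B ≤ L) :
    B ≤ normalizer ((B ⊓ Q : Subgroup G) : Set G) :=
  (le_inf le_normalizer (hBL.trans h.hLQ)).trans inf_normalizer_le_normalizer_inf

theorem Iso.centralizes (h : Iso p S A L Q Y) (N : Subgroup G) [N.Normal] (_hNY : N ≤ Y)
    (hne : ¬ Y ≤ N) : N ≤ centralizer (Y : Set G) := by
  have hNL : N ≤ L := (h.normal_le N).resolve_left fun hA => hne (h.hYmin N inferInstance hA)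
  have hQC : Q ≤ centralizer (N : Set G) := le_centralizer_iff.mp (h.commute_of_le hNL
    ((normalizer_eq_top N).symm ▸ le_top)
    (h.inf_eq_bot_of_subnormal (Normal.isSubnormal inferInstance) (inf_le_normalizer_inf h hNL)))
  exact le_centralizer_iff.mp (h.hYmin _ inferInstance (h.hQA _ inferInstance hQC))

theorem Iso.sup_eq_top (h : Iso p S A L Q Y) : Y ⊔ L = ⊤ :=
  top_le_iff.mp ((h.hgen ⊤ le_top).trans (sup_le_sup h.hAY inf_le_right))

theorem Iso.commutator_eq (h : Iso p S A L Q Y) : ⁅Y, Q⁆ = Y := by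
  haveI := h.hYn
  have hle : ⁅Y, Q⁆ ≤ Y := commutator_le_left Y Q
  have hYn : Y ≤ normalizer ((⁅Y, Q⁆ : Subgroup G) : Set G) :=
    CfsgLib.LocalEven.Commutators.normalizer_commutator_left Y Q
  have hLn : L ≤ normalizer ((⁅Y, Q⁆ : Subgroup G) : Set G) := by
    intro l hl
    rw [Components.mem_normalizer_iff_map_conj_eq, Subgroup.map_commutator,
      Components.mem_normalizer_iff_map_conj_eq.mp ((normalizer_eq_top Y).symm ▸ mem_top l : l ∈ normalizer (Y : Set G)),
      Components.mem_normalizer_iff_map_conj_eq.mp (h.hLQ hl)]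
  haveI hn : (⁅Y, Q⁆ : Subgroup G).Normal :=
    normalizer_eq_top_iff.mp (top_le_iff.mp (h.sup_eq_top.ge.trans (sup_le hYn hLn)))
  rcases h.normal_le ⁅Y, Q⁆ with hA | hL
  · exact le_antisymm hle (h.hYmin _ hn hA)
  exfalso
  have hKn : (⁅Y, Q⁆ ⊔ Q).Normal := by
    refine normalizer_eq_top_iff.mp (top_le_iff.mp (h.sup_eq_top.ge.trans (sup_le ?_ ?_)))
    · rw [le_normalizer_iff]
      intro y hy k hk
      obtain ⟨v, hv, u, hu, rfl⟩ := exists_mul_of_mem_sup (A := Q) (B := ⁅Y, Q⁆)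
        ((normalizer_eq_top (⁅Y, Q⁆ : Subgroup G)).symm ▸ le_top) (by rwa [sup_comm] : k ∈ Q ⊔ ⁅Y, Q⁆)
      rw [show y * (v * u) * y⁻¹ = ⁅y, v⁆ * v * (y * u * y⁻¹) by rw [commutatorElement_def]; group]
      exact mul_mem (mul_mem (mem_sup_left (commutator_mem_commutator hy hv)) (mem_sup_right hv))
        (mem_sup_left (hn.conj_mem u hu y))
    · intro l hl
      rw [Components.mem_normalizer_iff_map_conj_eq, Subgroup.map_sup, Components.mem_normalizer_iff_map_conj_eq.mp (hLn hl),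
        Components.mem_normalizer_iff_map_conj_eq.mp (h.hLQ hl)]
  exact h.hnotL ((h.hQA _ hKn le_sup_right).trans (sup_le hL (h.hQS.trans h.hSL)))

theorem Iso.ne_bot (h : Iso p S A L Q Y) : Y ≠ ⊥ := fun hb =>
  h.hnotL ((h.hAY.trans hb.le).trans bot_le)

/-- The case of a `p'`-group. -/
theorem Iso.coprime_case (h : Iso p S A L Q Y) (hp : ¬ p ∣ Nat.card Y) :
    ∃ t : ℕ, t.Prime ∧ t ≠ p ∧ IsPGroup t Y ∧ A = Y ∧
      ∀ a ∈ Y, ∀ b ∈ Y, ∀ c ∈ Y, ⁅a, b⁆ * c = c * ⁅a, b⁆ := by
  haveI := h.hYn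
  have hcop : (Nat.card S).Coprime (Nat.card Y) := by
    obtain ⟨k, hk⟩ := IsPGroup.iff_card.mp h.hS
    rw [hk]; exact ((Fact.out : p.Prime).coprime_iff_not_dvd.mpr hp).pow_left k
  have hSs : Group.IsSolvable S := by haveI := h.hS.isNilpotent; infer_instance
  have hex : ∀ r : ℕ, ∀ [Fact r.Prime], ∃ T : Sylow r Y,
      S ≤ normalizer (((T : Subgroup Y).map Y.subtype : Subgroup G) : Set G) := fun r _ =>
    Coprime.exists_invariant_sylow ((normalizer_eq_top Y).symm ▸ le_top) hcop (Or.inl hSs) r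
  -- dichotomy for invariant subgroups of `Y`
  have hdich : ∀ B : Subgroup G, B ≤ Y → S ≤ normalizer (B : Set G) →
      A ≤ B ∨ B ≤ centralizer (Q : Set G) := by
    intro B hBY hSB
    rcases h.hover (B ⊔ S) le_sup_right with h1 | h1
    · exact Or.inl (le_of_le_sup h.hA h.hS hSB h1)
    · refine Or.inr (h.commute_of_le (le_sup_left.trans h1) (h.hQS.trans hSB) ?_)
      exact le_bot_iff.mp ((inf_le_inf hBY h.hQS).trans (le_of_eq (disjoint_of_coprime_natCard hcop.symm).eq_bot))
  set C := (centralizer (Q : Set G)).subgroupOf Y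
  obtain ⟨t, ht, T, hT, hAT⟩ : ∃ t : ℕ, ∃ _ : Fact t.Prime, ∃ T : Sylow t Y,
      S ≤ normalizer (((T : Subgroup Y).map Y.subtype : Subgroup G) : Set G) ∧
      A ≤ (T : Subgroup Y).map Y.subtype := by
    by_contra hno
    push Not at hno
    have hCtop : C = ⊤ := Cores.eq_top_of_sylow_le C fun r hr => by
      haveI := Fact.mk hr
      obtain ⟨T, hT⟩ := hex r
      exact ⟨T, fun x hx => (hdich _ (map_subtype_le _) hT).resolve_left (hno r ⟨hr⟩ T hT)
        (mem_map_of_mem Y.subtype hx)⟩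
    have h1 := h.commutator_eq
    rw [commutator_eq_bot_iff_le_centralizer.mpr (subgroupOf_eq_top.mp hCtop)] at h1
    exact h.ne_bot h1.symm
  set TG := (T : Subgroup Y).map Y.subtype with hTG
  have hTp : IsPGroup t TG := T.2.map _
  have hA1 : A ≠ ⊥ := fun hb => h.hnotL (hb.le.trans bot_le)
  have hothers : ∀ r : ℕ, r.Prime → r ≠ t → ¬ r ∣ C.index := by
    intro r hr hrt
    haveI := Fact.mk hr
    obtain ⟨R, hR⟩ := hex r
    intro hd
    rcases hdich _ (map_subtype_le _) hR with h1 | h1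
    · exact hA1 (le_bot_iff.mp ((le_inf h1 hAT).trans
        (disjoint_iff.mp ((R.2.map Y.subtype).disjoint_of_ne _ _ hrt _ _ hTp)).le))
    · exact R.not_dvd_index (hd.trans (index_dvd_of_le fun x hx => h1 (mem_map_of_mem Y.subtype hx)))
  have hfac : ∀ y : Y, ∃ τ ∈ (T : Subgroup Y), τ⁻¹ * y ∈ C := by
    intro y
    have hidx : C.index ∣ C.relIndex (T : Subgroup Y) := by
      have h1 : C.index ∣ (C ⊓ (T : Subgroup Y)).index := index_dvd_of_le inf_le_left
      rw [← relIndex_mul_index (inf_le_right : C ⊓ (T : Subgroup Y) ≤ T), inf_relIndex_right] at h1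
      refine Nat.Coprime.dvd_of_dvd_mul_right (Nat.coprime_of_dvd fun r hr hr1 hr2 => ?_) h1
      by_cases hrt : r = t
      · exact T.not_dvd_index (hrt ▸ hr2)
      · exact hothers r hr hrt hr1
    have horb : MulAction.orbit (T : Subgroup Y) ((1 : Y) : Y ⧸ C) = Set.univ := by
      refine Set.eq_of_subset_of_ncard_le (Set.subset_univ _) ?_ (Set.toFinite _)
      rw [Set.ncard_univ, ← MulAction.index_stabilizer]
      have hst : MulAction.stabilizer (T : Subgroup Y) ((1 : Y) : Y ⧸ C) = C.subgroupOf T := by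
        ext τ
        rw [MulAction.mem_stabilizer_iff, mem_subgroupOf]
        show ((((τ : Y) * 1 : Y)) : Y ⧸ C) = ((1 : Y) : Y ⧸ C) ↔ _
        rw [mul_one, QuotientGroup.eq, mul_one, inv_mem_iff]
      rw [hst]
      exact Nat.le_of_dvd (Nat.pos_of_ne_zero index_ne_zero_of_finite) hidx
    obtain ⟨τ, hτ⟩ : ((y : Y) : Y ⧸ C) ∈ MulAction.orbit (T : Subgroup Y) ((1 : Y) : Y ⧸ C) :=
      horb ▸ Set.mem_univ _
    replace hτ : ((((τ : Y) * 1 : Y)) : Y ⧸ C) = (y : Y ⧸ C) := hτ
    rw [mul_one, QuotientGroup.eq] at hτ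
    exact ⟨τ, τ.2, hτ⟩
  have hYT : Y ≤ TG := by
    conv_lhs => rw [← h.commutator_eq]
    rw [commutator_le]
    intro y hy q hq
    obtain ⟨τ, hτ, hc⟩ := hfac ⟨y, hy⟩
    have hcq : Commute ((τ : G)⁻¹ * y) q := (mem_centralizer_iff.mp (mem_subgroupOf.mp hc) q hq).symm
    have h1 : ⁅y, q⁆ = (τ : G) * (q * (τ : G)⁻¹ * q⁻¹) := by
      rw [commutatorElement_def]
      calc y * q * y⁻¹ * q⁻¹ = (τ : G) * (((τ : G)⁻¹ * y) * q) * y⁻¹ * q⁻¹ := by group
        _ = (τ : G) * (q * ((τ : G)⁻¹ * y)) * y⁻¹ * q⁻¹ := by rw [hcq.eq]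
        _ = _ := by group
    rw [h1]
    have hτG : (τ : G) ∈ TG := mem_map_of_mem Y.subtype hτ
    exact mul_mem hτG ((mem_normalizer_iff.mp (hT (h.hQS hq)) _).mp (inv_mem hτG))
  have hYt : IsPGroup t Y := hTp.to_le hYT
  haveI := hYt.isNilpotent
  refine ⟨t, Fact.out, ?_, hYt, ?_, ?_⟩
  · rintro rfl
    obtain ⟨k, hk⟩ := IsPGroup.iff_card.mp hYt
    refine hp (hk ▸ dvd_pow_self t fun hk0 => h.ne_bot (eq_bot_of_card_eq Y ?_))
    rw [hk, hk0, pow_zero]
  · set Z := A ⊔ (Y ⊓ L)
    have hZY : Z ≤ Y := sup_le h.hAY inf_le_left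
    have hSZ : S ≤ normalizer (Z : Set G) := fun s hs => by
      have hY : s ∈ normalizer (Y : Set G) := (normalizer_eq_top Y).symm ▸ mem_top s
      have hL : s ∈ normalizer (L : Set G) := le_normalizer (h.hSL hs)
      rw [Components.mem_normalizer_iff_map_conj_eq, Subgroup.map_sup, Components.mem_normalizer_iff_map_conj_eq.mp (h.hAinv hs),
        Components.mem_normalizer_iff_map_conj_eq.mp (inf_normalizer_le_normalizer_inf ⟨hY, hL⟩)]
    have hYZ : Y ≤ Z := by
      intro y hy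
      refine mem_of_coprime_sup h.hS hSZ ?_ ?_
      · refine (h.hgen (Y ⊔ S) le_sup_right).trans (sup_le (le_sup_left.trans le_sup_left) ?_)
          (mem_sup_left hy)
        intro u ⟨hu, huL⟩
        obtain ⟨s, hs, y', hy', rfl⟩ := exists_mul_of_mem_sup (A := S) (B := Y)
          ((normalizer_eq_top Y).symm ▸ le_top) (by rwa [sup_comm] : u ∈ S ⊔ Y)
        exact mul_mem (mem_sup_right hs) (mem_sup_left (mem_sup_right
          ⟨hy', (mul_mem_cancel_left (h.hSL hs)).mp huL⟩))
      · exact Nat.Coprime.coprime_dvd_left (orderOf_dvd_natCard Y hy)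
          ((Fact.out : p.Prime).coprime_iff_not_dvd.mpr hp).symm
    have hZC : Y ⊓ L ≤ centralizer (Q : Set G) := by
      refine h.commute_of_le inf_le_right (fun q hq => inf_normalizer_le_normalizer_inf
        ⟨(normalizer_eq_top Y).symm ▸ mem_top q, le_normalizer (h.hSL (h.hQS hq))⟩) ?_
      exact le_bot_iff.mp ((inf_le_inf inf_le_left h.hQS).trans
        (le_of_eq (disjoint_of_coprime_natCard hcop.symm).eq_bot))
    set AY := A.subgroupOf Y ⊔ frattini Y with hAY
    haveI hDn : AY.Normal := ⟨fun d hd y => by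
      rw [show y * d * y⁻¹ = ⁅y, d⁆ * d by rw [commutatorElement_def]; group]
      exact mul_mem (mem_sup_right (FrattiniFitting.commutator_le_frattini
        (commutator_mem_commutator (mem_top y) (mem_top d)))) hd⟩
    set D := AY.map Y.subtype
    have hYD : Y ≤ normalizer (D : Set G) := fun y hy => by
      refine le_normalizer_map Y.subtype ⟨⟨y, hy⟩, ?_, rfl⟩
      rw [normalizer_eq_top AY]; exact mem_top _
    let W : Subgroup G :=
      { carrier := {y | y ∈ Y ∧ ∀ q ∈ Q, ⁅y, q⁆ ∈ D}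
        one_mem' := ⟨one_mem _, fun q _ => by simp [commutatorElement_def]⟩
        mul_mem' := fun {a b} ha hb => ⟨mul_mem ha.1 hb.1, fun q hq => by
          rw [show ⁅a * b, q⁆ = a * ⁅b, q⁆ * a⁻¹ * ⁅a, q⁆ by simp only [commutatorElement_def]; group]
          exact mul_mem ((mem_normalizer_iff.mp (hYD ha.1) _).mp (hb.2 q hq)) (ha.2 q hq)⟩
        inv_mem' := fun {a} ha => ⟨inv_mem ha.1, fun q hq => by
          rw [show ⁅a⁻¹, q⁆ = a⁻¹ * ⁅a, q⁆⁻¹ * a⁻¹⁻¹ by simp only [commutatorElement_def]; group]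
          exact (mem_normalizer_iff.mp (hYD (inv_mem ha.1)) _).mp (inv_mem (ha.2 q hq))⟩ }
    have hYW : Y ≤ W := hYZ.trans (sup_le (fun a ha => ⟨h.hAY ha, fun q hq => by
        have hm : ⁅a, q⁆ ∈ A := by
          rw [commutatorElement_def, mul_assoc, mul_assoc]
          refine mul_mem ha ?_
          rw [← mul_assoc]
          exact (mem_normalizer_iff.mp (h.hAinv (h.hQS hq)) a⁻¹).mp (inv_mem ha)
        exact ⟨⟨_, h.hAY hm⟩, mem_sup_left hm, rfl⟩⟩)
      (fun a ha => ⟨ha.1, fun q hq => by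
        rw [commutatorElement_eq_one_iff_mul_comm.mpr (mem_centralizer_iff.mp (hZC ha) q hq).symm]
        exact one_mem _⟩))
    have hYD' : Y ≤ D := by
      conv_lhs => rw [← h.commutator_eq]
      rw [commutator_le]
      exact fun y hy q hq => (hYW hy).2 q hq
    have htop : A.subgroupOf Y = ⊤ := frattini_nongenerating (top_le_iff.mp fun y _ => by
      obtain ⟨d, hd, e⟩ := hYD' y.2
      exact (Subtype.ext e : d = y) ▸ hd)
    exact le_antisymm h.hAY (subgroupOf_eq_top.mp htop)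
  · haveI hdn : (⁅Y, Y⁆ : Subgroup G).Normal := inferInstance
    have hne : ¬ Y ≤ ⁅Y, Y⁆ := fun hle => by
      haveI : Nontrivial Y := (nontrivial_iff_ne_bot Y).mpr h.ne_bot
      refine (Group.IsSolvable.commutator_lt_top_of_nontrivial Y).ne (top_le_iff.mp fun y _ => ?_)
      have : (y : G) ∈ (commutator Y).map Y.subtype := by
        rw [_root_.commutator_def, Subgroup.map_commutator, ← MonoidHom.range_eq_map, range_subtype]
        exact hle y.2
      obtain ⟨z, hz, e⟩ := this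
      exact (Subtype.ext e : z = y) ▸ hz
    intro a ha b hb c hc
    exact (mem_centralizer_iff.mp (h.centralizes _ (commutator_le_left Y Y) hne
      (commutator_mem_commutator ha hb)) c hc).symm

/-- The case of order divisible by `p`. -/
theorem Iso.dvd_case (h : Iso p S A L Q Y) (hp : p ∣ Nat.card Y) :
    ¬ Group.IsSolvable Y ∧ layer Y = ⊤ ∧ ∀ K₁ K₂ : Subgroup Y, IsComponent K₁ → IsComponent K₂ →
      ∃ s ∈ S, K₂.map Y.subtype = (K₁.map Y.subtype).map (MulAut.conj s).toMonoidHom := by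
  haveI := h.hYn
  have hns : ¬ Group.IsSolvable Y := by
    intro hsol
    haveI : Nontrivial Y := (nontrivial_iff_ne_bot Y).mpr h.ne_bot
    have hne : ¬ Y ≤ ⁅Y, Y⁆ := fun hle => by
      refine (Group.IsSolvable.commutator_lt_top_of_nontrivial Y).ne (top_le_iff.mp fun y _ => ?_)
      have : (y : G) ∈ (commutator Y).map Y.subtype := by
        rw [_root_.commutator_def, Subgroup.map_commutator, ← MonoidHom.range_eq_map, range_subtype]
        exact hle y.2
      obtain ⟨z, hz, e⟩ := this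
      exact (Subtype.ext e : z = y) ▸ hz
    have hcen := h.centralizes _ (commutator_le_left Y Y) hne
    haveI : Group.IsNilpotent Y := ⟨2, top_le_iff.mp fun x _ => by
      rw [Subgroup.mem_upperCentralSeries_succ_iff]
      intro y
      rw [Subgroup.upperCentralSeries_one, mem_center_iff]
      intro z
      refine Subtype.ext ?_
      exact mem_centralizer_iff.mp (hcen (commutator_mem_commutator x.2 y.2)) z z.2⟩
    obtain ⟨P⟩ : Nonempty (Sylow p Y) := inferInstance
    haveI : (P : Subgroup Y).Normal := inferInstance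
    haveI := P.characteristic_of_normal ‹_›
    have h1 : (P : Subgroup Y).map Y.subtype ≤ ⊥ := h.hcore ▸ Cores.le_pCore (P.2.map _)
    rw [le_bot_iff, map_eq_bot_iff_of_injective _ Y.subtype_injective] at h1
    exact P.ne_bot_of_dvd_card hp h1
  have hnab : ∀ N : Subgroup G, N.Normal → N ≤ centralizer (Y : Set G) → ¬ Y ≤ N := by
    intro N _ hN hle
    refine hns (Group.isSolvable_of_comm fun a b => Subtype.ext ?_)
    exact mem_centralizer_iff.mp (hN (hle b.2)) a a.2
  have hlay : layer Y = ⊤ := by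
    by_contra hl
    haveI hML : ((layer Y).map Y.subtype).Normal := inferInstance
    have hcM := h.centralizes _ (map_subtype_le _) fun hle => hl (top_le_iff.mp fun y _ => by
      obtain ⟨z, hz, e⟩ := hle y.2
      exact (Subtype.ext e : z = y) ▸ hz)
    have hbot : layer Y = ⊥ := layer_eq_bot_iff.mpr fun K hK => IsComponent.not_le_centralizer hK
      fun a ha => mem_centralizer_iff.mpr fun b hb => Subtype.ext
        (mem_centralizer_iff.mp (hcM (mem_map_of_mem _ (IsComponent.le_layer hK ha))) b b.2)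
    haveI hFn : ((fittingSubgroup Y).map Y.subtype).Normal := inferInstance
    have hF : fittingSubgroup Y ≠ ⊤ := fun hF => hns (by
      haveI : Group.IsNilpotent Y := Cores.fittingSubgroup_eq_top_iff.mp hF
      infer_instance)
    have hcF := h.centralizes _ (map_subtype_le _) fun hle => hF (top_le_iff.mp fun y _ => by
      obtain ⟨z, hz, e⟩ := hle y.2
      exact (Subtype.ext e : z = y) ▸ hz)
    have h1 := centralizer_generalizedFitting_le (G := Y)
    rw [generalizedFittingSubgroup, hbot, bot_sup_eq] at h1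
    refine hF (top_le_iff.mp fun y _ => h1 (mem_centralizer_iff.mpr fun f hf => Subtype.ext ?_))
    exact (mem_centralizer_iff.mp (hcF (mem_map_of_mem _ hf)) y y.2).symm
  refine ⟨hns, hlay, ?_⟩
  have hYlay : Y ≤ layer G := by
    refine le_trans (le_of_eq ?_) (layer_map_subtype_le (H := Y) (Normal.isSubnormal inferInstance))
    rw [hlay, ← MonoidHom.range_eq_map, range_subtype]
  let O : Subgroup G → Set (Subgroup G) := fun K =>
    {K' | ∃ s ∈ S, K' = K.map (MulAut.conj s).toMonoidHom}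
  let Bo : Subgroup G → Subgroup G := fun K => sSup (O K)
  have hOself : ∀ K, K ∈ O K := fun K => ⟨1, one_mem _, by ext x; simp⟩
  have hmm : ∀ (K : Subgroup G) (a b : G), (K.map (MulAut.conj b).toMonoidHom).map (MulAut.conj a).toMonoidHom =
      K.map (MulAut.conj (a * b)).toMonoidHom := fun K a b => by
    rw [map_map]; congr 1; ext x; simp [mul_assoc]
  have hOle : ∀ K, K ≤ Y → ∀ K' ∈ O K, K' ≤ Y := by
    rintro K hK _ ⟨s, -, rfl⟩ _ ⟨k, hk, rfl⟩
    exact h.hYn.conj_mem k (hK hk) s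
  have hBY : ∀ K, K ≤ Y → Bo K ≤ Y := fun K hK => sSup_le (hOle K hK)
  have hSB : ∀ K, S ≤ normalizer (Bo K : Set G) := by
    intro K
    rw [le_normalizer_iff]
    intro s hs b hb
    have : Bo K ≤ (Bo K).comap (MulAut.conj s).toMonoidHom := by
      refine sSup_le ?_
      rintro _ ⟨u, hu, rfl⟩
      rw [← map_le_iff_le_comap, hmm]
      exact le_sSup (show _ ∈ O K from ⟨s * u, mul_mem hs hu, rfl⟩)
    exact this hb
  have hOcomp : ∀ K, IsComponent K → ∀ K' ∈ O K, IsComponent K' := by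
    rintro K hK _ ⟨s, -, rfl⟩
    exact IsComponent.conj hK s
  have hYB : ∀ K, IsComponent K → Y ≤ normalizer (Bo K : Set G) := by
    intro K hK
    rw [le_normalizer_iff]
    intro y hy b hb
    have : Bo K ≤ (Bo K).comap (MulAut.conj y).toMonoidHom := by
      refine sSup_le fun K' hK' k hk => ?_
      show y * k * y⁻¹ ∈ Bo K
      exact le_sSup hK' ((mem_normalizer_iff.mp
        (layer_le_normalizer (hOcomp K hK K' hK') (hYlay hy)) k).mp hk)
    exact this hb
  have hdich : ∀ K, IsComponent K → K ≤ Y → A ≤ Bo K ∨ Bo K ≤ centralizer (Q : Set G) := by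
    intro K hK hKY
    rcases h.hover (Bo K ⊔ S) le_sup_right with h1 | h1
    · exact Or.inl (le_of_le_sup h.hA h.hS (hSB K) h1)
    · have hBL : Bo K ≤ L := le_sup_left.trans h1
      refine Or.inr (h.commute_of_le hBL (h.hQS.trans (hSB K)) (h.inf_eq_bot_of_subnormal ?_
        (inf_le_normalizer_inf h hBL)))
      exact Subgroup.IsSubnormal.step _ _ (hBY K hKY) (Normal.isSubnormal inferInstance)
        ((normal_subgroupOf_iff_le_normalizer (hBY K hKY)).mpr (hYB K hK))
  -- components of `G` inside `Y`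
  have hgenY : ∀ W : Subgroup G, (∀ K, IsComponent K → K ≤ Y → K ≤ W) → Y ≤ W := by
    intro W hW
    conv_lhs => rw [← range_subtype Y, MonoidHom.range_eq_map, ← hlay]
    rw [map_le_iff_le_comap, layer_le_iff]
    intro K hK
    rw [← map_le_iff_le_comap]
    exact hW _ ((isComponent_map_subtype_iff (Normal.isSubnormal inferInstance) K).mp hK) (map_subtype_le _)
  have hcomm : ∀ K K', IsComponent K → IsComponent K' → K' ∉ O K → K' ≤ centralizer (Bo K : Set G) := by
    intro K K' hK hK' hno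
    refine le_centralizer_iff.mp (sSup_le fun K'' hK'' => le_centralizer_iff.mp ?_)
    exact IsComponent.le_centralizer_of_ne hK' (hOcomp K hK K'' hK'') fun e => hno (e ▸ hK'')
  obtain ⟨K0, hK0, hK0Y, hA0⟩ : ∃ K, IsComponent K ∧ K ≤ Y ∧ A ≤ Bo K := by
    by_contra hno
    push Not at hno
    have h1 := h.commutator_eq
    rw [commutator_eq_bot_iff_le_centralizer.mpr (hgenY _ fun K hK hKY =>
      (le_sSup (hOself K)).trans ((hdich K hK hKY).resolve_left (hno K hK hKY)))] at h1
    exact h.ne_bot h1.symm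
  have hother : ∀ K, IsComponent K → K ≤ Y → K ∉ O K0 → Bo K ≤ centralizer (Q : Set G) := by
    intro K hK hKY hKO
    refine (hdich K hK hKY).resolve_left fun hAK => ?_
    have hcA : Y ≤ centralizer (A : Set G) := hgenY _ fun K' hK' hK'Y => by
      by_cases h0 : K' ∈ O K0
      · have hno : K' ∉ O K := by
          rintro ⟨s, hs, e⟩
          obtain ⟨u, hu, e'⟩ := h0
          refine hKO ⟨s⁻¹ * u, mul_mem (inv_mem hs) hu, ?_⟩
          rw [← hmm, ← e', e, hmm, inv_mul_cancel]
          ext x; simp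
        exact (hcomm K K' hK hK' hno).trans (centralizer_le (SetLike.coe_subset_coe.mpr hAK))
      · exact (hcomm K0 K' hK0 hK' h0).trans (centralizer_le (SetLike.coe_subset_coe.mpr hA0))
    haveI : ((center Y).map Y.subtype).Normal := inferInstance
    refine hnab ((center Y).map Y.subtype) inferInstance ?_ (h.hYmin _ inferInstance fun a ha =>
      ⟨⟨a, h.hAY ha⟩, mem_center_iff.mpr fun g => Subtype.ext
        (mem_centralizer_iff.mp (hcA g.2) a ha).symm, rfl⟩)
    rintro _ ⟨z, hz, rfl⟩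
    exact mem_centralizer_iff.mpr fun b hb => congrArg Subtype.val (mem_center_iff.mp hz ⟨b, hb⟩)
  have hYB0 : Y ≤ Bo K0 := by
    let W : Subgroup G :=
      { carrier := {y | y ∈ Y ∧ ∀ q ∈ Q, ⁅y, q⁆ ∈ Bo K0}
        one_mem' := ⟨one_mem _, fun q _ => by simp [commutatorElement_def]⟩
        mul_mem' := fun {a b} ha hb => ⟨mul_mem ha.1 hb.1, fun q hq => by
          rw [show ⁅a * b, q⁆ = a * ⁅b, q⁆ * a⁻¹ * ⁅a, q⁆ by simp only [commutatorElement_def]; group]
          exact mul_mem ((mem_normalizer_iff.mp (hYB K0 hK0 ha.1) _).mp (hb.2 q hq)) (ha.2 q hq)⟩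
        inv_mem' := fun {a} ha => ⟨inv_mem ha.1, fun q hq => by
          rw [show ⁅a⁻¹, q⁆ = a⁻¹ * ⁅a, q⁆⁻¹ * a⁻¹⁻¹ by simp only [commutatorElement_def]; group]
          exact (mem_normalizer_iff.mp (hYB K0 hK0 (inv_mem ha.1)) _).mp (inv_mem (ha.2 q hq))⟩ }
    have hYW : Y ≤ W := hgenY _ fun K hK hKY k hk => ⟨hKY hk, fun q hq => by
      by_cases h0 : K ∈ O K0
      · have hkB : k ∈ Bo K0 := le_sSup h0 hk
        rw [commutatorElement_def, mul_assoc, mul_assoc]
        refine mul_mem hkB ?_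
        rw [← mul_assoc]
        exact (mem_normalizer_iff.mp (hSB K0 (h.hQS hq)) k⁻¹).mp (inv_mem hkB)
      · rw [commutatorElement_eq_one_iff_mul_comm.mpr (mem_centralizer_iff.mp
          (hother K hK hKY h0 (le_sSup (hOself K) hk)) q hq).symm]
        exact one_mem _⟩
    conv_lhs => rw [← h.commutator_eq]
    rw [commutator_le]
    exact fun y hy q hq => (hYW hy).2 q hq
  have hall : ∀ K, IsComponent K → K ≤ Y → K ∈ O K0 := fun K hK hKY => by
    by_contra h0
    exact IsComponent.not_le_centralizer hK ((hcomm K0 K hK0 hK h0).trans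
      (centralizer_le (SetLike.coe_subset_coe.mpr (hKY.trans hYB0))))
  intro K₁ K₂ h₁ h₂
  have hs := Normal.isSubnormal (H := Y) inferInstance
  obtain ⟨s1, hs1, e1⟩ := hall _ ((isComponent_map_subtype_iff hs K₁).mp h₁) (map_subtype_le _)
  obtain ⟨s2, hs2, e2⟩ := hall _ ((isComponent_map_subtype_iff hs K₂).mp h₂) (map_subtype_le _)
  exact ⟨s2 * s1⁻¹, mul_mem hs2 (inv_mem hs1), by rw [e1, e2, hmm, inv_mul_cancel_right]⟩

theorem Iso.le_generalizedFitting (h : Iso p S A L Q Y) : A ≤ generalizedFittingSubgroup G := by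
  haveI := h.hYn
  by_cases hp : p ∣ Nat.card Y
  · refine h.hAY.trans (le_trans ?_ (layer_le_generalizedFittingSubgroup))
    refine le_trans (le_of_eq ?_) (layer_map_subtype_le (H := Y) (Normal.isSubnormal inferInstance))
    rw [(h.dvd_case hp).2.1, ← MonoidHom.range_eq_map, range_subtype]
  · obtain ⟨t, ht, -, hYt, -⟩ := h.coprime_case hp
    haveI := Fact.mk ht
    exact h.hAY.trans ((Cores.le_fittingSubgroup hYt.isNilpotent).trans
      fittingSubgroup_le_generalizedFittingSubgroup)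

end CfsgLib.LocalEvenB.IsolatedMinimal
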