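import Cfsg.Agent.Lib.LocalEvenB.IsolatedMinimal

/-!
Isolated `p`-minimal subgroups: passage to `G / O_p(G)`.
-/

set_option autoImplicit false
set_option linter.style.haveILetI false
set_option linter.unusedSectionVars false

namespace CfsgLib.LocalEvenB.IsolatedMinimal

open Cfsg Subgroup CfsgLib.Solvable CfsgLib.Components
open scoped commutatorElement Pointwise

variable {G : Type*} [Group G] [Finite G] {p : ℕ} [Fact p.Prime]

theorem isPMinimal_congr {H K : Type*} [Group H] [Group K] [Finite H] [Finite K] (e : H ≃* K)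
    (h : IsPMinimal p H) : IsPMinimal p K := by
  intro T
  have h' := h (T.comapOfInjective e.toMonoidHom e.injective fun z _ => e.surjective z)
  refine ⟨fun hn => h'.1 (Subgroup.Normal.comap hn _), ?_⟩
  obtain ⟨M, ⟨hM, hTM⟩, huM⟩ := h'.2
  refine ⟨e.mapSubgroup M, ⟨(OrderIso.isCoatom_iff e.mapSubgroup M).2 hM, fun z hz => ?_⟩,
    fun M' hM' => ?_⟩
  · obtain ⟨w, rfl⟩ := e.surjective z
    exact ⟨w, hTM hz, rfl⟩
  · rw [← huM (e.mapSubgroup.symm M') ⟨(OrderIso.isCoatom_iff e.mapSubgroup.symm M').2 hM'.1,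
      fun w hw => ⟨e w, hM'.2 hw, e.symm_apply_apply w⟩⟩]
    exact (e.mapSubgroup.apply_symm_apply M').symm

/-- An overgroup of a Sylow subgroup is generated by its part of `N(S)` and its `p`-minimal subgroups. -/
theorem le_of_generators (S : Sylow p G) {H X : Subgroup G} (hSH : (S : Subgroup G) ≤ H)
    (hN : normalizer ((S : Subgroup G) : Set G) ⊓ H ≤ X)
    (hP : ∀ P' : Subgroup G, (S : Subgroup G) ≤ P' → P' ≤ H → IsPMinimal p P' → P' ≤ X) : H ≤ X := by
  obtain ⟨h1, h2⟩ := Cfsg.Agent.S2790.result (S.subtype hSH)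
  intro g hg
  obtain ⟨u, hu, y, hy, e⟩ := h2 ⟨g, hg⟩
  have hSX : (S : Subgroup G) ≤ X := (le_inf le_normalizer hSH).trans hN
  have hle : (pElementClosure p (⊤ : Subgroup H)) ≤ X.comap H.subtype := by
    rw [← h1]
    refine sup_le (fun s hs => hSX hs) (iSup_le fun P' => ?_)
    rw [← map_le_iff_le_comap]
    refine hP _ ?_ (map_subtype_le _)
      (isPMinimal_congr ((P' : Subgroup H).equivMapOfInjective _ H.subtype_injective) P'.2.2)
    exact fun s hs => ⟨⟨s, hSH hs⟩, P'.2.1 hs, rfl⟩
  have hy' : (y : G) ∈ normalizer ((S : Subgroup G) : Set G) := by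
    refine mem_normalizer_iff.mpr fun s => ⟨fun hs => ?_, fun hs => ?_⟩
    · exact (mem_normalizer_iff.mp hy ⟨s, hSH hs⟩).mp hs
    · have hsH : s ∈ H := (mul_mem_cancel_left y.2).mp ((mul_mem_cancel_right (inv_mem y.2)).mp (hSH hs))
      exact (mem_normalizer_iff.mp hy ⟨s, hsH⟩).mpr hs
  have he : g = (u : G) * y := congrArg Subtype.val e
  rw [he]
  exact mul_mem (hle hu) (hN ⟨hy', y.2⟩)

/-- A normal subgroup of a `p`-minimal group meeting the Sylow subgroup outside `O_p` contains `O^p`. -/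
theorem pResidual_le_of_pMinimal (hmin : IsPMinimal p G) (T : Sylow p G) (N : Subgroup G) [N.Normal]
    (hN : ¬ N ⊓ (T : Subgroup G) ≤ pCore p G) : pResidual p G ≤ N := by
  obtain ⟨-, M, ⟨hM, hTM⟩, huM⟩ := hmin T
  have huniq : ∀ H : Subgroup G, (T : Subgroup G) ≤ H → H ≠ ⊤ → H ≤ M := by
    intro H hTH hH
    obtain ⟨M', hM', hle⟩ := (eq_top_or_exists_le_coatom H).resolve_left hH
    exact hle.trans (huM M' ⟨hM', hTH.trans hle⟩).le
  set I := (T : Subgroup G) ⊓ N
  have hI : normalizer (I : Set G) ≠ ⊤ := fun h => hN (by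
    haveI := normalizer_eq_top_iff.mp h
    rw [inf_comm]
    exact Cores.le_pCore (T.2.to_le inf_le_left))
  have hTI : (T : Subgroup G) ≤ normalizer (I : Set G) := fun t ht =>
    inf_normalizer_le_normalizer_inf ⟨le_normalizer ht, (normalizer_eq_top N).symm ▸ mem_top t⟩
  have hNM : ¬ N ≤ M := by
    intro hle
    let S : Sylow p N := Fusion.Basic.sylowSubgroupOf (inf_le_right : I ≤ N)
      (T.2.to_le inf_le_left) (Fusion.Basic.not_dvd_relIndex_of_normal T N)
    have h : normalizer (((S : Subgroup N).map N.subtype : Subgroup G) : Set G) ⊔ N = ⊤ :=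
      Sylow.normalizer_sup_eq_top S
    rw [Fusion.Basic.map_sylowSubgroupOf] at h
    exact hM.1 (top_le_iff.mp (h.ge.trans (sup_le (huniq _ hTI hI) hle)))
  have htop : N ⊔ (T : Subgroup G) = ⊤ := by
    by_contra hne
    exact hNM (le_sup_left.trans (huniq _ le_sup_right hne))
  exact (closure_le _).mpr fun g hg =>
    mem_of_coprime_sup T.2 ((normalizer_eq_top N).symm ▸ le_top) (htop ▸ mem_top g) hg

variable (S : Sylow p G) (P : Subgroup G) (hSP : (S : Subgroup G) ≤ P) (hPmin : IsPMinimal p ↥P)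
  (L : Subgroup G)
  (hL : L = normalizer ((S : Subgroup G) : Set G) ⊔ ⨆ P' : {P' : Subgroup G // (S : Subgroup G) ≤ P' ∧ IsPMinimal p ↥P' ∧ P' ≠ P}, (P' : Subgroup G))
  (hiso : ¬ (pCore p ↥L).map L.subtype ≤ (pCore p ↥P).map P.subtype)

include hSP hPmin hL hiso

/-- The configuration holds modulo `O_p(G)`. -/
theorem iso_quotient (π : G →* G ⧸ pCore p G) (hπ : π = QuotientGroup.mk' (pCore p G)) :
    Iso p ((S : Subgroup G).map π) (((pResidual p ↥P).map P.subtype).map π) (L.map π)
      (((pCore p ↥L).map L.subtype).map π)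
      ((normalClosure (((pResidual p ↥P).map P.subtype : Subgroup G) : Set G)).map π) := by
  subst hπ
  set π := QuotientGroup.mk' (pCore p G)
  set A := (pResidual p ↥P).map P.subtype
  set Q := (pCore p ↥L).map L.subtype
  set R := pCore p G
  have hsurj : Function.Surjective π := QuotientGroup.mk'_surjective R
  have hNL : normalizer ((S : Subgroup G) : Set G) ≤ L := hL ▸ le_sup_left
  have hP'L : ∀ P' : Subgroup G, (S : Subgroup G) ≤ P' → IsPMinimal p ↥P' → P' ≠ P → P' ≤ L := by
    intro P' h1 h2 h3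
    rw [hL]
    exact (le_iSup (fun P' : {P' : Subgroup G // (S : Subgroup G) ≤ P' ∧ IsPMinimal p ↥P' ∧ P' ≠ P} =>
      (P' : Subgroup G)) ⟨P', h1, h2, h3⟩).trans le_sup_right
  have hSL : (S : Subgroup G) ≤ L := le_normalizer.trans hNL
  have hQS : Q ≤ (S : Subgroup G) := fun x ⟨y, hy, e⟩ => e ▸ Cores.pCore_le_sylow (S.subtype hSL) hy
  have hLQ : L ≤ normalizer (Q : Set G) := fun l hl =>
    le_normalizer_map L.subtype ⟨⟨l, hl⟩, by rw [normalizer_eq_top]; exact mem_top _, rfl⟩
  have hPA : P ≤ A ⊔ (S : Subgroup G) := by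
    intro x hx
    obtain ⟨w, hw, u, hu, e⟩ := Fusion.Basic.exists_eq_pResidual_mul (S.subtype hSP) ⟨x, hx⟩
    rw [show x = (w : G) * u from congrArg Subtype.val e]
    exact mul_mem (mem_sup_left (mem_map_of_mem _ hw)) (mem_sup_right hu)
  have hSA : (S : Subgroup G) ≤ normalizer (A : Set G) := fun s hs =>
    le_normalizer_map P.subtype ⟨⟨s, hSP hs⟩, by rw [normalizer_eq_top]; exact mem_top _, rfl⟩
  have hQP : ¬ (Q.subgroupOf P) ≤ pCore p ↥P := fun hle => hiso fun x hx =>
    ⟨⟨x, hSP (hQS hx)⟩, hle hx, rfl⟩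
  have hnotL : ¬ A ≤ L := by
    intro hAL
    have hPL : P ≤ L := hPA.trans (sup_le hAL hSL)
    haveI : (Q.subgroupOf P).Normal :=
      (normal_subgroupOf_iff_le_normalizer (hQS.trans hSP)).mpr (hPL.trans hLQ)
    exact hQP (Cores.le_pCore ((S.2.to_le hQS).comap_subtype))
  have hover : ∀ H : Subgroup G, (S : Subgroup G) ≤ H → A ≤ H ∨ H ≤ L := by
    intro H hH
    by_cases hPH : P ≤ H
    · exact Or.inl ((map_subtype_le _).trans hPH)
    · refine Or.inr (le_of_generators S hH (inf_le_left.trans hNL) fun P' h1 h2 h3 => ?_)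
      exact hP'L P' h1 h3 fun e => hPH (e ▸ h2)
  have hgen : ∀ H : Subgroup G, (S : Subgroup G) ≤ H → H ≤ A ⊔ (H ⊓ L) := by
    intro H hH
    refine le_of_generators S hH (fun g hg => mem_sup_right ⟨hg.2, hNL hg.1⟩) fun P' h1 h2 h3 => ?_
    by_cases e : P' = P
    · subst e
      exact hPA.trans (sup_le le_sup_left (le_inf hH hSL |>.trans le_sup_right))
    · exact le_sup_of_le_right (le_inf h2 (hP'L P' h1 h3 e))
  have hQA : ∀ K : Subgroup G, K.Normal → Q ≤ K → A ≤ K := by
    intro K hK hQK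
    refine (map_mono (pResidual_le_of_pMinimal hPmin (S.subtype hSP) (K.subgroupOf P) ?_)).trans ?_
    · exact fun hle => hQP fun x hx => hle (mem_inf.mpr ⟨hQK hx, hQS hx⟩)
    · rw [map_le_iff_le_comap]; exact le_rfl
  have hRS : R ≤ (S : Subgroup G) := Cores.pCore_le_sylow S
  have hcomapL : (L.map π).comap π = L := by
    rw [comap_map_eq, QuotientGroup.ker_mk']
    exact sup_eq_left.mpr (hRS.trans hSL)
  constructor
  · exact S.2.map π
  · exact map_mono hSL
  · exact map_mono hQS
  · rintro _ ⟨l, hl, rfl⟩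
    exact le_normalizer_map π ⟨l, hLQ hl, rfl⟩
  · have hA : A = closure {g | g ∈ P ∧ (orderOf g).Coprime p} :=
      LocalEven.Residual.map_pResidual_eq_closure P
    conv_lhs => rw [hA, MonoidHom.map_closure]
    refine closure_mono ?_
    rintro _ ⟨g, hg, rfl⟩
    exact ⟨mem_map_of_mem π (hA ▸ subset_closure hg),
      Nat.Coprime.coprime_dvd_left (orderOf_map_dvd π g) hg.2⟩
  · rintro _ ⟨s, hs, rfl⟩
    exact le_normalizer_map π ⟨s, hSA hs, rfl⟩
  · exact map_mono le_normalClosure
  · exact normalClosure_normal.map π hsurj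
  · intro N hN hAN
    rw [map_le_iff_le_comap] at hAN ⊢
    haveI := hN.comap π
    exact normalClosure_le_normal hAN
  · intro hle
    exact hnotL ((le_comap_map π A).trans ((comap_mono hle).trans hcomapL.le))
  · intro H hH
    have hSH : (S : Subgroup G) ≤ H.comap π := map_le_iff_le_comap.mp hH
    rcases hover _ hSH with h1 | h1
    · exact Or.inl (map_le_iff_le_comap.mpr h1)
    · refine Or.inr ?_
      rw [← map_comap_eq_self_of_surjective hsurj H]
      exact map_mono h1
  · intro H hH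
    have hSH : (S : Subgroup G) ≤ H.comap π := map_le_iff_le_comap.mp hH
    conv_lhs => rw [← map_comap_eq_self_of_surjective hsurj H]
    refine (map_mono (hgen _ hSH)).trans ?_
    rw [Subgroup.map_sup]
    refine sup_le_sup le_rfl (le_inf ?_ (map_mono inf_le_right))
    exact (map_mono inf_le_left).trans (map_comap_eq_self_of_surjective hsurj H).le
  · intro K hK hQK
    rw [map_le_iff_le_comap] at hQK ⊢
    exact hQA _ (hK.comap π) hQK
  · rw [eq_bot_iff]
    have hker : IsPGroup p π.ker := by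
      rw [QuotientGroup.ker_mk']; exact Cores.isPGroup_pCore p
    haveI : ((pCore p (G ⧸ R)).comap π).Normal := inferInstance
    have h1 : (pCore p (G ⧸ R)).comap π ≤ R :=
      Cores.le_pCore ((Cores.isPGroup_pCore p).comap_of_ker_isPGroup π hker)
    intro x hx
    obtain ⟨g, rfl⟩ := hsurj x
    exact (QuotientGroup.eq_one_iff g).mpr (h1 hx)

/-- If the image of `O^p(P)` is normal then so is `O^p(P)`. -/
theorem eq_normalClosure
    (h : ((pResidual p ↥P).map P.subtype).map (QuotientGroup.mk' (pCore p G)) =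
      (normalClosure (((pResidual p ↥P).map P.subtype : Subgroup G) : Set G)).map
        (QuotientGroup.mk' (pCore p G))) :
    (pResidual p ↥P).map P.subtype =
      normalClosure (((pResidual p ↥P).map P.subtype : Subgroup G) : Set G) := by
  set A := (pResidual p ↥P).map P.subtype
  set R := pCore p G
  refine le_antisymm le_normalClosure ?_
  have hRP : R ≤ P := (Cores.pCore_le_sylow S).trans hSP
  haveI hn : (A ⊔ R).Normal := by
    have h1 : A ⊔ R = ((normalClosure (A : Set G)).map (QuotientGroup.mk' R)).comap (QuotientGroup.mk' R) := by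
      rw [← h, comap_map_eq, QuotientGroup.ker_mk']
    rw [h1]
    exact (normalClosure_normal.map _ (QuotientGroup.mk'_surjective R)).comap _
  have hAR : R ≤ normalizer (A : Set G) := fun r hr =>
    le_normalizer_map P.subtype ⟨⟨r, hRP hr⟩, by rw [normalizer_eq_top]; exact mem_top _, rfl⟩
  have hA : A = closure {g | g ∈ P ∧ (orderOf g).Coprime p} := LocalEven.Residual.map_pResidual_eq_closure P
  have hAA : A ≤ closure {g | g ∈ A ∧ (orderOf g).Coprime p} := by
    conv_lhs => rw [hA]
    exact closure_mono fun g hg => ⟨hA ▸ subset_closure hg, hg.2⟩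
  haveI : A.Normal := by
    refine ⟨fun a ha g => ?_⟩
    have : A ≤ A.comap (MulAut.conj g).toMonoidHom := by
      refine hAA.trans ((closure_le _).mpr fun u hu => ?_)
      show g * u * g⁻¹ ∈ A
      refine mem_of_coprime_sup (Cores.isPGroup_pCore p) hAR (hn.conj_mem u (mem_sup_left hu.1) g) ?_
      rw [show g * u * g⁻¹ = (MulAut.conj g) u from rfl, MulEquiv.orderOf_eq]
      exact hu.2
    exact this ha
  exact normalClosure_le_normal subset_rfl

/-- The main structure theorem. -/
theorem structure_cases (Y : Subgroup G)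
    (hY : Y = normalClosure (((pResidual p ↥P).map P.subtype : Subgroup G) : Set G)) :
    ((pResidual p ↥P).map P.subtype = Y ∧
      ∃ _ : (pCore p ↥Y).Normal, ∃ t : ℕ, t.Prime ∧ t ≠ p ∧ IsPGroup t (↥Y ⧸ pCore p ↥Y) ∧
        ∃ _ : Group.IsNilpotent (↥Y ⧸ pCore p ↥Y), Group.nilpotencyClass (↥Y ⧸ pCore p ↥Y) ≤ 2) ∨
    (¬ Group.IsSolvable ↥Y ∧ ∃ _ : (pCore p ↥Y).Normal,
      p ∣ Nat.card (↥Y ⧸ pCore p ↥Y) ∧ layer (↥Y ⧸ pCore p ↥Y) = ⊤ ∧
      ∀ K₁ K₂ : Subgroup (↥Y ⧸ pCore p ↥Y), IsComponent K₁ → IsComponent K₂ →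
        ∃ s ∈ (S : Subgroup G), ((K₂.comap (QuotientGroup.mk' (pCore p ↥Y))).map Y.subtype) =
          (((K₁.comap (QuotientGroup.mk' (pCore p ↥Y))).map Y.subtype)).map (MulAut.conj s).toMonoidHom) := by
  have h := iso_quotient S P hSP hPmin L hL hiso _ rfl
  rw [← hY] at h
  set π := QuotientGroup.mk' (pCore p G)
  haveI hYn : Y.Normal := hY ▸ normalClosure_normal
  haveI hcn : (pCore p ↥Y).Normal := inferInstance
  set f : ↥Y →* ↥(Y.map π) := π.subgroupMap Y
  have hf : Function.Surjective f := π.subgroupMap_surjective Y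
  have hker : f.ker = pCore p ↥Y := by
    refine le_antisymm ?_ fun y hy => ?_
    · refine @Cores.le_pCore _ _ p f.ker inferInstance ?_
      refine IsPGroup.of_injective (Cores.isPGroup_pCore (G := G) p)
        ((Y.subtype.comp f.ker.subtype).codRestrict (pCore p G) fun y =>
          (QuotientGroup.eq_one_iff ((y : ↥Y) : G)).mp (congrArg Subtype.val y.2))
        fun a b e => Subtype.ext (Subtype.ext (congrArg (fun u : ↥(pCore p G) => (u : G)) e :))
    · haveI : ((pCore p ↥Y).map Y.subtype).Normal := inferInstance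
      have h1 : (y : G) ∈ pCore p G :=
        Cores.le_pCore ((Cores.isPGroup_pCore p).map _) (mem_map_of_mem Y.subtype hy)
      exact Subtype.ext ((QuotientGroup.eq_one_iff (y : G)).mpr h1)
  let e : ↥Y ⧸ pCore p ↥Y ≃* ↥(Y.map π) :=
    (QuotientGroup.quotientMulEquivOfEq hker.symm).trans (QuotientGroup.quotientKerEquivOfSurjective f hf)
  by_cases hp : p ∣ Nat.card ↥(Y.map π)
  · obtain ⟨hns, hlay, htr⟩ := h.dvd_case hp
    refine Or.inr ⟨fun hs => hns ?_, hcn, ?_, ?_, fun K₁ K₂ h₁ h₂ => ?_⟩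
    · haveI := hs
      exact Group.isSolvable_of_surjective hf
    · rw [Nat.card_congr e.toEquiv]; exact hp
    · rw [← Components.layer_map_mulEquiv e.symm, hlay]
      exact map_top_of_surjective _ e.symm.surjective
    · obtain ⟨s, ⟨s₀, hs₀, rfl⟩, hs⟩ := htr (K₁.map e.toMonoidHom) (K₂.map e.toMonoidHom)
        (IsComponent.mapEquiv h₁ e) (IsComponent.mapEquiv h₂ e)
      refine ⟨s₀, hs₀, ?_⟩
      have key : ∀ (K : Subgroup (↥Y ⧸ pCore p ↥Y)),
          (K.comap (QuotientGroup.mk' (pCore p ↥Y))).map Y.subtype =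
            Y ⊓ ((K.map e.toMonoidHom).map (Y.map π).subtype).comap π := by
        intro K
        ext g
        constructor
        · rintro ⟨y, hy, rfl⟩
          exact ⟨y.2, _, mem_map_of_mem _ hy, rfl⟩
        · rintro ⟨hg, u, ⟨k, hk, rfl⟩, hu⟩
          obtain ⟨y, rfl⟩ := QuotientGroup.mk'_surjective _ k
          refine ⟨⟨g, hg⟩, ?_, rfl⟩
          show QuotientGroup.mk' (pCore p ↥Y) ⟨g, hg⟩ ∈ K
          have : e (QuotientGroup.mk' (pCore p ↥Y) ⟨g, hg⟩) = e (QuotientGroup.mk' (pCore p ↥Y) y) :=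
            Subtype.ext hu.symm
          rw [e.injective this]
          exact hk
      rw [key, key, hs]
      ext g
      have hconj : ∀ Kb : Subgroup (G ⧸ pCore p G),
          g ∈ (Kb.map (MulAut.conj (π s₀)).toMonoidHom).comap π ↔ s₀⁻¹ * g * s₀ ∈ Kb.comap π := by
        intro Kb
        rw [mem_comap, mem_comap, map_mul, map_mul, map_inv]
        constructor
        · rintro ⟨k, hk, e⟩
          rw [← e]
          simpa [mul_assoc] using hk
        · intro hk
          exact ⟨_, hk, by simp [mul_assoc]⟩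
      constructor
      · rintro ⟨hgY, hg⟩
        exact ⟨s₀⁻¹ * g * s₀, ⟨by simpa using hYn.conj_mem g hgY s₀⁻¹, (hconj _).mp hg⟩, by simp [mul_assoc]⟩
      · rintro ⟨w, ⟨hwY, hw⟩, rfl⟩
        refine ⟨hYn.conj_mem w hwY s₀, (hconj _).mpr ?_⟩
        simpa [mul_assoc] using hw
  · obtain ⟨t, ht, htp, hYt, hAY, hcl⟩ := h.coprime_case hp
    haveI := Fact.mk ht
    have hXt : IsPGroup t (↥Y ⧸ pCore p ↥Y) := hYt.of_equiv e.symm
    haveI := hXt.isNilpotent
    refine Or.inl ⟨?_, hcn, t, ht, htp, hXt, inferInstance, ?_⟩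
    · subst hY
      exact eq_normalClosure S P hSP hPmin L hL hiso hAY
    · rw [← Subgroup.upperCentralSeries_eq_top_iff_nilpotencyClass_le, eq_top_iff]
      intro x _
      rw [Subgroup.mem_upperCentralSeries_succ_iff]
      intro y
      rw [Subgroup.upperCentralSeries_one, mem_center_iff]
      intro z
      apply e.injective
      apply Subtype.ext
      rw [map_mul, map_mul, Subgroup.coe_mul, Subgroup.coe_mul, map_commutatorElement]
      exact (hcl _ (e x).2 _ (e y).2 _ (e z).2).symm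

theorem le_generalizedFitting :
    (pResidual p ↥P).map P.subtype ≤
      (generalizedFittingSubgroup (G ⧸ pCore p G)).comap (QuotientGroup.mk' (pCore p G)) :=
  map_le_iff_le_comap.mp (iso_quotient S P hSP hPmin L hL hiso _ rfl).le_generalizedFitting

end CfsgLib.LocalEvenB.IsolatedMinimal
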