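import Cfsg.Prelude.Def_IsolatedElements
import Cfsg.Prelude.Def_CaseTheorems
import Cfsg.Prelude.Def_Local
import Cfsg.Agent.Lib.LocalEvenB.Isolated
import Cfsg.Agent.Lib.Components.PComponents
import Cfsg.Agent.Lib.Solvable.FrattiniFitting
import Cfsg.Agent.Lib.OddOrder.OmegaLemma
import Cfsg.Agent.S0542

/-!
An isolated element of odd prime order in `p`-rank at most two: `F*(G)` is simple.
-/

set_option autoImplicit false
set_option linter.style.haveILetI false

namespace CfsgLib.LocalEvenB.IsolatedRankTwo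

open Cfsg Subgroup CfsgLib.Solvable CfsgLib.Components

variable {G : Type*} [Group G] [Finite G] {p : ℕ} [Fact p.Prime]

/-- In rank two, an element of order dividing `p` commuting with an independent pair lies in their span. -/
theorem exists_zpow_mul (hrank : PRankLE p 2 G) {a b y : G} (ha : orderOf a = p) (hb : b ^ p = 1)
    (hy : y ^ p = 1) (hab : Commute a b) (hay : Commute a y) (hby : Commute b y)
    (hnb : b ∉ zpowers a) : ∃ i j : ℤ, y = a ^ i * b ^ j := by
  have hcl : ∀ s : Set G, (∀ u ∈ s, ∀ v ∈ s, u * v = v * u) → (∀ u ∈ s, u ^ p = 1) →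
      IsMulCommutative (closure s) ∧ ∀ u ∈ closure s, u ^ p = 1 := by
    intro s hc he
    have h1 : closure s ≤ centralizer (closure s : Set G) := by
      rw [closure_le]
      intro u hu
      have h2 : closure s ≤ centralizer ({u} : Set G) := (closure_le _).mpr fun v hv =>
        mem_centralizer_singleton_iff.mpr (hc v hv u hu)
      exact mem_centralizer_iff.mpr fun v hv => mem_centralizer_singleton_iff.mp (h2 hv)
    refine ⟨⟨⟨fun u v => Subtype.ext (h1 v.2 u u.2)⟩⟩, fun u hu => ?_⟩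
    induction hu using closure_induction with
    | mem w hw => exact he w hw
    | one => exact one_pow p
    | mul w w' hw hw' h h' =>
      rw [(show Commute w w' from h1 hw' w hw).mul_pow, h, h', one_mul]
    | inv w _ h => rw [inv_pow, h, inv_one]
  have hap : a ^ p = 1 := ha ▸ pow_orderOf_eq_one a
  obtain ⟨hc2, he2⟩ := hcl {a, b}
    (by rintro u (rfl | rfl) v (rfl | rfl) <;> first | rfl | exact hab.eq | exact hab.symm.eq)
    (by rintro u (rfl | rfl) <;> assumption)
  obtain ⟨hc3, he3⟩ := hcl {a, b, y}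
    (by
      rintro u (rfl | rfl | rfl) v (rfl | rfl | rfl) <;>
        first | rfl | exact hab.eq | exact hab.symm.eq | exact hay.eq | exact hay.symm.eq | exact hby.eq | exact hby.symm.eq)
    (by rintro u (rfl | rfl | rfl) <;> assumption)
  obtain ⟨k, hk⟩ := IsPGroup.iff_card.mp
    (fun u => ⟨1, Subtype.ext (by simpa using he2 u u.2)⟩ : IsPGroup p (closure ({a, b} : Set G)))
  have hlt : zpowers a < closure ({a, b} : Set G) := lt_of_le_of_ne
    (zpowers_le.mpr (subset_closure (Or.inl rfl)))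
    (fun h => hnb (h ▸ subset_closure (Or.inr rfl)))
  have hcard : p < p ^ k := by
    rw [← hk, ← ha, ← Nat.card_zpowers]
    by_contra hle
    exact hlt.ne (eq_of_le_of_card_ge hlt.le (not_lt.mp hle))
  have hk2 : 2 ≤ k := by
    by_contra hle
    have := Nat.pow_le_pow_right (Fact.out : p.Prime).pos (by omega : k ≤ 1)
    rw [pow_one] at this
    omega
  have heq : closure ({a, b} : Set G) = closure {a, b, y} :=
    eq_of_le_of_card_ge (closure_mono (by rintro u (rfl | rfl) <;> simp))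
      ((hrank _ hc3 he3).trans (hk ▸ Nat.pow_le_pow_right (Fact.out : p.Prime).pos hk2))
  have hym : y ∈ closure ({a, b} : Set G) := heq ▸ subset_closure (Or.inr (Or.inr rfl))
  clear heq hy hay hby hc3 he3
  induction hym using closure_induction with
  | mem w hw =>
    rcases hw with rfl | rfl
    · exact ⟨1, 0, by simp⟩
    · exact ⟨0, 1, by simp⟩
  | one => exact ⟨0, 0, by simp⟩
  | mul w w' _ _ h h' =>
    obtain ⟨i, j, rfl⟩ := h
    obtain ⟨i', j', rfl⟩ := h'
    refine ⟨i + i', j + j', ?_⟩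
    rw [zpow_add, zpow_add, mul_assoc, ← mul_assoc (b ^ j), (hab.symm.zpow_zpow j i').eq]
    group
  | inv w _ h =>
    obtain ⟨i, j, rfl⟩ := h
    exact ⟨-i, -j, by rw [mul_inv_rev, ← zpow_neg, ← zpow_neg, (hab.symm.zpow_zpow (-j) (-i)).eq]⟩

variable {x : G}

theorem pCore_eq_bot (hp : p ≠ 2) (hcore : pPrimeCore p G = ⊥) (hrank : PRankLE p 2 G)
    (hx : orderOf x = p) (hiso : IsIsolated x) (hnc : x ∉ center G) : pCore p G = ⊥ := by
  have hxR : x ∉ pCore p G := fun hmem => hnc <| mem_center_iff.mpr fun g => by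
    have := hiso g (mem_centralizer_singleton_iff.mp
      (Isolated.le_centralizer hiso (Cores.isPGroup_pCore p) hmem
        (Normal.conj_mem inferInstance x hmem g))).symm
    calc g * x = g * x * g⁻¹ * g := by group
      _ = x * g := by rw [this]
  by_contra hR
  have hx1 : x ≠ 1 := fun h => (Fact.out : p.Prime).ne_one (by rw [← hx, h, orderOf_one])
  have hxk : ∃ k : ℕ, orderOf x = p ^ k := ⟨1, by rw [hx, pow_one]⟩
  obtain ⟨P, hP⟩ := (IsPGroup.of_card (p := p) (n := 1)
    (by rw [Nat.card_zpowers, hx, pow_one] : Nat.card (zpowers x) = p ^ 1)).exists_le_sylow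
  have hxP : x ∈ (P : Subgroup G) := hP (mem_zpowers x)
  have hRP : pCore p G ≤ P := Cores.pCore_le_sylow P
  haveI := P.isPGroup'.isNilpotent
  haveI : ((pCore p G).subgroupOf (P : Subgroup G)).Normal := inferInstance
  have hne := FrattiniFitting.inf_center_ne_bot ((pCore p G).subgroupOf (P : Subgroup G))
    (fun h => hR (le_bot_iff.mp (by
      intro r hr
      have : (⟨r, hRP hr⟩ : (P : Subgroup G)) ∈ (pCore p G).subgroupOf (P : Subgroup G) := hr
      rw [h, mem_bot] at this
      exact congrArg Subtype.val this)))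
  obtain ⟨m, hm⟩ := IsPGroup.iff_card.mp
    (P.isPGroup'.to_subgroup ((pCore p G).subgroupOf (P : Subgroup G) ⊓ center (P : Subgroup G)))
  have hm0 : m ≠ 0 := fun h0 => hne (eq_bot_of_card_eq _ (by rw [hm, h0, pow_zero]))
  obtain ⟨zz, hz⟩ := exists_prime_orderOf_dvd_card'
    (G := ((pCore p G).subgroupOf (P : Subgroup G) ⊓ center (P : Subgroup G) : Subgroup (P : Subgroup G)))
    p (hm ▸ dvd_pow_self p hm0)
  obtain ⟨⟨z, hzP⟩, hzmem⟩ := zz
  rw [← orderOf_coe, ← orderOf_coe] at hz
  obtain ⟨hzR, hzZ⟩ := mem_inf.mp hzmem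
  replace hzR : z ∈ pCore p G := hzR
  replace hz : orderOf z = p := hz
  have hzc : ∀ y ∈ (P : Subgroup G), Commute y z := fun y hy =>
    congrArg Subtype.val (mem_center_iff.mp hzZ ⟨y, hy⟩)
  have hzp : z ^ p = 1 := hz ▸ pow_orderOf_eq_one z
  have hxp : x ^ p = 1 := hx ▸ pow_orderOf_eq_one x
  have hxi : ∀ i : ℤ, x ^ i ∈ pCore p G → x ^ i = 1 := fun i hi => by
    by_contra h1
    have hord : orderOf (x ^ i) = p := orderOf_eq_prime
      (by rw [← zpow_natCast, ← zpow_mul, mul_comm, zpow_mul, zpow_natCast, hxp, one_zpow]) h1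
    have : zpowers (x ^ i) = zpowers x := eq_of_le_of_card_ge
      (zpowers_le.mpr (zpow_mem (mem_zpowers x) i))
      (by rw [Nat.card_zpowers, Nat.card_zpowers, hord, hx])
    exact hxR ((zpowers_le.mpr hi) (this ▸ mem_zpowers x))
  have hzx : z ∉ zpowers x := by
    rintro ⟨i, hi⟩
    exact (Fact.out : p.Prime).ne_one (by
      rw [← hz, show z = 1 from hi.symm.trans (hxi i (by rw [show x ^ i = z from hi]; exact hzR)),
        orderOf_one])
  have hW : ∀ y ∈ (P : Subgroup G), y ^ p = 1 → ∃ i j : ℤ, y = x ^ i * z ^ j := fun y hy hyp =>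
    exists_zpow_mul hrank hx hzp hyp (hzc x hxP)
      (mem_centralizer_singleton_iff.mp (Isolated.le_centralizer hiso P.isPGroup' hxP hy)).symm
      (hzc y hy).symm hzx
  have hnorm : ∀ g : G, g * z * g⁻¹ ∈ zpowers z := fun g => by
    have hmem := Normal.conj_mem (inferInstance : (pCore p G).Normal) z hzR g
    obtain ⟨i, j, hij⟩ := hW _ (hRP hmem) (by rw [conj_pow, hzp]; group)
    have : x ^ i ∈ pCore p G := by
      have h1 : x ^ i = g * z * g⁻¹ * (z ^ j)⁻¹ := by rw [hij]; group
      exact h1 ▸ mul_mem hmem (inv_mem (zpow_mem hzR j))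
    rw [hij, hxi i this, one_mul]
    exact zpow_mem (mem_zpowers z) j
  set C := centralizer ({z} : Set G) with hCdef
  haveI hCn : C.Normal := ⟨fun c hc g => by
    obtain ⟨k, hk⟩ := hnorm g⁻¹
    have hck : Commute c (g⁻¹ * z * g) := by
      have : z ^ k = g⁻¹ * z * g := hk.trans (by rw [inv_inv])
      rw [← this]
      exact (show Commute c z from mem_centralizer_singleton_iff.mp hc).zpow_right k
    rw [mem_centralizer_singleton_iff]
    calc g * c * g⁻¹ * z = g * (c * (g⁻¹ * z * g)) * g⁻¹ := by group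
      _ = g * ((g⁻¹ * z * g) * c) * g⁻¹ := by rw [hck.eq]
      _ = z * (g * c * g⁻¹) := by group⟩
  have hPC : (P : Subgroup G) ≤ C := fun y hy => mem_centralizer_singleton_iff.mpr (hzc y hy).eq
  set Pc : Sylow p C := P.subtype hPC
  have hnpc : HasNormalPComplement p C := by
    refine Fusion.Alperin.npc_of_frobenius Pc fun Q hQ g hg hog => ?_
    refine OddOrder.OmegaLemma.le_centralizer_of_fix_orderP hp (Pc.2.to_le hQ) (zpowers_le.mpr hg)
      (by rwa [Nat.card_zpowers]) (fun y hy hyp => ?_) (mem_zpowers g)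
    rw [zpowers_le, mem_centralizer_singleton_iff]
    have hyP : (y : G) ∈ (P : Subgroup G) := hQ hy
    have hyp' : (y : G) ^ p = 1 := by simpa using congrArg Subtype.val hyp
    have hgy : (g : G) * y * (g : G)⁻¹ ∈ (P : Subgroup G) :=
      hQ ((mem_normalizer_iff.mp hg y).mp hy)
    obtain ⟨i, j, hij⟩ := hW _ hyP hyp'
    have hgz : Commute (g : G) (z ^ j) :=
      (show Commute (g : G) z from mem_centralizer_singleton_iff.mp g.2).zpow_right j
    have h1 : (g : G) * y * (g : G)⁻¹ = (g : G) * x ^ i * (g : G)⁻¹ * z ^ j := by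
      rw [hij, mul_assoc ((g : G) * x ^ i), hgz.symm.inv_right.symm.eq]
      group
    have h2 : (g : G) * x ^ i * (g : G)⁻¹ = x ^ i := by
      refine Isolated.stronglyClosed_step hxk hiso P hxP (zpow_mem (mem_zpowers x) i) ?_
      rw [h1] at hgy
      exact (mul_mem_cancel_right (zpow_mem hzP j)).mp hgy
    rw [h2, ← hij] at h1
    refine Subtype.ext ?_
    simp only [Subgroup.coe_mul]
    calc (g : G) * y = (g : G) * y * (g : G)⁻¹ * g := by group
      _ = y * g := by rw [h1]
  haveI : (pResidual p C).Characteristic := characteristic_iff_map_le.mpr fun φ =>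
    Fusion.Basic.map_pResidual_le φ.toMonoidHom
  have hres : pResidual p C = ⊥ := by
    have h1 : (pResidual p C).map C.subtype ≤ pPrimeCore p G := Cores.le_pPrimeCore (by
      rw [card_map_of_injective C.subtype_injective]
      exact Fusion.Basic.npc_iff_coprime.mp hnpc)
    rw [hcore, le_bot_iff, map_eq_bot_iff_of_injective _ C.subtype_injective] at h1
    exact h1
  have hCP : C ≤ (P : Subgroup G) := fun c hc => by
    obtain ⟨w, hw, u, hu, he⟩ := Fusion.Basic.exists_eq_pResidual_mul Pc ⟨c, hc⟩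
    rw [hres, mem_bot] at hw
    rw [hw, one_mul] at he
    have : (⟨c, hc⟩ : C) ∈ (Pc : Subgroup C) := he ▸ hu
    exact this
  exact hxR (Cores.le_pCore (P.isPGroup'.to_le hCP) (hPC hxP))

theorem center_component_eq_bot {L : Subgroup G} (hL : IsComponent L)
    (hF : fittingSubgroup G = ⊥) : center L = ⊥ := by
  have h1 := map_mono (f := L.subtype) (Cores.le_fittingSubgroup (N := center L) (isNilpotent_of_isMulCommutative _))
  have h2 := h1.trans (fittingSubgroup_map_subtype_le hL.1)
  rwa [hF, le_bot_iff, map_eq_bot_iff_of_injective _ L.subtype_injective] at h2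

theorem isSimple_component {L : Subgroup G} (hL : IsComponent L) (hF : fittingSubgroup G = ⊥) :
    IsSimpleGroup L ∧ ¬ IsMulCommutative L := by
  have hc := center_component_eq_bot hL hF
  haveI := hL.2.2
  refine ⟨((QuotientGroup.quotientMulEquivOfEq hc).trans
    QuotientGroup.quotientBot).symm.isSimpleGroup, fun hab => ?_⟩
  haveI := hab
  apply IsComponent.not_le_centralizer hL
  intro a ha
  rw [mem_centralizer_iff]
  exact fun b hb => congrArg Subtype.val (hab.is_comm.comm (⟨b, hb⟩ : L) ⟨a, ha⟩)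

theorem eq_one_of_factor (hp : p ≠ 2) (hcore : pPrimeCore p G = ⊥) (hrank : PRankLE p 2 G)
    (hF : fittingSubgroup G = ⊥) (hiso : IsIsolated x) {L1 L2 : Subgroup G}
    (h1 : IsComponent L1) (hcomm : L1 ≤ centralizer (L2 : Set G)) (hdis : L1 ⊓ L2 = ⊥)
    {a b : G} (ha : a ∈ L1) (hb : b ∈ L2) (hap : a ^ p = 1) {b0 : G} (hb0 : b0 ∈ L2)
    (hb0p : orderOf b0 = p) (hxab : x = a * b) : a = 1 := by
  by_contra ha1
  have hcm : ∀ u ∈ L1, ∀ v ∈ L2, Commute u v := fun u hu v hv => (hcomm hu v hv).symm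
  have hord : orderOf (⟨a, ha⟩ : L1) = p := by rw [orderOf_mk]; exact orderOf_eq_prime hap ha1
  have hb01 : b0 ≠ 1 := fun h => (Fact.out : p.Prime).ne_one (by rw [← hb0p, h, orderOf_one])
  have hiso' : IsIsolated (⟨a, ha⟩ : L1) := by
    rintro ⟨g, hg⟩ hc
    have hc' : Commute a (g * a * g⁻¹) := congrArg Subtype.val hc.eq
    have hgb : g * b * g⁻¹ = b := by rw [(hcm g hg b hb).eq]; group
    have he : g * x * g⁻¹ = g * a * g⁻¹ * b := by
      rw [hxab, show g * (a * b) * g⁻¹ = g * a * g⁻¹ * (g * b * g⁻¹) by group, hgb]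
    have hga : g * a * g⁻¹ ∈ L1 := mul_mem (mul_mem hg ha) (inv_mem hg)
    have hcx : Commute x (g * x * g⁻¹) := by
      rw [he, hxab]
      exact ((hc'.mul_right (hcm a ha b hb)).mul_left
        ((hcm _ hga b hb).symm.mul_right (Commute.refl b)))
    have := hiso g hcx
    rw [he, hxab] at this
    exact Subtype.ext (mul_right_cancel this)
  have hr1 : PRankLE p 1 L1 := by
    intro A hA hAp
    rw [pow_one]
    rcases eq_or_ne A ⊥ with rfl | hA1
    · rw [card_bot]; exact (Fact.out : p.Prime).pos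
    obtain ⟨⟨c, hc⟩, hcA, hc1⟩ := (bot_or_exists_ne_one A).resolve_left hA1
    have hcp : c ^ p = 1 := by simpa using congrArg Subtype.val (hAp _ hcA)
    have hc1' : c ≠ 1 := fun h => hc1 (Subtype.ext h)
    have hco : orderOf c = p := orderOf_eq_prime hcp hc1'
    have hle : A ≤ zpowers (⟨c, hc⟩ : L1) := by
      rintro ⟨y, hy⟩ hyA
      obtain ⟨i, j, hij⟩ := exists_zpow_mul (y := y) hrank hco (hb0p ▸ pow_orderOf_eq_one b0)
        (by simpa using congrArg Subtype.val (hAp _ hyA)) (hcm c hc b0 hb0)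
        (congrArg Subtype.val (congrArg Subtype.val (hA.is_comm.comm (⟨_, hcA⟩ : A) ⟨_, hyA⟩)))
        (hcm y hy b0 hb0).symm
        (by
          rintro ⟨i, hi⟩
          have : b0 ∈ L1 ⊓ L2 := ⟨hi ▸ zpow_mem hc i, hb0⟩
          rw [hdis, mem_bot] at this
          exact hb01 this)
      have hj : b0 ^ j = (c ^ i)⁻¹ * y := by rw [show y = c ^ i * b0 ^ j from hij]; group
      have : b0 ^ j ∈ L1 ⊓ L2 :=
        mem_inf.mpr ⟨hj ▸ mul_mem (inv_mem (zpow_mem hc i)) hy, zpow_mem hb0 j⟩
      rw [hdis, mem_bot] at this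
      rw [this, mul_one] at hij
      exact ⟨i, Subtype.ext (by simpa using hij.symm)⟩
    calc Nat.card A ≤ Nat.card (zpowers (⟨c, hc⟩ : L1)) := Nat.le_of_dvd Nat.card_pos (card_dvd_of_le hle)
      _ = p := by rw [Nat.card_zpowers, orderOf_mk, hco]
  have hz := Isolated.inZStar_of_rank_one hp hr1 hord hiso'
  have hcoreL : pPrimeCore p L1 = ⊥ := by
    have h := pPrimeCore_map_subtype_le (p := p) h1.1
    rwa [hcore, le_bot_iff, map_eq_bot_iff_of_injective _ L1.subtype_injective] at h
  have : (⟨a, ha⟩ : L1) ∈ center L1 := mem_center_iff.mpr fun g => by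
    have hg := hz g
    rw [hcoreL, mem_bot] at hg
    calc g * ⟨a, ha⟩ = g * ⟨a, ha⟩ * g⁻¹ * (⟨a, ha⟩ : L1)⁻¹ * ⟨a, ha⟩ * g := by group
      _ = ⟨a, ha⟩ * g := by rw [hg, one_mul]
  rw [center_component_eq_bot h1 hF, mem_bot] at this
  exact ha1 (congrArg Subtype.val this)

theorem generalizedFitting_simple (hp : p ≠ 2) (hcore : pPrimeCore p G = ⊥)
    (hrank : PRankLE p 2 G) (hx : orderOf x = p) (hiso : IsIsolated x) (hnc : x ∉ center G) :
    IsSimpleGroup ↥(generalizedFittingSubgroup G) ∧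
      ¬ IsMulCommutative ↥(generalizedFittingSubgroup G) := by
  have hx1 : x ≠ 1 := fun h => (Fact.out : p.Prime).ne_one (by rw [← hx, h, orderOf_one])
  have hR := pCore_eq_bot hp hcore hrank hx hiso hnc
  have hF : fittingSubgroup G = ⊥ := by
    rw [Cores.fittingSubgroup_eq_iSup_pCore, iSup_eq_bot]
    intro q
    haveI := Fact.mk q.2
    by_cases hq : (q : ℕ) = p
    · rw [hq]; exact hR
    · exact le_bot_iff.mp (hcore ▸ Cores.pCore_le_pPrimeCore (p := (q : ℕ)) (Fact.out : p.Prime) hq)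
  have hFs : generalizedFittingSubgroup G = layer G := by
    rw [generalizedFittingSubgroup, hF, sup_bot_eq]
  obtain ⟨L1, hL1⟩ : ∃ L : Subgroup G, IsComponent L := by
    by_contra hno
    push Not at hno
    have h := centralizer_generalizedFitting_le (G := G)
    rw [hFs, layer_eq_bot_iff.mpr hno] at h
    exact hx1 (mem_bot.mp (h (mem_centralizer_iff.mpr fun u hu => by
      rw [coe_bot, Set.mem_singleton_iff] at hu; simp [hu])))
  suffices hu : ∀ L2, IsComponent L2 → L2 = L1 by
    have : layer G = L1 := le_antisymm (layer_le_iff.mpr fun L hL => (hu L hL).le)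
      (IsComponent.le_layer hL1)
    rw [hFs, this]
    exact isSimple_component hL1 hF
  intro L2 hL2
  by_contra hne
  have hdis : ∀ A B : Subgroup G, IsComponent A → A ≤ centralizer (B : Set G) → A ⊓ B = ⊥ := by
    intro A B hA hc
    rw [eq_bot_iff]
    rintro u ⟨huA, huB⟩
    have : (⟨u, huA⟩ : A) ∈ center A :=
      mem_center_iff.mpr fun g => Subtype.ext (hc g.2 u huB).symm
    rw [center_component_eq_bot hA hF, mem_bot] at this
    exact mem_bot.mpr (congrArg Subtype.val this)
  obtain ⟨P, hP⟩ := (IsPGroup.of_card (p := p) (n := 1)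
    (by rw [Nat.card_zpowers, hx, pow_one] : Nat.card (zpowers x) = p ^ 1)).exists_le_sylow
  have hxP : x ∈ (P : Subgroup G) := hP (mem_zpowers x)
  have hex : ∀ L : Subgroup G, IsComponent L →
      ∃ a ∈ L, a ∈ (P : Subgroup G) ∧ orderOf a = p := by
    intro L hL
    obtain ⟨Q, hQ⟩ := Cfsg.Agent.S0542.result p L hL.1 P
    obtain ⟨⟨⟨a, haL⟩, haQ⟩, ha⟩ := exists_prime_orderOf_dvd_card' (G := (Q : Subgroup L)) p
      (Q.dvd_card_of_dvd_card (component_dvd_card_of_pPrimeCore_eq_bot hcore hL))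
    rw [orderOf_mk, orderOf_mk] at ha
    exact ⟨a, haL, (by rw [hQ] at haQ; exact haQ), ha⟩
  obtain ⟨a, haL, haP, ha⟩ := hex L1 hL1
  obtain ⟨b, hbL, hbP, hb⟩ := hex L2 hL2
  have hc12 := IsComponent.le_centralizer_of_ne hL1 hL2 (Ne.symm hne)
  have hc21 := IsComponent.le_centralizer_of_ne hL2 hL1 hne
  have hd12 := hdis L1 L2 hL1 hc12
  have hd21 := hdis L2 L1 hL2 hc21
  have hap : a ^ p = 1 := ha ▸ pow_orderOf_eq_one a
  have hbp : b ^ p = 1 := hb ▸ pow_orderOf_eq_one b
  have hxc : ∀ y ∈ (P : Subgroup G), Commute y x := fun y hy =>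
    mem_centralizer_singleton_iff.mp (Isolated.le_centralizer hiso P.isPGroup' hxP hy)
  obtain ⟨i, j, hij⟩ := exists_zpow_mul hrank ha hbp (hx ▸ pow_orderOf_eq_one x)
    (hc12 haL b hbL).symm (hxc a haP) (hxc b hbP) (by
      rintro ⟨i, hi⟩
      have : b ∈ L1 ⊓ L2 := ⟨hi ▸ zpow_mem haL i, hbL⟩
      rw [hd12, mem_bot] at this
      exact (Fact.out : p.Prime).ne_one (by rw [← hb, this, orderOf_one]))
  have hpow : ∀ (u : G) (k : ℤ), u ^ p = 1 → (u ^ k) ^ p = 1 := fun u k hu => by
    rw [← zpow_natCast, ← zpow_mul, mul_comm, zpow_mul, zpow_natCast, hu, one_zpow]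
  have ha' := eq_one_of_factor hp hcore hrank hF hiso hL1 hc12 hd12 (zpow_mem haL i)
    (zpow_mem hbL j) (hpow a i hap) hbL hb hij
  have hb' := eq_one_of_factor hp hcore hrank hF hiso hL2 hc21 hd21 (zpow_mem hbL j)
    (zpow_mem haL i) (hpow b j hbp) haL ha
    (hij.trans (hc12 (zpow_mem haL i) _ (zpow_mem hbL j)).symm)
  exact hx1 (by rw [hij, ha', hb', one_mul])

end CfsgLib.LocalEvenB.IsolatedRankTwo
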