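import Cfsg.Prelude.Def_JComponents
import Cfsg.Agent.Lib.Fusion.Thompson
import Cfsg.Agent.Lib.LocalEven.SylowIn
import Cfsg.Agent.Lib.LocalEven.Commutators

/-!
`Ω₁(Z(J(T)))` for a `J(T)`-component `K`: it is the product of its part in `Z(⟨K, J(T)⟩)` and the
involution it shares with `W_K`.
-/

set_option autoImplicit false
set_option linter.style.haveILetI false
set_option linter.unusedSectionVars false

namespace CfsgLib.LocalEvenB.JComponent

universe u

open Subgroup
open CfsgLib.LocalEven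

variable {G : Type u} [Group G] [Finite G]

/-- `A` is an elementary abelian subgroup of largest order of `S`. -/
def MaxIn (S A : Subgroup G) : Prop :=
  A ≤ S ∧ Cfsg.IsElementaryAbelian 2 A ∧
    ∀ B : Subgroup G, B ≤ S → Cfsg.IsElementaryAbelian 2 B → Nat.card B ≤ Nat.card A

theorem maxIn_le {S A : Subgroup G} (h : MaxIn S A) : A ≤ Cfsg.thompsonSubgroupOf 2 S := by
  intro x hx
  refine ⟨⟨x, h.1 hx⟩, le_sSup (s := Cfsg.maxElementaryAbelianSubgroups 2 S) (a := A.subgroupOf S)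
    ⟨Fusion.Thompson.isEA_subgroupOf h.2.1 S, fun B hB => ?_⟩ hx, rfl⟩
  rw [Nat.card_congr (subgroupOfEquivOfLe h.1).toEquiv, ← card_map_of_injective S.subtype_injective]
  exact h.2.2 _ (map_subtype_le B) (Fusion.Thompson.isEA_map _ hB)

theorem thompson_le {S Y : Subgroup G} (h : ∀ A, MaxIn S A → A ≤ Y) :
    Cfsg.thompsonSubgroupOf 2 S ≤ Y := by
  rw [Cfsg.thompsonSubgroupOf, map_le_iff_le_comap]
  refine sSup_le fun B hB => map_le_iff_le_comap.1 (h _ ⟨map_subtype_le B,
    Fusion.Thompson.isEA_map _ hB.1, fun C hCS hC => ?_⟩)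
  rw [card_map_of_injective S.subtype_injective, ← Nat.card_congr (subgroupOfEquivOfLe hCS).toEquiv]
  exact hB.2 _ (Fusion.Thompson.isEA_subgroupOf hC S)

theorem exists_maxIn (S : Subgroup G) : ∃ A, MaxIn S A := by
  obtain ⟨B, hB⟩ := Fusion.Thompson.exists_maxEA (p := 2) (G := S)
  refine ⟨B.map S.subtype, map_subtype_le B, Fusion.Thompson.isEA_map _ hB.1, fun C hCS hC => ?_⟩
  rw [card_map_of_injective S.subtype_injective, ← Nat.card_congr (subgroupOfEquivOfLe hCS).toEquiv]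
  exact hB.2 _ (Fusion.Thompson.isEA_subgroupOf hC S)

theorem mul_self_of_isEA {A : Subgroup G} (hA : Cfsg.IsElementaryAbelian 2 A) {a : G} (ha : a ∈ A) :
    a * a = 1 := by rw [← pow_two]; exact hA.2 a ha

theorem isEA_sup {A B : Subgroup G} (hA : Cfsg.IsElementaryAbelian 2 A)
    (hB : Cfsg.IsElementaryAbelian 2 B) (hAB : A ≤ centralizer (B : Set G)) :
    Cfsg.IsElementaryAbelian 2 (A ⊔ B : Subgroup G) := by
  have hBA : B ≤ centralizer (A : Set G) := le_centralizer_iff.1 hAB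
  have hAA : A ≤ centralizer (A : Set G) := fun x hx =>
    mem_centralizer_iff.2 fun y hy => Fusion.Thompson.mul_comm_of_isEA hA hy hx
  have hBB : B ≤ centralizer (B : Set G) := fun x hx =>
    mem_centralizer_iff.2 fun y hy => Fusion.Thompson.mul_comm_of_isEA hB hy hx
  have hc : A ⊔ B ≤ centralizer ((A ⊔ B : Subgroup G) : Set G) :=
    sup_le (le_centralizer_iff.1 (sup_le hAA hBA)) (le_centralizer_iff.1 (sup_le hAB hBB))
  refine ⟨IsMulCommutative.of_comm fun a b =>
    Subtype.ext (mem_centralizer_iff.1 (hc b.2) a a.2), fun x hx => ?_⟩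
  have hx' : x ∈ closure ((A : Set G) ∪ (B : Set G)) := by rwa [← Subgroup.sup_eq_closure]
  clear hx
  induction hx' using closure_induction with
  | mem y hy => exact hy.elim (hA.2 y) (hB.2 y)
  | one => exact one_pow 2
  | mul a b ha hb ia ib =>
    rw [← Subgroup.sup_eq_closure] at ha hb
    have hcab : Commute a b := mem_centralizer_iff.1 (hc hb) a ha
    rw [hcab.mul_pow, ia, ib, one_mul]
  | inv a _ ia => rw [inv_pow, ia, inv_one]

theorem isEA_zpowers {f : G} (hf : f * f = 1) : Cfsg.IsElementaryAbelian 2 (zpowers f) := by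
  refine ⟨IsMulCommutative.of_comm fun a b => Subtype.ext ?_, ?_⟩
  · obtain ⟨i, hi⟩ := a.2
    obtain ⟨j, hj⟩ := b.2
    simp only [Subgroup.coe_mul, ← hi, ← hj]
    rw [← zpow_add, ← zpow_add, add_comm]
  · rintro _ ⟨i, rfl⟩
    show (f ^ i) ^ 2 = 1
    rw [← zpow_natCast, ← zpow_mul, mul_comm, zpow_mul, zpow_natCast, pow_two, hf, one_zpow]

/-- A central involution of `S` in a maximal elementary abelian subgroup. -/
theorem mem_of_maxIn {S A : Subgroup G} (hA : MaxIn S A) {f : G} (hfS : f ∈ S) (hf : f * f = 1)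
    (hc : ∀ a ∈ A, a * f = f * a) : f ∈ A := by
  have hle : zpowers f ≤ centralizer (A : Set G) := zpowers_le.2 (mem_centralizer_iff.2 hc)
  have h := eq_of_le_of_card_ge (le_sup_left : A ≤ A ⊔ zpowers f)
    (hA.2.2 _ (sup_le hA.1 (zpowers_le.2 hfS)) (isEA_sup hA.2.1 (isEA_zpowers hf)
      (le_centralizer_iff.1 hle)))
  rw [h]; exact mem_sup_right (mem_zpowers f)

theorem omegaCenterOf_le (X : Subgroup G) : Cfsg.omegaCenterOf X ≤ X ⊓ centralizer (X : Set G) :=
  (closure_le _).2 fun _ h => h.1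

theorem mul_self_of_mem_omegaCenterOf (X : Subgroup G) {u : G} (hu : u ∈ Cfsg.omegaCenterOf X) :
    u * u = 1 := by
  rw [← pow_two]
  induction hu using closure_induction with
  | mem x hx => exact hx.2
  | one => exact one_pow 2
  | mul x y hx hy ix iy =>
    have hc : Commute x y :=
      mem_centralizer_iff.1 ((omegaCenterOf_le X hy).2) x (omegaCenterOf_le X hx).1
    rw [hc.mul_pow, ix, iy, one_mul]
  | inv x _ ix => rw [inv_pow, ix, inv_one]

theorem normalizer_le_omegaCenterOf (X : Subgroup G) :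
    normalizer (X : Set G) ≤ normalizer (Cfsg.omegaCenterOf X : Set G) := by
  refine SylowIn.le_normalizer_of_map_conj fun g hg => ?_
  rw [Cfsg.omegaCenterOf, SylowIn.omegaOne_map, Subgroup.map_inf _ _ _ (MulAut.conj g).injective,
    ← SylowIn.centralizer_map_conj, SylowIn.map_conj_eq_iff.2 hg]

theorem normalizer_le_pCoreOf (X : Subgroup G) :
    normalizer (X : Set G) ≤ normalizer (Cfsg.pCoreOf 2 X : Set G) := by
  haveI : Fact (Nat.Prime 2) := ⟨Nat.prime_two⟩
  refine SylowIn.le_normalizer_of_map_conj fun g hg => ?_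
  rw [SylowIn.pCoreOf_map_conj, SylowIn.map_conj_eq_iff.2 hg]

theorem four_cases {W : Subgroup G} (hW : Nat.card W = 4) {f w x : G} (hf : f ∈ W) (hf1 : f ≠ 1)
    (hw : w ∈ W) (hwf : w ≠ f) (hw1 : w ≠ 1) (hff : f * f = 1) (hx : x ∈ W) :
    x = 1 ∨ x = f ∨ x = w ∨ x = w * f := by
  classical
  haveI := Fintype.ofFinite W
  have h1 : ({1, ⟨f, hf⟩, ⟨w, hw⟩, ⟨w * f, mul_mem hw hf⟩} : Finset W) = Finset.univ := by
    apply Finset.eq_univ_of_card
    rw [← Nat.card_eq_fintype_card, hW]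
    have e1 : w * f ≠ 1 := fun e => hwf (by
      calc w = w * f * f := by rw [mul_assoc, hff, mul_one]
        _ = f := by rw [e, one_mul])
    have e2 : w * f ≠ f := fun e => hw1 (mul_eq_right.1 e)
    have e3 : w * f ≠ w := fun e => hf1 (mul_eq_left.1 e)
    simp [Finset.card_insert_of_notMem, Subtype.ext_iff, hf1, hf1.symm, hwf, hwf.symm, hw1, hw1.symm,
      e1, e1.symm, e2, e2.symm, e3, e3.symm]
  have h2 : (⟨x, hx⟩ : W) ∈ ({1, ⟨f, hf⟩, ⟨w, hw⟩, ⟨w * f, mul_mem hw hf⟩} : Finset W) :=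
    h1.symm ▸ Finset.mem_univ _
  simpa [Subtype.ext_iff] using h2

theorem main {T K : Subgroup G} (hT : IsPGroup 2 T) (hK : Cfsg.IsJComponent T K) :
    Nat.card ↥(Cfsg.omegaCenterOf (Cfsg.thompsonSubgroupOf 2 T) ⊓ Cfsg.wOf K) = 2 ∧
      (Cfsg.omegaCenterOf (Cfsg.thompsonSubgroupOf 2 T) ⊓ ((K ⊔ Cfsg.thompsonSubgroupOf 2 T) ⊓
          centralizer ((K ⊔ Cfsg.thompsonSubgroupOf 2 T : Subgroup G) : Set G))) ⊔
        (Cfsg.omegaCenterOf (Cfsg.thompsonSubgroupOf 2 T) ⊓ Cfsg.wOf K) =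
        Cfsg.omegaCenterOf (Cfsg.thompsonSubgroupOf 2 T) := by
  haveI : Fact (Nat.Prime 2) := ⟨Nat.prime_two⟩
  obtain ⟨hgen, hcomm, hidx, hJS, hW4, hWsq⟩ := hK
  set J := Cfsg.thompsonSubgroupOf 2 T with hJdef
  set Q := Cfsg.pCoreOf 2 K with hQdef
  set U := Cfsg.omegaCenterOf Q with hUdef
  set W := Cfsg.wOf K with hWdef
  set Z₀ := Cfsg.omegaCenterOf J with hZ₀def
  have hWeq : W = ⁅U, K⁆ := rfl
  have hJK : J ≤ normalizer (K : Set G) := by
    have := Commutators.normalizer_commutator_right K J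
    rwa [hcomm] at this
  have hQK : Q ≤ K := SylowIn.pCoreOf_le K
  have hKQ : K ≤ normalizer (Q : Set G) := SylowIn.normalizer_pCoreOf K
  have hNU : normalizer (K : Set G) ≤ normalizer (U : Set G) :=
    (normalizer_le_pCoreOf K).trans (normalizer_le_omegaCenterOf Q)
  have hNW : normalizer (K : Set G) ≤ normalizer (W : Set G) := by
    refine SylowIn.le_normalizer_of_map_conj fun g hg => ?_
    rw [hWeq, Subgroup.map_commutator, SylowIn.map_conj_eq_iff.2 (hNU hg), SylowIn.map_conj_eq_iff.2 hg]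
  have conj_mem : ∀ (X : Subgroup G) (g x : G), g ∈ normalizer (X : Set G) → x ∈ X → g * x * g⁻¹ ∈ X :=
    fun X g x hg hx => (mem_normalizer_iff.1 hg x).1 hx
  have hWU : W ≤ U := commutator_le.2 fun u hu k hk => by
    rw [commutatorElement_def]
    have := mul_mem hu (conj_mem U k u⁻¹ (hNU (le_normalizer hk)) (inv_mem hu))
    simpa [mul_assoc] using this
  have hWQ : W ≤ Q := hWU.trans ((omegaCenterOf_le Q).trans inf_le_left)
  have hQW : ∀ q ∈ Q, ∀ w ∈ W, q * w = w * q := fun q hq w hw =>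
    mem_centralizer_iff.1 (omegaCenterOf_le Q (hWU hw)).2 q hq
  have hWinv : ∀ w ∈ W, w⁻¹ = w := fun w hw => inv_eq_of_mul_eq_one_right (hWsq w hw)
  have hWab : ∀ v ∈ W, ∀ w ∈ W, v * w = w * v := fun v hv w hw => hQW v (hWQ hv) w hw
  have hW_ea : Cfsg.IsElementaryAbelian 2 W :=
    ⟨IsMulCommutative.of_comm fun a b => Subtype.ext (hWab a a.2 b b.2),
      fun w hw => by rw [pow_two]; exact hWsq w hw⟩
  -- some element of `K` moves `W`
  have hKW : ¬ ∀ k ∈ K, ∀ w ∈ W, k * w = w * k := by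
    intro hall
    have hW1 : W = ⊥ := by
      rw [hWeq, commutator_eq_bot_iff_le_centralizer, le_centralizer_iff]
      rw [← hgen, closure_le]
      rintro h ⟨hh, ho⟩
      refine mem_centralizer_iff.2 fun u hu => ?_
      set c := u * h * u⁻¹ * h⁻¹ with hc
      have hcW : c ∈ W := by
        rw [hWeq, hc, ← commutatorElement_def]; exact commutator_mem_commutator hu hh
      have hch : Commute c h := (hall h hh c hcW).symm
      have huh : u * h * u⁻¹ = c * h := by rw [hc]; group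
      have hpow : c ^ orderOf h = 1 := by
        have h1 : (u * h * u⁻¹) ^ orderOf h = 1 := by rw [conj_pow, pow_orderOf_eq_one]; group
        rwa [huh, hch.mul_pow, pow_orderOf_eq_one, mul_one] at h1
      obtain ⟨n, hn⟩ := ho
      rw [hn, pow_succ, pow_mul, pow_two, hWsq c hcW, one_pow, one_mul] at hpow
      calc u * h = u * h * u⁻¹ * u := by group
        _ = h * u := by rw [huh, hpow, one_mul]
    rw [hW1, card_bot] at hW4
    omega
  -- `J` moves `W`
  have hJW : ¬ ∀ j ∈ J, ∀ w ∈ W, j * w = w * j := by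
    intro hall
    refine hKW fun k hk w hw => ?_
    rw [← hcomm] at hk
    have hle : ⁅K, J⁆ ≤ centralizer (W : Set G) := commutator_le.2 fun a ha j hj => by
      refine mem_centralizer_iff.2 fun v hv => ?_
      have hv' : a⁻¹ * v * a ∈ W := by
        simpa using conj_mem W a⁻¹ v (hNW (inv_mem (le_normalizer ha))) hv
      have hji : j⁻¹ * v = v * j⁻¹ := hall _ (inv_mem hj) v hv
      rw [commutatorElement_def]
      calc v * (a * j * a⁻¹ * j⁻¹) = a * ((a⁻¹ * v * a) * j) * a⁻¹ * j⁻¹ := by group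
        _ = a * (j * (a⁻¹ * v * a)) * a⁻¹ * j⁻¹ := by rw [hall j hj _ hv']
        _ = a * j * a⁻¹ * (v * j⁻¹) := by group
        _ = a * j * a⁻¹ * (j⁻¹ * v) := by rw [hji]
        _ = a * j * a⁻¹ * j⁻¹ * v := by group
    exact (mem_centralizer_iff.1 (hle hk) w hw).symm
  -- elements of `K` centralizing `W` lie in `Q`
  have hcen : ∀ k ∈ K, (∀ w ∈ W, k * w = w * k) → k ∈ Q := by
    intro k hk hkW
    set C := K ⊓ centralizer (W : Set G) with hC
    have hQC : Q ≤ C := le_inf hQK fun q hq =>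
      mem_centralizer_iff.2 fun w hw => (hQW q hq w hw).symm
    have h3 : Q.relIndex C * C.relIndex K = 3 := by
      rw [relIndex_mul_relIndex _ _ _ hQC inf_le_left, hidx]
    rcases (Nat.dvd_prime Nat.prime_three).1 (Dvd.intro _ h3) with e | e
    · exact (relIndex_eq_one.1 e) (mem_inf.2 ⟨hk, mem_centralizer_iff.2 fun w hw => (hkW w hw).symm⟩)
    · exfalso
      rw [e] at h3
      have h1 : K ≤ C := relIndex_eq_one.1 (by omega)
      exact hKW fun k' hk' w hw => (mem_centralizer_iff.1 (h1 hk').2 w hw).symm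
  -- a Sylow subgroup containing `J` and `Q`
  have hJp : IsPGroup 2 J := hT.to_le (Fusion.Thompson.thompsonSubgroupOf_le T)
  have hJQn : J ≤ normalizer (Q : Set G) := hJK.trans (normalizer_le_pCoreOf K)
  obtain ⟨S, hSX, hJQS, hSp, hJS'⟩ : ∃ S : Subgroup G, S ≤ K ⊔ J ∧ J ⊔ Q ≤ S ∧ IsPGroup 2 S ∧
      Cfsg.thompsonSubgroupOf 2 S = J := by
    have hle : J ⊔ Q ≤ K ⊔ J := sup_le le_sup_right (hQK.trans le_sup_left)
    have hp : IsPGroup 2 ↥(J ⊔ Q) :=
      hJp.to_sup_of_normal_right' (SylowIn.isPGroup_pCoreOf K) hJQn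
    obtain ⟨S0, hS0⟩ := ((hp.comap_of_injective (K ⊔ J).subtype (K ⊔ J).subtype_injective) :
      IsPGroup 2 ↥((J ⊔ Q).comap (K ⊔ J).subtype)).exists_le_sylow
    refine ⟨(S0 : Subgroup ↥(K ⊔ J)).map (K ⊔ J).subtype, map_subtype_le _,
      fun x hx => ⟨⟨x, hle hx⟩, hS0 hx, rfl⟩, S0.isPGroup'.map _, hJS _ ⟨map_subtype_le _,
      S0.isPGroup'.map _, ?_⟩ fun x hx => ⟨⟨x, le_sup_right (a := K) hx⟩, hS0 (mem_sup_left hx), rfl⟩⟩
    rw [relIndex, show ((S0 : Subgroup ↥(K ⊔ J)).map (K ⊔ J).subtype).subgroupOf (K ⊔ J) = S0 from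
      comap_map_eq_self_of_injective (K ⊔ J).subtype_injective _]
    exact (Nat.prime_two.coprime_iff_not_dvd.2 S0.not_dvd_index).odd_of_left
  have hQS : Q ≤ S := le_sup_right.trans hJQS
  have hJS_ : J ≤ S := le_sup_left.trans hJQS
  have hWS : W ≤ S := hWQ.trans hQS
  have hAJ : ∀ A, MaxIn S A → A ≤ J := fun A hA => hJS' ▸ maxIn_le hA
  have hSJn : S ≤ normalizer (J : Set G) :=
    hJS' ▸ le_normalizer.trans (Fusion.Thompson.normalizer_le_normalizer_thompsonOf S)
  -- the fixed points of `J` on `W`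
  obtain ⟨f, hfW, hf1, hfJ⟩ : ∃ f ∈ W, f ≠ 1 ∧ ∀ j ∈ J, j * f = f * j := by
    letI : MulAction J W :=
      { smul := fun j w => ⟨j * w * (j : G)⁻¹, conj_mem W j w (hNW (hJK j.2)) w.2⟩
        one_smul := fun w => Subtype.ext (by show (1 : G) * w * (1 : G)⁻¹ = w; simp)
        mul_smul := fun a b w => Subtype.ext (by
          show ((a : G) * b) * w * ((a : G) * b)⁻¹ = a * (b * w * (b : G)⁻¹) * (a : G)⁻¹
          group) }
    obtain ⟨b, hb, hb1⟩ := hJp.exists_fixed_point_of_prime_dvd_card_of_fixed_point W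
      (by rw [hW4]; norm_num) (a := 1) (fun j => Subtype.ext (by
        show (j : G) * (1 : G) * (j : G)⁻¹ = 1; simp))
    refine ⟨b, b.2, fun e => hb1 (Subtype.ext e.symm), fun j hj => ?_⟩
    have h : j * (b : G) * j⁻¹ = b := congrArg Subtype.val (hb ⟨j, hj⟩)
    exact mul_inv_eq_iff_eq_mul.1 h
  have hff : f * f = 1 := hWsq f hfW
  -- an element of `W` fixed by `J` is `1` or `f`
  have honly : ∀ w ∈ W, (∀ j ∈ J, j * w = w * j) → w = 1 ∨ w = f := by
    intro w hw hwJ
    by_contra hcon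
    push Not at hcon
    refine hJW fun j hj x hx => ?_
    rcases four_cases hW4 hfW hf1 hw hcon.2 hcon.1 hff hx with rfl | rfl | rfl | rfl
    · simp
    · exact hfJ j hj
    · exact hwJ j hj
    · exact ((show Commute j w from hwJ j hj).mul_right (hfJ j hj)).eq
  -- an element moving `W` but fixing `f` maps `w ∉ ⟨f⟩` to `w * f`
  have hmove : ∀ g ∈ normalizer (W : Set G), g * f = f * g → ∀ w ∈ W, w ≠ 1 → w ≠ f →
      g * w * g⁻¹ = w ∨ g * w * g⁻¹ = w * f := by
    intro g hg hgf w hw hw1 hwf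
    rcases four_cases hW4 hfW hf1 hw hwf hw1 hff (conj_mem W g w hg hw) with e | e | e | e
    · exact absurd (conj_eq_one_iff.1 e) hw1
    · exfalso
      refine hwf ?_
      calc w = g⁻¹ * (g * w * g⁻¹) * g := by group
        _ = g⁻¹ * (f * g) := by rw [e, mul_assoc]
        _ = f := by rw [← hgf, inv_mul_cancel_left]
    · exact Or.inl e
    · exact Or.inr e
  -- `K` fixes no involution of `W`
  have hnofix : ¬ ∀ k ∈ K, k * f = f * k := by
    intro hall
    refine hKW ?_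
    have hle : K ≤ centralizer (W : Set G) := by
      rw [← hgen, closure_le]
      rintro h ⟨hh, ho⟩
      refine mem_centralizer_iff.2 fun x hx => ?_
      have hn : h ∈ normalizer (W : Set G) := hNW (le_normalizer hh)
      by_cases hx1 : x = 1
      · subst hx1; simp
      by_cases hxf : x = f
      · subst hxf; exact (hall h hh).symm
      have h2 : h ^ 2 * x * (h ^ 2)⁻¹ = x := by
        have hstep : h ^ 2 * x * (h ^ 2)⁻¹ = h * (h * x * h⁻¹) * h⁻¹ := by rw [pow_two]; group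
        rcases hmove h hn (hall h hh) x hx hx1 hxf with e | e
        · rw [hstep, e, e]
        · rw [hstep, e, show h * (x * f) * h⁻¹ = h * x * h⁻¹ * (h * f * h⁻¹) by group, e, hall h hh,
            mul_inv_cancel_right, mul_assoc, hff, mul_one]
      have hc : Commute (h ^ 2) x := mul_inv_eq_iff_eq_mul.1 h2
      obtain ⟨t, ht⟩ := exists_pow_eq_self_of_coprime (x := h) (n := 2) (Nat.coprime_two_left.2 ho)
      exact ((hc.pow_left t).eq.symm.trans rfl).trans rfl |> fun e => by rwa [ht] at e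
    exact fun k hk w hw => (mem_centralizer_iff.1 (hle hk) w hw).symm
  -- a maximal subgroup moving `W` meets `C(W)` in a subgroup of index two
  have hA : ∀ A, MaxIn S A → (¬ ∀ a ∈ A, ∀ w ∈ W, a * w = w * a) →
      (f ∈ A) ∧ Nat.card A ≤ 2 * Nat.card ↥(A ⊓ centralizer (W : Set G)) ∧
      MaxIn S (W ⊔ (A ⊓ centralizer (W : Set G))) := by
    intro A hA hmv
    set A₀ := A ⊓ centralizer (W : Set G) with hA₀
    have hfA : f ∈ A := mem_of_maxIn hA (hWS hfW) hff fun a ha => hfJ a (hAJ A hA ha)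
    have hcardA : Nat.card A ≤ 2 * Nat.card A₀ := by
      obtain ⟨w, hw, hw1, hwf⟩ : ∃ w ∈ W, w ≠ 1 ∧ w ≠ f := by
        by_contra hcon
        push Not at hcon
        refine hmv fun a ha x hx => ?_
        by_cases hx1 : x = 1
        · subst hx1; simp
        · rw [hcon x hx hx1]; exact hfJ a (hAJ A hA ha)
      have hfix : ∀ a ∈ A, a * w * a⁻¹ = w → a ∈ A₀ := by
        intro a ha e
        refine mem_inf.2 ⟨ha, mem_centralizer_iff.2 fun x hx => ?_⟩
        have hcw : Commute a w := mul_inv_eq_iff_eq_mul.1 e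
        have hcf : Commute a f := hfJ a (hAJ A hA ha)
        rcases four_cases hW4 hfW hf1 hw hwf hw1 hff hx with rfl | rfl | rfl | rfl
        · simp
        · exact hcf.eq.symm
        · exact hcw.eq.symm
        · exact (hcw.mul_right hcf).eq.symm
      by_cases hex : ∃ a ∈ A, a * w * a⁻¹ ≠ w
      · obtain ⟨a, ha, hane⟩ := hex
        have hn : ∀ b ∈ A, b ∈ normalizer (W : Set G) := fun b hb => hNW (hJK (hAJ A hA hb))
        have haw := (hmove a (hn a ha) (hfJ a (hAJ A hA ha)) w hw hw1 hwf).resolve_left hane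
        have hsub : (A : Set G) ⊆ (A₀ : Set G) ∪ (fun x => a * x) '' (A₀ : Set G) := by
          intro b hb
          rcases hmove b (hn b hb) (hfJ b (hAJ A hA hb)) w hw hw1 hwf with e | e
          · exact Or.inl (hfix b hb e)
          · refine Or.inr ⟨a⁻¹ * b, hfix _ (mul_mem (inv_mem ha) hb) ?_, by simp⟩
            calc a⁻¹ * b * w * (a⁻¹ * b)⁻¹ = a⁻¹ * (b * w * b⁻¹) * a := by group
              _ = a⁻¹ * (a * w * a⁻¹) * a := by rw [e, haw]
              _ = w := by group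
        have h1 := (Set.ncard_le_ncard hsub).trans (Set.ncard_union_le _ _)
        rw [Set.ncard_image_of_injective _ (mul_right_injective a)] at h1
        simp only [← Nat.card_coe_set_eq, SetLike.coe_sort_coe] at h1
        omega
      · push Not at hex
        have : A ≤ A₀ := fun a ha => hfix a ha (hex a ha)
        have := card_le_of_le this
        omega
    refine ⟨hfA, hcardA, sup_le hWS (inf_le_left.trans hA.1), isEA_sup hW_ea
      (Fusion.Thompson.isEA_le hA.2.1 inf_le_left) (le_centralizer_iff.1 inf_le_right), fun B hBS hB =>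
        (hA.2.2 B hBS hB).trans ?_⟩
    have hnorm : A₀ ≤ normalizer (W : Set G) := fun a ha => hNW (hJK (hAJ A hA (mem_inf.1 ha).1))
    have hcs := Fusion.Thompson.card_sup_mul_card_inf (N := W) (K := A₀) hnorm
    have hinf : Nat.card ↥(W ⊓ A₀) ≤ 2 := by
      have hd : Nat.card ↥(W ⊓ A₀) ∣ 2 ^ 2 := by
        rw [show (2 : ℕ) ^ 2 = 4 by norm_num, ← hW4]; exact card_dvd_of_le inf_le_left
      obtain ⟨k, hk2, hk⟩ := (Nat.dvd_prime_pow Nat.prime_two).1 hd
      rcases (by omega : k ≤ 1 ∨ k = 2) with hk1 | rfl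
      · rw [hk]; exact (Nat.pow_le_pow_right (by norm_num) hk1).trans (by norm_num)
      · exfalso
        have heq : W ⊓ A₀ = W := eq_of_le_of_card_ge inf_le_left (by rw [hk, hW4]; norm_num)
        refine hmv fun a ha x hx => ?_
        exact Fusion.Thompson.mul_comm_of_isEA hA.2.1 ha
          (mem_inf.1 (mem_inf.1 (heq.symm ▸ hx : x ∈ W ⊓ A₀)).2).1
    rw [hW4] at hcs
    nlinarith [hcs, hinf, hcardA]
  obtain ⟨A1, hA1, hA1m⟩ : ∃ A, MaxIn S A ∧ ¬ ∀ a ∈ A, ∀ w ∈ W, a * w = w * a := by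
    by_contra hcon
    push Not at hcon
    refine hJW fun j hj w hw => ?_
    have : Cfsg.thompsonSubgroupOf 2 S ≤ centralizer (W : Set G) := thompson_le fun A hA a ha =>
      mem_centralizer_iff.2 fun x hx => (hcon A hA a ha x hx).symm
    rw [hJS'] at this
    exact (mem_centralizer_iff.1 (this hj) w hw).symm
  have hWJ : W ≤ J := le_sup_left.trans (hAJ _ (hA A1 hA1 hA1m).2.2)
  -- first part
  have hZc : ∀ z ∈ Z₀, z ∈ J ∧ (∀ j ∈ J, j * z = z * j) ∧ z * z = 1 := fun z hz =>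
    ⟨(omegaCenterOf_le J hz).1, mem_centralizer_iff.1 (omegaCenterOf_le J hz).2,
      mul_self_of_mem_omegaCenterOf J hz⟩
  have hfZ : f ∈ Z₀ := subset_closure ⟨mem_inf.2 ⟨hWJ hfW, mem_centralizer_iff.2 fun j hj => hfJ j hj⟩,
    by rw [pow_two]; exact hff⟩
  have hF : ∀ w, w ∈ Z₀ ⊓ W ↔ w = 1 ∨ w = f := fun w => by
    refine ⟨fun h => honly w (mem_inf.1 h).2 (hZc w (mem_inf.1 h).1).2.1, ?_⟩
    rintro (rfl | rfl)
    · exact one_mem _
    · exact mem_inf.2 ⟨hfZ, hfW⟩
  have hcard2 : Nat.card ↥(Z₀ ⊓ W) = 2 := by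
    have : ((Z₀ ⊓ W : Subgroup G) : Set G) = {1, f} := Set.ext fun w => by
      simpa using hF w
    rw [← SetLike.coe_sort_coe, Nat.card_coe_set_eq, this, Set.ncard_pair hf1.symm]
  refine ⟨hcard2, le_antisymm (sup_le inf_le_left inf_le_left) ?_⟩
  -- the normal 2-subgroup `P = C_X(W)` and `Z₁`
  set X := K ⊔ J with hX
  set P := X ⊓ centralizer (W : Set G) with hP
  have hXP : X ≤ normalizer (P : Set G) := by
    refine (le_inf le_normalizer ?_).trans inf_normalizer_le_normalizer_inf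
    refine (sup_le (le_normalizer.trans hNW) (hJK.trans hNW) : X ≤ normalizer (W : Set G)).trans ?_
    refine SylowIn.le_normalizer_of_map_conj fun g hg => ?_
    rw [← SylowIn.centralizer_map_conj, SylowIn.map_conj_eq_iff.2 hg]
  have hPS : P ≤ S := by
    intro x hx
    obtain ⟨hxX, hxW⟩ := mem_inf.1 hx
    have hx' : x ∈ ((X : Subgroup G) : Set G) := hxX
    rw [hX, coe_mul_of_right_le_normalizer_left K J hJK] at hx'
    obtain ⟨k, hk, j, hj, rfl⟩ := Set.mem_mul.mp hx'
    refine mul_mem (hQS (hcen k hk ?_)) (hJS_ hj)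
    -- a 3-element mod `Q` acting like a 2-element
    by_contra hmv
    have hkQ : k ∉ Q := fun hkq => hmv (hQW k hkq)
    refine hnofix fun k' hk' => ?_
    have hkf : k * f = f * k := by
      have h1 : f * (k * j) = (k * j) * f := (mem_centralizer_iff.1 hxW f hfW)
      rw [mul_assoc k j f, hfJ j hj, ← mul_assoc, ← mul_assoc] at h1
      exact (mul_right_cancel h1).symm
    set C := K ⊓ centralizer ({f} : Set G) with hC
    have hQC : Q ≤ C := le_inf hQK fun q hq => mem_centralizer_singleton_iff.2 (hQW q hq f hfW)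
    have h3 : Q.relIndex C * C.relIndex K = 3 := by
      rw [relIndex_mul_relIndex _ _ _ hQC inf_le_left, hidx]
    rcases (Nat.dvd_prime Nat.prime_three).1 (Dvd.intro _ h3) with e | e
    · exact absurd (relIndex_eq_one.1 e (mem_inf.2 ⟨hk, mem_centralizer_singleton_iff.2 hkf⟩)) hkQ
    · rw [e] at h3
      have h1 : K ≤ C := relIndex_eq_one.1 (by omega)
      exact mem_centralizer_singleton_iff.1 (h1 hk').2
  have hmaxP : ∀ A, MaxIn S A → A ≤ P → MaxIn P A := fun A hA hAP =>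
    ⟨hAP, hA.2.1, fun B hB hB' => hA.2.2 B (hB.trans hPS) hB'⟩
  have hA'P : ∀ A, MaxIn S A → (¬ ∀ a ∈ A, ∀ w ∈ W, a * w = w * a) →
      W ⊔ (A ⊓ centralizer (W : Set G)) ≤ P := fun A hAm hmv =>
    sup_le (le_inf (hWQ.trans (hQK.trans le_sup_left))
        fun w hw => mem_centralizer_iff.2 fun v hv => hWab v hv w hw)
      (le_inf ((inf_le_left.trans (hAJ A hAm)).trans le_sup_right) inf_le_right)
  set JP := Cfsg.thompsonSubgroupOf 2 P with hJP
  set Z1 := Cfsg.omegaCenterOf JP with hZ1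
  have hXJP : X ≤ normalizer (JP : Set G) :=
    hXP.trans (Fusion.Thompson.normalizer_le_normalizer_thompsonOf P)
  have hXZ1 : X ≤ normalizer (Z1 : Set G) := hXJP.trans (normalizer_le_omegaCenterOf JP)
  have hJPJ : JP ≤ J := thompson_le fun B hB => hAJ B ⟨hB.1.trans hPS, hB.2.1, fun C hCS hC => by
    have h := hA A1 hA1 hA1m
    exact (h.2.2.2.2 C hCS hC).trans (hB.2.2 _ (hA'P A1 hA1 hA1m) h.2.2.2.1)⟩
  have hA'J : ∀ A, MaxIn S A → (¬ ∀ a ∈ A, ∀ w ∈ W, a * w = w * a) →
      W ⊔ (A ⊓ centralizer (W : Set G)) ≤ JP := fun A hAm hmv =>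
    maxIn_le (hmaxP _ (hA A hAm hmv).2.2 (hA'P A hAm hmv))
  have hZ0Z1 : Z₀ ≤ Z1 := by
    intro z hz
    obtain ⟨hzJ, hzc, hzz⟩ := hZc z hz
    have hm := (hA A1 hA1 hA1m).2.2
    refine subset_closure ⟨mem_inf.2 ⟨hA'J A1 hA1 hA1m (mem_of_maxIn hm (hJS_ hzJ) hzz
      fun a ha => hzc a (hAJ _ hm ha)), mem_centralizer_iff.2 fun x hx => hzc x (hJPJ hx)⟩,
      by rw [pow_two]; exact hzz⟩
  have hZ1c : ∀ y ∈ Z1, y ∈ JP ∧ (∀ x ∈ JP, x * y = y * x) ∧ y * y = 1 := fun y hy =>
    ⟨(omegaCenterOf_le JP hy).1, mem_centralizer_iff.1 (omegaCenterOf_le JP hy).2,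
      mul_self_of_mem_omegaCenterOf JP hy⟩
  -- `J` centralizes `Z₁` modulo `W`
  have hcomm1 : ∀ j ∈ J, ∀ y ∈ Z1, j * y * j⁻¹ * y⁻¹ ∈ W := by
    let Y : Subgroup G :=
      { carrier := {j | j ∈ normalizer (Z1 : Set G) ∧ j ∈ normalizer (W : Set G) ∧
          ∀ y ∈ Z1, j * y * j⁻¹ * y⁻¹ ∈ W}
        one_mem' := ⟨one_mem _, one_mem _, fun y _ => by simp⟩
        mul_mem' := by
          rintro a b ⟨ha, haW, ha'⟩ ⟨hb, hbW, hb'⟩
          refine ⟨mul_mem ha hb, mul_mem haW hbW, fun y hy => ?_⟩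
          have : a * b * y * (a * b)⁻¹ * y⁻¹ =
              (a * (b * y * b⁻¹ * y⁻¹) * a⁻¹) * (a * y * a⁻¹ * y⁻¹) := by group
          rw [this]
          exact mul_mem (conj_mem W a _ haW (hb' y hy)) (ha' y hy)
        inv_mem' := by
          rintro a ⟨ha, haW, ha'⟩
          refine ⟨inv_mem ha, inv_mem haW, fun y hy => ?_⟩
          have hy' : a⁻¹ * y * a ∈ Z1 := by simpa using conj_mem Z1 a⁻¹ y (inv_mem ha) hy
          have := inv_mem (ha' _ hy')
          convert this using 1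
          group }
    have hle : Cfsg.thompsonSubgroupOf 2 S ≤ Y := by
      refine thompson_le fun A hAm => ?_
      intro a ha
      refine ⟨hXZ1 (mem_sup_right (hAJ A hAm ha)), hNW (hJK (hAJ A hAm ha)), fun y hy => ?_⟩
      obtain ⟨hyJP, hyc, hyy⟩ := hZ1c y hy
      by_cases hmv : ∀ a ∈ A, ∀ w ∈ W, a * w = w * a
      · have hAJP : A ≤ JP := maxIn_le (hmaxP A hAm (le_inf ((hAJ A hAm).trans le_sup_right)
          fun b hb => mem_centralizer_iff.2 fun w hw => (hmv b hb w hw).symm))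
        rw [hyc a (hAJP ha), mul_inv_cancel_right, mul_inv_cancel]
        exact one_mem _
      · obtain ⟨hfA, hcardA, -⟩ := hA A hAm hmv
        set A₀ := A ⊓ centralizer (W : Set G) with hA₀
        have hA₀JP : A₀ ≤ JP := le_sup_right.trans (hA'J A hAm hmv)
        have hEA : Cfsg.IsElementaryAbelian 2 (Z1 ⊔ A₀ : Subgroup G) := by
          refine isEA_sup ⟨IsMulCommutative.of_comm fun u v => Subtype.ext
            ((hZ1c v v.2).2.1 u (hZ1c u u.2).1), fun u hu => by rw [pow_two]; exact (hZ1c u hu).2.2⟩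
            (Fusion.Thompson.isEA_le hAm.2.1 inf_le_left)
            (le_centralizer_iff.1 (hA₀JP.trans (fun x hx => mem_centralizer_iff.2 fun u hu =>
              ((hZ1c u hu).2.1 x hx).symm)))
        have hle2 : Nat.card ↥(Z1 ⊔ A₀) ≤ 2 * Nat.card A₀ :=
          (hAm.2.2 _ (sup_le (fun u hu => hJS_ (hJPJ (hZ1c u hu).1)) (inf_le_left.trans hAm.1)) hEA).trans
            hcardA
        obtain ⟨w, hw, hwA⟩ : ∃ w ∈ W, w ∉ A₀ := by
          by_contra hcon
          push Not at hcon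
          exact hmv fun a ha x hx =>
            Fusion.Thompson.mul_comm_of_isEA hAm.2.1 ha (mem_inf.1 (hcon x hx)).1
        have hwZ1 : w ∈ Z1 := subset_closure ⟨mem_inf.2 ⟨(le_sup_left.trans (hA'J A1 hA1 hA1m)) hw,
          mem_centralizer_iff.2 fun x hx => (mem_centralizer_iff.1
            ((thompson_le (Y := centralizer (W : Set G)) fun B hB => hB.1.trans inf_le_right) hx) w hw).symm⟩,
          by rw [pow_two]; exact hWsq w hw⟩
        by_cases hy0 : y ∈ A₀
        · rw [Fusion.Thompson.mul_comm_of_isEA hAm.2.1 ha (mem_inf.1 hy0).1, mul_inv_cancel_right,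
            mul_inv_cancel]
          exact one_mem _
        have hyw : y * w ∈ A₀ := by
          have hidx2 : (A₀.subgroupOf (Z1 ⊔ A₀)).index = 2 := by
            have h1 := (A₀.subgroupOf (Z1 ⊔ A₀)).card_mul_index
            rw [Nat.card_congr (subgroupOfEquivOfLe le_sup_right).toEquiv] at h1
            have h2 : (A₀.subgroupOf (Z1 ⊔ A₀)).index ≠ 1 := fun e => by
              rw [index_eq_one, subgroupOf_eq_top] at e
              exact hy0 (e (mem_sup_left hy))
            have h3 : 0 < Nat.card A₀ := Nat.card_pos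
            have h4 := Nat.pos_of_ne_zero (index_ne_zero_of_finite (H := A₀.subgroupOf (Z1 ⊔ A₀)))
            rw [← h1, mul_comm 2] at hle2
            have h5 := Nat.le_of_mul_le_mul_left hle2 h3
            omega
          have := (mul_mem_iff_of_index_two hidx2 (a := ⟨y, mem_sup_left hy⟩) (b := ⟨w, mem_sup_left hwZ1⟩)).2
            (iff_of_false (fun h => hy0 (mem_subgroupOf.1 h)) fun h => hwA (mem_subgroupOf.1 h))
          exact mem_subgroupOf.1 this
        have hwa : a * w * a⁻¹ ∈ W := conj_mem W a w (hNW (hJK (hAJ A hAm ha))) hw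
        have hc : a * (y * w) * a⁻¹ = y * w := by
          rw [Fusion.Thompson.mul_comm_of_isEA hAm.2.1 ha (mem_inf.1 hyw).1, mul_inv_cancel_right]
        have e1 : a * y * a⁻¹ * y⁻¹ = y * (w * (a * w * a⁻¹)⁻¹) * y⁻¹ := by
          calc a * y * a⁻¹ * y⁻¹ = a * (y * w) * a⁻¹ * (a * w * a⁻¹)⁻¹ * y⁻¹ := by group
            _ = y * (w * (a * w * a⁻¹)⁻¹) * y⁻¹ := by rw [hc]; group
        have hv : w * (a * w * a⁻¹)⁻¹ ∈ W := mul_mem hw (inv_mem hwa)
        rw [e1, ← (hyc _ (le_sup_left.trans (hA'J A1 hA1 hA1m) hv)), mul_inv_cancel_right]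
        exact hv
    rw [hJS'] at hle
    exact fun j hj => (hle hj).2.2
  -- `K` centralizes `Z₁` modulo `W`
  have hKcomm : ∀ k ∈ K, ∀ y ∈ Z1, k * y * k⁻¹ * y⁻¹ ∈ W := by
    intro k hk
    rw [← hcomm] at hk
    intro y hy
    induction hk using closure_induction generalizing y with
    | mem x hx =>
      obtain ⟨a, ha, j, hj, rfl⟩ := hx
      rw [commutatorElement_def]
      have hnX : ∀ x ∈ X, x ∈ normalizer (Z1 : Set G) := fun x hx => hXZ1 hx
      set y2 := j⁻¹ * y * j with hy2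
      have hy2' : y2 ∈ Z1 := by simpa using conj_mem Z1 j⁻¹ y (hnX _ (inv_mem (mem_sup_right hj))) hy
      have hy3 : a⁻¹ * y2 * a ∈ Z1 := by
        simpa using conj_mem Z1 a⁻¹ y2 (hnX _ (inv_mem (mem_sup_left ha))) hy2'
      have h1 := conj_mem W a _ (hNW (le_normalizer ha)) (hcomm1 j hj _ hy3)
      have h2 : y2 * y⁻¹ ∈ W := by
        have := inv_mem (hcomm1 j hj y2 hy2')
        rw [hy2] at this ⊢
        convert this using 1
        group
      have : a * j * a⁻¹ * j⁻¹ * y * (a * j * a⁻¹ * j⁻¹)⁻¹ * y⁻¹ =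
          (a * (j * (a⁻¹ * y2 * a) * j⁻¹ * (a⁻¹ * y2 * a)⁻¹) * a⁻¹) * (y2 * y⁻¹) := by
        rw [hy2]; group
      rw [this]
      exact mul_mem h1 h2
    | one => simp
    | mul x z hx hz ix iz =>
      have hxK : x ∈ K := hcomm ▸ hx
      have : x * z * y * (x * z)⁻¹ * y⁻¹ =
          (x * (z * y * z⁻¹ * y⁻¹) * x⁻¹) * (x * y * x⁻¹ * y⁻¹) := by group
      rw [this]
      exact mul_mem (conj_mem W x _ (hNW (le_normalizer hxK)) (iz y hy)) (ix y hy)
    | inv x hx ix =>
      have hxK : x ∈ K := hcomm ▸ hx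
      have hy' : x⁻¹ * y * x ∈ Z1 := by
        simpa using conj_mem Z1 x⁻¹ y (hXZ1 (inv_mem (mem_sup_left hxK))) hy
      have := inv_mem (ix _ hy')
      convert this using 1
      group
  -- decomposition of `z ∈ Z₀`
  intro z hz
  obtain ⟨hzJ, hzc, hzz⟩ := hZc z hz
  have hzW : ∀ w ∈ W, z * w = w * z := fun w hw => (hzc w (hWJ hw)).symm
  have hQz : ∀ q ∈ Q, q * z = z * q := by
    intro q hq
    have hmem : ∀ q ∈ Q, q * z * q⁻¹ * z⁻¹ = 1 ∨ q * z * q⁻¹ * z⁻¹ = f := fun q hq =>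
      (hF _).1 (mem_inf.2 ⟨mul_mem (conj_mem Z₀ q z ((hQS.trans hSJn).trans
        (normalizer_le_omegaCenterOf J) hq) hz) (inv_mem hz), hKcomm q (hQK hq) z (hZ0Z1 hz)⟩)
    rcases hmem q hq with e | e
    · exact (mul_inv_eq_one.1 (by simpa [mul_assoc] using e) : q * z * q⁻¹ = z) |> mul_inv_eq_iff_eq_mul.1
    exfalso
    refine hnofix fun k hk => ?_
    set w := k * z * k⁻¹ * z⁻¹ with hw
    have hwW : w ∈ W := hKcomm k hk z (hZ0Z1 hz)
    set q' := k * q * k⁻¹ with hq'
    have hq'Q : q' ∈ Q := conj_mem Q k q (hKQ hk) hq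
    have e2 : k * f * k⁻¹ = w * (q' * z * q'⁻¹ * z⁻¹) * w⁻¹ := by
      calc k * f * k⁻¹ = q' * (w * z) * q'⁻¹ * (w * z)⁻¹ := by rw [← e, hq', hw]; group
        _ = (q' * w) * z * q'⁻¹ * (w * z)⁻¹ := by group
        _ = w * q' * z * q'⁻¹ * (w * z)⁻¹ := by rw [hQW q' hq'Q w hwW]
        _ = _ := by group
    rcases hmem q' hq'Q with e3 | e3
    · rw [e3, mul_one, mul_inv_cancel] at e2
      exact absurd (conj_eq_one_iff.1 e2) hf1
    · rw [e3, hWab w hwW f hfW, mul_inv_cancel_right] at e2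
      exact mul_inv_eq_iff_eq_mul.1 e2
  obtain ⟨h, hh, hhQ⟩ : ∃ h ∈ K, h ∉ Q := by
    by_contra hcon
    push Not at hcon
    exact hKW fun k hk w hw => hQW k (hcon k hk) w hw
  -- `h` fixes only the identity of `W`
  have hfpf : ∀ w ∈ W, h * w * h⁻¹ = w → w = 1 := by
    intro w hw e
    by_contra hw1
    set C := K ⊓ centralizer ({w} : Set G) with hC
    have hQC : Q ≤ C := le_inf hQK fun q hq => mem_centralizer_singleton_iff.2 (hQW q hq w hw)
    have h3 : Q.relIndex C * C.relIndex K = 3 := by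
      rw [relIndex_mul_relIndex _ _ _ hQC inf_le_left, hidx]
    rcases (Nat.dvd_prime Nat.prime_three).1 (Dvd.intro _ h3) with e' | e'
    · exact hhQ (relIndex_eq_one.1 e' (mem_inf.2 ⟨hh, mem_centralizer_singleton_iff.2
        (mul_inv_eq_iff_eq_mul.1 e)⟩))
    · rw [e'] at h3
      have h1 : K ≤ C := relIndex_eq_one.1 (by omega)
      have hKw : ∀ k ∈ K, k * w = w * k := fun k hk => mem_centralizer_singleton_iff.1 (h1 hk).2
      by_cases hwf : w = f
      · exact hnofix (hwf ▸ hKw)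
      · -- `J` normalizes `K`, so permutes its fixed points
        refine hJW fun j hj x hx => ?_
        have hj' : ∀ k ∈ K, k * (j * w * j⁻¹) = (j * w * j⁻¹) * k := fun k hk => by
          have hk' : j⁻¹ * k * j ∈ K := by simpa using conj_mem K j⁻¹ k (inv_mem (hJK hj)) hk
          calc k * (j * w * j⁻¹) = j * ((j⁻¹ * k * j) * w) * j⁻¹ := by group
            _ = j * (w * (j⁻¹ * k * j)) * j⁻¹ := by rw [hKw _ hk']
            _ = (j * w * j⁻¹) * k := by group
        rcases hmove j (hNW (hJK hj)) (hfJ j hj) w hw hw1 hwf with e4 | e4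
        · rcases four_cases hW4 hfW hf1 hw hwf hw1 hff hx with rfl | rfl | rfl | rfl
          · simp
          · exact hfJ j hj
          · exact mul_inv_eq_iff_eq_mul.1 e4
          · exact ((show Commute j w from mul_inv_eq_iff_eq_mul.1 e4).mul_right (hfJ j hj)).eq
        · exfalso
          refine hnofix fun k hk => ?_
          have h5 := hj' k hk
          rw [e4] at h5
          calc k * f = k * w⁻¹ * (w * f) := by group
            _ = w⁻¹ * k * (w * f) := by rw [((show Commute k w from hKw k hk).inv_right).eq]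
            _ = w⁻¹ * (k * (w * f)) := by rw [mul_assoc]
            _ = f * k := by rw [h5]; group
  obtain ⟨w0, hw0, hw0e⟩ : ∃ w0 ∈ W, h * w0 * h⁻¹ * w0⁻¹ = h * z * h⁻¹ * z⁻¹ := by
    let ψ : W → W := fun w => ⟨h * w * h⁻¹ * (w : G)⁻¹,
      mul_mem (conj_mem W h w (hNW (le_normalizer hh)) w.2) (inv_mem w.2)⟩
    have hψ : Function.Injective ψ := by
      intro a b hab
      have h' : h * (a : G) * h⁻¹ * (a : G)⁻¹ = h * b * h⁻¹ * (b : G)⁻¹ := congrArg Subtype.val hab
      have : h * ((b : G)⁻¹ * a) * h⁻¹ = (b : G)⁻¹ * a := by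
        calc h * ((b : G)⁻¹ * a) * h⁻¹ = (h * b * h⁻¹)⁻¹ * (h * a * h⁻¹ * (a : G)⁻¹) * a := by group
          _ = (b : G)⁻¹ * a := by rw [h']; group
      exact Subtype.ext (inv_mul_eq_one.1 (hfpf _ (mul_mem (inv_mem b.2) a.2) this)).symm
    obtain ⟨w0, hw0⟩ := (Finite.injective_iff_surjective.1 hψ)
      ⟨h * z * h⁻¹ * z⁻¹, hKcomm h hh z (hZ0Z1 hz)⟩
    exact ⟨w0, w0.2, congrArg Subtype.val hw0⟩
  set c := z * w0 with hc
  have hcQ : ∀ q ∈ Q, q * c = c * q := fun q hq =>
    ((show Commute q z from hQz q hq).mul_right (hQW q hq w0 hw0)).eq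
  have hch : h * c = c * h := by
    have h1 : h * c * h⁻¹ = c := by
      have hm : h * z * h⁻¹ * z⁻¹ ∈ W := hKcomm h hh z (hZ0Z1 hz)
      calc h * c * h⁻¹ = (h * z * h⁻¹ * z⁻¹) * (z * (h * w0 * h⁻¹ * w0⁻¹)) * w0 := by rw [hc]; group
        _ = (h * z * h⁻¹ * z⁻¹) * (z * (h * z * h⁻¹ * z⁻¹)) * w0 := by rw [hw0e]
        _ = (h * z * h⁻¹ * z⁻¹) * ((h * z * h⁻¹ * z⁻¹) * z) * w0 := by rw [hzW _ hm]
        _ = c := by rw [← mul_assoc (h * z * h⁻¹ * z⁻¹) _ z, hWsq _ hm, one_mul]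
    exact mul_inv_eq_iff_eq_mul.1 h1
  have hcK : ∀ k ∈ K, k * c = c * k := by
    intro k hk
    set C := K ⊓ centralizer ({c} : Set G) with hC
    have hQC : Q ≤ C := le_inf hQK fun q hq => mem_centralizer_singleton_iff.2 (hcQ q hq)
    have h3 : Q.relIndex C * C.relIndex K = 3 := by
      rw [relIndex_mul_relIndex _ _ _ hQC inf_le_left, hidx]
    rcases (Nat.dvd_prime Nat.prime_three).1 (Dvd.intro _ h3) with e | e
    · exact absurd (relIndex_eq_one.1 e (mem_inf.2 ⟨hh, mem_centralizer_singleton_iff.2 hch⟩)) hhQ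
    · rw [e] at h3
      have h1 : K ≤ C := relIndex_eq_one.1 (by omega)
      exact mem_centralizer_singleton_iff.1 (h1 hk).2
  have hcJ : ∀ j ∈ J, j * w0 = w0 * j := by
    intro j hj
    have hjw : j * w0 * j⁻¹ ∈ W := conj_mem W j w0 (hNW (hJK hj)) hw0
    set d := c⁻¹ * (j * c * j⁻¹) with hd
    have hdW : d ∈ W := by
      have : d = w0⁻¹ * (j * w0 * j⁻¹) := by
        calc d = w0⁻¹ * z⁻¹ * (j * z * j⁻¹) * (j * w0 * j⁻¹) := by rw [hd, hc]; group
          _ = _ := by rw [hzc j hj]; group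
      rw [this]; exact mul_mem (inv_mem hw0) hjw
    have hdK : ∀ k ∈ K, k * d = d * k := by
      intro k hk
      have hk' : j⁻¹ * k * j ∈ K := by simpa using conj_mem K j⁻¹ k (inv_mem (hJK hj)) hk
      have h1 : Commute k (j * c * j⁻¹) := by
        show k * (j * c * j⁻¹) = (j * c * j⁻¹) * k
        calc k * (j * c * j⁻¹) = j * ((j⁻¹ * k * j) * c) * j⁻¹ := by group
          _ = j * (c * (j⁻¹ * k * j)) * j⁻¹ := by rw [hcK _ hk']
          _ = _ := by group
      exact ((show Commute k c from hcK k hk).inv_right.mul_right h1).eq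
    have hd1 : d = 1 := hfpf d hdW (by rw [hdK h hh, mul_inv_cancel_right])
    have h2 : j * c * j⁻¹ = c := (inv_mul_eq_one.1 hd1).symm
    have hcc : Commute j c := mul_inv_eq_iff_eq_mul.1 h2
    have : Commute j (z⁻¹ * c) := (show Commute j z from hzc j hj).inv_right.mul_right hcc
    rwa [hc, inv_mul_cancel_left] at this
  have hw0Z : w0 ∈ Z₀ := by
    rcases honly w0 hw0 hcJ with rfl | rfl
    · exact one_mem _
    · exact hfZ
  have hcX : c ∈ X ⊓ centralizer (X : Set G) := by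
    refine mem_inf.2 ⟨mem_sup_right (mul_mem hzJ (hWJ hw0)), ?_⟩
    have : X ≤ centralizer ({c} : Set G) := sup_le (fun k hk => mem_centralizer_singleton_iff.2 (hcK k hk))
      fun j hj => mem_centralizer_singleton_iff.2
        ((show Commute j z from hzc j hj).mul_right (hcJ j hj)).eq
    exact mem_centralizer_iff.2 fun x hx => mem_centralizer_singleton_iff.1 (this hx)
  have : z = c * w0⁻¹ := by rw [hc]; group
  rw [this]
  exact mul_mem (mem_sup_left (mem_inf.2 ⟨mul_mem hz hw0Z, hcX⟩))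
    (mem_sup_right (inv_mem (mem_inf.2 ⟨hw0Z, hw0⟩)))

end CfsgLib.LocalEvenB.JComponent
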