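import Cfsg.Agent.Lib.LocalEvenB.JLocal
import Cfsg.Agent.Lib.LocalEvenB.JComponent
import Cfsg.Agent.Lib.LocalEven.SylowIn
import Cfsg.Agent.S2941

/-!
`J(T)`-components of a group in which all `2`-local subgroups are solvable and `C(Ω₁Z(S)) ≤ N(S)`.
-/

set_option autoImplicit false
set_option linter.style.haveILetI false
set_option linter.unusedSectionVars false

open scoped Pointwise

namespace CfsgLib.LocalEvenB.JAmbient

open Subgroup CfsgLib.LocalEven

universe u

variable {G : Type u} [Group G] [Finite G]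

theorem map_pCoreOf {H : Type u} [Group H] [Finite H] (f : H →* G) (hf : Function.Injective f)
    (X : Subgroup H) : (Cfsg.pCoreOf 2 X).map f = Cfsg.pCoreOf 2 (X.map f) := by
  haveI : Fact (Nat.Prime 2) := ⟨Nat.prime_two⟩
  refine le_antisymm (SylowIn.le_pCoreOf (map_mono (SylowIn.pCoreOf_le X)) ?_
    ((SylowIn.isPGroup_pCoreOf X).map f)) ?_
  · rintro _ ⟨x, hx, rfl⟩
    exact le_normalizer_map f (mem_map_of_mem f (SylowIn.normalizer_pCoreOf X hx))
  · have hle : Cfsg.pCoreOf 2 (X.map f) ≤ X.map f := SylowIn.pCoreOf_le _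
    have h1 : (Cfsg.pCoreOf 2 (X.map f)).comap f ≤ Cfsg.pCoreOf 2 X := by
      refine SylowIn.le_pCoreOf ?_ ?_ ((SylowIn.isPGroup_pCoreOf (p := 2) (X.map f)).comap_of_injective f hf)
      · exact le_of_le_of_eq (comap_mono hle) (comap_map_eq_self_of_injective hf X)
      · intro x hx
        rw [mem_normalizer_iff]
        intro y
        simp only [mem_comap, map_mul, map_inv]
        exact mem_normalizer_iff.1 (SylowIn.normalizer_pCoreOf (X.map f) (mem_map_of_mem f hx)) (f y)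
    rw [← map_comap_eq_self ((hle.trans (map_le_range f X)))]
    exact map_mono h1

theorem pCoreOf_top_map (L : Subgroup G) :
    (Cfsg.pCore 2 ↥L).map L.subtype = Cfsg.pCoreOf 2 L := rfl

theorem map_thompsonOf {H : Type u} [Group H] (f : H →* G) (hf : Function.Injective f) (U : Subgroup H) :
    (Cfsg.thompsonSubgroupOf 2 U).map f = Cfsg.thompsonSubgroupOf 2 (U.map f) := by
  simp only [Cfsg.thompsonSubgroupOf]
  let e : U ≃* U.map f := U.equivMapOfInjective f hf
  rw [← Fusion.Thompson.map_thompson_equiv e, map_map, map_map]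
  congr 1

theorem isSolvable_of_charP (hN : ∀ N : Subgroup G, Cfsg.IsTwoLocal N → Group.IsSolvable ↥N)
    (L : Subgroup G) (hne : Cfsg.pCoreOf 2 L ≠ ⊥) : Group.IsSolvable ↥L := by
  haveI : Fact (Nat.Prime 2) := ⟨Nat.prime_two⟩
  haveI := hN _ ⟨Cfsg.pCoreOf 2 L, SylowIn.isPGroup_pCoreOf L, hne, rfl⟩
  exact Group.isSolvable_of_isSolvable_injective (inclusion_injective (SylowIn.normalizer_pCoreOf (p := 2) L))

theorem setting_of (hN : ∀ N : Subgroup G, Cfsg.IsTwoLocal N → Group.IsSolvable ↥N)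
    (hZ : ∀ S : Sylow 2 G, centralizer (Cfsg.omegaCenterOf (S : Subgroup G) : Set G) ≤
      normalizer ((S : Subgroup G) : Set G))
    (L : Subgroup G) (hC : centralizer (Cfsg.pCoreOf 2 L : Set G) ≤ Cfsg.pCoreOf 2 L)
    (hne : Cfsg.pCoreOf 2 L ≠ ⊥) : JLocal.Setting ↥L := by
  haveI : Fact (Nat.Prime 2) := ⟨Nat.prime_two⟩
  haveI := isSolvable_of_charP hN L hne
  haveI := SylowIn.pCore_normal ↥L 2
  refine ⟨Fusion.PSolvable.psolvable_of_solvable, ?_, ?_⟩
  · haveI := CfsgLib.Solvable.Cores.pPrimeCore_normal (G := ↥L) 2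
    set N := Cfsg.pPrimeCore 2 ↥L
    have hcop : (Nat.card N).Coprime 2 := CfsgLib.Solvable.Cores.coprime_card_pPrimeCore 2
    have hinf : N ⊓ Cfsg.pCore 2 ↥L = ⊥ := by
      obtain ⟨n, hn⟩ := IsPGroup.iff_card.1 (SylowIn.isPGroup_pCore ↥L 2)
      exact inf_eq_bot_of_coprime (by rw [hn]; exact hcop.pow_right n)
    rw [eq_bot_iff]
    intro x hx
    have hxC : (x : G) ∈ centralizer (Cfsg.pCoreOf 2 L : Set G) := by
      refine mem_centralizer_iff.2 ?_
      rintro _ ⟨y, hy, rfl⟩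
      have := commute_of_normal_of_disjoint N (Cfsg.pCore 2 ↥L) inferInstance inferInstance
        (disjoint_iff.2 hinf) x y hx hy
      exact (congrArg Subtype.val this.eq).symm
    obtain ⟨y, hy, hyx⟩ := hC hxC
    have : x ∈ N ⊓ Cfsg.pCore 2 ↥L := mem_inf.2 ⟨hx, by rwa [← Subtype.ext hyx]⟩
    rwa [hinf] at this
  · intro S c hc
    have hp : IsPGroup 2 ↥((S : Subgroup ↥L).map L.subtype) := S.isPGroup'.map _
    obtain ⟨S2, hS2⟩ := hp.exists_le_sylow
    have hsub : ((S : Subgroup ↥L).map L.subtype) = (S2 : Subgroup G) ⊓ L := by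
      refine le_antisymm (le_inf hS2 (map_subtype_le _)) fun x hx => ?_
      obtain ⟨hx2, hxL⟩ := mem_inf.1 hx
      have h1 : (S : Subgroup ↥L) ≤ (S2 : Subgroup G).comap L.subtype :=
        map_le_iff_le_comap.1 hS2
      have := S.is_maximal' (S2.isPGroup'.comap_of_injective _ L.subtype_injective) h1
      exact ⟨⟨x, hxL⟩, this ▸ (show (⟨x, hxL⟩ : ↥L) ∈ (S2 : Subgroup G).comap L.subtype from hx2), rfl⟩
    have hΩ : (c : G) ∈ centralizer (Cfsg.omegaCenterOf (S2 : Subgroup G) : Set G) := by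
      rw [Cfsg.omegaCenterOf, Cfsg.omegaOne, centralizer_closure]
      refine mem_centralizer_iff.2 fun x ⟨hx, hx2⟩ => ?_
      obtain ⟨hxS, hxc⟩ := mem_inf.1 hx
      have hxR : x ∈ centralizer (Cfsg.pCoreOf 2 L : Set G) := by
        refine mem_centralizer_iff.2 ?_
        rintro _ ⟨y, hy, rfl⟩
        exact mem_centralizer_iff.1 hxc _
          (hS2 (mem_map_of_mem _ (CfsgLib.Solvable.Cores.pCore_le_sylow S hy)))
      obtain ⟨y, hy, hyx⟩ := hC hxR
      have hyx' : (y : G) = x := hyx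
      have hyV : y ∈ Fusion.OmegaCenter.closureOmega 2 ↥L := by
        refine mem_iSup_of_mem S (subset_closure ⟨mem_inf.2 ⟨CfsgLib.Solvable.Cores.pCore_le_sylow S hy,
          mem_centralizer_iff.2 fun z hz => Subtype.ext ?_⟩, Subtype.ext ?_⟩)
        · show (z : G) * (y : G) = (y : G) * (z : G)
          rw [hyx']; exact mem_centralizer_iff.1 hxc _ (hS2 (mem_map_of_mem _ hz))
        · show (y : G) ^ 2 = 1
          rw [hyx']; exact hx2
      have := congrArg Subtype.val (mem_centralizer_iff.1 hc y hyV)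
      simpa [hyx'] using this
    have hn : (c : G) ∈ normalizer ((((S2 : Subgroup G) ⊓ L : Subgroup G)) : Set G) :=
      inf_normalizer_le_normalizer_inf ⟨hZ S2 hΩ, le_normalizer c.2⟩
    rw [← hsub] at hn
    rw [mem_normalizer_iff] at hn ⊢
    intro s
    have := hn (s : G)
    rwa [show (s : G) = L.subtype s from rfl, mem_map_iff_mem L.subtype_injective,
      show (c : G) * L.subtype s * (c : G)⁻¹ = L.subtype (c * s * c⁻¹) from rfl,
      mem_map_iff_mem L.subtype_injective] at this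

section Component

variable {T K : Subgroup G}

theorem conjK_le_normalizer_wOf (K : Subgroup G) :
    normalizer (K : Set G) ≤ normalizer (Cfsg.wOf K : Set G) := by
  refine SylowIn.le_normalizer_of_map_conj fun g hg => ?_
  have hU := (JComponent.normalizer_le_pCoreOf K).trans
    (JComponent.normalizer_le_omegaCenterOf (Cfsg.pCoreOf 2 K)) hg
  rw [Cfsg.wOf, Subgroup.map_commutator, SylowIn.map_conj_eq_iff.2 hU, SylowIn.map_conj_eq_iff.2 hg]

theorem wOf_le (K : Subgroup G) : Cfsg.wOf K ≤ Cfsg.omegaCenterOf (Cfsg.pCoreOf 2 K) := by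
  have hU := (JComponent.normalizer_le_pCoreOf K).trans
    (JComponent.normalizer_le_omegaCenterOf (Cfsg.pCoreOf 2 K))
  refine commutator_le.2 fun u hu k hk => ?_
  rw [commutatorElement_def]
  have := mul_mem hu ((mem_normalizer_iff.1 (hU (le_normalizer hk)) u⁻¹).1 (inv_mem hu))
  simpa [mul_assoc] using this

theorem wOf_le_K (K : Subgroup G) : Cfsg.wOf K ≤ K := by
  haveI : Fact (Nat.Prime 2) := ⟨Nat.prime_two⟩
  exact ((wOf_le K).trans ((JComponent.omegaCenterOf_le _).trans inf_le_left)).trans (SylowIn.pCoreOf_le K)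

theorem q_fix (K : Subgroup G) : ∀ q ∈ Cfsg.pCoreOf 2 K, ∀ w ∈ Cfsg.wOf K, q * w = w * q :=
  fun q hq w hw => mem_centralizer_iff.1 (JComponent.omegaCenterOf_le _ (wOf_le K hw)).2 q hq

/-- `K` fixes no nonidentity element of `W_K`. -/
theorem wfix (hK : Cfsg.IsJComponent T K) :
    ∀ w ∈ Cfsg.wOf K, (∀ k ∈ K, k * w = w * k) → w = 1 := by
  obtain ⟨hgen, -, -, -, hW4, hWsq⟩ := hK
  intro w hw hwK
  by_contra hw1
  set W := Cfsg.wOf K with hW
  have hWn := conjK_le_normalizer_wOf K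
  -- `K` centralizes `W`
  have hall : ∀ h ∈ K, Odd (orderOf h) → ∀ x ∈ W, h * x = x * h := by
    intro h hh ho x hx
    by_cases hx1 : x = 1
    · subst hx1; simp
    by_cases hxw : x = w
    · subst hxw; exact hwK h hh
    have hn : h ∈ normalizer (W : Set G) := hWn (le_normalizer hh)
    have hconj := (mem_normalizer_iff.1 hn x).1 hx
    have hcases : h * x * h⁻¹ = x ∨ h * x * h⁻¹ = x * w := by
      rcases JComponent.four_cases hW4 hw hw1 hx hxw hx1 (hWsq w hw) hconj with e | e | e | e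
      · exact absurd (conj_eq_one_iff.1 e) hx1
      · exfalso
        refine hxw ?_
        calc x = h⁻¹ * (h * x * h⁻¹) * h := by group
          _ = h⁻¹ * (w * h) := by rw [e, mul_assoc]
          _ = w := by rw [← hwK h hh, inv_mul_cancel_left]
      · exact Or.inl e
      · exact Or.inr e
    have h2 : h ^ 2 * x * (h ^ 2)⁻¹ = x := by
      have hstep : h ^ 2 * x * (h ^ 2)⁻¹ = h * (h * x * h⁻¹) * h⁻¹ := by rw [pow_two]; group
      rcases hcases with e | e
      · rw [hstep, e, e]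
      · rw [hstep, e, show h * (x * w) * h⁻¹ = h * x * h⁻¹ * (h * w * h⁻¹) by group, e, hwK h hh,
          mul_inv_cancel_right, mul_assoc, hWsq w hw, mul_one]
    have hc : Commute (h ^ 2) x := mul_inv_eq_iff_eq_mul.1 h2
    obtain ⟨t, ht⟩ := exists_pow_eq_self_of_coprime (x := h) (n := 2) (Nat.coprime_two_left.2 ho)
    exact ht ▸ (hc.pow_left t).eq
  -- hence it centralizes `Ω₁(Z(O₂(K)))`
  have hbot : W = ⊥ := by
    rw [hW, Cfsg.wOf, commutator_eq_bot_iff_le_centralizer, le_centralizer_iff]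
    conv_lhs => rw [← hgen]
    rw [closure_le]
    rintro h ⟨hh, ho⟩
    refine mem_centralizer_iff.2 fun u hu => ?_
    set c := u * h * u⁻¹ * h⁻¹ with hc
    have hcW : c ∈ W := by
      rw [hW, Cfsg.wOf, hc, ← commutatorElement_def]; exact commutator_mem_commutator hu hh
    have hch : Commute c h := (hall h hh ho c hcW).symm
    have huh : u * h * u⁻¹ = c * h := by rw [hc]; group
    have hpow : c ^ orderOf h = 1 := by
      have h1 : (u * h * u⁻¹) ^ orderOf h = 1 := by rw [conj_pow, pow_orderOf_eq_one]; group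
      rwa [huh, hch.mul_pow, pow_orderOf_eq_one, mul_one] at h1
    obtain ⟨n, hn⟩ := ho
    rw [hn, pow_succ, pow_mul, pow_two, hWsq c hcW, one_pow, one_mul] at hpow
    calc u * h = u * h * u⁻¹ * u := by group
      _ = h * u := by rw [huh, hpow, one_mul]
  rw [hbot, card_bot] at hW4
  omega

theorem pCoreOf_ne_bot {L : Subgroup G} (hK : Cfsg.IsJComponent T K)
    (hC : centralizer (Cfsg.pCoreOf 2 L : Set G) ≤ Cfsg.pCoreOf 2 L) : Cfsg.pCoreOf 2 L ≠ ⊥ := by
  intro e
  rw [e] at hC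
  have h4 : Nat.card ↥(Cfsg.wOf K) = 4 := hK.2.2.2.2.1
  have : Cfsg.wOf K = ⊥ := le_bot_iff.1 ((show Cfsg.wOf K ≤ centralizer ((⊥ : Subgroup G) : Set G) from
    fun x _ => mem_centralizer_iff.2 fun y hy => by rw [mem_bot.1 hy, one_mul, mul_one]).trans hC)
  rw [this, card_bot] at h4
  omega

/-- The component data inside `L`. -/
theorem comp_of (hK : Cfsg.IsJComponent T K) {L : Subgroup G} (hKL : K ≤ L) (S : Sylow 2 ↥L)
    (hJ : Cfsg.thompsonSubgroupOf 2 ((S : Subgroup ↥L).map L.subtype) = Cfsg.thompsonSubgroupOf 2 T) :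
    JLocal.Comp (K.subgroupOf L) (Cfsg.thompsonSubgroupOf 2 (S : Subgroup ↥L))
      ((Cfsg.wOf K).subgroupOf L) := by
  haveI : Fact (Nat.Prime 2) := ⟨Nat.prime_two⟩
  have hwf := wfix hK
  obtain ⟨hgen, hcomm, hidx, -, hW4, -⟩ := hK
  have hinj := L.subtype_injective
  have hKm : (K.subgroupOf L).map L.subtype = K := map_subgroupOf_eq_of_le hKL
  have hWL : Cfsg.wOf K ≤ L := (wOf_le_K K).trans hKL
  have hQ : (Cfsg.pCoreOf 2 (K.subgroupOf L)).map L.subtype = Cfsg.pCoreOf 2 K := by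
    rw [map_pCoreOf L.subtype hinj, hKm]
  refine ⟨?_, ?_, ?_, ?_, S.isPGroup'.to_le (Fusion.Thompson.thompsonSubgroupOf_le _), ?_, ?_, ?_, ?_⟩
  · refine map_injective hinj ?_
    rw [MonoidHom.map_closure, hKm]
    conv_rhs => rw [← hgen]
    congr 1
    ext x
    constructor
    · rintro ⟨y, ⟨hy, ho⟩, rfl⟩
      exact ⟨hy, by rwa [coe_subtype, orderOf_coe]⟩
    · rintro ⟨hx, ho⟩
      exact ⟨⟨x, hKL hx⟩, ⟨hx, by rwa [← orderOf_coe]⟩, rfl⟩
  · refine map_injective hinj ?_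
    rw [map_commutator, hKm, map_thompsonOf L.subtype hinj, hJ, hcomm]
  · rw [← relIndex_map_map_of_injective _ _ hinj, hQ, hKm, hidx]
  · obtain ⟨A₀, hA₀, hle⟩ := Fusion.Thompson.exists_maxEA_le_sylow S
    exact ⟨_, fun A hA => hA.1, Fusion.Thompson.thompsonSubgroupOf_eq hA₀ hle⟩
  · rw [Nat.card_congr (subgroupOfEquivOfLe hWL).toEquiv, hW4]
  · intro q hq w hw
    exact Subtype.ext (q_fix K q (hQ ▸ mem_map_of_mem _ hq) w hw)
  · intro k hk
    rw [← subgroupOf_normalizer_eq hWL]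
    exact conjK_le_normalizer_wOf K (le_normalizer hk)
  · intro w hw hfix
    refine Subtype.ext (hwf w hw fun k hk => ?_)
    exact congrArg Subtype.val (hfix ⟨k, hKL hk⟩ hk)

/-- `O₂(L)` normalizes a component in `L`. -/
theorem pCore_le_normalizer (hL : Cfsg.IsCharacteristicTwoType G)
    (hN : ∀ N : Subgroup G, Cfsg.IsTwoLocal N → Group.IsSolvable ↥N)
    (hZ : ∀ S : Sylow 2 G, centralizer (Cfsg.omegaCenterOf (S : Subgroup G) : Set G) ≤
      normalizer ((S : Subgroup G) : Set G))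
    (hT : IsPGroup 2 T) (hT1 : T ≠ ⊥) (hK : Cfsg.IsJComponent T K) {L : Subgroup G} (hKL : K ≤ L)
    (S : Sylow 2 ↥L)
    (hJ : Cfsg.thompsonSubgroupOf 2 ((S : Subgroup ↥L).map L.subtype) = Cfsg.thompsonSubgroupOf 2 T) :
    Cfsg.pCore 2 ↥L ≤ normalizer ((K.subgroupOf L : Subgroup ↥L) : Set ↥L) := by
  haveI : Fact (Nat.Prime 2) := ⟨Nat.prime_two⟩
  have hJL : Cfsg.thompsonSubgroupOf 2 T ≤ L :=
    hJ ▸ (Fusion.Thompson.thompsonSubgroupOf_le _).trans (map_subtype_le _)
  have h := Cfsg.Agent.S2941.result hL hN hZ T hT hT1 K hK (Cfsg.pCoreOf 2 L)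
    ((sup_le hKL hJL).trans (SylowIn.normalizer_pCoreOf L)) (by
      rw [← hJ]
      refine le_trans (le_trans ?_ le_normalizer) (Fusion.Thompson.normalizer_le_normalizer_thompsonOf _)
      exact map_mono (CfsgLib.Solvable.Cores.pCore_le_sylow S))
  intro r hr
  rw [← subgroupOf_normalizer_eq hKL]
  exact h (mem_map_of_mem _ hr)

end Component

section Conj

variable {L : Type u} [Group L] [Finite L]

/-- Conjugates of components are components. -/
theorem comp_conj {K J W : Subgroup L} (hK : JLocal.Comp K J W) (g : L) :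
    JLocal.Comp (K.map (MulAut.conj g).toMonoidHom) (J.map (MulAut.conj g).toMonoidHom)
      (W.map (MulAut.conj g).toMonoidHom) := by
  haveI : Fact (Nat.Prime 2) := ⟨Nat.prime_two⟩
  set f := (MulAut.conj g).toMonoidHom with hf
  have hinj : Function.Injective f := (MulAut.conj g).injective
  refine ⟨?_, ?_, ?_, ?_, hK.jp.map f, ?_, ?_, ?_, ?_⟩
  · conv_rhs => rw [← hK.gen, MonoidHom.map_closure]
    congr 1
    ext x
    constructor
    · rintro ⟨⟨y, hy, rfl⟩, ho⟩
      exact ⟨y, ⟨hy, by rwa [orderOf_injective f hinj] at ho⟩, rfl⟩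
    · rintro ⟨y, ⟨hy, ho⟩, rfl⟩
      exact ⟨⟨y, hy, rfl⟩, by rwa [orderOf_injective f hinj]⟩
  · rw [← map_commutator, hK.comm]
  · rw [← map_pCoreOf f hinj, relIndex_map_map_of_injective _ _ hinj, hK.idx]
  · obtain ⟨S, hS, rfl⟩ := hK.jgen
    refine ⟨(fun A => A.map f) '' S, ?_, ?_⟩
    · rintro _ ⟨A, hA, rfl⟩
      exact Fusion.Thompson.maxEA_map_equiv (MulAut.conj g) (hS hA)
    · rw [sSup_image, sSup_eq_iSup, Subgroup.map_iSup]
      simp only [Subgroup.map_iSup]
  · rw [card_map_of_injective hinj, hK.wcard]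
  · rw [← map_pCoreOf f hinj]
    rintro _ ⟨q, hq, rfl⟩ _ ⟨w, hw, rfl⟩
    rw [← map_mul, hK.q_fix q hq w hw, map_mul]
  · rintro _ ⟨k, hk, rfl⟩
    exact le_normalizer_map f (mem_map_of_mem f (hK.wnorm hk))
  · rintro _ ⟨w, hw, rfl⟩ hfix
    rw [hK.wfix w hw fun k hk => hinj (by rw [map_mul, map_mul]; exact hfix _ (mem_map_of_mem f hk)), map_one]

end Conj

section Main

variable (hL : Cfsg.IsCharacteristicTwoType G)
  (hN : ∀ N : Subgroup G, Cfsg.IsTwoLocal N → Group.IsSolvable ↥N)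
  (hZ : ∀ S : Sylow 2 G, centralizer (Cfsg.omegaCenterOf (S : Subgroup G) : Set G) ≤
    normalizer ((S : Subgroup G) : Set G))
include hL hN hZ

theorem normalizes_of_meet {T K L : Subgroup G} (hT : IsPGroup 2 T) (hT1 : T ≠ ⊥)
    (hK : Cfsg.IsJComponent T K) (hKL : K ≤ L)
    (hC : centralizer (Cfsg.pCoreOf 2 L : Set G) ≤ Cfsg.pCoreOf 2 L) (S : Sylow 2 ↥L)
    (hJ : Cfsg.thompsonSubgroupOf 2 ((S : Subgroup ↥L).map L.subtype) = Cfsg.thompsonSubgroupOf 2 T)
    {z : ↥L} (hzS : z ∈ (S : Subgroup ↥L)) (hzc : ∀ s ∈ (S : Subgroup ↥L), s * z = z * s)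
    (hzW : (z : G) ∈ Cfsg.wOf K) (hz1 : z ≠ 1) {g : ↥L} (hg : (g : G) * z * (g : G)⁻¹ ∈ Cfsg.wOf K)
    (hgz : (g : G)⁻¹ * z * g ∈ Cfsg.wOf K) :
    (g : G) ∈ normalizer (K : Set G) := by
  haveI : Fact (Nat.Prime 2) := ⟨Nat.prime_two⟩
  haveI := SylowIn.pCore_normal ↥L 2
  have hset := setting_of hN hZ L hC (pCoreOf_ne_bot hK hC)
  have hcomp := comp_of hK hKL S hJ
  have hR := pCore_le_normalizer hL hN hZ hT hT1 hK hKL S hJ
  have hzz : z ^ 2 = 1 := Subtype.ext (by
    show (z : G) ^ 2 = 1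
    rw [pow_two]; exact hK.2.2.2.2.2 _ hzW)
  have hzV : z ∈ Fusion.OmegaCenter.closureOmega 2 ↥L :=
    mem_iSup_of_mem S (subset_closure ⟨mem_inf.2 ⟨hzS, mem_centralizer_iff.2 hzc⟩, hzz⟩)
  have hR' : Cfsg.pCore 2 ↥L ≤
      normalizer (((K.subgroupOf L).map (MulAut.conj g).toMonoidHom : Subgroup ↥L) : Set ↥L) := by
    refine le_trans (le_of_eq ?_) (le_normalizer_map (H := K.subgroupOf L) (MulAut.conj g).toMonoidHom
      |> fun h => (map_mono hR).trans h)
    exact (SylowIn.map_conj_eq_iff.2 (normalizer_eq_top_iff.2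
      (inferInstance : (Cfsg.pCore 2 ↥L).Normal) ▸ mem_top g)).symm
  have hzW' : z ∈ ((Cfsg.wOf K).subgroupOf L).map (MulAut.conj g).toMonoidHom :=
    ⟨⟨(g : G)⁻¹ * z * g, mul_mem (mul_mem (inv_mem g.2) z.2) g.2⟩, hgz, Subtype.ext (by
      simp [mul_assoc])⟩
  have h := JLocal.eq_of_meet hset hcomp (comp_conj hcomp g) hzV hzW hzW' hz1 hR hR'
  have h2 := SylowIn.map_conj_eq_iff.1 h.symm
  rw [← subgroupOf_normalizer_eq hKL] at h2
  exact h2

/-- Components in `L` are subnormal. -/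
theorem isSubnormal {T K L : Subgroup G} (hT : IsPGroup 2 T) (hT1 : T ≠ ⊥)
    (hK : Cfsg.IsJComponent T K) (hKL : K ≤ L)
    (hC : centralizer (Cfsg.pCoreOf 2 L : Set G) ≤ Cfsg.pCoreOf 2 L) (S : Sylow 2 ↥L)
    (hJ : Cfsg.thompsonSubgroupOf 2 ((S : Subgroup ↥L).map L.subtype) = Cfsg.thompsonSubgroupOf 2 T) :
    (K.subgroupOf L).IsSubnormal :=
  JLocal.isSubnormal (setting_of hN hZ L hC (pCoreOf_ne_bot hK hC)) (comp_of hK hKL S hJ)
    (pCore_le_normalizer hL hN hZ hT hT1 hK hKL S hJ)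

omit hL hN hZ in
theorem exists_sylow {T L : Subgroup G} (h : Cfsg.IsSylowTwoIn T L) :
    ∃ S : Sylow 2 ↥L, (S : Subgroup ↥L).map L.subtype = T := by
  haveI : Fact (Nat.Prime 2) := ⟨Nat.prime_two⟩
  obtain ⟨hTL, hTp, hodd⟩ := h
  have hp : IsPGroup 2 (T.subgroupOf L) := hTp.comap_of_injective _ L.subtype_injective
  refine ⟨hp.toSylow ?_, map_subgroupOf_eq_of_le hTL⟩
  intro hd
  exact absurd hodd (Nat.not_odd_iff_even.2 (even_iff_two_dvd.2 hd))

/-- If `Z(T) ∩ W_K ≠ 1` then `T` normalizes `K`. -/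
theorem le_normalizer {T K L : Subgroup G} (hT : IsPGroup 2 T) (hT1 : T ≠ ⊥)
    (hLT : L ∈ Cfsg.jOvergroups T) (hK : Cfsg.IsJComponent T K) (hKL : K ≤ L)
    (hZW : T ⊓ centralizer (T : Set G) ⊓ Cfsg.wOf K ≠ ⊥) : T ≤ normalizer (K : Set G) := by
  obtain ⟨S, hS⟩ := exists_sylow hLT.1
  obtain ⟨z, hz, hz1⟩ : ∃ z, z ∈ T ⊓ centralizer (T : Set G) ⊓ Cfsg.wOf K ∧ z ≠ 1 :=
    (bot_or_exists_ne_one _).resolve_left hZW
  obtain ⟨⟨hzT, hzc⟩, hzW⟩ := hz
  obtain ⟨zL, hzS, rfl⟩ := (hS.symm ▸ hzT : z ∈ (S : Subgroup ↥L).map L.subtype)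
  intro t ht
  have hfix : t * (zL : G) * t⁻¹ = zL := by
    have e : t * (zL : G) = zL * t := mem_centralizer_iff.1 hzc t ht
    rw [e, mul_inv_cancel_right]
  have hfix' : t⁻¹ * (zL : G) * t = zL := by
    calc t⁻¹ * (zL : G) * t = t⁻¹ * ((zL : G) * t) := by group
      _ = zL := by rw [show (zL : G) * t = t * zL from (mem_centralizer_iff.1 hzc t ht).symm, inv_mul_cancel_left]
  refine normalizes_of_meet hL hN hZ hT hT1 hK hKL hLT.2.2 S (by rw [hS]) hzS (fun s hs => Subtype.ext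
    (mem_centralizer_iff.1 hzc _ (hS ▸ mem_map_of_mem _ hs))) hzW
    (fun e => hz1 (by rw [e]; rfl)) (g := ⟨t, hLT.1.1 ht⟩) ?_ ?_
  · show t * (zL : G) * t⁻¹ ∈ _; rw [hfix]; exact hzW
  · show t⁻¹ * (zL : G) * t ∈ _; rw [hfix']; exact hzW

/-- For `K` in `jComponentsZero T`. -/
theorem zero_main {T K : Subgroup G} (hT : IsPGroup 2 T) (hT1 : T ≠ ⊥)
    (hK0 : K ∈ Cfsg.jComponentsZero T) :
    normalizer (K : Set G) = normalizer (Cfsg.wOf K : Set G) ∧
      ∀ g : G, Cfsg.thompsonSubgroupOf 2 (T.map (MulAut.conj g).toMonoidHom) ≤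
          normalizer (Cfsg.wOf K : Set G) →
        Cfsg.IsJComponent (T.map (MulAut.conj g).toMonoidHom) K := by
  haveI : Fact (Nat.Prime 2) := ⟨Nat.prime_two⟩
  obtain ⟨hK, hK0'⟩ := hK0
  set W := Cfsg.wOf K with hW
  set J := Cfsg.thompsonSubgroupOf 2 T with hJdef
  set N := normalizer (W : Set G) with hNdef
  have hW4 : Nat.card W = 4 := hK.2.2.2.2.1
  have hWp : IsPGroup 2 W := IsPGroup.of_card (n := 2) (by rw [hW4]; norm_num)
  have hW1 : W ≠ ⊥ := fun e => by rw [e, card_bot] at hW4; omega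
  have hWN : W ≤ N := Subgroup.le_normalizer
  have hJK : J ≤ normalizer (K : Set G) := by
    have := Commutators.normalizer_commutator_right K J
    rwa [show ⁅K, J⁆ = K from hK.2.1] at this
  have hKN : K ≤ N := Subgroup.le_normalizer.trans (conjK_le_normalizer_wOf K)
  have hJN : J ≤ N := hJK.trans (conjK_le_normalizer_wOf K)
  have hC : centralizer (Cfsg.pCoreOf 2 N : Set G) ≤ Cfsg.pCoreOf 2 N := by
    have h1 := hL.2 W hWp hW1
    have hWR : W ≤ Cfsg.pCoreOf 2 N := SylowIn.le_pCoreOf hWN le_rfl hWp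
    intro c hc
    have hcN : c ∈ N := centralizer_le_normalizer _ (centralizer_le hWR hc)
    refine ⟨⟨c, hcN⟩, h1 (mem_centralizer_iff.2 fun y hy => Subtype.ext ?_), rfl⟩
    exact mem_centralizer_iff.1 hc _ (mem_map_of_mem _ hy)
  have hJp : IsPGroup 2 J := hT.to_le (Fusion.Thompson.thompsonSubgroupOf_le T)
  obtain ⟨S, hS⟩ := (hJp.comap_of_injective N.subtype N.subtype_injective).exists_le_sylow
  set S' := (S : Subgroup ↥N).map N.subtype with hS'
  have hJS' : J ≤ S' := fun x hx => ⟨⟨x, hJN hx⟩, hS hx, rfl⟩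
  have hodd : ∀ U : Sylow 2 ↥N, Cfsg.IsSylowTwoIn ((U : Subgroup ↥N).map N.subtype) N := fun U => by
    refine ⟨map_subtype_le _, U.isPGroup'.map _, ?_⟩
    rw [relIndex, show ((U : Subgroup ↥N).map N.subtype).subgroupOf N = U from
      comap_map_eq_self_of_injective N.subtype_injective _]
    exact (Nat.prime_two.coprime_iff_not_dvd.2 U.not_dvd_index).odd_of_left
  have hJS : Cfsg.thompsonSubgroupOf 2 S' = J := hK0' S' hJS' (hodd S)
  -- an involution of `W` central in `S`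
  haveI hWn : (W.subgroupOf N).Normal := (normal_subgroupOf_iff_le_normalizer hWN).2 le_rfl
  obtain ⟨z, hzW, hz1, hzc⟩ : ∃ z : ↥N, z ∈ W.subgroupOf N ∧ z ≠ 1 ∧ ∀ s ∈ (S : Subgroup ↥N), s * z = z * s := by
    letI : MulAction (S : Subgroup ↥N) ↥(W.subgroupOf N) :=
      { smul := fun s w => ⟨(s : ↥N) * w * (s : ↥N)⁻¹, hWn.conj_mem _ w.2 _⟩
        one_smul := fun w => Subtype.ext (by show (1 : ↥N) * w * (1 : ↥N)⁻¹ = w; simp)
        mul_smul := fun a b w => Subtype.ext (by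
          show ((a : ↥N) * b) * w * ((a : ↥N) * b)⁻¹ = a * (b * w * (b : ↥N)⁻¹) * (a : ↥N)⁻¹
          group) }
    obtain ⟨b, hb, hb1⟩ := S.isPGroup'.exists_fixed_point_of_prime_dvd_card_of_fixed_point
      ↥(W.subgroupOf N) (by rw [Nat.card_congr (subgroupOfEquivOfLe hWN).toEquiv, hW4]; norm_num)
      (a := 1) (fun s => Subtype.ext (by show (s : ↥N) * (1 : ↥N) * (s : ↥N)⁻¹ = 1; simp))
    refine ⟨b, b.2, fun e => hb1 (Subtype.ext e.symm), fun s hs => ?_⟩
    have h : s * (b : ↥N) * s⁻¹ = b := congrArg Subtype.val (hb ⟨s, hs⟩)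
    exact mul_inv_eq_iff_eq_mul.1 h
  have hzS : z ∈ (S : Subgroup ↥N) := by
    refine CfsgLib.Solvable.Cores.pCore_le_sylow S (SylowIn.le_pCore ?_ hzW)
    exact hWp.comap_of_injective _ N.subtype_injective
  have hNK : N ≤ normalizer (K : Set G) := by
    intro g hg
    refine normalizes_of_meet hL hN hZ hT hT1 hK hKN hC S hJS hzS hzc hzW hz1 (g := ⟨g, hg⟩) ?_ ?_
    · exact (mem_normalizer_iff.1 hg _).1 hzW
    · show g⁻¹ * (z : G) * g ∈ W
      have := (mem_normalizer_iff.1 (inv_mem hg) _).1 hzW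
      simpa using this
  refine ⟨le_antisymm (conjK_le_normalizer_wOf K) hNK, fun g hg => ?_⟩
  set T' := T.map (MulAut.conj g).toMonoidHom with hT'
  set J' := Cfsg.thompsonSubgroupOf 2 T' with hJ'
  have hJ'g : J' = J.map (MulAut.conj g).toMonoidHom := Fusion.Thompson.thompsonSubgroupOf_map_conj g T
  have hJ'p : IsPGroup 2 J' := hJ'g ▸ hJp.map _
  obtain ⟨U, hU⟩ := (hJ'p.comap_of_injective N.subtype N.subtype_injective).exists_le_sylow
  obtain ⟨n, hn⟩ := MulAction.exists_smul_eq ↥N S U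
  set U' := (U : Subgroup ↥N).map N.subtype with hU'
  have hJ'U : J' ≤ U' := fun x hx => ⟨⟨x, hg hx⟩, hU hx, rfl⟩
  have hU'S : U' = S'.map (MulAut.conj (n : G)).toMonoidHom := by
    rw [hU', hS', ← hn, map_map]
    show ((S : Subgroup ↥N).map (MulAut.conj n).toMonoidHom).map N.subtype = _
    rw [map_map]
    rfl
  have hJU : Cfsg.thompsonSubgroupOf 2 U' = J.map (MulAut.conj (n : G)).toMonoidHom := by
    rw [hU'S, Fusion.Thompson.thompsonSubgroupOf_map_conj, hJS]
  -- maximal elementary abelian subgroups of `T` and of `S'` have the same order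
  have hcard : ∀ A B, JComponent.MaxIn T A → JComponent.MaxIn S' B → Nat.card B ≤ Nat.card A :=
    fun A B hA hB => hA.2.2 B ((hJS ▸ JComponent.maxIn_le hB : B ≤ J).trans
      (Fusion.Thompson.thompsonSubgroupOf_le T)) hB.2.1
  have hJ'le : J' ≤ Cfsg.thompsonSubgroupOf 2 U' := by
    rw [hJ'g, map_le_iff_le_comap]
    refine JComponent.thompson_le fun A hA => map_le_iff_le_comap.1 (JComponent.maxIn_le ⟨?_,
      Fusion.Thompson.isEA_map _ hA.2.1, fun B hB hB' => ?_⟩)
    · refine le_trans ?_ hJ'U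
      rw [hJ'g]; exact map_mono (JComponent.maxIn_le hA)
    · obtain ⟨B0, hB0⟩ := JComponent.exists_maxIn S'
      rw [card_map_of_injective (MulAut.conj g).injective]
      refine le_trans ?_ (hcard A B0 hA hB0)
      have hB2 : (B.map (MulAut.conj ((n : G)⁻¹)).toMonoidHom) ≤ S' := by
        refine (map_mono hB).trans (le_of_eq ?_)
        rw [hU'S, map_map]
        convert map_id S' using 2
        ext x
        simp [mul_assoc]
      have := hB0.2.2 _ hB2 (Fusion.Thompson.isEA_map _ hB')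
      rwa [card_map_of_injective (MulAut.conj ((n : G)⁻¹)).injective] at this
  have hJ'n : J' = J.map (MulAut.conj (n : G)).toMonoidHom := by
    rw [← hJU]
    refine eq_of_le_of_card_ge hJ'le (le_of_eq ?_)
    rw [hJU, hJ'g, card_map_of_injective (MulAut.conj (n : G)).injective,
      card_map_of_injective (MulAut.conj g).injective]
  have hnK : K.map (MulAut.conj (n : G)).toMonoidHom = K := SylowIn.map_conj_eq_iff.2 (hNK n.2)
  refine ⟨hK.1, ?_, hK.2.2.1, fun V hV hJV => ?_, hK.2.2.2.2⟩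
  · show ⁅K, J'⁆ = K
    rw [hJ'n]
    conv_lhs => rw [← hnK]
    rw [← map_commutator, show ⁅K, J⁆ = K from hK.2.1, hnK]
  · change Cfsg.IsSylowTwoIn V (K ⊔ J') at hV
    change J' ≤ V at hJV
    show Cfsg.thompsonSubgroupOf 2 V = J'
    set f := (MulAut.conj ((n : G)⁻¹)).toMonoidHom with hf
    have hfi : Function.Injective f := (MulAut.conj ((n : G)⁻¹)).injective
    have hback : ∀ X : Subgroup G, (X.map f).map (MulAut.conj (n : G)).toMonoidHom = X := fun X => by
      rw [map_map]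
      convert map_id X using 2
      ext x
      simp [hf, mul_assoc]
    have hJ'f : J'.map f = J := by
      rw [hJ'n, map_map]
      convert map_id J using 2
      ext x
      simp [hf, mul_assoc]
    have hKf : K.map f = K := SylowIn.map_conj_eq_iff.2 (hNK (inv_mem n.2))
    have hX : (K ⊔ J').map f = K ⊔ J := by rw [Subgroup.map_sup, hKf, hJ'f]
    have h := hK.2.2.2.1 (V.map f) ⟨hX ▸ map_mono hV.1, hV.2.1.map f, by
      rw [← hX, relIndex_map_map_of_injective _ _ hfi]; exact hV.2.2⟩ ((le_of_eq hJ'f.symm).trans (map_mono hJV))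
    rw [← hback V, Fusion.Thompson.thompsonSubgroupOf_map_conj, h, hJ'n]

end Main

end CfsgLib.LocalEvenB.JAmbient
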