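import Cfsg.Agent.Lib.LocalEvenB.JGlobal
import Cfsg.Agent.Lib.LocalEvenB.HullExtremal
import Mathlib.GroupTheory.Perm.Basic

/-!
The two overgroups of an edge inside the subgroup generated by the elements of odd order: both traces are maximal
`2`-local subgroups isomorphic to `S₄`, meeting in a group of order eight.
-/

set_option autoImplicit false
set_option linter.style.haveILetI false
set_option linter.unusedSectionVars false

open scoped Pointwise commutatorElement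

namespace CfsgLib.LocalEvenB.JEdgeHull

open Subgroup CfsgLib.LocalEven JVertex JOffend JSquares JPath JPairs JShape

universe u

variable {G : Type u} [Group G] [Finite G]

/-- The subgroup generated by the elements of odd order. -/
abbrev hull (G : Type u) [Group G] : Subgroup G := closure {g : G | Odd (orderOf g)}

theorem hull_normal : (hull G).Normal := by
  refine normalizer_eq_top_iff.1 (top_unique fun g _ => SylowIn.map_conj_eq_iff.1 ?_)
  have key : ∀ g : G, cj g (hull G) ≤ hull G := by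
    intro g
    rw [cj, MonoidHom.map_closure, closure_le]
    rintro _ ⟨x, hx, rfl⟩
    refine subset_closure ?_
    show Odd (orderOf ((MulAut.conj g) x))
    rw [MulEquiv.orderOf_eq]
    exact hx
  refine le_antisymm (key g) ?_
  have h : cj g (cj g⁻¹ (hull G)) ≤ cj g (hull G) := map_mono (key g⁻¹)
  rwa [cj_cj, mul_inv_cancel, cj_one] at h

theorem perm_center : ∀ a : Equiv.Perm (Fin 4), (∀ x, a * x = x * a) → a = 1 := by decide

variable {T K L K' L' : Subgroup G} (b : Edge T K L K' L')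
include b

local notation "Z₀" => Cfsg.omegaCenterOf (Cfsg.thompsonSubgroupOf 2 T)
local notation "Q₁" => T ⊓ centralizer (Cfsg.wOf K : Set G)
local notation "Q₂" => T ⊓ centralizer (Cfsg.wOf K' : Set G)
local notation "DD" => Cfsg.wOf K ⊔ Cfsg.wOf K'

theorem w_le_hull : Cfsg.wOf K ≤ hull G := by
  obtain ⟨k, hk, hk3, hkn, hkfix⟩ := Vertex.exists_k b.hyp b.v
  have hkH : k ∈ hull G := subset_closure ((show Odd 3 by decide).of_dvd_nat (orderOf_dvd_of_pow_eq_one hk3))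
  let φ : ↥(Cfsg.wOf K) → ↥(Cfsg.wOf K) := fun x =>
    ⟨k * x * k⁻¹ * (x : G)⁻¹, mul_mem ((mem_normalizer_iff.1 hkn x).1 x.2) (inv_mem x.2)⟩
  have hφ : Function.Injective φ := by
    intro x y hxy
    have h : k * x * k⁻¹ * (x : G)⁻¹ = k * y * k⁻¹ * (y : G)⁻¹ := congrArg Subtype.val hxy
    refine Subtype.ext (eq_of_inv_mul_eq_one ?_).symm
    refine hkfix _ (mul_mem (inv_mem y.2) x.2) ?_
    have hc : ((k * y * k⁻¹)⁻¹ : G) * (k * x * k⁻¹) = (y : G)⁻¹ * x := by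
      calc (k * y * k⁻¹)⁻¹ * (k * x * k⁻¹)
          = (k * y * k⁻¹)⁻¹ * ((k * x * k⁻¹ * (x : G)⁻¹) * x) := by group
        _ = (y : G)⁻¹ * x := by rw [h]; group
    exact Eq.trans (by group) hc
  intro v hv
  obtain ⟨x, hx⟩ := Finite.surjective_of_injective hφ ⟨v, hv⟩
  have e : k * x * k⁻¹ * (x : G)⁻¹ = v := congrArg Subtype.val hx
  rw [← e, show k * x * k⁻¹ * (x : G)⁻¹ = k * (x * k⁻¹ * (x : G)⁻¹) by group]
  exact mul_mem hkH (hull_normal.conj_mem _ (inv_mem hkH) _)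

theorem d_le_t : DD ≤ T := sup_le b.w_t b.symm.w_t

theorem d_le_hull : DD ≤ hull G := sup_le (w_le_hull b) (w_le_hull b.symm)

theorem w'_le_normalizer : Cfsg.wOf K' ≤ normalizer (Cfsg.wOf K : Set G) :=
  fun _ hx => Vertex.t_le_normalizer_w b.hyp b.v b.cen (b.symm.w_t hx)

/-- Elements of `W'` centralizing `W` lie in `W`. -/
theorem meet {x : G} (hx : x ∈ Cfsg.wOf K') (hxc : x ∈ centralizer (Cfsg.wOf K : Set G)) : x ∈ Cfsg.wOf K := by
  obtain ⟨f, w, w', hfW, hfW', hfZ, hf1, hw, hwf, hw1, hw', hw'c, hwc, e1⟩ := b.frame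
  have hfc : f ∈ centralizer (Cfsg.wOf K : Set G) := (w_le_q b.hyp b.v b.cen hfW).2
  rcases JComponent.four_cases b.v'.comp.2.2.2.2.1 hfW' hf1 hw' (fun e => hw'c (e ▸ hfc))
    (fun e => hw'c (e ▸ one_mem _)) (b.symm.w_sq hfW') hx with rfl | rfl | rfl | rfl
  · exact one_mem _
  · exact hfW
  · exact absurd hxc hw'c
  · refine absurd ?_ hw'c
    have := mul_mem hxc hfc
    rwa [mul_assoc, b.w_sq hfW, mul_one] at this

theorem card_d : Nat.card ↥(DD) = 8 := by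
  haveI : Fact (Nat.Prime 2) := ⟨Nat.prime_two⟩
  obtain ⟨f, w, w', hfW, hfW', hfZ, hf1, hw, hwf, hw1, hw', hw'c, hwc, e1⟩ := b.frame
  have h := Fusion.Thompson.card_sup_mul_card_inf (w'_le_normalizer b)
  rw [b.v.comp.2.2.2.2.1, b.v'.comp.2.2.2.2.1] at h
  have h2 : Nat.card ↥(Cfsg.wOf K ⊓ Cfsg.wOf K') ∣ 4 := b.v'.comp.2.2.2.2.1 ▸ card_dvd_of_le inf_le_right
  have hne1 : Nat.card ↥(Cfsg.wOf K ⊓ Cfsg.wOf K') ≠ 1 := fun e => hf1 (mem_bot.1
    ((eq_bot_of_card_eq _ e) ▸ mem_inf.2 ⟨hfW, hfW'⟩))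
  have hne4 : Nat.card ↥(Cfsg.wOf K ⊓ Cfsg.wOf K') ≠ 4 := fun e => by
    have he := eq_of_le_of_card_ge (inf_le_right : Cfsg.wOf K ⊓ Cfsg.wOf K' ≤ Cfsg.wOf K')
      (by rw [e, b.v'.comp.2.2.2.2.1])
    exact hw'c ((w_le_q b.hyp b.v b.cen (mem_inf.1 (he.ge hw')).1).2)
  have h3 : Nat.card ↥(Cfsg.wOf K ⊓ Cfsg.wOf K') = 2 := by
    have := Nat.le_of_dvd (by norm_num) h2
    have hpos : 0 < Nat.card ↥(Cfsg.wOf K ⊓ Cfsg.wOf K') := Nat.card_pos
    generalize Nat.card ↥(Cfsg.wOf K ⊓ Cfsg.wOf K') = n at *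
    interval_cases n <;> omega
  rw [h3] at h
  omega

theorem d_mul {x : G} (hx : x ∈ DD) : ∃ v ∈ Cfsg.wOf K', ∃ u ∈ Cfsg.wOf K, v * u = x :=
  mul_of_sup (w'_le_normalizer b) (by rwa [sup_comm] at hx)

theorem dd_not_mem_d {c : G} (hc : c ∈ dd T K) (hc1 : c ≠ 1) : c ∉ DD := by
  intro hcD
  obtain ⟨v, hv, u, hu, e⟩ := d_mul b hcD
  have hcQ := b.dd_le_q hc
  have hvc : v ∈ centralizer (Cfsg.wOf K : Set G) := by
    rw [show v = c * u⁻¹ by rw [← e]; group]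
    exact mul_mem hcQ.2 (inv_mem (w_le_q b.hyp b.v b.cen hu).2)
  exact hc1 (JAmbient.wfix b.v.comp c (e ▸ mul_mem (meet b hv hvc) hu) fun k hk =>
    mem_centralizer_singleton_iff.1 ((mem_dd.1 hc).2 hk))

theorem t_comm {c t : G} (hc : c ∈ dd T K) (ht : t ∈ T) : t * c = c * t :=
  b.le_cen_dd hc (b.v.syl.1 ht)

/-- `T` is `D` extended by the central involution. -/
theorem t_cases {c : G} (hc : c ∈ dd T K) (hc1 : c ≠ 1) {t : G} (ht : t ∈ T) :
    t ∈ DD ∨ t * c ∈ DD := by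
  haveI : Fact (Nat.Prime 2) := ⟨Nat.prime_two⟩
  have hcT : c ∈ T := (b.dd_le_q hc).1
  have hidx : (DD).relIndex T = 2 := by
    have h1 := relIndex_mul_relIndex (⊥ : Subgroup G) (DD) T bot_le (d_le_t b)
    rw [relIndex_bot_left, relIndex_bot_left, card_d b, b.card_t] at h1
    have h2 : (DD).relIndex T ≠ 1 := fun e => dd_not_mem_d b hc hc1 (relIndex_eq_one.1 e hcT)
    have h0 : (DD).relIndex T ≠ 0 := index_ne_zero_of_finite
    have h3 : (DD).relIndex T = Nat.card ↥(dd T K) := Nat.eq_of_mul_eq_mul_left (by norm_num : 0 < 8) h1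
    have h4 := b.card_dd.1
    rw [h3] at h2 h0 ⊢
    omega
  by_cases htD : t ∈ DD
  · exact Or.inl htD
  refine Or.inr (mem_subgroupOf.1 ((mul_mem_iff_of_index_two hidx (a := (⟨t, ht⟩ : T)) (b := ⟨c, hcT⟩)).2
    (iff_of_false (fun h => htD (mem_subgroupOf.1 h)) fun h => dd_not_mem_d b hc hc1 (mem_subgroupOf.1 h))))

/-- `L` is the centralizer of its central involution. -/
theorem cen_eq {c : G} (hc : c ∈ dd T K) (hc1 : c ≠ 1) : centralizer ({c} : Set G) = L :=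
  b.v.max.2 _ (isTwoLocal_cen (mem_dd.1 hc).1 hc1) fun _ hg =>
    mem_centralizer_singleton_iff.2 (b.le_cen_dd hc hg)

theorem pgroup_le {P : Subgroup G} (hP : IsPGroup 2 P) (hTP : T ≤ P) (hPL : P ≤ L) : P = T :=
  (Straddle.isSylowTwoIn_iff.1 b.v.syl).2.2 P hPL hP hTP

/-- `Z₀` when the central involutions are there. -/
theorem z_four {c : G} (hc : c ∈ dd T K) (hc1 : c ≠ 1) : Nat.card ↥(Z₀) = 4 := by
  have h1 := card_z (Vertex.t_pgroup b.v) b.v.comp
  have h2 := b.card_dd.2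
  haveI : Nontrivial ↥(dd T K) := ⟨⟨⟨c, hc⟩, 1, fun e => hc1 (congrArg Subtype.val e)⟩⟩
  have h3 : 1 < Nat.card ↥(dd T K) := Finite.one_lt_card
  omega

/-- The other central involution. -/
theorem other {c f : G} (hc : c ∈ dd T K) (hc1 : c ≠ 1) (hfW : f ∈ Cfsg.wOf K) (hfW' : f ∈ Cfsg.wOf K')
    (hfZ : f ∈ Z₀) (hf1 : f ≠ 1) :
    c * f ∈ dd T K' ∧ c * f ≠ 1 ∧ c ≠ f ∧ ∀ x ∈ Z₀, x = 1 ∨ x = c ∨ x = f ∨ x = c * f := by
  have h4 := z_four b hc hc1
  obtain ⟨hcZ, hcK⟩ := mem_dd.1 hc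
  have hcf : c ≠ f := fun e => hc1 (JAmbient.wfix b.v.comp c (e ▸ hfW) fun k hk =>
    mem_centralizer_singleton_iff.1 (hcK hk))
  have hcases : ∀ x ∈ Z₀, x = 1 ∨ x = c ∨ x = f ∨ x = c * f := fun x hx =>
    z_cases h4 hcZ hc1 hfZ hf1 hcf hx
  obtain ⟨d', hd', hd1', hdK'⟩ := exists_d (Vertex.t_pgroup b.v) b.v'.comp h4
  have hne : d' ≠ c := fun e => not_common b.v b.v' b.ne (isTwoLocal_cen hcZ hc1) hcK (e ▸ hdK') (j_cen hcZ)
  have hnf : d' ≠ f := fun e => hd1' (JAmbient.wfix b.v'.comp d' (e ▸ hfW') fun k hk =>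
    mem_centralizer_singleton_iff.1 (hdK' hk))
  have he : d' = c * f := (((hcases d' hd').resolve_left hd1').resolve_left hne).resolve_left hnf
  exact ⟨he ▸ mem_dd.2 ⟨hd', hdK'⟩, he ▸ hd1', hcf, hcases⟩

theorem q_inter {c : G} (hc : c ∈ dd T K) (hc1 : c ≠ 1) {x : G} (hx : x ∈ Q₁) (hx' : x ∈ Q₂) : x ∈ Z₀ := by
  refine mem_z hx.1 (b.q_sq hx) fun t ht => ?_
  have hle : DD ≤ centralizer ({x} : Set G) := sup_le
    (fun y hy => mem_centralizer_singleton_iff.2 (mem_centralizer_iff.1 hx.2 y hy))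
    (fun y hy => mem_centralizer_singleton_iff.2 (mem_centralizer_iff.1 hx'.2 y hy))
  rcases t_cases b hc hc1 ht with h | h
  · exact mem_centralizer_singleton_iff.1 (hle h)
  · have h1 : Commute (t * c) x := mem_centralizer_singleton_iff.1 (hle h)
    have h2 : Commute c x := (t_comm b hc hx.1).symm
    have := (h1.mul_left h2.inv_left).eq
    rwa [mul_inv_cancel_right] at this

/-- An element normalizing `T` fixes the commutator involution. -/
theorem fix_f {f w w' : G} (hfW : f ∈ Cfsg.wOf K) (hfZ : f ∈ Z₀) (hf1 : f ≠ 1) (hw : w ∈ Cfsg.wOf K)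
    (hw' : w' ∈ Cfsg.wOf K') (e1 : w' * w * w'⁻¹ = w * f) {n : G} (hn : n ∈ normalizer (T : Set G)) :
    n * f * n⁻¹ = f := by
  have hww : (w * w') * (w * w') = f := by
    rw [inv_eq_of_mul_eq_one_right (b.symm.w_sq hw')] at e1
    calc w * w' * (w * w') = w * (w' * w * w') := by group
      _ = f := by rw [e1, ← mul_assoc, b.w_sq hw, one_mul]
  set t := w * w'
  have ht : n * t * n⁻¹ ∈ T := (mem_normalizer_iff.1 hn t).1 (mul_mem (b.w_t hw) (b.symm.w_t hw'))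
  have e : n * t * n⁻¹ * (n * t * n⁻¹) = n * f * n⁻¹ := by rw [← hww]; group
  rcases b.sq_cases hfW hfZ hf1 ht with h | h
  · exact absurd (conj_eq_one_iff.1 (e.symm.trans h)) hf1
  · exact e.symm.trans h

theorem z_normal {n x : G} (hn : n ∈ normalizer (T : Set G)) (hx : x ∈ Z₀) : n * x * n⁻¹ ∈ Z₀ :=
  (mem_normalizer_iff.1 (JComponent.normalizer_le_omegaCenterOf _
    (Fusion.Thompson.normalizer_le_normalizer_thompsonOf (p := 2) T hn)) x).1 hx

/-- A `2`-element outside `T` normalizing `T` exchanges the two central involutions and the four-groups. -/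
theorem swap {c f w w' : G} (hc : c ∈ dd T K) (hc1 : c ≠ 1) (hfW : f ∈ Cfsg.wOf K) (hfW' : f ∈ Cfsg.wOf K')
    (hfZ : f ∈ Z₀) (hf1 : f ≠ 1) (hw : w ∈ Cfsg.wOf K) (hw' : w' ∈ Cfsg.wOf K')
    (e1 : w' * w * w'⁻¹ = w * f) {S : Sylow 2 G} (hTS : T ≤ (S : Subgroup G))
    {s : G} (hs : s ∈ (S : Subgroup G)) (hsT : s ∉ T) (hn : s ∈ normalizer (T : Set G)) :
    s * c * s⁻¹ = c * f ∧ s * (c * f) * s⁻¹ = c ∧ cj s L = L' ∧ cj s (Cfsg.wOf K) = Cfsg.wOf K' := by
  haveI : Fact (Nat.Prime 2) := ⟨Nat.prime_two⟩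
  obtain ⟨hc', hc1', hcf, hcases⟩ := other b hc hc1 hfW hfW' hfZ hf1
  have hfix := fix_f b hfW hfZ hf1 hw hw' e1 hn
  have hm : s * c * s⁻¹ = c * f := by
    rcases hcases _ (z_normal b hn (mem_dd.1 hc).1) with e | e | e | e
    · exact absurd (conj_eq_one_iff.1 e) hc1
    · refine absurd ?_ hsT
      have hsL : s ∈ L := (cen_eq b hc hc1).le (mem_centralizer_singleton_iff.2 (mul_inv_eq_iff_eq_mul.1 e))
      exact (pgroup_le b (S.isPGroup'.to_le (inf_le_left : (S : Subgroup G) ⊓ L ≤ _)) (le_inf hTS b.v.syl.1)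
        inf_le_right).le ⟨hs, hsL⟩
    · exact absurd (mul_left_cancel (mul_right_cancel (e.trans hfix.symm))) hcf
    · exact e
  have hm' : s * (c * f) * s⁻¹ = c := by
    rw [show s * (c * f) * s⁻¹ = (s * c * s⁻¹) * (s * f * s⁻¹) by group, hm, hfix, mul_assoc, b.w_sq hfW, mul_one]
  have hL : cj s L = L' := by
    refine b.v'.max.2 _ (isTwoLocal_cj b.v.max.1 s) ?_
    rw [← cen_eq b.symm hc' hc1', ← cen_eq b hc hc1]
    intro x hx
    refine ⟨s⁻¹ * x * s, mem_centralizer_singleton_iff.2 ?_, by simp [mul_assoc]⟩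
    calc s⁻¹ * x * s * c = s⁻¹ * (x * (s * c * s⁻¹)) * s := by group
      _ = s⁻¹ * ((s * c * s⁻¹) * x) * s := by rw [hm, mem_centralizer_singleton_iff.1 hx]
      _ = c * (s⁻¹ * x * s) := by group
  refine ⟨hm, hm', hL, ?_⟩
  set X := cj s (Cfsg.wOf K) with hX
  have hWL : Cfsg.wOf K ≤ L := b.w_t.trans b.v.syl.1
  have hXn : L' ≤ normalizer (X : Set G) := by
    rw [hX, cj, SylowIn.normalizer_map_conj, ← hL]
    refine map_mono fun g hg => mem_normalizer_iff.2 fun x => ⟨fun hx => b.conj_w hg hx, fun hx => ?_⟩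
    simpa [mul_assoc] using b.conj_w (inv_mem hg) hx
  have hXQ : X ≤ Q₂ := by
    rw [← b.symm.core_eq]
    refine SylowIn.le_pCoreOf ((map_mono hWL).trans hL.le) hXn ?_
    exact (Fusion.Thompson.isPGroup_isEA ⟨IsMulCommutative.of_comm fun x y => Subtype.ext (b.w_comm x.2 y.2),
      fun x hx => by rw [pow_two]; exact b.w_sq hx⟩).map _
  have hW'Q : Cfsg.wOf K' ≤ Q₂ := w_le_q b.hyp b.v' b.cen
  have hcX : Nat.card X = 4 := by
    rw [hX, cj, card_map_of_injective (MulAut.conj s).injective, b.v.comp.2.2.2.2.1]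
  obtain ⟨v, hv, hv1⟩ : ∃ v ∈ X ⊓ Cfsg.wOf K', v ≠ 1 := by
    refine (bot_or_exists_ne_one _).resolve_left fun e => ?_
    have h := Fusion.Thompson.card_sup_mul_card_inf
      (hW'Q.trans ((inf_le_left.trans b.v'.syl.1).trans hXn) : Cfsg.wOf K' ≤ normalizer (X : Set G))
    rw [e, card_bot, mul_one, hcX, b.v'.comp.2.2.2.2.1] at h
    have h2 := Nat.le_of_dvd Nat.card_pos (card_dvd_of_le (sup_le hXQ hW'Q))
    rw [h, b.symm.card_q] at h2
    have := b.symm.card_dd.1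
    omega
  refine (eq_of_le_of_card_ge (fun y hy => ?_) (by rw [hcX, b.v'.comp.2.2.2.2.1])).symm
  by_cases hy1 : y = 1
  · rw [hy1]; exact one_mem _
  obtain ⟨g1, hg1, e1'⟩ := conj_f b.hyp b.v' hfW' hf1 (mem_inf.1 hv).2 hv1
  obtain ⟨g2, hg2, e2'⟩ := conj_f b.hyp b.v' hfW' hf1 hy hy1
  have hfX : f ∈ X := (mem_normalizer_iff.1 (hXn (b.v'.le hg1)) f).2 (e1' ▸ (mem_inf.1 hv).1)
  exact e2' ▸ (mem_normalizer_iff.1 (hXn (b.v'.le hg2)) f).1 hfX

/-- A conjugate of the central involution with the conjugate of `T` inside `S` lies in `Z₀`. -/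
theorem conj_dd {c : G} (hc : c ∈ dd T K) (hc1 : c ≠ 1) {S : Sylow 2 G} (hTS : T ≤ (S : Subgroup G))
    {g : G} (hg : cj g T ≤ (S : Subgroup G)) (hgn : cj g T ≤ normalizer (T : Set G)) :
    g * c * g⁻¹ ∈ Z₀ := by
  haveI : Fact (Nat.Prime 2) := ⟨Nat.prime_two⟩
  obtain ⟨f, w, w', hfW, hfW', hfZ, hf1, hw, hwf, hw1, hw', hw'c, hwc, e1⟩ := b.frame
  have hcT : c ∈ T := (b.dd_le_q hc).1
  set x := g * c * g⁻¹ with hx
  have hxm : x ∈ cj g T := ⟨c, hcT, rfl⟩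
  have hcom : ∀ y ∈ cj g T, y * x = x * y := by
    rintro _ ⟨t, ht, rfl⟩
    show g * t * g⁻¹ * (g * c * g⁻¹) = g * c * g⁻¹ * (g * t * g⁻¹)
    calc g * t * g⁻¹ * (g * c * g⁻¹) = g * (t * c) * g⁻¹ := by group
      _ = g * (c * t) * g⁻¹ := by rw [t_comm b hc ht]
      _ = _ := by group
  by_cases hgT : cj g T ≤ T
  · exact z_normal b (SylowIn.map_conj_eq_iff.1 (eq_of_le_of_card_ge hgT
      (card_map_of_injective (MulAut.conj g).injective).ge)) (mem_dd.1 hc).1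
  have hcc : c * c = 1 := z_sq (mem_dd.1 hc).1
  have hxx : x * x = 1 := by rw [hx, show g * c * g⁻¹ * (g * c * g⁻¹) = g * (c * c) * g⁻¹ by group, hcc]; group
  by_cases hxT : x ∈ T
  · obtain ⟨y, hy, hyT⟩ := SetLike.not_le_iff_exists.1 hgT
    obtain ⟨-, -, hL, hW⟩ := swap b hc hc1 hfW hfW' hfZ hf1 hw hw' e1 hTS (hg hy) hyT (hgn hy)
    have hyn := hgn hy
    have hyx : y * x * y⁻¹ = x := by rw [hcom y hy, mul_inv_cancel_right]
    have hcor : cj y (Q₁) = Q₂ := by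
      rw [← b.core_eq, ← b.symm.core_eq, ← hL, cj, SylowIn.pCoreOf_map_conj]
    obtain ⟨hc', hc1', -, -⟩ := other b hc hc1 hfW hfW' hfZ hf1
    have hyf := fix_f b hfW hfZ hf1 hw hw' e1 hyn
    rcases b.invol hxT hxx with h | h
    · exact q_inter b hc hc1 h (hcor.le ⟨x, h, hyx⟩)
    · refine q_inter b hc hc1 ?_ h
      obtain ⟨z, hz, e⟩ := hcor.ge h
      have : z = x := (MulAut.conj y).injective (e.trans hyx.symm)
      exact this ▸ hz
  · exfalso
    have hxS := hg hxm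
    obtain ⟨hm, -, hL, hW⟩ := swap b hc hc1 hfW hfW' hfZ hf1 hw hw' e1 hTS hxS hxT (hgn hxm)
    have hidx : ∀ y ∈ cj g T, ∀ z ∈ cj g T, y ∉ T → z ∉ T → y⁻¹ * z ∈ T := by
      intro y hy z hz hy' hz'
      obtain ⟨ey, -, -, -⟩ := swap b hc hc1 hfW hfW' hfZ hf1 hw hw' e1 hTS (hg hy) hy' (hgn hy)
      obtain ⟨ez, -, -, -⟩ := swap b hc hc1 hfW hfW' hfZ hf1 hw hw' e1 hTS (hg hz) hz' (hgn hz)
      refine (pgroup_le b (S.isPGroup'.to_le (inf_le_left : (S : Subgroup G) ⊓ L ≤ _)) (le_inf hTS b.v.syl.1)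
        inf_le_right).le (mem_inf.2 ⟨mul_mem (inv_mem (hg hy)) (hg hz),
          (cen_eq b hc hc1).le (mem_centralizer_singleton_iff.2 ?_)⟩)
      calc y⁻¹ * z * c = y⁻¹ * (z * c * z⁻¹) * z := by group
        _ = y⁻¹ * (y * c * y⁻¹) * z := by rw [ez, ey]
        _ = c * (y⁻¹ * z) := by group
    set E := cj g T ⊓ T with hE
    have hcE : c ∉ E := by
      rintro ⟨h, -⟩
      obtain ⟨hc', -, hcf, -⟩ := other b hc hc1 hfW hfW' hfZ hf1
      have h2 : x * c * x⁻¹ = c := by rw [← hcom c h, mul_inv_cancel_right]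
      rw [hm] at h2
      exact hf1 (mul_eq_left.1 h2)
    have hE2 : 2 * Nat.card E ≥ Nat.card T := by
      have h1 : T.relIndex (cj g T) ≤ 2 := by
        show (T.subgroupOf (cj g T)).index ≤ 2
        have hxn : (⟨x, hxm⟩ : cj g T) ∉ T.subgroupOf (cj g T) := fun h => hxT (mem_subgroupOf.1 h)
        refine le_of_eq (index_eq_two_iff.2 ⟨⟨x, hxm⟩, fun a => ?_⟩)
        simp only [mem_subgroupOf, Subgroup.coe_mul]
        by_cases ha : (a : G) ∈ T
        · exact Or.inr ⟨ha, fun h => hxT (by simpa using mul_mem (inv_mem ha) h)⟩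
        · refine Or.inl ⟨?_, ha⟩
          have := hidx _ (inv_mem a.2) x hxm (fun h => ha (inv_mem_iff.1 h)) hxT
          simpa using this
      have h2 := relIndex_mul_relIndex (⊥ : Subgroup G) E (cj g T) bot_le inf_le_left
      rw [relIndex_bot_left, relIndex_bot_left, hE, inf_relIndex_left,
        card_map_of_injective (MulAut.conj g).injective] at h2
      rw [hE]
      calc Nat.card T = Nat.card ↥(cj g T ⊓ T) * T.relIndex (cj g T) := h2.symm
        _ ≤ Nat.card ↥(cj g T ⊓ T) * 2 := Nat.mul_le_mul_left _ h1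
        _ = _ := mul_comm _ _
    have hE8 : E.relIndex T = 2 := by
      have h1 := relIndex_mul_relIndex (⊥ : Subgroup G) E T bot_le inf_le_right
      rw [relIndex_bot_left, relIndex_bot_left] at h1
      have h2 : E.relIndex T ≠ 1 := fun e => hcE (relIndex_eq_one.1 e hcT)
      have h3 : E.relIndex T ≠ 0 := index_ne_zero_of_finite
      have hpos : 0 < Nat.card E := Nat.card_pos
      have : E.relIndex T ≤ 2 := Nat.le_of_mul_le_mul_left (by rw [h1, mul_comm]; exact hE2) hpos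
      omega
    obtain ⟨y, hyE, hyQ, hyQ'⟩ : ∃ y ∈ E, y ∈ Q₁ ∧ y ∉ Q₂ := by
      have hwQ := w_le_q b.hyp b.v b.cen hw
      have hwQ' : w ∉ Q₂ := fun h => hwc h.2
      by_cases hwE : w ∈ E
      · exact ⟨w, hwE, hwQ, hwQ'⟩
      obtain ⟨hc', hc1', -, -⟩ := other b hc hc1 hfW hfW' hfZ hf1
      have hcQ : c ∈ Q₂ := ⟨hcT, mem_centralizer_iff.2 fun z hz => t_comm b hc (b.symm.w_t hz)⟩
      refine ⟨w * c, mem_subgroupOf.1 ((mul_mem_iff_of_index_two hE8 (a := (⟨w, hwQ.1⟩ : T))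
        (b := ⟨c, hcT⟩)).2 (iff_of_false (fun h => hwE (mem_subgroupOf.1 h)) fun h => hcE (mem_subgroupOf.1 h))),
        mul_mem hwQ (b.dd_le_q hc), fun h => hwQ' ?_⟩
      have := mul_mem h (inv_mem hcQ)
      rwa [mul_inv_cancel_right] at this
    have hfx : x * y * x⁻¹ = y := by rw [← hcom y hyE.1, mul_inv_cancel_right]
    refine hyQ' ?_
    rw [← b.symm.core_eq, ← hL, cj, ← SylowIn.pCoreOf_map_conj, b.core_eq]
    exact ⟨y, hyQ, hfx⟩

/-- A Sylow subgroup over `T` normalizes it. -/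
theorem sylow_le_normalizer {c : G} (hc : c ∈ dd T K) (hc1 : c ≠ 1) {S : Sylow 2 G} (hTS : T ≤ (S : Subgroup G)) :
    (S : Subgroup G) ≤ normalizer (T : Set G) := by
  haveI : Fact (Nat.Prime 2) := ⟨Nat.prime_two⟩
  obtain ⟨f, w, w', hfW, hfW', hfZ, hf1, hw, hwf, hw1, hw', hw'c, hwc, e1⟩ := b.frame
  obtain ⟨hc', hc1', hcf, hcases⟩ := other b hc hc1 hfW hfW' hfZ hf1
  set R := (S : Subgroup G) ⊓ normalizer (T : Set G) with hR
  suffices hRS : R = (S : Subgroup G) from hRS ▸ inf_le_right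
  refine Straddle.eq_of_normalizer S.isPGroup' inf_le_left fun n hnS hnR => ?_
  by_cases hnT : n ∈ normalizer (T : Set G)
  · exact ⟨hnS, hnT⟩
  exfalso
  have hTR : T ≤ R := le_inf hTS Subgroup.le_normalizer
  obtain ⟨t, ht, hnt⟩ : ∃ t ∈ T, n * t * n⁻¹ ∉ T := by
    by_contra hcon
    push Not at hcon
    exact hnT (SylowIn.map_conj_eq_iff.1 (eq_of_le_of_card_ge (by rintro _ ⟨t, ht, rfl⟩; exact hcon t ht)
      (card_map_of_injective (MulAut.conj n).injective).ge))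
  obtain ⟨hms, hmn⟩ := mem_inf.1 ((mem_normalizer_iff.1 hnR t).1 (hTR ht))
  obtain ⟨e, -, -, -⟩ := swap b hc hc1 hfW hfW' hfZ hf1 hw hw' e1 hTS hms hnt hmn
  have hmove : ∀ y ∈ T, n * y * n⁻¹ ∈ R := fun y hy => (mem_normalizer_iff.1 hnR y).1 (hTR hy)
  have hsame : ∀ y ∈ (S : Subgroup G), y * c * y⁻¹ = c → y ∈ T := fun y hy hyc =>
    (pgroup_le b (S.isPGroup'.to_le (inf_le_left : (S : Subgroup G) ⊓ L ≤ _)) (le_inf hTS b.v.syl.1)
      inf_le_right).le ⟨hy, (cen_eq b hc hc1).le (mem_centralizer_singleton_iff.2 (mul_inv_eq_iff_eq_mul.1 hyc))⟩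
  have hxZ : n * c * n⁻¹ ∈ Z₀ := conj_dd b hc hc1 hTS
    (by rintro _ ⟨y, hy, rfl⟩; exact (mem_inf.1 (hmove y hy)).1)
    (by rintro _ ⟨y, hy, rfl⟩; exact (mem_inf.1 (hmove y hy)).2)
  rcases hcases _ hxZ with h | h | h | h
  · exact hc1 (conj_eq_one_iff.1 h)
  · exact hnT (Subgroup.le_normalizer (hsame n hnS h))
  · -- `f` would be central in `R`, hence `c` too
    set s := n * t * n⁻¹ with hsdef
    have hs' : n * s * n⁻¹ ∈ R := (mem_normalizer_iff.1 hnR s).1 ⟨hms, hmn⟩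
    have h1 := fix_f b hfW hfZ hf1 hw hw' e1 (mem_inf.1 hs').2
    rw [← h] at h1
    have h2 : s * c * s⁻¹ = c := (MulAut.conj n).injective (by
      show n * (s * c * s⁻¹) * n⁻¹ = n * c * n⁻¹
      calc n * (s * c * s⁻¹) * n⁻¹ = n * s * n⁻¹ * (n * c * n⁻¹) * (n * s * n⁻¹)⁻¹ := by group
        _ = _ := h1)
    exact hnt (hsame s hms h2)
  · set s := n * t * n⁻¹ with hsdef
    have h2 : s⁻¹ * n ∈ T := hsame _ (mul_mem (inv_mem hms) hnS) (by
      calc s⁻¹ * n * c * (s⁻¹ * n)⁻¹ = s⁻¹ * (n * c * n⁻¹) * s := by group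
        _ = s⁻¹ * (s * c * s⁻¹) * s := by rw [h, e]
        _ = c := by group)
    have h3 := mul_mem hmn (Subgroup.le_normalizer h2)
    rw [mul_inv_cancel_left] at h3
    exact hnT h3

end CfsgLib.LocalEvenB.JEdgeHull
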