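import Cfsg.Agent.Lib.LocalEvenB.JEdgeHull
import Cfsg.Prelude.Def_Involutions

/-!
Transfer moves the central involutions out of the subgroup generated by the elements of odd order; the traces
of the two overgroups.
-/

set_option autoImplicit false
set_option linter.style.haveILetI false
set_option linter.unusedSectionVars false

open scoped Pointwise commutatorElement

namespace CfsgLib.LocalEvenB.JEdgeHull

open Subgroup CfsgLib.LocalEven JVertex JOffend JSquares JPath JPairs JShape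

universe u

variable {G : Type u} [Group G] [Finite G]

theorem zmod_two_unique : ∀ a b : Multiplicative (ZMod 2), a ≠ 1 → b ≠ 1 → a = b := by decide

variable {T K L K' L' : Subgroup G} (b : Edge T K L K' L')
include b

local notation "Z₀" => Cfsg.omegaCenterOf (Cfsg.thompsonSubgroupOf 2 T)
local notation "Q₁" => T ⊓ centralizer (Cfsg.wOf K : Set G)
local notation "DD" => Cfsg.wOf K ⊔ Cfsg.wOf K'

/-- A Sylow subgroup over `T` has a subgroup of index two containing `D` and avoiding both central involutions. -/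
theorem exists_avoid {c f : G} (hc : c ∈ dd T K) (hc1 : c ≠ 1) (hfW : f ∈ Cfsg.wOf K) (hfW' : f ∈ Cfsg.wOf K')
    (hfZ : f ∈ Z₀) (hf1 : f ≠ 1) {S : Sylow 2 G} (hTS : T ≤ (S : Subgroup G)) :
    ∃ U : Subgroup G, U ≤ (S : Subgroup G) ∧ (S : Subgroup G) ≤ normalizer (U : Set G) ∧ c ∉ U ∧ c * f ∉ U ∧
      (S : Subgroup G) ≤ U ⊔ zpowers c := by
  haveI : Fact (Nat.Prime 2) := ⟨Nat.prime_two⟩
  obtain ⟨f0, w, w', hfW0, hfW0', hfZ0, hf01, hw, hwf, hw1, hw', hw'c, hwc, e1⟩ := b.frame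
  obtain rfl : f0 = f := by
    obtain ⟨f1, -, -, -, huniq⟩ := Vertex.exists_f b.v
    rw [(huniq f0 hfW0 hfZ0).resolve_left hf01, (huniq f hfW hfZ).resolve_left hf1]
  obtain ⟨hc', hc1', hcf, hcases⟩ := other b hc hc1 hfW hfW' hfZ hf1
  have hcD := dd_not_mem_d b hc hc1
  have hfD : f0 ∈ DD := mem_sup_left hfW
  have hcfD : c * f0 ∉ DD := fun h => hcD (by simpa using mul_mem h (inv_mem hfD))
  have hcT : c ∈ T := (b.dd_le_q hc).1
  have hTU : ∀ {U : Subgroup G}, DD ≤ U → T ≤ U ⊔ zpowers c := by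
    intro U hU t ht
    rcases t_cases b hc hc1 ht with h | h
    · exact mem_sup_left (hU h)
    · simpa using mul_mem (mem_sup_left (T := zpowers c) (hU h)) (inv_mem (mem_sup_right (mem_zpowers c)))
  have hTD : T ≤ normalizer ((DD : Subgroup G) : Set G) := by
    intro t ht
    refine SylowIn.map_conj_eq_iff.1 ?_
    rw [Subgroup.map_sup, SylowIn.map_conj_eq_iff.2 (Vertex.t_le_normalizer_w b.hyp b.v b.cen ht),
      SylowIn.map_conj_eq_iff.2 (Vertex.t_le_normalizer_w b.hyp b.v' b.cen ht)]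
  by_cases hST : (S : Subgroup G) ≤ T
  · exact ⟨DD, (d_le_t b).trans hTS, hST.trans hTD, hcD, hcfD, hST.trans (hTU le_rfl)⟩
  obtain ⟨s, hs, hsT⟩ := SetLike.not_le_iff_exists.1 hST
  have hSn := sylow_le_normalizer b hc hc1 hTS
  obtain ⟨hm, hm', -, hW⟩ := swap b hc hc1 hfW hfW' hfZ hf1 hw hw' e1 hTS hs hsT (hSn hs)
  have e1' : w * w' * w⁻¹ = w' * f0 := by
    rw [inv_eq_of_mul_eq_one_right (b.symm.w_sq hw')] at e1
    rw [inv_eq_of_mul_eq_one_right (b.w_sq hw)]
    calc w * w' * w = w * (w' * w * w') * w' := by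
          rw [show w * (w' * w * w') * w' = w * w' * w * (w' * w') by group, b.symm.w_sq hw', mul_one]
      _ = f0 * w' := by rw [e1, ← mul_assoc w w f0, b.w_sq hw, one_mul]
      _ = w' * f0 := (Vertex.t_fix b.hyp b.v b.cen hfZ (b.symm.w_t hw')).symm
  have hW' : cj s (Cfsg.wOf K') = Cfsg.wOf K :=
    (swap b.symm hc' hc1' hfW' hfW hfZ hf1 hw' hw e1' hTS hs hsT (hSn hs)).2.2.2
  have hsD : s ∈ normalizer ((DD : Subgroup G) : Set G) := by
    refine SylowIn.map_conj_eq_iff.1 ?_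
    rw [Subgroup.map_sup, show (Cfsg.wOf K).map (MulAut.conj s).toMonoidHom = _ from hW,
      show (Cfsg.wOf K').map (MulAut.conj s).toMonoidHom = _ from hW', sup_comm]
  have hsf : s * f0 * s⁻¹ = f0 := fix_f b hfW hfZ hf1 hw hw' e1 (hSn hs)
  have hcc : c * c = 1 := z_sq (mem_dd.1 hc).1
  have hsame : ∀ y ∈ (S : Subgroup G), y * c * y⁻¹ = c → y ∈ T := fun y hy hyc =>
    (pgroup_le b (S.isPGroup'.to_le (inf_le_left : (S : Subgroup G) ⊓ L ≤ _)) (le_inf hTS b.v.syl.1)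
      inf_le_right).le ⟨hy, (cen_eq b hc hc1).le (mem_centralizer_singleton_iff.2 (mul_inv_eq_iff_eq_mul.1 hyc))⟩
  have hcfc : ∀ y : G, y ∈ T → Commute y c := fun y hy => t_comm b hc hy
  have hfc : Commute f0 c := hcfc f0 (b.w_t hfW)
  have hss : s * s ∈ T := hsame _ (mul_mem hs hs) (by
    rw [show s * s * c * (s * s)⁻¹ = s * (s * c * s⁻¹) * s⁻¹ by group, hm, hm'])
  have hsq : s * s ∈ DD := by
    refine (t_cases b hc hc1 hss).resolve_right fun hd => ?_
    set d := s * s * c with hdd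
    have hds : s * d * s⁻¹ = d * f0 := by
      calc s * d * s⁻¹ = s * s * (s * c * s⁻¹) := by rw [hdd]; group
        _ = s * s * (c * f0) := by rw [hm]
        _ = d * f0 := by rw [hdd]; group
    obtain ⟨v, hv, u, hu, hvu⟩ := d_mul b hd
    have hbad : d ∈ Cfsg.wOf K → d ∈ Cfsg.wOf K' → False := by
      intro h h'
      rcases JComponent.four_cases b.v.comp.2.2.2.2.1 hfW hf1 hw hwf hw1 (b.w_sq hfW) h with e | e | e | e
      · rw [e, mul_one, mul_inv_cancel, one_mul] at hds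
        exact hf1 hds.symm
      · rw [e, hsf] at hds
        exact hf1 (left_eq_mul.1 hds)
      · exact hwc ((w_le_q b.hyp b.v' b.cen (e ▸ h')).2)
      · have h1 := (w_le_q b.hyp b.v' b.cen (show w * f0 ∈ Cfsg.wOf K' from e ▸ h')).2
        have h2 := mul_mem h1 (w_le_q b.hyp b.v' b.cen hfW').2
        rw [mul_assoc, b.w_sq hfW, mul_one] at h2
        exact hwc h2
    have hmem : ∀ {y : G}, y ∈ Cfsg.wOf K → s * y * s⁻¹ ∈ Cfsg.wOf K' := fun hy => hW.le ⟨_, hy, rfl⟩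
    have hmem' : ∀ {y : G}, y ∈ Cfsg.wOf K' → s * y * s⁻¹ ∈ Cfsg.wOf K := fun hy => hW'.le ⟨_, hy, rfl⟩
    -- the image of `w`
    set a := s * w * s⁻¹ with hadef
    have ha : a ∈ Cfsg.wOf K' := hmem hw
    have hwf' : w' ≠ f0 := fun e => hw'c (e ▸ (w_le_q b.hyp b.v b.cen hfW).2)
    have hw1' : w' ≠ 1 := fun e => hw'c (e ▸ one_mem _)
    have four' := fun {y : G} (hy : y ∈ Cfsg.wOf K') =>
      JComponent.four_cases b.v'.comp.2.2.2.2.1 hfW' hf1 hw' hwf' hw1' (b.symm.w_sq hfW') hy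
    have hfw : Commute f0 w := b.w_comm hfW hw
    have ha1 : a * w * a⁻¹ = w * f0 := by
      rcases four' ha with e | e | e | e
      · exact absurd (conj_eq_one_iff.1 e) hw1
      · exact absurd ((MulAut.conj s).injective (e.trans hsf.symm)) hwf
      · rw [e, e1]
      · rw [e, show w' * f0 * w * (w' * f0)⁻¹ = w' * (f0 * w * f0⁻¹) * w'⁻¹ by group, hfw.eq,
          mul_inv_cancel_right, e1]
    have haw : w * a = a * w * f0 := by
      have h1 : a * w = w * f0 * a := mul_inv_eq_iff_eq_mul.1 ha1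
      rw [h1, mul_assoc (w * f0) a f0, ← (b.symm.w_comm hfW' ha : f0 * a = a * f0), ← mul_assoc (w * f0) f0 a,
        mul_assoc w f0 f0, b.w_sq hfW, mul_one]
    by_cases hvW : v ∈ Cfsg.wOf K
    · have h1 : d ∈ Cfsg.wOf K := hvu ▸ mul_mem hvW hu
      refine hbad h1 ?_
      simpa using mul_mem (hds ▸ hmem h1 : d * f0 ∈ Cfsg.wOf K') (inv_mem hfW')
    by_cases huW : u ∈ Cfsg.wOf K'
    · have h1 : d ∈ Cfsg.wOf K' := hvu ▸ mul_mem hv huW
      refine hbad ?_ h1
      simpa using mul_mem (hds ▸ hmem' h1 : d * f0 ∈ Cfsg.wOf K) (inv_mem hfW)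
    have hva : v = a ∨ v = a * f0 := by
      have haW : a ∉ Cfsg.wOf K := fun h => by
        rw [b.w_comm h hw, mul_inv_cancel_right] at ha1
        exact hf1 (left_eq_mul.1 ha1)
      have side : ∀ {y : G}, y ∈ Cfsg.wOf K' → y ∉ Cfsg.wOf K → y = w' ∨ y = w' * f0 := by
        intro y hy hyW
        rcases four' hy with e | e | e | e
        · exact absurd (show y ∈ Cfsg.wOf K by rw [e]; exact one_mem _) hyW
        · exact absurd (show y ∈ Cfsg.wOf K by rw [e]; exact hfW) hyW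
        · exact Or.inl e
        · exact Or.inr e
      rcases side hv hvW with e | e <;> rcases side ha haW with e' | e'
      · exact Or.inl (e.trans e'.symm)
      · exact Or.inr (by rw [e, e', mul_assoc, b.w_sq hfW, mul_one])
      · exact Or.inr (by rw [e, e'])
      · exact Or.inl (e.trans e'.symm)
    have hua : u = w ∨ u = w * f0 := by
      rcases JComponent.four_cases b.v.comp.2.2.2.2.1 hfW hf1 hw hwf hw1 (b.w_sq hfW) hu with e | e | e | e
      exacts [absurd (e ▸ one_mem _) huW, absurd (e ▸ hfW') huW, Or.inl e, Or.inr e]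
    obtain ⟨z, hz, hde⟩ : ∃ z : G, (z = 1 ∨ z = f0) ∧ d = a * w * z := by
      rcases hva with e | e <;> rcases hua with e' | e' <;> rw [e, e'] at hvu
      · exact ⟨1, Or.inl rfl, by rw [← hvu, mul_one]⟩
      · exact ⟨f0, Or.inr rfl, hvu.symm.trans (mul_assoc a w f0).symm⟩
      · exact ⟨f0, Or.inr rfl, hvu.symm.trans ((mul_assoc a f0 w).trans ((congrArg (fun y => a * y) hfw.eq).trans (mul_assoc a w f0).symm))⟩
      · exact ⟨1, Or.inl rfl, by
          rw [← hvu, mul_assoc a f0, ← mul_assoc f0 w, hfw.eq, mul_assoc w f0 f0, b.w_sq hfW, mul_one, mul_one]⟩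
    have hsz : s * z * s⁻¹ = z := by rcases hz with rfl | rfl <;> [group; exact hsf]
    have hzT : z ∈ T := by rcases hz with rfl | rfl <;> [exact one_mem _; exact b.w_t hfW]
    have hzw : Commute z w := by rcases hz with rfl | rfl <;> [exact Commute.one_left w; exact hfw]
    have hsa : s * a * s⁻¹ = w * f0 := by
      calc s * a * s⁻¹ = s * s * w * (s * s)⁻¹ := by rw [hadef]; group
        _ = d * (c⁻¹ * w * c) * d⁻¹ := by rw [hdd]; group
        _ = d * w * d⁻¹ := by rw [mul_assoc c⁻¹, (hcfc w (b.w_t hw)).eq, inv_mul_cancel_left]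
        _ = a * (w * (z * w * z⁻¹) * w⁻¹) * a⁻¹ := by rw [hde]; group
        _ = w * f0 := by rw [hzw.eq, mul_inv_cancel_right, mul_inv_cancel_right, ha1]
    have h1 : s * d * s⁻¹ = w * f0 * a * z := by
      calc s * d * s⁻¹ = (s * a * s⁻¹) * (s * w * s⁻¹) * (s * z * s⁻¹) := by rw [hde]; group
        _ = _ := by rw [hsa, ← hadef, hsz]
    have h2 : w * f0 * a * z = d := by
      rw [mul_assoc w f0 a, (b.symm.w_comm hfW' ha : f0 * a = a * f0), ← mul_assoc w, haw, mul_assoc (a * w) f0 f0,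
        b.w_sq hfW, mul_one, hde]
    rw [h1, h2] at hds
    exact hf1 (left_eq_mul.1 hds)
  refine ⟨DD ⊔ zpowers s, sup_le ((d_le_t b).trans hTS) (zpowers_le.2 hs), ?_, ?_, ?_, ?_⟩
  rotate_right
  · intro y hy
    have hsU : s ∈ DD ⊔ zpowers s ⊔ zpowers c := mem_sup_left (mem_sup_right (mem_zpowers s))
    by_cases hyT : y ∈ T
    · exact hTU le_sup_left hyT
    · obtain ⟨hy1, -, -, -⟩ := swap b hc hc1 hfW hfW' hfZ hf1 hw hw' e1 hTS hy hyT (hSn hy)
      have h : s⁻¹ * y ∈ T := hsame _ (mul_mem (inv_mem hs) hy) (by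
        calc s⁻¹ * y * c * (s⁻¹ * y)⁻¹ = s⁻¹ * (y * c * y⁻¹) * s := by group
          _ = s⁻¹ * (s * c * s⁻¹) * s := by rw [hy1, hm]
          _ = c := by group)
      simpa using mul_mem hsU (hTU le_sup_left h)
  · have hsU : s ∈ DD ⊔ zpowers s := mem_sup_right (mem_zpowers s)
    have hcn : c ∈ normalizer ((DD ⊔ zpowers s : Subgroup G) : Set G) := by
      refine SylowIn.map_conj_eq_iff.1 (eq_of_le_of_card_ge ?_ (card_map_of_injective (MulAut.conj c).injective).ge)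
      rw [Subgroup.map_sup, SylowIn.map_conj_eq_iff.2 (hTD hcT), MonoidHom.map_zpowers, sup_le_iff, zpowers_le]
      refine ⟨le_sup_left, ?_⟩
      show c * s * c⁻¹ ∈ DD ⊔ zpowers s
      have h1 : s⁻¹ * c * s = c * f0 := by
        calc s⁻¹ * c * s = s⁻¹ * (s * (c * f0) * s⁻¹) * s := by rw [hm']
          _ = c * f0 := by group
      have h2 : c * s * c⁻¹ = s * f0 := by
        rw [inv_eq_of_mul_eq_one_right hcc, show c * s * c = s * (s⁻¹ * c * s) * c by group, h1,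
          mul_assoc s (c * f0) c, mul_assoc c f0 c, hfc.eq, ← mul_assoc c c f0, hcc, one_mul]
      rw [h2]
      exact mul_mem hsU (mem_sup_left hfD)
    intro y hy
    have hyU : y ∈ DD ⊔ zpowers s ⊔ zpowers c := by
      by_cases hyT : y ∈ T
      · exact hTU le_sup_left hyT
      · obtain ⟨hy1, -, -, -⟩ := swap b hc hc1 hfW hfW' hfZ hf1 hw hw' e1 hTS hy hyT (hSn hy)
        have h : s⁻¹ * y ∈ T := hsame _ (mul_mem (inv_mem hs) hy) (by
          calc s⁻¹ * y * c * (s⁻¹ * y)⁻¹ = s⁻¹ * (y * c * y⁻¹) * s := by group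
            _ = s⁻¹ * (s * c * s⁻¹) * s := by rw [hy1, hm]
            _ = c := by group)
        simpa using mul_mem (mem_sup_left (T := zpowers c) hsU) (hTU le_sup_left h)
    exact (sup_le Subgroup.le_normalizer (zpowers_le.2 hcn)) hyU
  all_goals
    intro hU
    obtain ⟨p, hp, q, hq, hpq⟩ := mul_of_sup (zpowers_le.2 hsD) (by rwa [sup_comm] at hU)
    obtain ⟨n, rfl⟩ := mem_zpowers_iff.1 hp
    rcases Int.even_or_odd n with ⟨m, rfl⟩ | ⟨m, rfl⟩
  all_goals
    have hm2 : (s * s) ^ m ∈ DD := zpow_mem hsq m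
  · refine hcD ?_
    rw [← hpq, zpow_add, ← (Commute.refl s).mul_zpow]
    exact mul_mem hm2 hq
  · refine hsT ?_
    have hs1 : s = ((s * s) ^ m)⁻¹ * (c * q⁻¹) := by
      rw [← hpq, zpow_add, zpow_mul, zpow_two, zpow_one]; group
    rw [hs1]
    exact mul_mem (inv_mem (d_le_t b hm2)) (mul_mem hcT (inv_mem (d_le_t b hq)))
  · refine hcfD ?_
    rw [← hpq, zpow_add, ← (Commute.refl s).mul_zpow]
    exact mul_mem hm2 hq
  · refine hsT ?_
    have hs1 : s = ((s * s) ^ m)⁻¹ * (c * f0 * q⁻¹) := by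
      rw [← hpq, zpow_add, zpow_mul, zpow_two, zpow_one]; group
    rw [hs1]
    exact mul_mem (inv_mem (d_le_t b hm2)) (mul_mem (mul_mem hcT (b.w_t hfW)) (inv_mem (d_le_t b hq)))

/-- The central involution is not in the subgroup generated by the elements of odd order. -/
theorem not_mem_hull {c : G} (hc : c ∈ dd T K) (hc1 : c ≠ 1) : c ∉ hull G := by
  haveI : Fact (Nat.Prime 2) := ⟨Nat.prime_two⟩
  intro hcH
  obtain ⟨f, w, w', hfW, hfW', hfZ, hf1, hw, hwf, hw1, hw', hw'c, hwc, e1⟩ := b.frame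
  obtain ⟨hc', hc1', hcf, hcases⟩ := other b hc hc1 hfW hfW' hfZ hf1
  obtain ⟨S, hTS⟩ := (Vertex.t_pgroup b.v).exists_le_sylow
  obtain ⟨U, hUS, hUn, hcU, hcfU, hgen⟩ := exists_avoid b hc hc1 hfW hfW' hfZ hf1 hTS
  haveI : (U.subgroupOf (S : Subgroup G)).Normal := (normal_subgroupOf_iff_le_normalizer hUS).2 hUn
  have hcS : c ∈ (S : Subgroup G) := hTS (b.dd_le_q hc).1
  have hcyc : IsCyclic (↥(S : Subgroup G) ⧸ U.subgroupOf (S : Subgroup G)) := by
    refine ⟨⟨QuotientGroup.mk ⟨c, hcS⟩, fun q => ?_⟩⟩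
    induction q using QuotientGroup.induction_on with
    | H x =>
      obtain ⟨a, ha, u, hu, e⟩ := mul_of_sup (zpowers_le.2 (hUn hcS))
        (show (x : G) ∈ zpowers c ⊔ U by rw [sup_comm]; exact hgen x.2)
      obtain ⟨n, rfl⟩ := mem_zpowers_iff.1 ha
      refine mem_zpowers_iff.2 ⟨n, ?_⟩
      rw [← QuotientGroup.mk_zpow]
      refine QuotientGroup.eq.2 (mem_subgroupOf.2 ?_)
      simpa [← e] using hu
  have hord : orderOf c = 2 := orderOf_eq_prime (by rw [pow_two]; exact z_sq (mem_dd.1 hc).1) hc1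
  obtain ⟨g, hgU, -, hle⟩ := HullExtremal.exists_extremal S U hUS hcyc c hord hcH
  have hSn := sylow_le_normalizer b hc hc1 hTS
  have hTC : T ≤ (S : Subgroup G) ⊓ centralizer ({c} : Set G) :=
    le_inf hTS fun t ht => mem_centralizer_singleton_iff.2 (t_comm b hc ht)
  have hgS : cj g T ≤ (S : Subgroup G) := ((map_mono hTC).trans hle).trans inf_le_left
  have hgZ := conj_dd b hc hc1 hTS hgS (hgS.trans hSn)
  rcases hcases _ hgZ with h | h | h | h
  · exact hc1 (conj_eq_one_iff.1 h)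
  · exact hcU (h ▸ hgU)
  · have hST : cj g⁻¹ (S : Subgroup G) ≤ L := by
      rw [← cen_eq b hc hc1]
      rintro _ ⟨y, hy, rfl⟩
      refine mem_centralizer_singleton_iff.2 (mul_inv_eq_iff_eq_mul.1 ((MulAut.conj g).injective ?_))
      show g * (g⁻¹ * y * g⁻¹⁻¹ * c * (g⁻¹ * y * g⁻¹⁻¹)⁻¹) * g⁻¹ = g * c * g⁻¹
      rw [h]
      calc g * (g⁻¹ * y * g⁻¹⁻¹ * c * (g⁻¹ * y * g⁻¹⁻¹)⁻¹) * g⁻¹ = y * (g * c * g⁻¹) * y⁻¹ := by group
        _ = f := by rw [h]; exact fix_f b hfW hfZ hf1 hw hw' e1 (hSn hy)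
    obtain ⟨l, -, hl⟩ := Straddle.le_map_of_sylow b.v.syl hST (S.isPGroup'.map _)
    have hcard := Nat.le_of_dvd Nat.card_pos (card_dvd_of_le hl)
    rw [card_map_of_injective (MulAut.conj g⁻¹).injective, card_map_of_injective (MulAut.conj l).injective] at hcard
    have hTS' : T = (S : Subgroup G) := eq_of_le_of_card_ge hTS hcard
    have hgn : g ∈ normalizer (T : Set G) := SylowIn.map_conj_eq_iff.1
      (eq_of_le_of_card_ge (hgS.trans hTS'.ge) (card_map_of_injective (MulAut.conj g).injective).ge)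
    exact hcf ((MulAut.conj g).injective (h.trans (fix_f b hfW hfZ hf1 hw hw' e1 hgn).symm))
  · exact hcfU (h ▸ hgU)

theorem exists_dd_ne_one (h : Nat.card ↥(dd T K) ≠ 1) : ∃ c ∈ dd T K, c ≠ 1 :=
  (bot_or_exists_ne_one _).resolve_left fun e => h (e ▸ card_bot)

theorem t_inf_hull : T ⊓ hull G = DD := by
  refine le_antisymm (fun t ht => ?_) (le_inf (d_le_t b) (d_le_hull b))
  by_cases h : Nat.card ↥(dd T K) = 1
  · rw [eq_of_le_of_card_ge (d_le_t b) (by rw [b.card_t, h, card_d b])]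
    exact ht.1
  obtain ⟨c, hc, hc1⟩ := exists_dd_ne_one b h
  refine (t_cases b hc hc1 ht.1).resolve_right fun hd => not_mem_hull b hc hc1 ?_
  simpa using mul_mem (inv_mem (mem_inf.1 ht).2) (d_le_hull b hd)

theorem q_inf_hull : Q₁ ⊓ hull G = Cfsg.wOf K := by
  refine le_antisymm (fun y hy => ?_) (le_inf (w_le_q b.hyp b.v b.cen) (w_le_hull b))
  obtain ⟨c, hc, v, hv, rfl⟩ := b.q_split hy.1
  have hcH : c ∈ hull G := by simpa using mul_mem (mem_inf.1 hy).2 (inv_mem (w_le_hull b hv))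
  rw [show c = 1 from by_contra fun hc1 => not_mem_hull b hc hc1 hcH, one_mul]
  exact hv

theorem card_trace : Nat.card ↥(L ⊓ hull G) = 24 := by
  obtain ⟨k, hk, hk3, -, hkfix⟩ := Vertex.exists_k b.hyp b.v
  obtain ⟨f, hfW, -, hf1, -⟩ := Vertex.exists_f b.v
  have hk1 : k ≠ 1 := fun e => hf1 (hkfix f hfW (by rw [e]; group))
  haveI : Fact (Nat.Prime 3) := ⟨Nat.prime_three⟩
  have h3 : 3 ∣ Nat.card ↥(L ⊓ hull G) := (orderOf_eq_prime hk3 hk1) ▸ Subgroup.orderOf_dvd_natCard _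
    (mem_inf.2 ⟨b.v.le hk, subset_closure (show Odd (orderOf k) by rw [orderOf_eq_prime hk3 hk1]; decide)⟩)
  have h8 : 8 ∣ Nat.card ↥(L ⊓ hull G) :=
    card_d b ▸ card_dvd_of_le (le_inf ((d_le_t b).trans b.v.syl.1) (d_le_hull b))
  have hL := card_dvd_of_le (inf_le_left : L ⊓ hull G ≤ L)
  rw [b.card_l] at hL
  have hdd := b.card_dd.1
  have hpos : 0 < Nat.card ↥(dd T K) := Nat.card_pos
  have hne : Nat.card ↥(dd T K) ≠ 1 → Nat.card ↥(L ⊓ hull G) ≠ 48 := fun h e => by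
    obtain ⟨c, hc, hc1⟩ := exists_dd_ne_one b h
    have heq := eq_of_le_of_card_ge (inf_le_left : L ⊓ hull G ≤ L) (by rw [b.card_l, e]; omega)
    exact not_mem_hull b hc hc1 (heq.ge (b.v.syl.1 (b.dd_le_q hc).1)).2
  have hle := Nat.le_of_dvd (by omega) hL
  have h0 : 0 < Nat.card ↥(L ⊓ hull G) := Nat.card_pos
  generalize Nat.card ↥(L ⊓ hull G) = n at *
  generalize Nat.card ↥(dd T K) = m at *
  interval_cases m <;> omega

theorem iso_trace : Nonempty (↥(L ⊓ hull G) ≃* Equiv.Perm (Fin 4)) := by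
  have hcard := card_trace b
  by_cases h : Nat.card ↥(dd T K) = 1
  · obtain ⟨φ⟩ := b.iso.1 h
    exact ⟨(MulEquiv.subgroupCongr (eq_of_le_of_card_ge inf_le_left (by rw [hcard, b.card_l, h]))).trans φ⟩
  obtain ⟨c, hc, hc1⟩ := exists_dd_ne_one b h
  obtain ⟨φ⟩ := b.iso.2 (by have := b.card_dd.1; have : 0 < Nat.card ↥(dd T K) := Nat.card_pos; omega)
  have hcL : c ∈ L := b.v.syl.1 (b.dd_le_q hc).1
  set q := φ ⟨c, hcL⟩ with hq
  have hq1 : q.1 = 1 := by
    refine perm_center _ fun x => ?_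
    have e : φ.symm (x, 1) * ⟨c, hcL⟩ = ⟨c, hcL⟩ * φ.symm (x, 1) :=
      Subtype.ext (b.le_cen_dd hc (φ.symm (x, 1)).2)
    have := congrArg (fun z => (φ z).1) e
    simpa using this.symm
  have hq2 : q.2 ≠ 1 := fun e => hc1 (congrArg Subtype.val ((map_eq_one_iff φ φ.injective).1 (Prod.ext hq1 e)))
  set ψ := (MonoidHom.fst _ _).comp (φ.toMonoidHom.comp (inclusion (inf_le_left : L ⊓ hull G ≤ L))) with hψ
  have hinj : Function.Injective ψ := by
    refine (injective_iff_map_eq_one ψ).2 fun x hx => ?_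
    set p := φ ⟨x, x.2.1⟩ with hp
    have hp1 : p.1 = 1 := hx
    by_cases hp2 : p.2 = 1
    · exact Subtype.ext (congrArg Subtype.val ((map_eq_one_iff φ φ.injective).1 (Prod.ext hp1 hp2)) :)
    · have : (⟨x, x.2.1⟩ : L) = ⟨c, hcL⟩ :=
        φ.injective (Prod.ext (hp1.trans hq1.symm) (zmod_two_unique _ _ hp2 hq2))
      have hxc : (x : G) = c := congrArg (fun z : L => (z : G)) this
      exact absurd (hxc ▸ (mem_inf.1 x.2).2) (not_mem_hull b hc hc1)
  exact ⟨MulEquiv.ofBijective ψ ((Nat.bijective_iff_injective_and_card _).2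
    ⟨hinj, by rw [hcard, Nat.card_eq_fintype_card, Fintype.card_perm, Fintype.card_fin]; rfl⟩)⟩

theorem normalizer_w : normalizer (Cfsg.wOf K : Set G) = L := by
  refine b.v.max.2 _ ⟨_, (Vertex.t_pgroup b.v).to_le b.w_t, fun e => ?_, rfl⟩
    fun g hg => mem_normalizer_iff.2 fun x => ⟨fun hx => b.conj_w hg hx,
      fun hx => by simpa [mul_assoc] using b.conj_w (inv_mem hg) hx⟩
  obtain ⟨f, hfW, -, hf1, -⟩ := Vertex.exists_f b.v
  exact hf1 (mem_bot.1 (e ▸ hfW))

theorem meet_eq : (L ⊓ hull G) ⊓ (L' ⊓ hull G) = DD := by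
  have hT : L ⊓ L' = T := by
    refine (eq_of_le_of_card_ge (le_inf b.v.syl.1 b.v'.syl.1) ?_).symm
    obtain ⟨m, hm⟩ := card_dvd_of_le (le_inf b.v.syl.1 b.v'.syl.1 : T ≤ L ⊓ L')
    have h2 := card_dvd_of_le (inf_le_left : L ⊓ L' ≤ L)
    rw [b.card_l, hm, b.card_t, show 24 * Nat.card ↥(dd T K) = 8 * Nat.card ↥(dd T K) * 3 by ring] at h2
    have hpos : 0 < 8 * Nat.card ↥(dd T K) := by
      have : 0 < Nat.card ↥(dd T K) := Nat.card_pos
      omega
    rcases (Nat.dvd_prime Nat.prime_three).1 (Nat.dvd_of_mul_dvd_mul_left hpos h2) with rfl | rfl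
    · omega
    · have heq := eq_of_le_of_card_ge (inf_le_left : L ⊓ L' ≤ L) (by rw [hm, b.card_l, b.card_t]; omega)
      exact absurd (b.v.max.2 L' b.v'.max.1 (inf_eq_left.1 heq)).symm b.ne
  rw [← t_inf_hull b, ← hT]
  exact le_antisymm (le_inf (le_inf (inf_le_left.trans inf_le_left) (inf_le_right.trans inf_le_left))
    (inf_le_left.trans inf_le_right)) (le_inf (le_inf (inf_le_left.trans inf_le_left) inf_le_right)
    (le_inf (inf_le_left.trans inf_le_right) inf_le_right))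

omit b in
theorem normalizer_subtype (H : Subgroup G) (V : Subgroup H) :
    normalizer (V : Set H) = (normalizer ((V.map H.subtype : Subgroup G) : Set G)).subgroupOf H := by
  ext x
  rw [mem_subgroupOf, ← SylowIn.map_conj_eq_iff, ← SylowIn.map_conj_eq_iff,
    ← (map_injective H.subtype_injective).eq_iff (a := V.map (MulAut.conj x).toMonoidHom), map_map, map_map]
  exact Iff.rfl

theorem maximal : Cfsg.IsMaximalTwoLocal ((L ⊓ hull G).subgroupOf (hull G)) := by
  haveI : Fact (Nat.Prime 2) := ⟨Nat.prime_two⟩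
  obtain ⟨f, hfW, hfZ, hf1, -⟩ := Vertex.exists_f b.v
  obtain ⟨k, hk, hk3, hkn, hkfix⟩ := Vertex.exists_k b.hyp b.v
  have hWp : IsPGroup 2 ↥(Cfsg.wOf K) := (Vertex.t_pgroup b.v).to_le b.w_t
  have hWmap : ((Cfsg.wOf K).subgroupOf (hull G)).map (hull G).subtype = Cfsg.wOf K :=
    map_subgroupOf_eq_of_le (w_le_hull b)
  have hM : (L ⊓ hull G).subgroupOf (hull G) = normalizer ((Cfsg.wOf K).subgroupOf (hull G) : Set (hull G)) := by
    rw [normalizer_subtype, hWmap, normalizer_w b, inf_subgroupOf_right]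
  refine ⟨⟨(Cfsg.wOf K).subgroupOf (hull G), hWp.comap_of_injective (hull G).subtype (hull G).subtype_injective,
    fun e => hf1 ?_, hM⟩, fun N hN hle => ?_⟩
  · rw [e, Subgroup.map_bot] at hWmap
    exact mem_bot.1 (hWmap ▸ hfW)
  obtain ⟨V, hV, hV1, rfl⟩ := hN
  rw [normalizer_subtype] at hle ⊢
  set X := V.map (hull G).subtype with hX
  have hXp : IsPGroup 2 X := hV.map _
  have hXH : X ≤ hull G := map_subtype_le V
  have hX1 : X ≠ ⊥ := fun e => hV1 ((map_eq_bot_iff_of_injective V (hull G).subtype_injective).1 e)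
  have hMn : L ⊓ hull G ≤ normalizer (X : Set G) := fun g hg => hle (x := ⟨g, hg.2⟩) (mem_subgroupOf.2 hg)
  have hWn : Cfsg.wOf K ≤ normalizer (X : Set G) :=
    (le_inf (b.w_t.trans b.v.syl.1) (w_le_hull b)).trans hMn
  have hWX : Cfsg.wOf K ≤ X := by
    set P := Cfsg.wOf K ⊔ X with hP
    have hPp : IsPGroup 2 P := IsPGroup.to_sup_of_normal_right' hWp hXp hWn
    haveI : (X.subgroupOf P).Normal :=
      (normal_subgroupOf_iff_le_normalizer le_sup_right).2 (sup_le hWn Subgroup.le_normalizer)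
    haveI := hPp.isNilpotent
    obtain ⟨x, ⟨hxX, hxc⟩, hx1⟩ := (bot_or_exists_ne_one _).resolve_left
      (CfsgLib.Solvable.FrattiniFitting.inf_center_ne_bot (X.subgroupOf P) fun e => hX1 (by
        rw [← map_subgroupOf_eq_of_le (le_sup_right : X ≤ P), e, Subgroup.map_bot]))
    have hxC : (x : G) ∈ centralizer (Cfsg.wOf K : Set G) := mem_centralizer_iff.2 fun y hy =>
      congrArg Subtype.val (Subgroup.mem_center_iff.1 hxc ⟨y, mem_sup_left hy⟩)
    have hxW : (x : G) ∈ Cfsg.wOf K := q_inf_hull b ▸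
      ⟨b.l_cen_w ((normalizer_w b).le (centralizer_le_normalizer _ hxC)) hxC, hXH hxX⟩
    have hxne : (x : G) ≠ 1 := fun e => hx1 (Subtype.ext e)
    have hkM : k ∈ L ⊓ hull G :=
      ⟨b.v.le hk, subset_closure ((show Odd 3 by decide).of_dvd_nat (orderOf_dvd_of_pow_eq_one hk3))⟩
    have hk2 : k * x * k⁻¹ ∈ X := (mem_normalizer_iff.1 (hMn hkM) x).1 hxX
    intro y hy
    rcases JComponent.four_cases b.v.comp.2.2.2.2.1 hxW hxne ((mem_normalizer_iff.1 hkn x).1 hxW)
      (fun e => hxne (hkfix _ hxW e)) (fun e => hxne (conj_eq_one_iff.1 e)) (b.w_sq hxW) hy with e | e | e | e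
    exacts [e ▸ one_mem _, e ▸ hxX, e ▸ hk2, e ▸ mul_mem hk2 hxX]
  have hXeq : Cfsg.wOf K = X := by
    refine Straddle.eq_of_normalizer hXp hWX fun y hy hyn => ?_
    refine q_inf_hull b ▸ ⟨?_, hXH hy⟩
    rw [← b.core_eq]
    have hAn : L ⊓ hull G ≤ normalizer ((X ⊓ L : Subgroup G) : Set G) :=
      (le_inf hMn (inf_le_left.trans Subgroup.le_normalizer)).trans inf_normalizer_le_normalizer_inf
    have h1 : X ⊓ L ≤ Cfsg.pCoreOf 2 (L ⊓ hull G) := SylowIn.le_pCoreOf (le_inf inf_le_right (inf_le_left.trans hXH))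
      hAn (hXp.to_le inf_le_left)
    have h2 : L ≤ normalizer (Cfsg.pCoreOf 2 (L ⊓ hull G) : Set G) := fun g hg => by
      refine SylowIn.map_conj_eq_iff.1 ?_
      rw [SylowIn.pCoreOf_map_conj, Subgroup.map_inf _ _ _ (MulAut.conj g).injective,
        SylowIn.map_conj_eq_iff.2 (Subgroup.le_normalizer hg),
        SylowIn.map_conj_eq_iff.2 ((normalizer_eq_top_iff.2 hull_normal).ge (mem_top g))]
    exact SylowIn.le_pCoreOf ((SylowIn.pCoreOf_le _).trans inf_le_left) h2 (SylowIn.isPGroup_pCoreOf _)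
      (h1 ⟨hy, (normalizer_w b).le hyn⟩)
  rw [← hXeq, normalizer_w b, inf_subgroupOf_right]

/-- The two traces. -/
theorem conclusion : ∃ M₁ M₂ : Subgroup (hull G), M₁ ≠ M₂ ∧ Cfsg.IsMaximalTwoLocal M₁ ∧ Cfsg.IsMaximalTwoLocal M₂ ∧
    Nonempty (M₁ ≃* Equiv.Perm (Fin 4)) ∧ Nonempty (M₂ ≃* Equiv.Perm (Fin 4)) ∧ Nat.card ↥(M₁ ⊓ M₂) = 8 := by
  have hmeet : ((L ⊓ hull G).subgroupOf (hull G)) ⊓ ((L' ⊓ hull G).subgroupOf (hull G)) =
      (DD).subgroupOf (hull G) := by
    rw [← meet_eq b]; rfl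
  have h8 : Nat.card ↥(((L ⊓ hull G).subgroupOf (hull G)) ⊓ ((L' ⊓ hull G).subgroupOf (hull G))) = 8 := by
    rw [hmeet, Nat.card_congr (subgroupOfEquivOfLe (d_le_hull b)).toEquiv, card_d b]
  obtain ⟨φ⟩ := iso_trace b
  obtain ⟨φ'⟩ := iso_trace b.symm
  refine ⟨_, _, fun e => ?_, maximal b, maximal b.symm, ⟨(subgroupOfEquivOfLe inf_le_right).trans φ⟩,
    ⟨(subgroupOfEquivOfLe inf_le_right).trans φ'⟩, h8⟩
  rw [e, inf_idem, Nat.card_congr (subgroupOfEquivOfLe inf_le_right).toEquiv, card_trace b.symm] at h8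
  omega

end CfsgLib.LocalEvenB.JEdgeHull
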