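import Cfsg.Agent.Lib.Fusion.Thompson

/-!
An elementary abelian group of largest order, half of which commutes with a fixed-point-free
element of order three on `W` while the rest inverts it, forces `W` to have order at most four.
-/

set_option autoImplicit false
set_option linter.style.haveILetI false
set_option linter.unusedSectionVars false

open scoped Pointwise

namespace CfsgLib.LocalEvenB.JModule

open Subgroup

universe u

variable {L : Type u} [Group L] [Finite L]

/-- The hypotheses on the elementary abelian group `A`, its subgroup `A₀`, `j ∈ A`, and `k`. -/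
structure Data (A A0 W : Subgroup L) (j k : L) : Prop where
  maxA : A ∈ Cfsg.maxElementaryAbelianSubgroups 2 L
  sub : A0 ≤ A
  jmem : j ∈ A
  split : ∀ a ∈ A, a ∈ A0 ∨ j * a ∈ A0
  isEA : Cfsg.IsElementaryAbelian 2 W
  norm : A ≤ normalizer (W : Set L)
  knorm : k ∈ normalizer (W : Set L)
  comm : ∀ a ∈ A0, ∀ w ∈ W, a * (k * w * k⁻¹) * a⁻¹ = k * (a * w * a⁻¹) * k⁻¹
  inv : ∀ w ∈ W, j * (k * w * k⁻¹) * j⁻¹ = k⁻¹ * (j * w * j⁻¹) * k
  cube : ∀ w ∈ W, k ^ 3 * w = w * k ^ 3
  fix : ∀ w ∈ W, k * w * k⁻¹ = w → w = 1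

variable {A A0 W : Subgroup L} {j k : L} (h : Data A A0 W j k)
include h

theorem sq {w : L} (hw : w ∈ W) : w * w = 1 := by rw [← pow_two]; exact h.isEA.2 w hw

theorem wc {v w : L} (hv : v ∈ W) (hw : w ∈ W) : v * w = w * v :=
  Fusion.Thompson.mul_comm_of_isEA h.isEA hv hw

theorem ac {a b : L} (ha : a ∈ A) (hb : b ∈ A) : a * b = b * a :=
  Fusion.Thompson.mul_comm_of_isEA h.maxA.1 ha hb

theorem aw {a w : L} (ha : a ∈ A) (hw : w ∈ W) : a * w * a⁻¹ ∈ W :=
  (mem_normalizer_iff.1 (h.norm ha) w).1 hw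

theorem kw {w : L} (hw : w ∈ W) : k * w * k⁻¹ ∈ W :=
  (mem_normalizer_iff.1 h.knorm w).1 hw

/-- The subgroup `W₀` fixed by `j`. -/
theorem disjoint {v : L} (hv : v ∈ W) (hjv : j * v * j⁻¹ = v)
    (hjk : j * (k * v * k⁻¹) * j⁻¹ = k * v * k⁻¹) : v = 1 := by
  rw [h.inv v hv, hjv] at hjk
  have h1 : k ^ 3 * v * (k ^ 3)⁻¹ = v := by rw [h.cube v hv, mul_inv_cancel_right]
  refine h.fix v hv ?_
  have h2 : k ^ 3 * v * (k ^ 3)⁻¹ = k * v * k⁻¹ := by
    calc k ^ 3 * v * (k ^ 3)⁻¹ = k * (k * (k * v * k⁻¹) * k⁻¹) * k⁻¹ := by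
          rw [pow_succ, pow_two]; group
      _ = k * (k * (k⁻¹ * v * k) * k⁻¹) * k⁻¹ := by rw [← hjk]
      _ = k * v * k⁻¹ := by group
  rw [← h2, h1]

/-- The fixed points of `A` on `W` lie in `A`. -/
theorem fixed_le {w : L} (hw : w ∈ W) (hc : ∀ a ∈ A, a * w = w * a) : w ∈ A :=
  Fusion.Thompson.mem_of_pow_eq_one_of_centralizes h.maxA (mem_centralizer_iff.2 hc) (h.isEA.2 w hw)

/-- The basic inequality. -/
theorem bound {B X : Subgroup L} (hB : B ≤ A0) (hX : X ≤ W ⊓ centralizer ({j} : Set L))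
    (hBX : B ≤ centralizer (X : Set L)) :
    Nat.card B * Nat.card X ^ 2 ≤ Nat.card A *
      Nat.card ↥(W ⊓ centralizer ({j} : Set L) ⊓ centralizer (A0 : Set L)) := by
  set f := (MulAut.conj k).toMonoidHom with hf
  set Y := X.map f with hY
  have hXW : X ≤ W := hX.trans inf_le_left
  have hYW : Y ≤ W := by
    rintro _ ⟨x, hx, rfl⟩
    exact kw h (hXW hx)
  have hinf : X ⊓ Y = ⊥ := by
    rw [eq_bot_iff]
    rintro _ ⟨hx, v, hv, rfl⟩
    have h1 : j * v * j⁻¹ = v := by
      rw [← mem_centralizer_singleton_iff.1 (hX hv).2, mul_inv_cancel_right]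
    have h2 : j * (k * v * k⁻¹) * j⁻¹ = k * v * k⁻¹ := by
      have := mem_centralizer_singleton_iff.1 (hX hx).2
      change k * v * k⁻¹ * j = j * (k * v * k⁻¹) at this
      rw [← this, mul_inv_cancel_right]
    have := disjoint h (hXW hv) h1 h2
    subst this
    simp
  have hWW : W ≤ centralizer (W : Set L) := fun x hx =>
    mem_centralizer_iff.2 fun y hy => wc h hy hx
  have hYX : Y ≤ normalizer (X : Set L) :=
    (hYW.trans (hWW.trans (centralizer_le hXW))).trans (centralizer_le_normalizer _)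
  have hcard : Nat.card ↥(X ⊔ Y) = Nat.card X ^ 2 := by
    have := Fusion.Thompson.card_sup_mul_card_inf hYX
    rw [hinf, card_bot, mul_one, hY, card_map_of_injective (MulAut.conj k).injective] at this
    rw [this, pow_two]
  set X' := X ⊔ Y with hX'
  have hX'W : X' ≤ W := sup_le hXW hYW
  have hBY : B ≤ centralizer (Y : Set L) := by
    intro b hb
    refine mem_centralizer_iff.2 ?_
    rintro _ ⟨v, hv, rfl⟩
    have h1 : b * v * b⁻¹ = v := by
      rw [← mem_centralizer_iff.1 (hBX hb) v hv, mul_inv_cancel_right]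
    have h2 := h.comm b (hB hb) v (hXW hv)
    rw [h1] at h2
    exact (mul_inv_eq_iff_eq_mul.1 h2).symm
  have hBX' : B ≤ centralizer (X' : Set L) := le_centralizer_iff.1 (sup_le (le_centralizer_iff.1 hBX)
    (le_centralizer_iff.1 hBY))
  have hBA : B ≤ A := hB.trans h.sub
  have hEA : Cfsg.IsElementaryAbelian 2 (X' ⊔ B : Subgroup L) := by
    have hcomm : ∀ x ∈ X' ⊔ B, ∀ y ∈ X' ⊔ B, x * y = y * x := by
      have hAA : B ≤ centralizer (B : Set L) := fun a ha =>
        mem_centralizer_iff.2 fun b hb => ac h (hBA hb) (hBA ha)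
      have hc : X' ⊔ B ≤ centralizer ((X' ⊔ B : Subgroup L) : Set L) :=
        sup_le (le_centralizer_iff.1 (sup_le (hX'W.trans (hWW.trans (centralizer_le hX'W))) hBX'))
          (le_centralizer_iff.1 (sup_le (le_centralizer_iff.1 hBX') hAA))
      exact fun x hx y hy => (mem_centralizer_iff.1 (hc hx) y hy).symm
    refine ⟨IsMulCommutative.of_comm fun a b => Subtype.ext (hcomm a a.2 b b.2), fun x hx => ?_⟩
    have hx' : x ∈ closure ((X' : Set L) ∪ (B : Set L)) := by rwa [← Subgroup.sup_eq_closure]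
    clear hx
    induction hx' using closure_induction with
    | mem y hy => exact hy.elim (fun hy => h.isEA.2 y (hX'W hy)) (fun hy => h.maxA.1.2 y (hBA hy))
    | one => exact one_pow 2
    | mul a b ha hb ia ib =>
      rw [← Subgroup.sup_eq_closure] at ha hb
      rw [(show Commute a b from hcomm a ha b hb).mul_pow, ia, ib, one_mul]
    | inv a _ ia => rw [inv_pow, ia, inv_one]
  have hmax := h.maxA.2 _ hEA
  have hBn : B ≤ normalizer (X' : Set L) := hBX'.trans (centralizer_le_normalizer _)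
  have hprod := Fusion.Thompson.card_sup_mul_card_inf hBn
  have hsmall : X' ⊓ B ≤ W ⊓ centralizer ({j} : Set L) ⊓ centralizer (A0 : Set L) := by
    rintro x ⟨hx, hxB⟩
    refine ⟨⟨hX'W hx, mem_centralizer_singleton_iff.2 (ac h (hBA hxB) h.jmem)⟩, ?_⟩
    exact mem_centralizer_iff.2 fun a ha => ac h (h.sub ha) (hBA hxB)
  calc Nat.card B * Nat.card X ^ 2 = Nat.card X' * Nat.card B := by rw [hcard, mul_comm]
    _ = Nat.card ↥(X' ⊔ B : Subgroup L) * Nat.card ↥(X' ⊓ B : Subgroup L) := hprod.symm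
    _ ≤ _ := Nat.mul_le_mul hmax (Nat.le_of_dvd Nat.card_pos (card_dvd_of_le hsmall))

/-- `W` has order at most four. -/
theorem card_le : Nat.card W ≤ 4 := by
  classical
  haveI : Fact (Nat.Prime 2) := ⟨Nat.prime_two⟩
  set W0 := W ⊓ centralizer ({j} : Set L) with hW0
  set E := W0 ⊓ centralizer (A0 : Set L) with hE
  have hjj : j * j = 1 := by rw [← pow_two]; exact h.maxA.1.2 j h.jmem
  have hA2 : Nat.card A ≤ 2 * Nat.card A0 := by
    have h1 : A.map (1 : L →* L) ≤ ⊥ := by rintro _ ⟨x, -, rfl⟩; exact one_mem _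
    have hsub : (A : Set L) ⊆ (A0 : Set L) ∪ (fun a => j * a) '' (A0 : Set L) := by
      intro a ha
      rcases h.split a ha with e | e
      · exact Or.inl e
      · exact Or.inr ⟨j * a, e, by simp only [← mul_assoc, hjj, one_mul]⟩
    have h2 := (Set.ncard_le_ncard hsub).trans (Set.ncard_union_le _ _)
    have h3 := Set.ncard_image_le (f := fun a => j * a) (s := (A0 : Set L)) (Set.toFinite _)
    simp only [← Nat.card_coe_set_eq, SetLike.coe_sort_coe] at h2 h3
    omega
  have hA0pos : 0 < Nat.card A0 := Nat.card_pos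
  -- `W₀` is invariant under `A₀`
  have haW0 : ∀ a ∈ A, ∀ w ∈ W0, a * w * a⁻¹ ∈ W0 := by
    intro a ha w hw
    refine ⟨aw h ha hw.1, mem_centralizer_singleton_iff.2 ?_⟩
    have hc : Commute j a := ac h h.jmem ha
    have hw' : Commute w j := mem_centralizer_singleton_iff.1 hw.2
    exact (((hc.symm).mul_left hw').mul_left hc.symm.inv_left)
  rcases eq_or_ne W ⊥ with hW | hW
  · rw [hW, card_bot]; norm_num
  -- `A` fixes a nonidentity element of `W`
  have hE1 : E ≠ ⊥ := by
    letI : MulAction A W :=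
      { smul := fun a w => ⟨(a : L) * w * (a : L)⁻¹, aw h a.2 w.2⟩
        one_smul := fun w => Subtype.ext (by show (1 : L) * w * (1 : L)⁻¹ = w; simp)
        mul_smul := fun a b w => Subtype.ext (by
          show ((a : L) * b) * w * ((a : L) * b)⁻¹ = a * (b * w * (b : L)⁻¹) * (a : L)⁻¹
          group) }
    have hd : 2 ∣ Nat.card W := by
      obtain ⟨n, hn⟩ := IsPGroup.iff_card.1 (Fusion.Thompson.isPGroup_isEA h.isEA)
      rcases Nat.eq_zero_or_pos n with rfl | hn0
      · exact absurd (eq_bot_of_card_eq W (by simpa using hn)) hW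
      · rw [hn]; exact dvd_pow_self 2 hn0.ne'
    obtain ⟨b, hb, hb1⟩ := (Fusion.Thompson.isPGroup_isEA h.maxA.1).exists_fixed_point_of_prime_dvd_card_of_fixed_point
      W hd (a := 1) (fun a => Subtype.ext (by show (a : L) * 1 * (a : L)⁻¹ = 1; simp))
    have hfix : ∀ a ∈ A, a * (b : L) = b * a := fun a ha =>
      mul_inv_eq_iff_eq_mul.1 (congrArg Subtype.val (hb ⟨a, ha⟩) : a * (b : L) * a⁻¹ = b)
    intro e
    refine hb1 (Subtype.ext ?_).symm
    have : (b : L) ∈ E := ⟨⟨b.2, mem_centralizer_singleton_iff.2 (hfix j h.jmem).symm⟩,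
      mem_centralizer_iff.2 fun a ha => hfix a (h.sub ha)⟩
    rw [e] at this
    exact this
  -- displacements lie in `E`
  have key : ∀ v ∈ W0, Nat.card ↥(E ⊔ closure ((fun a => v * (a * v * a⁻¹)) '' (A0 : Set L))) ≤ 2 := by
    intro v hv
    set X := E ⊔ closure ((fun a => v * (a * v * a⁻¹)) '' (A0 : Set L)) with hX
    have hXW0 : X ≤ W0 := by
      refine sup_le inf_le_left ((closure_le _).2 ?_)
      rintro _ ⟨a, ha, rfl⟩
      exact mul_mem hv (haW0 a (h.sub ha) v hv)
    set B := A0 ⊓ centralizer (X : Set L) with hB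
    have hb := bound h inf_le_left hXW0 (inf_le_right : B ≤ _)
    -- `|A₀ : B| ≤ |X : E|`
    have hd : ∀ a ∈ A0, v * (a * v * a⁻¹) ∈ E → a ∈ B := by
      intro d hd he
      refine ⟨hd, ?_⟩
      have hEc : (E : Set L) ⊆ centralizer ({d} : Set L) := fun e he =>
        mem_centralizer_singleton_iff.2 (mem_centralizer_iff.1 he.2 d hd).symm
      have hgen : X ≤ centralizer ({d} : Set L) := by
        refine sup_le hEc ((closure_le _).2 ?_)
        rintro _ ⟨x, hx, rfl⟩
        refine mem_centralizer_singleton_iff.2 ?_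
        set e := v * (d * v * d⁻¹) with hedef
        have hdv : d * v * d⁻¹ = v * e := by rw [hedef, ← mul_assoc, sq h hv.1, one_mul]
        have hxe : x * e * x⁻¹ = e := by rw [mem_centralizer_iff.1 he.2 x hx, mul_inv_cancel_right]
        have hdx : Commute d x := ac h (h.sub hd) (h.sub hx)
        have h1 : d * (v * (x * v * x⁻¹)) * d⁻¹ = v * (x * v * x⁻¹) := by
          calc d * (v * (x * v * x⁻¹)) * d⁻¹ = (d * v * d⁻¹) * ((d * x) * v * (d * x)⁻¹) := by group
            _ = (d * v * d⁻¹) * ((x * d) * v * (x * d)⁻¹) := by rw [hdx.eq]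
            _ = (d * v * d⁻¹) * (x * (d * v * d⁻¹) * x⁻¹) := by group
            _ = (v * e) * ((x * v * x⁻¹) * (x * e * x⁻¹)) := by rw [hdv]; group
            _ = v * (e * (x * v * x⁻¹)) * e := by rw [hxe]; group
            _ = v * ((x * v * x⁻¹) * e) * e := by
              rw [wc h he.1.1 (aw h (h.sub hx) hv.1)]
            _ = v * (x * v * x⁻¹) * (e * e) := by group
            _ = v * (x * v * x⁻¹) := by rw [sq h he.1.1, mul_one]
        exact (mul_inv_eq_iff_eq_mul.1 h1).symm
      exact mem_centralizer_iff.2 fun y hy => mem_centralizer_singleton_iff.1 (hgen hy)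
    have hidx : Nat.card A0 * Nat.card E ≤ Nat.card B * Nat.card X := by
      have hEX : E ≤ X := le_sup_left
      have hBA : B ≤ A0 := inf_le_left
      rw [show Nat.card A0 = Nat.card (A0 ⧸ B.subgroupOf A0) * Nat.card B by
          rw [← Nat.card_congr (subgroupOfEquivOfLe hBA).toEquiv]
          exact card_eq_card_quotient_mul_card_subgroup _,
        show Nat.card X = Nat.card (X ⧸ E.subgroupOf X) * Nat.card E by
          rw [← Nat.card_congr (subgroupOfEquivOfLe hEX).toEquiv]
          exact card_eq_card_quotient_mul_card_subgroup _]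
      let φ : A0 → X ⧸ E.subgroupOf X := fun a =>
        QuotientGroup.mk ⟨v * ((a : L) * v * (a : L)⁻¹), mem_sup_right (subset_closure ⟨a, a.2, rfl⟩)⟩
      have hinj : Function.Injective fun q : A0 ⧸ B.subgroupOf A0 => φ q.out := by
        intro q q' e
        have e' := QuotientGroup.eq.1 e
        rw [← q.out_eq', ← q'.out_eq', QuotientGroup.eq, mem_subgroupOf]
        set a : L := ((q.out : A0) : L) with ha
        set b : L := ((q'.out : A0) : L) with hbdef
        have haA : a ∈ A0 := (q.out).2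
        have hbA : b ∈ A0 := (q'.out).2
        change (v * (a * v * a⁻¹))⁻¹ * (v * (b * v * b⁻¹)) ∈ E at e'
        refine hd _ (mul_mem (inv_mem haA) hbA) ?_
        set ε := (v * (a * v * a⁻¹))⁻¹ * (v * (b * v * b⁻¹)) with hε
        have h1 : a⁻¹ * ε * a = ε := by
          rw [mem_centralizer_iff.1 e'.2 a⁻¹ (inv_mem haA), inv_mul_cancel_right]
        have h2 : a⁻¹ * b * v * (a⁻¹ * b)⁻¹ = v * ε := by
          rw [← h1, hε]; group
        show v * (a⁻¹ * b * v * (a⁻¹ * b)⁻¹) ∈ E
        rw [h2, ← mul_assoc, sq h hv.1, one_mul]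
        exact e'
      have := Nat.card_le_card_of_injective _ hinj
      calc Nat.card (A0 ⧸ B.subgroupOf A0) * Nat.card B * Nat.card E
          ≤ Nat.card (X ⧸ E.subgroupOf X) * Nat.card B * Nat.card E := by gcongr
        _ = Nat.card B * (Nat.card (X ⧸ E.subgroupOf X) * Nat.card E) := by ring
    have hBp : 0 < Nat.card B := Nat.card_pos
    have hXp : 0 < Nat.card X := Nat.card_pos
    have h4 : Nat.card B * Nat.card X * Nat.card X ≤ Nat.card B * Nat.card X * 2 := by
      calc Nat.card B * Nat.card X * Nat.card X = Nat.card B * Nat.card X ^ 2 := by ring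
        _ ≤ Nat.card A * Nat.card E := hb
        _ ≤ 2 * Nat.card A0 * Nat.card E := by gcongr
        _ ≤ 2 * (Nat.card B * Nat.card X) := by rw [mul_assoc]; exact Nat.mul_le_mul_left 2 hidx
        _ = _ := by ring
    exact Nat.le_of_mul_le_mul_left h4 (Nat.mul_pos hBp hXp)
  have hE2 : Nat.card E = 2 := by
    have h1 : 1 < Nat.card E := one_lt_card_iff_ne_bot E |>.2 hE1
    have h2 : Nat.card E ≤ 2 := le_trans (Nat.le_of_dvd Nat.card_pos (card_dvd_of_le le_sup_left))
      (key 1 (one_mem _))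
    omega
  have hdisp : ∀ v ∈ W0, ∀ a ∈ A0, v * (a * v * a⁻¹) ∈ E := by
    intro v hv a ha
    rw [eq_of_le_of_card_ge (le_sup_left : E ≤ E ⊔ closure ((fun a => v * (a * v * a⁻¹)) '' (A0 : Set L)))
      (by rw [hE2]; exact key v hv)]
    exact mem_sup_right (subset_closure ⟨a, ha, rfl⟩)
  -- the largest subgroup of `W₀` with small centralizer index
  let P : Subgroup L → Prop := fun H =>
    E ≤ H ∧ H ≤ W0 ∧ Nat.card A0 * 2 ≤ Nat.card ↥(A0 ⊓ centralizer (H : Set L)) * Nat.card H
  obtain ⟨H, hH, hHmax⟩ := Set.exists_max_image {H | P H} (fun H : Subgroup L => Nat.card H)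
    (Set.toFinite _) ⟨E, le_rfl, inf_le_left, by
      rw [inf_eq_left.2 (le_centralizer_iff.1 (inf_le_right : E ≤ centralizer (A0 : Set L))), hE2]⟩
  obtain ⟨hEH, hHW, hHc⟩ := hH
  have hHeq : H = W0 := by
    by_contra hne
    obtain ⟨v, hv, hvH⟩ := SetLike.not_le_iff_exists.1 fun hle => hne (le_antisymm hHW hle)
    set H' := H ⊔ zpowers v with hH'
    set B := A0 ⊓ centralizer (H : Set L) with hB
    set B' := A0 ⊓ centralizer (H' : Set L) with hB'
    have hB'eq : ∀ b ∈ B, b * v = v * b → b ∈ B' := fun b hb e => ⟨hb.1,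
      le_centralizer_iff.1 (sup_le (le_centralizer_iff.1 (zpowers_le.2 hb.2))
        (zpowers_le.2 (mem_centralizer_iff.2 fun y hy => by
          obtain ⟨i, rfl⟩ := mem_zpowers_iff.1 hy
          exact ((show Commute b v from e).zpow_left i)))) (mem_zpowers b)⟩
    have hBB : Nat.card B ≤ 2 * Nat.card B' := by
      by_cases hall : ∀ b ∈ B, b * v = v * b
      · have : B ≤ B' := fun b hb => hB'eq b hb (hall b hb)
        have := Nat.le_of_dvd Nat.card_pos (card_dvd_of_le this)
        omega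
      push Not at hall
      obtain ⟨b0, hb0, hb0v⟩ := hall
      have hsub : (B : Set L) ⊆ (B' : Set L) ∪ (fun a => b0 * a) '' (B' : Set L) := by
        intro b hb
        by_cases e : b * v = v * b
        · exact Or.inl (hB'eq b hb e)
        refine Or.inr ⟨b0⁻¹ * b, hB'eq _ (mul_mem (inv_mem hb0) hb) ?_, by simp⟩
        have hne1 : ∀ c ∈ B, c * v ≠ v * c → v * (c * v * c⁻¹) ≠ 1 := fun c hc hcv e1 => hcv (by
          have h2 : c * v * c⁻¹ = v := by
            rw [← mul_right_inj v, e1, sq h hv.1]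
          exact mul_inv_eq_iff_eq_mul.1 h2)
        obtain ⟨x, y, -, -⟩ := Nat.card_eq_two_iff.1 hE2
        have hcases : ∀ p q : E, p ≠ 1 → q ≠ 1 → p = q := fun p q hp hq =>
          ((Nat.card_eq_two_iff' (1 : E)).1 hE2).unique hp hq
        have h3 := hcases ⟨_, hdisp v hv b0 hb0.1⟩ ⟨_, hdisp v hv b hb.1⟩
          (fun e1 => hne1 b0 hb0 hb0v (congrArg Subtype.val e1))
          (fun e1 => hne1 b hb e (congrArg Subtype.val e1))
        have h4 : b0 * v * b0⁻¹ = b * v * b⁻¹ := mul_left_cancel (congrArg Subtype.val h3)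
        calc b0⁻¹ * b * v = b0⁻¹ * (b * v * b⁻¹) * b := by group
          _ = b0⁻¹ * (b0 * v * b0⁻¹) * b := by rw [h4]
          _ = v * (b0⁻¹ * b) := by group
      have h2 := (Set.ncard_le_ncard hsub).trans (Set.ncard_union_le _ _)
      have h3 := Set.ncard_image_le (f := fun a => b0 * a) (s := (B' : Set L)) (Set.toFinite _)
      simp only [← Nat.card_coe_set_eq, SetLike.coe_sort_coe] at h2 h3
      omega
    have hHH : 2 * Nat.card H ≤ Nat.card H' := by
      obtain ⟨m, hm⟩ := card_dvd_of_le (le_sup_left : H ≤ H')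
      have hlt : Nat.card H < Nat.card H' := by
        refine lt_of_le_of_ne (Nat.le_of_dvd Nat.card_pos ⟨m, hm⟩) fun e => hvH ?_
        rw [eq_of_le_of_card_ge (le_sup_left : H ≤ H') e.ge]
        exact mem_sup_right (mem_zpowers v)
      rw [hm] at hlt ⊢
      rcases m with _ | _ | m
      · simp at hlt
      · simp at hlt
      · have : 0 < Nat.card H := Nat.card_pos
        nlinarith
    have hP : P H' := ⟨hEH.trans le_sup_left, sup_le hHW (zpowers_le.2 hv), hHc.trans (by
      calc Nat.card B * Nat.card H ≤ 2 * Nat.card B' * Nat.card H := by gcongr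
        _ = Nat.card B' * (2 * Nat.card H) := by ring
        _ ≤ Nat.card B' * Nat.card H' := by gcongr)⟩
    have := hHmax H' hP
    have : 0 < Nat.card H := Nat.card_pos
    omega
  subst hHeq
  have hb := bound h (inf_le_left : A0 ⊓ centralizer (W0 : Set L) ≤ A0) le_rfl inf_le_right
  set B := A0 ⊓ centralizer (W0 : Set L) with hBdef
  change Nat.card B * Nat.card W0 ^ 2 ≤ Nat.card A * Nat.card E at hb
  rw [hE2] at hb
  have hW0 : Nat.card W0 ≤ 2 := by
    have hBp : 0 < Nat.card B := Nat.card_pos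
    have hWp : 0 < Nat.card W0 := Nat.card_pos
    suffices h4 : Nat.card B * Nat.card W0 * Nat.card W0 ≤ Nat.card B * Nat.card W0 * 2 from
      Nat.le_of_mul_le_mul_left h4 (Nat.mul_pos hBp hWp)
    calc Nat.card B * Nat.card W0 * Nat.card W0 = Nat.card B * Nat.card W0 ^ 2 := by ring
      _ ≤ Nat.card A * 2 := hb
      _ ≤ 2 * Nat.card A0 * 2 := by gcongr
      _ ≤ 2 * (Nat.card B * Nat.card W0) := by rw [mul_assoc]; exact Nat.mul_le_mul_left 2 hHc
      _ = _ := by ring
  -- `w ↦ w (j w j⁻¹)` has kernel `W₀` and image in `W₀`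
  have hmap : ∀ w ∈ W, w * (j * w * j⁻¹) ∈ W0 := by
    intro w hw
    refine ⟨mul_mem hw (aw h h.jmem hw), mem_centralizer_singleton_iff.2 ?_⟩
    have hji : j⁻¹ = j := inv_eq_of_mul_eq_one_right hjj
    calc w * (j * w * j⁻¹) * j = w * (j * w) := by group
      _ = (j * w * j⁻¹) * w * j := by rw [← wc h hw (aw h h.jmem hw)]; group
      _ = j * (w * (j * w * j⁻¹)) := by rw [hji]; simp [mul_assoc]
  have h1 : Nat.card W = Nat.card (W ⧸ W0.subgroupOf W) * Nat.card W0 := by
    rw [← Nat.card_congr (subgroupOfEquivOfLe (inf_le_left : W0 ≤ W)).toEquiv]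
    exact card_eq_card_quotient_mul_card_subgroup _
  let ψ : W ⧸ W0.subgroupOf W → W0 := fun q => ⟨_, hmap _ (q.out).2⟩
  have hinj : Function.Injective ψ := by
    intro q q' e
    rw [← q.out_eq', ← q'.out_eq', QuotientGroup.eq, mem_subgroupOf]
    set a : L := ((q.out : W) : L) with ha
    set b : L := ((q'.out : W) : L) with hb'
    have haW : a ∈ W := (q.out).2
    have hbW : b ∈ W := (q'.out).2
    have e' : a * (j * a * j⁻¹) = b * (j * b * j⁻¹) := congrArg Subtype.val e
    refine ⟨(mul_mem (inv_mem haW) hbW : a⁻¹ * b ∈ W), mem_centralizer_singleton_iff.2 ?_⟩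
    have h5 : j * (a⁻¹ * b) * j⁻¹ = a⁻¹ * b := by
      have hai : a⁻¹ = a := inv_eq_of_mul_eq_one_right (sq h haW)
      calc j * (a⁻¹ * b) * j⁻¹ = (a⁻¹ * a) * (j * a * j⁻¹) * (j * b * j⁻¹) := by rw [hai, sq h haW]; group
        _ = a⁻¹ * (b * (j * b * j⁻¹)) * (j * b * j⁻¹) := by rw [← e']; group
        _ = a⁻¹ * b * ((j * b * j⁻¹) * (j * b * j⁻¹)) := by group
        _ = a⁻¹ * b := by rw [sq h (aw h h.jmem hbW), mul_one]
    exact (mul_inv_eq_iff_eq_mul.1 h5).symm
  have := Nat.card_le_card_of_injective ψ hinj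
  rw [h1]
  calc _ ≤ 2 * 2 := Nat.mul_le_mul (this.trans hW0) hW0
    _ = 4 := rfl

end CfsgLib.LocalEvenB.JModule
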