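import Cfsg.Agent.Lib.LocalEvenB.JAmbient
import Cfsg.Agent.Lib.LocalEvenB.JModule

/-!
Existence of `J(T)`-components in a solvable group, and generation of its Thompson subgroup by them.
-/

set_option autoImplicit false
set_option linter.style.haveILetI false
set_option linter.unusedSectionVars false

open scoped MatrixGroups commutatorElement Pointwise

namespace CfsgLib.LocalEvenB.JExist

open CfsgLib.Fusion CfsgLib.Fusion.OffenderTv CfsgLib.Fusion.OffenderAction
open CfsgLib.LocalEven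

universe u

attribute [local instance] OmegaCenter.normal

variable {L : Type u} [Group L] [Finite L]

local notation "VV" => OmegaCenter.closureOmega 2 L
local notation "CC" => Subgroup.centralizer (VV : Set L)
local notation "QQ" => L ⧸ CC
local notation "qq" => QuotientGroup.mk' CC
local notation "RR" => Cfsg.pCore 2 L
local notation "JA" => Cfsg.thompsonSubgroup 2 L

theorem sl_inverted : ∀ a : SL(2, ZMod 2), a * a = 1 → a ≠ 1 →
    ∃ x : SL(2, ZMod 2), x ^ 3 = 1 ∧ x ≠ 1 ∧ a * x * a⁻¹ = x * x := by decide +kernel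

theorem three_cases {M : Type u} [Group M] {x y : M} (hx : x ^ 3 = 1) (hy : y ∈ Subgroup.zpowers x) :
    y = 1 ∨ y = x ∨ y = x⁻¹ := by
  obtain ⟨i, rfl⟩ := hy
  have e : x ^ i = x ^ (i % 3) := by
    conv_lhs => rw [← Int.mul_ediv_add_emod i 3, zpow_add, zpow_mul]
    rw [show x ^ (3 : ℤ) = 1 by exact_mod_cast hx, one_zpow, one_mul]
  show x ^ i = 1 ∨ x ^ i = x ∨ x ^ i = x⁻¹
  rw [e]
  have h0 : 0 ≤ i % 3 := Int.emod_nonneg _ (by norm_num)
  have h1 : i % 3 < 3 := Int.emod_lt_of_pos _ (by norm_num)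
  generalize i % 3 = r at h0 h1
  interval_cases r
  · exact Or.inl (zpow_zero x)
  · exact Or.inr (Or.inl (zpow_one x))
  · refine Or.inr (Or.inr (eq_inv_of_mul_eq_one_left ?_))
    rw [zpow_two, ← hx, pow_succ, pow_two]

theorem eq_one_of_stab {M : Type u} [Group M] {t c k : M} {m : ℕ} (ht : t ^ 2 ^ m = 1) (hk : k ^ 3 = 1)
    (hct : t * c = c * t) (hck : k * c = c * k) (he : t * k * t⁻¹ = c * k) : c = 1 := by
  have hpow : ∀ n : ℕ, t ^ n * k * (t ^ n)⁻¹ = c ^ n * k := by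
    intro n
    induction n with
    | zero => simp
    | succ n ih =>
      calc t ^ (n + 1) * k * (t ^ (n + 1))⁻¹ = t * (t ^ n * k * (t ^ n)⁻¹) * t⁻¹ := by
            rw [pow_succ']; group
        _ = t * c ^ n * t⁻¹ * (t * k * t⁻¹) := by rw [ih]; group
        _ = c ^ n * (c * k) := by
          rw [he, (show Commute t c from hct).pow_right n |>.eq, mul_inv_cancel_right]
        _ = c ^ (n + 1) * k := by rw [pow_succ, mul_assoc]
  have h2 : c ^ 2 ^ m = 1 := by
    have := hpow (2 ^ m)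
    rw [ht, one_mul, inv_one, mul_one] at this
    exact (right_eq_mul.1 this)
  have h3 : c ^ 3 = 1 := by
    have h : (c * k) ^ 3 = 1 := by rw [← he, conj_pow, hk, mul_one, mul_inv_cancel]
    rwa [(show Commute c k from hck.symm).mul_pow, hk, mul_one] at h
  have hg := pow_gcd_eq_one.2 ⟨h3, h2⟩
  rwa [Nat.Coprime.gcd_eq_one (Nat.Coprime.pow_right m (by norm_num)), pow_one] at hg

variable (h : JLocal.Setting L)
include h

omit h in
theorem thompson_le_ja (T : Sylow 2 L) : Cfsg.thompsonSubgroupOf 2 (T : Subgroup L) ≤ JA := by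
  haveI : Fact (Nat.Prime 2) := ⟨Nat.prime_two⟩
  rw [Fusion.Thompson.thompsonSubgroup_eq_iSup]
  exact le_iSup (fun S : Sylow 2 L => Cfsg.thompsonSubgroupOf 2 (S : Subgroup L)) T

omit h in
theorem le_thompson {T : Sylow 2 L} {A : Subgroup L} (hA : A ∈ Cfsg.maxElementaryAbelianSubgroups 2 L)
    (hAT : A ≤ (T : Subgroup L)) : A ≤ Cfsg.thompsonSubgroupOf 2 (T : Subgroup L) := by
  rw [Fusion.Thompson.thompsonSubgroupOf_eq hA hAT]
  exact le_sSup ⟨hA, hAT⟩

/-- An element of order three inverted by a transvection. -/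
theorem exists_inverted {A : Subgroup L} (hA : A ∈ Cfsg.maxElementaryAbelianSubgroups 2 L) {j : L}
    (hj : j ∈ A) (hja : IsTv (p := 2) (qq j)) :
    ∃ k ∈ JA, k ^ 3 = 1 ∧ qq k ≠ 1 ∧ qq k ∈ egroup (qq j) ∧ j * k * j⁻¹ = k⁻¹ := by
  haveI : Fact (Nat.Prime 2) := ⟨Nat.prime_two⟩
  have hjA : j ∈ JA := le_sSup (s := Cfsg.maxElementaryAbelianSubgroups 2 L) hA hj
  obtain ⟨φ⟩ := exists_equiv h.sep h.core hja
  obtain ⟨x, hx3, hx1, hxa⟩ := sl_inverted (φ ⟨qq j, self_mem _⟩)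
    (by rw [← map_mul, ← map_one φ]; congr 1; exact Subtype.ext (JLocal.tv_sq h hja))
    (fun e => JLocal.tv_ne h hja (congrArg Subtype.val (φ.injective (e.trans (map_one φ).symm))))
  set x' : QQ := ((φ.symm x : egroup (qq j)) : QQ) with hx'
  have hx'3 : x' ^ 3 = 1 := by
    rw [hx', ← Subgroup.coe_pow, ← map_pow, hx3, map_one, Subgroup.coe_one]
  have hx'1 : x' ≠ 1 := fun e => hx1 (by
    have : φ.symm x = 1 := Subtype.ext e
    rw [← φ.apply_symm_apply x, this, map_one])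
  have hx'a : qq j * x' * (qq j)⁻¹ = x' * x' := by
    have := congrArg φ.symm hxa
    simp only [map_mul, map_inv, MulEquiv.symm_apply_apply] at this
    exact congrArg Subtype.val this
  obtain ⟨y, hy, hyx⟩ := egroup_le hja (φ.symm x).2
  set g := y * j * y⁻¹ * j⁻¹ with hg
  have hji : j⁻¹ = j := inv_eq_of_mul_eq_one_right (by rw [← pow_two]; exact hA.1.2 j hj)
  have hgA : g ∈ JA := mul_mem (mul_mem (mul_mem hy hjA) (inv_mem hy)) (inv_mem hjA)
  have hqg : qq g = x'⁻¹ := by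
    calc qq g = qq y * (qq j * qq y * (qq j)⁻¹)⁻¹ := by rw [hg, map_mul, map_mul, map_mul, map_inv, map_inv]; group
      _ = x' * (x' * x')⁻¹ := by rw [show qq y = x' from hyx, hx'a]
      _ = x'⁻¹ := by group
  have hjg : j * g * j⁻¹ = g⁻¹ := by
    rw [hg, mul_inv_rev, mul_inv_rev, mul_inv_rev, inv_inv, inv_inv]
    simp only [hji, mul_assoc]
    rw [show j * j = 1 by rw [← pow_two]; exact hA.1.2 j hj, mul_one]
  have hg3 : g ^ 3 ∈ CC := by
    refine (QuotientGroup.eq_one_iff _).1 ?_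
    show qq (g ^ 3) = 1
    rw [map_pow, hqg, inv_pow, hx'3, inv_one]
  have hg6 : g ^ 6 ∈ RR := by
    have h1 := inv_mem (JLocal.comm_cc h hg3 (Subgroup.mem_sup_left hjA))
    have h2 : j * g ^ 3 * j⁻¹ = (g⁻¹) ^ 3 := by rw [← conj_pow, hjg]
    rw [h2, inv_pow, mul_inv_rev] at h1
    simp only [inv_inv, ← pow_add] at h1
    exact h1
  obtain ⟨m, hm⟩ := (SylowIn.isPGroup_pCore L 2) ⟨_, hg6⟩
  have hm' : (g ^ 6) ^ 2 ^ m = 1 := by simpa using congrArg Subtype.val hm
  refine ⟨g ^ (2 ^ (m + 1)), pow_mem hgA _, ?_, ?_, ?_, ?_⟩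
  · rw [← pow_mul, show 2 ^ (m + 1) * 3 = 6 * 2 ^ m by ring, pow_mul, hm']
  · rw [map_pow, hqg, inv_pow, inv_ne_one]
    intro e
    have hgcd := pow_gcd_eq_one.2 ⟨hx'3, e⟩
    rw [Nat.Coprime.gcd_eq_one (Nat.Coprime.pow_right _ (by norm_num)), pow_one] at hgcd
    exact hx'1 hgcd
  · rw [map_pow, hqg]
    exact pow_mem (inv_mem (φ.symm x).2) _
  · rw [← conj_pow, hjg, inv_pow]

/-- A component attached to a transvection of `T`. -/
theorem exists_comp (T : Sylow 2 L) {A : Subgroup L} (hA : A ∈ Cfsg.maxElementaryAbelianSubgroups 2 L)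
    (hAT : A ≤ (T : Subgroup L)) {j : L} (hj : j ∈ A) (hja : IsTv (p := 2) (qq j)) :
    ∃ K : Subgroup L, Subgroup.closure {g : L | g ∈ K ∧ Odd (orderOf g)} = K ∧
      ⁅K, Cfsg.thompsonSubgroupOf 2 (T : Subgroup L)⁆ = K ∧ (Cfsg.pCoreOf 2 K).relIndex K = 3 ∧
      Nat.card ↥(Cfsg.wOf K) = 4 ∧ (∀ w ∈ Cfsg.wOf K, w * w = 1) ∧
      ∀ x ∈ egroup (qq j), x ^ 3 = 1 → x ∈ K.map qq := by
  classical
  haveI : Fact (Nat.Prime 2) := ⟨Nat.prime_two⟩
  haveI hRn := SylowIn.pCore_normal L 2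
  obtain ⟨k, hkA, hk3, hk1, hke, hjk⟩ := exists_inverted h hA hj hja
  set J := Cfsg.thompsonSubgroupOf 2 (T : Subgroup L) with hJdef
  have hJA : J ≤ JA := thompson_le_ja T
  have hjJ : j ∈ J := le_thompson hA hAT hj
  set f := QuotientGroup.mk' RR with hf
  have hfR : ∀ {x : L}, f x = 1 ↔ x ∈ RR := fun {x} => QuotientGroup.eq_one_iff x
  have hRC : ∀ {x : L}, x ∈ RR → qq x = 1 := fun {x} hx => (QuotientGroup.eq_one_iff x).2 (JLocal.rr_le_cc h hx)
  have hkR : k ∉ RR := fun e => hk1 (hRC e)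
  have hfk3 : f k ^ 3 = 1 := by rw [← map_pow, hk3, map_one]
  have hfk1 : f k ≠ 1 := fun e => hkR (hfR.1 e)
  have hqk3 : qq k ^ 3 = 1 := by rw [← map_pow, hk3, map_one]
  have hcent : ∀ {c y : L}, c ∈ CC → y ∈ JA → f y * f c = f c * f y := by
    intro c y hc hy
    have h1 : f (y * c * y⁻¹ * c⁻¹) = 1 := hfR.2 (JLocal.comm_cc h hc (Subgroup.mem_sup_left hy))
    rwa [map_mul, map_mul, map_mul, map_inv, map_inv, mul_inv_eq_one, mul_inv_eq_iff_eq_mul] at h1
  have hstab : ∀ t ∈ J, qq t * qq k * (qq t)⁻¹ = qq k → f t * f k * (f t)⁻¹ = f k := by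
    intro t ht e
    set c := t * k * t⁻¹ * k⁻¹ with hc
    have hcC : c ∈ CC := by
      refine (QuotientGroup.eq_one_iff _).1 ?_
      show qq c = 1
      rw [hc, map_mul, map_mul, map_mul, map_inv, map_inv, e, mul_inv_cancel]
    obtain ⟨m, hm⟩ := (T.isPGroup'.to_le (Fusion.Thompson.thompsonSubgroupOf_le _)) (⟨t, ht⟩ : J)
    have htm : t ^ 2 ^ m = 1 := by simpa using congrArg Subtype.val hm
    have he : f t * f k * (f t)⁻¹ = f c * f k := by
      rw [← map_inv, ← map_mul, ← map_mul, ← map_mul]; congr 1; rw [hc]; group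
    have := eq_one_of_stab (t := f t) (c := f c) (k := f k) (m := m) (by rw [← map_pow, htm, map_one])
      hfk3 (hcent hcC (hJA ht)) (hcent hcC hkA) he
    rw [he, this, one_mul]
  have hfj : f j * f k * (f j)⁻¹ = (f k)⁻¹ := by
    rw [← map_inv, ← map_mul, ← map_mul, hjk, map_inv]
  have hconj : ∀ t ∈ J, f t * f k * (f t)⁻¹ = f k ∨ f t * f k * (f t)⁻¹ = (f k)⁻¹ := by
    intro t ht
    have hy3 : (qq t * qq k * (qq t)⁻¹) ^ 3 = 1 := by rw [conj_pow, hqk3, mul_one, mul_inv_cancel]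
    have hye : qq t * qq k * (qq t)⁻¹ ∈ egroup (qq j) :=
      JLocal.egroup_conj_mem h (Subgroup.mem_map_of_mem _ (hJA ht)) hke
    rcases three_cases hqk3 (JLocal.generator h hja hke hqk3 hk1 hye hy3) with e | e | e
    · exact absurd (conj_eq_one_iff.1 e) hk1
    · exact Or.inl (hstab t ht e)
    · right
      have e2 : qq (j * t) * qq k * (qq (j * t))⁻¹ = qq k := by
        have hqj : qq j * qq k * (qq j)⁻¹ = (qq k)⁻¹ := by
          rw [← map_inv, ← map_mul, ← map_mul, hjk, map_inv]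
        calc qq (j * t) * qq k * (qq (j * t))⁻¹ = qq j * (qq t * qq k * (qq t)⁻¹) * (qq j)⁻¹ := by
              rw [map_mul]; group
          _ = (qq j * qq k * (qq j)⁻¹)⁻¹ := by rw [e]; group
          _ = qq k := by rw [hqj, inv_inv]
      have e3 := hstab (j * t) (mul_mem hjJ ht) e2
      rw [map_mul] at e3
      have hj2 : (f j)⁻¹ = f j := by
        rw [← map_inv]; congr 1
        exact inv_eq_of_mul_eq_one_right (by rw [← pow_two]; exact hA.1.2 j hj)
      calc f t * f k * (f t)⁻¹ = (f j)⁻¹ * (f j * f t * f k * (f j * f t)⁻¹) * f j := by group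
        _ = f j * f k * (f j)⁻¹ := by rw [e3, hj2]
        _ = (f k)⁻¹ := hfj
  set D := (Subgroup.zpowers (f k)).comap f with hD
  have hJD : J ≤ Subgroup.normalizer (D : Set L) := by
    intro t ht
    refine SylowIn.map_conj_eq_iff.1 (Subgroup.eq_of_le_of_card_ge ?_
      (Subgroup.card_map_of_injective (MulAut.conj t).injective).ge)
    rintro _ ⟨x, hx, rfl⟩
    show f (t * x * t⁻¹) ∈ Subgroup.zpowers (f k)
    rw [map_mul, map_mul, map_inv]
    obtain ⟨i, hi⟩ := Subgroup.mem_zpowers_iff.1 hx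
    rw [← hi, ← conj_zpow]
    rcases hconj t ht with e | e <;> rw [e]
    · exact zpow_mem (Subgroup.mem_zpowers _) i
    · exact zpow_mem (inv_mem (Subgroup.mem_zpowers _)) i
  set K := Subgroup.closure {g : L | g ∈ D ∧ Odd (orderOf g)} with hKdef
  have hKD : K ≤ D := (Subgroup.closure_le _).2 fun _ hg => hg.1
  have hord : orderOf k = 3 := orderOf_eq_prime hk3 (fun e => hk1 (by rw [e, map_one]))
  have hkK : k ∈ K := Subgroup.subset_closure ⟨Subgroup.mem_zpowers (f k), by rw [hord]; decide⟩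
  have hDK : Subgroup.normalizer (D : Set L) ≤ Subgroup.normalizer (K : Set L) := by
    refine SylowIn.le_normalizer_of_map_conj fun g hg => ?_
    rw [hKdef, MonoidHom.map_closure]
    refine congrArg Subgroup.closure (Set.ext fun x => ⟨?_, fun hx => ⟨g⁻¹ * x * g, ⟨?_, ?_⟩, by simp [mul_assoc]⟩⟩)
    · rintro ⟨y, ⟨hy, ho⟩, rfl⟩
      exact ⟨(Subgroup.mem_normalizer_iff.1 hg y).1 hy,
        by rwa [orderOf_injective (MulAut.conj g).toMonoidHom (MulAut.conj g).injective]⟩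
    · have := (Subgroup.mem_normalizer_iff.1 (inv_mem hg) x).1 hx.1
      simpa using this
    · rw [show g⁻¹ * x * g = (MulAut.conj g⁻¹).toMonoidHom x by simp,
        orderOf_injective (MulAut.conj g⁻¹).toMonoidHom (MulAut.conj g⁻¹).injective]
      exact hx.2
  have hJK : J ≤ Subgroup.normalizer (K : Set L) := hJD.trans hDK
  have hRD : RR ≤ D := fun r hr => by
    show f r ∈ Subgroup.zpowers (f k)
    rw [hfR.2 hr]; exact one_mem _
  have hRK : RR ≤ Subgroup.normalizer (K : Set L) := (hRD.trans Subgroup.le_normalizer).trans hDK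
  have hQeq : Cfsg.pCoreOf 2 K = K ⊓ RR := by
    refine le_antisymm ?_ (SylowIn.le_pCoreOf inf_le_left ?_
      ((SylowIn.isPGroup_pCore L 2).to_le inf_le_right))
    · intro q hq
      refine ⟨SylowIn.pCoreOf_le K hq, hfR.1 ?_⟩
      have h3 : f q ^ 3 = 1 := by
        obtain ⟨i, hi⟩ := Subgroup.mem_zpowers_iff.1 (hKD (SylowIn.pCoreOf_le K hq))
        rw [← hi, ← zpow_natCast, ← zpow_mul, mul_comm, zpow_mul, zpow_natCast, hfk3, one_zpow]
      obtain ⟨n, hn⟩ := (SylowIn.isPGroup_pCoreOf K) ⟨q, hq⟩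
      have h2 : f q ^ 2 ^ n = 1 := by
        rw [← map_pow, show q ^ 2 ^ n = 1 by simpa using congrArg Subtype.val hn, map_one]
      have hg := pow_gcd_eq_one.2 ⟨h3, h2⟩
      rwa [Nat.Coprime.gcd_eq_one (Nat.Coprime.pow_right n (by norm_num)), pow_one] at hg
    · refine le_trans (le_inf Subgroup.le_normalizer ?_) Subgroup.inf_normalizer_le_normalizer_inf
      rw [Subgroup.normalizer_eq_top_iff.2 hRn]; exact le_top
  have hKmap : K.map f = Subgroup.zpowers (f k) :=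
    le_antisymm (Subgroup.map_le_iff_le_comap.2 hKD) (Subgroup.zpowers_le.2 (Subgroup.mem_map_of_mem f hkK))
  have hmodR : ∀ {g : L}, g ∈ K → ∀ {x : L}, x ∈ K → f g = f x → g * x⁻¹ ∈ Cfsg.pCoreOf 2 K := by
    intro g hg x hx e
    rw [hQeq]
    exact ⟨(mul_mem hg (inv_mem hx) : g * x⁻¹ ∈ K), hfR.1 (by rw [map_mul, map_inv, e, mul_inv_cancel])⟩
  refine ⟨K, ?_, ?_, ?_, ?_⟩
  · exact le_antisymm ((Subgroup.closure_le _).2 fun _ hg => hg.1)
      ((Subgroup.closure_le _).2 fun g hg => Subgroup.subset_closure ⟨Subgroup.subset_closure hg, hg.2⟩)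
  · -- `[K, J] = K`
    set K1 := ⁅K, J⁆ with hK1
    have hle : K1 ≤ K := by
      refine Subgroup.commutator_le.2 fun x hx y hy => ?_
      rw [commutatorElement_def, show x * y * x⁻¹ * y⁻¹ = x * (y * x⁻¹ * y⁻¹) by group]
      exact mul_mem hx ((Subgroup.mem_normalizer_iff.1 (hJK hy) _).1 (inv_mem hx))
    have hKn : K ≤ Subgroup.normalizer (K1 : Set L) := by
      have := Commutators.normalizer_commutator_left K J
      exact this
    have hk' : k ∈ K1 := by
      have h1 := Subgroup.commutator_mem_commutator hkK hjJ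
      have e : ⁅k, j⁆ = k * k := by
        rw [commutatorElement_def, show k * j * k⁻¹ * j⁻¹ = k * (j * k * j⁻¹)⁻¹ by group, hjk, inv_inv]
      rw [e] at h1
      have := pow_mem h1 2
      rwa [show (k * k) ^ 2 = k ^ 3 * k by rw [pow_two, pow_succ, pow_two]; group, hk3, one_mul] at this
    refine le_antisymm hle ((Subgroup.closure_le _).2 fun g hg => ?_)
    have hgK : g ∈ K := Subgroup.subset_closure hg
    obtain ⟨y, hy1, hy2, hyg⟩ : ∃ y, y ∈ K1 ∧ y ∈ K ∧ f y = f g := by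
      obtain ⟨i, hi⟩ := Subgroup.mem_zpowers_iff.1 (hKD hgK)
      exact ⟨k ^ i, zpow_mem hk' i, zpow_mem hkK i, by rw [map_zpow, hi]⟩
    set r := g * y⁻¹ with hr
    have hrQ := hmodR hgK hy2 hyg.symm
    obtain ⟨m, hm⟩ := (SylowIn.isPGroup_pCoreOf K) ⟨r, hrQ⟩
    have hrm : r ^ 2 ^ m = 1 := by simpa using congrArg Subtype.val hm
    have hrK : r ∈ K := SylowIn.pCoreOf_le K hrQ
    have hpow : ∀ n : ℕ, (r ^ n)⁻¹ * g ^ n ∈ K1 := by
      intro n
      induction n with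
      | zero => simp
      | succ n ih =>
        have hgy : g = r * y := by rw [hr, inv_mul_cancel_right]
        rw [show (r ^ (n + 1))⁻¹ * g ^ (n + 1) = (r⁻¹ * ((r ^ n)⁻¹ * g ^ n) * r) * y by
          rw [pow_succ, pow_succ]; nth_rewrite 2 [hgy]; group]
        refine mul_mem ?_ hy1
        have := (Subgroup.mem_normalizer_iff.1 (hKn (inv_mem hrK)) ((r ^ n)⁻¹ * g ^ n)).1 ih
        rwa [inv_inv] at this
    obtain ⟨t, ht⟩ := exists_pow_eq_self_of_coprime (x := g) (n := 2 ^ m)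
      (Nat.Coprime.pow_left m hg.2.coprime_two_left)
    have := hpow (2 ^ m)
    rw [hrm, inv_one, one_mul] at this
    exact ht ▸ pow_mem this t
  · rw [hQeq, inf_comm, Subgroup.inf_relIndex_right]
    rw [show RR = f.ker from (QuotientGroup.ker_mk' _).symm, Subgroup.relIndex_ker, hKmap,
      Nat.card_zpowers, orderOf_eq_prime hfk3 hfk1]
  -- the four-group
  set Q := Cfsg.pCoreOf 2 K with hQ
  set U := Cfsg.omegaCenterOf Q with hU
  set W := Cfsg.wOf K with hW
  have hWU : W ≤ U := JAmbient.wOf_le K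
  have hUc : ∀ u ∈ U, ∀ v ∈ U, u * v = v * u := fun u hu v hv =>
    Subgroup.mem_centralizer_iff.1 (JComponent.omegaCenterOf_le Q hv).2 u (JComponent.omegaCenterOf_le Q hu).1
  have hUs : ∀ u ∈ U, u * u = 1 := fun u hu => JComponent.mul_self_of_mem_omegaCenterOf Q hu
  have hUn : ∀ g ∈ K, ∀ u ∈ U, g * u * g⁻¹ ∈ U := fun g hg u hu =>
    (Subgroup.mem_normalizer_iff.1 (((JComponent.normalizer_le_pCoreOf K).trans
      (JComponent.normalizer_le_omegaCenterOf Q)) (Subgroup.le_normalizer hg)) u).1 hu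
  have hQfix : ∀ q ∈ Q, ∀ u ∈ U, q * u * q⁻¹ = u := fun q hq u hu => by
    rw [Subgroup.mem_centralizer_iff.1 (JComponent.omegaCenterOf_le Q hu).2 q hq, mul_inv_cancel_right]
  -- every element of `W` is `u (k u k⁻¹)`
  have himg : ∀ w ∈ W, ∃ u ∈ U, w = u * (k * u * k⁻¹) := by
    let I : Subgroup L :=
      { carrier := {w | ∃ u ∈ U, w = u * (k * u * k⁻¹)}
        one_mem' := ⟨1, one_mem _, by simp⟩
        mul_mem' := by
          rintro _ _ ⟨u, hu, rfl⟩ ⟨v, hv, rfl⟩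
          refine ⟨u * v, mul_mem hu hv, ?_⟩
          calc u * (k * u * k⁻¹) * (v * (k * v * k⁻¹)) = u * ((k * u * k⁻¹) * v) * (k * v * k⁻¹) := by group
            _ = u * (v * (k * u * k⁻¹)) * (k * v * k⁻¹) := by rw [hUc _ (hUn k hkK u hu) v hv]
            _ = u * v * (k * (u * v) * k⁻¹) := by group
        inv_mem' := by
          rintro _ ⟨u, hu, rfl⟩
          exact ⟨u, hu, inv_eq_of_mul_eq_one_right (hUs _ (mul_mem hu (hUn k hkK u hu)))⟩ }
    suffices hle : W ≤ I from fun w hw => hle hw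
    refine Subgroup.commutator_le.2 fun u hu g hg => ?_
    have hui : u⁻¹ = u := inv_eq_of_mul_eq_one_right (hUs u hu)
    have e0 : ⁅u, g⁆ = u * (g * u * g⁻¹) := by rw [commutatorElement_def, hui]; group
    rw [e0]
    rcases three_cases hfk3 (hKD hg) with e | e | e
    · refine ⟨1, one_mem _, ?_⟩
      have hgQ : g ∈ Q := by simpa using hmodR hg (one_mem _) (e.trans (map_one f).symm)
      rw [hQfix g hgQ u hu, hUs u hu]; simp
    · refine ⟨u, hu, ?_⟩
      have hq := hmodR hg hkK e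
      rw [show g * u * g⁻¹ = (g * k⁻¹) * (k * u * k⁻¹) * (g * k⁻¹)⁻¹ by group, hQfix _ hq _ (hUn k hkK u hu)]
    · have hkU : k⁻¹ * u * k ∈ U := by simpa using hUn k⁻¹ (inv_mem hkK) u hu
      refine ⟨k⁻¹ * u * k, hkU, ?_⟩
      have hq := hmodR hg (inv_mem hkK) (e.trans (map_inv f k).symm)
      rw [show g * u * g⁻¹ = (g * (k⁻¹)⁻¹) * (k⁻¹ * u * k) * (g * (k⁻¹)⁻¹)⁻¹ by group,
        hQfix _ hq _ hkU, hUc u hu _ hkU]
      group
  have hfix0 : ∀ u ∈ U, k * (u * (k * u * k⁻¹)) * k⁻¹ = u * (k * u * k⁻¹) → u * (k * u * k⁻¹) = 1 := by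
    intro u hu e
    have h1 : k * (k * u * k⁻¹) * k⁻¹ = u := by
      rw [hUc u hu _ (hUn k hkK u hu),
        show k * (k * u * k⁻¹ * u) * k⁻¹ = (k * (k * u * k⁻¹) * k⁻¹) * (k * u * k⁻¹) by group,
        hUc _ (hUn k hkK u hu) u hu] at e
      exact mul_right_cancel e
    have h2 : k * u * k⁻¹ = u := by
      conv_lhs => rw [← h1]
      calc k * (k * (k * u * k⁻¹) * k⁻¹) * k⁻¹ = k ^ 3 * u * (k ^ 3)⁻¹ := by rw [pow_succ, pow_two]; group
        _ = u := by rw [hk3, one_mul, inv_one, mul_one]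
    rw [h2, hUs u hu]
  have hfix : ∀ w ∈ W, k * w * k⁻¹ = w → w = 1 := by
    intro w hw e
    obtain ⟨u, hu, rfl⟩ := himg w hw
    exact hfix0 u hu e
  have hAK : A ≤ Subgroup.normalizer (K : Set L) := fun a ha => hJK (le_thompson hA hAT ha)
  have hWn := JAmbient.conjK_le_normalizer_wOf K
  have hWEA : Cfsg.IsElementaryAbelian 2 W :=
    ⟨IsMulCommutative.of_comm fun a b => Subtype.ext (hUc a (hWU a.2) b (hWU b.2)),
      fun w hw => by rw [pow_two]; exact hUs w (hWU hw)⟩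
  have hdata : JModule.Data A (A ⊓ (Subgroup.centralizer ({f k} : Set (L ⧸ RR))).comap f) W j k := by
    refine ⟨hA, inf_le_left, hj, fun a ha => ?_, hWEA, hAK.trans hWn, hWn (Subgroup.le_normalizer hkK),
      fun a ha w hw => ?_, fun w _ => ?_, fun w _ => by rw [hk3, one_mul, mul_one], hfix⟩
    · rcases hconj a (le_thompson hA hAT ha) with e | e
      · exact Or.inl ⟨ha, Subgroup.mem_centralizer_singleton_iff.2 (mul_inv_eq_iff_eq_mul.1 e)⟩
      · refine Or.inr ⟨mul_mem hj ha, Subgroup.mem_centralizer_singleton_iff.2 (mul_inv_eq_iff_eq_mul.1 ?_)⟩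
        calc f (j * a) * f k * (f (j * a))⁻¹ = f j * (f a * f k * (f a)⁻¹) * (f j)⁻¹ := by rw [map_mul]; group
          _ = (f j * f k * (f j)⁻¹)⁻¹ := by rw [e]; group
          _ = f k := by rw [hfj, inv_inv]
    · obtain ⟨haA, hac⟩ := ha
      have hq : a * k * a⁻¹ * k⁻¹ ∈ Q := hmodR ((Subgroup.mem_normalizer_iff.1 (hAK haA) k).1 hkK) hkK
        (by rw [map_mul, map_mul, map_inv, Subgroup.mem_centralizer_singleton_iff.1 hac, mul_inv_cancel_right])
      have haW : a * w * a⁻¹ ∈ U := hWU ((Subgroup.mem_normalizer_iff.1 (hWn (hAK haA)) w).1 hw)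
      calc a * (k * w * k⁻¹) * a⁻¹ = (a * k * a⁻¹ * k⁻¹) * (k * (a * w * a⁻¹) * k⁻¹) * (a * k * a⁻¹ * k⁻¹)⁻¹ := by group
        _ = k * (a * w * a⁻¹) * k⁻¹ := hQfix _ hq _ (hUn k hkK _ haW)
    · calc j * (k * w * k⁻¹) * j⁻¹ = (j * k * j⁻¹) * (j * w * j⁻¹) * (j * k * j⁻¹)⁻¹ := by group
        _ = k⁻¹ * (j * w * j⁻¹) * k := by rw [hjk, inv_inv]
  have hW1 : W ≠ ⊥ := by
    intro hbot
    have hV := OmegaCenter.omega_le h.sep h.core
    refine hk1 ((QuotientGroup.eq_one_iff k).2 (Subgroup.mem_centralizer_iff.2 fun v hv => ?_))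
    have hvR : v ∈ RR := (hV hv).1
    have hvs : v * v = 1 := by rw [← pow_two]; exact (OmegaCenter.isEA h.sep h.core).2 v hv
    set c := v * (k * v * k⁻¹) with hc
    have hkv : k * v * k⁻¹ ∈ VV := (inferInstance : (VV).Normal).conj_mem v hv k
    have hcV : c ∈ VV := mul_mem hv hkv
    have hcK : c ∈ K := by
      rw [hc, show v * (k * v * k⁻¹) = (v * k * v⁻¹) * k⁻¹ by
        rw [inv_eq_of_mul_eq_one_right hvs]; group]
      exact mul_mem ((Subgroup.mem_normalizer_iff.1 (hRK hvR) k).1 hkK) (inv_mem hkK)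
    have hcQ : c ∈ Q := by rw [hQeq]; exact ⟨hcK, (hV hcV).1⟩
    have hcU : c ∈ U := Subgroup.subset_closure ⟨⟨hcQ, Subgroup.mem_centralizer_iff.2 fun q hq =>
      Subgroup.mem_centralizer_iff.1 (hV hcV).2 q (by rw [hQeq] at hq; exact hq.2)⟩,
      (OmegaCenter.isEA h.sep h.core).2 c hcV⟩
    have hcfix : k * c * k⁻¹ = c := by
      have := Subgroup.commutator_mem_commutator hcU hkK
      change ⁅c, k⁆ ∈ W at this
      rw [hbot, Subgroup.mem_bot, commutatorElement_def, mul_inv_eq_one] at this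
      rw [← mul_inv_eq_iff_eq_mul.1 this, mul_inv_cancel_right]
    -- hence `k` fixes `v`
    have hVc : ∀ a ∈ VV, ∀ b ∈ VV, a * b = b * a := fun a ha b hb =>
      Fusion.Thompson.mul_comm_of_isEA (OmegaCenter.isEA h.sep h.core) ha hb
    have h1 : k * (k * v * k⁻¹) * k⁻¹ = v := by
      rw [hc, hVc v hv _ hkv, show k * (k * v * k⁻¹ * v) * k⁻¹ = (k * (k * v * k⁻¹) * k⁻¹) * (k * v * k⁻¹) by group,
        hVc _ hkv v hv] at hcfix
      exact mul_right_cancel hcfix
    have h2 : k * v * k⁻¹ = v := by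
      conv_lhs => rw [← h1]
      calc k * (k * (k * v * k⁻¹) * k⁻¹) * k⁻¹ = k ^ 3 * v * (k ^ 3)⁻¹ := by rw [pow_succ, pow_two]; group
        _ = v := by rw [hk3, one_mul, inv_one, mul_one]
    exact (mul_inv_eq_iff_eq_mul.1 h2).symm
  refine ⟨?_, fun w hw => hUs w (hWU hw), fun x hx hx3 => ?_⟩
  · have hle := JModule.card_le hdata
    obtain ⟨w, hw, hw1⟩ := (Subgroup.bot_or_exists_ne_one W).resolve_left hW1
    have hne : k * w * k⁻¹ ≠ w := fun e => hw1 (hfix w hw e)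
    have hne1 : k * w * k⁻¹ ≠ 1 := fun e => hw1 (conj_eq_one_iff.1 e)
    have hsub : ({1, w, k * w * k⁻¹} : Set L) ⊆ (W : Set L) := by
      rintro x (rfl | rfl | rfl)
      · exact one_mem _
      · exact hw
      · exact (Subgroup.mem_normalizer_iff.1 (hWn (Subgroup.le_normalizer hkK)) w).1 hw
    have h3 : 3 ≤ Nat.card W := by
      have h2 := Set.ncard_le_ncard hsub
      rw [Set.ncard_insert_of_notMem (by simp [hw1.symm, hne1.symm]), Set.ncard_pair hne.symm] at h2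
      rwa [← SetLike.coe_sort_coe, Nat.card_coe_set_eq]
    obtain ⟨n, hn⟩ := IsPGroup.iff_card.1 (Fusion.Thompson.isPGroup_isEA hWEA)
    rw [hn] at hle h3 ⊢
    have : n ≤ 2 := by
      by_contra hn3
      have : 2 ^ 3 ≤ 2 ^ n := Nat.pow_le_pow_right (by norm_num) (by omega)
      omega
    interval_cases n <;> simp_all
  · obtain ⟨i, hi⟩ := JLocal.generator h hja hke hqk3 hk1 hx hx3
    exact ⟨k ^ i, zpow_mem hkK i, by rw [map_zpow]; exact hi⟩

end CfsgLib.LocalEvenB.JExist
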