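import Mathlib.Algebra.CharP.Lemmas
import Mathlib.Algebra.Ring.GeomSum
import Mathlib.Algebra.Algebra.ZMod
import Mathlib.Algebra.Field.ZMod
import Mathlib.Algebra.Polynomial.Degree.Domain
import Mathlib.GroupTheory.Index
import Mathlib.GroupTheory.OrderOfElement
import Mathlib.Algebra.Polynomial.AlgebraMap

/-!
Endomorphisms `θ = A - 1` of finite abelian `p`-groups, for `A` of order dividing `n = p ^ k`, and bilinear maps
compatible with `A`.
-/

set_option autoImplicit false
set_option linter.unusedSectionVars false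

namespace CfsgLib.LocalEvenB.JFactorAlgebra

open Finset

variable {V W : Type*} [AddCommGroup V] [AddCommGroup W]

/-- `θ` is nilpotent on a finite `p`-group. -/
theorem exists_pow_eq_zero [Finite W] {p k e : ℕ} [hp : Fact p.Prime] (hW : Nat.card W = p ^ e)
    (α : AddMonoid.End W) (hα : α ^ p ^ k = 1) : ∃ s, (α - 1) ^ s = 0 := by
  obtain ⟨r, hr⟩ := (Commute.one_right (α - 1)).exists_add_pow_prime_pow_eq hp.out k
  rw [sub_add_cancel, hα, one_pow] at hr
  have h1 : (α - 1) ^ p ^ k = (p : AddMonoid.End W) * -((α - 1) * 1 * r) := by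
    have h2 : (α - 1) ^ p ^ k + (p : AddMonoid.End W) * (α - 1) * 1 * r = 0 := by
      have := congrArg (fun z => z - 1) hr
      simp only [sub_self] at this
      rw [this]; abel
    rw [eq_neg_of_add_eq_zero_left h2]
    simp [mul_assoc]
  refine ⟨p ^ k * e, ?_⟩
  rw [pow_mul, h1, (Nat.cast_commute p _).mul_pow, ← Nat.cast_pow]
  refine AddMonoidHom.ext fun w => ?_
  show ((p ^ e : ℕ) : AddMonoid.End W) _ = 0
  rw [AddMonoid.End.natCast_apply, ← hW]
  exact card_nsmul_eq_zero'

/-- A chain of images bounds the order from below. -/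
theorem chain [Finite W] {p e : ℕ} [hp : Fact p.Prime] (hW : Nat.card W = p ^ e) (f : AddMonoid.End W)
    (hf : ∃ N, f ^ N = 0) :
    ∀ (j : ℕ) (I : AddSubgroup W) (v : W), (∀ x ∈ I, f x ∈ I) → v ∈ I → (f ^ j) v ≠ 0 →
      p ^ (j + 1) ≤ Nat.card I := by
  have hcard : ∀ I : AddSubgroup W, ∃ i, Nat.card I = p ^ i := fun I => by
    obtain ⟨i, _, hi⟩ := (Nat.dvd_prime_pow hp.out).mp (hW ▸ I.card_addSubgroup_dvd_card)
    exact ⟨i, hi⟩
  intro j
  induction j with
  | zero =>
    intro I v _ hv hne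
    obtain ⟨i, hi⟩ := hcard I
    rcases Nat.eq_zero_or_pos i with rfl | hi0
    · rw [pow_zero, AddSubgroup.card_eq_one] at hi
      rw [hi, AddSubgroup.mem_bot] at hv
      simp [hv] at hne
    · rw [hi, zero_add, pow_one]
      exact le_self_pow hp.out.one_lt.le hi0.ne'
  | succ j ih =>
    intro I v hI hv hne
    have hsub : I.map f ≤ I := by
      rintro _ ⟨x, hx, rfl⟩
      exact hI x hx
    have h1 := ih (I.map f) (f v) (fun x hx => ⟨x, hsub hx, rfl⟩) ⟨v, hv, rfl⟩ (by
      rw [pow_succ] at hne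
      exact hne)
    have hlt : I.map f ≠ I := fun he => by
      obtain ⟨N, hN⟩ := hf
      have hall : ∀ i : ℕ, ∀ x ∈ I, ∃ z ∈ I, (f ^ i) z = x := by
        intro i
        induction i with
        | zero => exact fun x hx => ⟨x, hx, rfl⟩
        | succ i ih2 =>
          intro x hx
          obtain ⟨z, hz, rfl⟩ := ih2 x hx
          rw [← he] at hz
          obtain ⟨w, hw, rfl⟩ := hz
          exact ⟨w, hw, by rw [pow_succ]; rfl⟩
      obtain ⟨z, hz, hzv⟩ := hall N v hv
      rw [hN] at hzv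
      have : v = 0 := hzv.symm
      simp [this] at hne
    obtain ⟨i, hi⟩ := hcard (I.map f)
    obtain ⟨l, hl⟩ := hcard I
    have hil : i < l := by
      by_contra hle
      exact hlt (AddSubgroup.eq_of_le_of_card_ge hsub (by
        rw [hi, hl]; exact Nat.pow_le_pow_right hp.out.pos (not_lt.mp hle)))
    rw [hi] at h1
    rw [hl]
    have hji := (Nat.pow_le_pow_iff_right hp.out.one_lt).mp h1
    exact Nat.pow_le_pow_right hp.out.pos (by omega)

/-- In characteristic `p`, `1 + x + ⋯ + x ^ (p ^ k - 1) = (x - 1) ^ (p ^ k - 1)`. -/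
theorem geom_eq {R : Type*} [Ring R] [Nontrivial R] {p k : ℕ} [hp : Fact p.Prime] (h0 : (p : R) = 0) (x : R) :
    ∑ i ∈ range (p ^ k), x ^ i = (x - 1) ^ (p ^ k - 1) := by
  have : CharP R p := (CharP.charP_iff_prime_eq_zero hp.out).mpr h0
  let _ : Algebra (ZMod p) R := ZMod.algebra R p
  have key : (∑ i ∈ range (p ^ k), (Polynomial.X : Polynomial (ZMod p)) ^ i) =
      (Polynomial.X - 1) ^ (p ^ k - 1) := by
    refine mul_right_cancel₀ (b := Polynomial.X - (1 : Polynomial (ZMod p))) ?_ ?_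
    · simpa using Polynomial.X_sub_C_ne_zero (1 : ZMod p)
    · rw [geom_sum_mul, ← pow_succ, Nat.sub_add_cancel (Nat.one_le_pow _ _ hp.out.pos), sub_pow_char_pow, one_pow]
  simpa using congrArg (Polynomial.aeval x) key

variable (A : AddMonoid.End V)

theorem step {n : ℕ} (hn : 1 ≤ n) (hA : A ^ n = 1) (α : AddMonoid.End W) (ω : V →+ V →+ W)
    (hω : ∀ v w, ω (A v) (A w) = α (ω v w)) (v z : V) :
    ω ((A - 1) v) z = (α - 1) (ω v ((A ^ (n - 1)) z)) + ω v ((A - 1) ((-(A ^ (n - 1))) z)) := by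
  set z' := (A ^ (n - 1)) z with hz'
  have hz : A z' = z := by
    show (A * A ^ (n - 1)) z = z
    rw [← pow_succ', Nat.sub_add_cancel hn, hA]
    rfl
  have e1 : (A - 1) v = A v - v := rfl
  have e2 : ∀ w, (α - 1) w = α w - w := fun _ => rfl
  have e3 : (A - 1) ((-(A ^ (n - 1))) z) = z' - z := by
    show A (-z') - -z' = z' - z
    rw [map_neg, hz]; abel
  rw [e1, e2, e3, map_sub, AddMonoidHom.sub_apply, ← hω, hz, map_sub]
  abel

/-- The twisted shifting lemma. -/
theorem twisted {n : ℕ} (hn : 1 ≤ n) (hA : A ^ n = 1) (hθ : (A - 1) ^ n = 0) (α : AddMonoid.End W) :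
    ∀ (s : ℕ) (ω : V →+ V →+ W), (∀ v w, ω (A v) (A w) = α (ω v w)) →
      (∀ v w, ((α - 1) ^ s) (ω v w) = 0) →
      ∀ (i j : ℕ) (v w : V), n + s ≤ i + j + 1 → ω (((A - 1) ^ i) v) (((A - 1) ^ j) w) = 0 := by
  intro s
  induction s with
  | zero =>
    intro ω _ h0 i j v w _
    simpa using h0 (((A - 1) ^ i) v) (((A - 1) ^ j) w)
  | succ s ih =>
    intro ω hω h0 i
    induction i with
    | zero =>
      intro j v w h
      obtain ⟨d, hd⟩ : ∃ d, j = n + d := Nat.exists_eq_add_of_le (by omega)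
      rw [hd, pow_add, hθ, zero_mul]
      simp
    | succ i ih2 =>
      intro j v w h
      have e : ((A - 1) ^ (i + 1)) v = (A - 1) (((A - 1) ^ i) v) := by
        rw [pow_succ']; rfl
      have hc1 : ∀ l : ℕ, (A ^ (n - 1)) (((A - 1) ^ l) w) = ((A - 1) ^ l) ((A ^ (n - 1)) w) := fun l => by
        show (A ^ (n - 1) * (A - 1) ^ l) w = ((A - 1) ^ l * A ^ (n - 1)) w
        rw [(((Commute.refl A).sub_right (Commute.one_right A)).pow_pow (n - 1) l).eq]
      have hc2 : (A - 1) ((-(A ^ (n - 1))) (((A - 1) ^ j) w)) = ((A - 1) ^ (j + 1)) ((-(A ^ (n - 1))) w) := by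
        have e1 : (-(A ^ (n - 1))) (((A - 1) ^ j) w) = ((A - 1) ^ j) ((-(A ^ (n - 1))) w) := by
          show -((A ^ (n - 1)) (((A - 1) ^ j) w)) = ((A - 1) ^ j) (-((A ^ (n - 1)) w))
          rw [hc1, map_neg]
        rw [e1, pow_succ' (A - 1) j]
        rfl
      rw [e, step A hn hA α ω hω, hc2, ih2 (j + 1) v _ (by omega), add_zero, hc1]
      let ω' : V →+ V →+ W :=
        AddMonoidHom.mk' (fun v => AddMonoidHom.comp (α - 1 : AddMonoid.End W) (ω v)) fun v₁ v₂ =>
          AddMonoidHom.ext fun w => by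
            show (α - 1) ((ω (v₁ + v₂)) w) = (α - 1) (ω v₁ w) + (α - 1) (ω v₂ w)
            rw [map_add, AddMonoidHom.add_apply, map_add]
      refine ih ω' (fun v₁ w₁ => ?_) (fun v₁ w₁ => ?_) i j v _ (by omega)
      · show (α - 1) (ω (A v₁) (A w₁)) = α ((α - 1) (ω v₁ w₁))
        rw [hω]
        show ((α - 1) * α) _ = (α * (α - 1)) _
        rw [sub_mul, mul_sub, one_mul, mul_one]
      · show ((α - 1) ^ s) ((α - 1) (ω v₁ w₁)) = 0
        show ((α - 1) ^ s * (α - 1)) _ = 0
        rw [← pow_succ]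
        exact h0 v₁ w₁

/-- An invariant alternating form vanishes on the orbit of the middle term. -/
theorem invariant {p k m : ℕ} [hp : Fact p.Prime] [Nontrivial V] (hpV : (p : AddMonoid.End V) = 0)
    (hA : A ^ p ^ k = 1) (hm : 2 * m + 1 = p ^ k) (hW : ∀ w : W, w + w = 0 → w = 0) (ω : V →+ V →+ W)
    (halt : ∀ v, ω v v = 0) (hω : ∀ v w, ω (A v) (A w) = ω v w) (u : V) (i : ℕ) :
    ω (((A - 1) ^ m) u) (((A - 1) ^ m) ((A ^ i) u)) = 0 := by
  have : Nontrivial (AddMonoid.End V) := ⟨0, 1, fun h => by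
    obtain ⟨v, hv⟩ := exists_ne (0 : V)
    exact hv (DFunLike.congr_fun h v).symm⟩
  set n := p ^ k with hn
  have hn1 : 1 ≤ n := by omega
  set N := ∑ j ∈ range n, A ^ j with hN
  have hAN : A * N = N := by
    have h1 : (A - 1) * N = 0 := by
      rw [hN, mul_geom_sum, hA, sub_self]
    rwa [sub_mul, one_mul, sub_eq_zero] at h1
  have hAjN : ∀ j : ℕ, A ^ j * N = N := fun j => by
    induction j with
    | zero => rw [pow_zero, one_mul]
    | succ j ih => rw [pow_succ, mul_assoc, hAN, ih]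
  set U := -(A ^ (n - 1)) with hU
  have hω' : ∀ v w, ω (A v) (A w) = (1 : AddMonoid.End W) (ω v w) := hω
  have hmove : ∀ (j : ℕ) (v z : V), ω (((A - 1) ^ j) v) z = ω v (((A - 1) * U) ^ j $ z) := by
    intro j
    induction j with
    | zero => intro v z; rfl
    | succ j ih =>
      intro v z
      have e : ((A - 1) ^ (j + 1)) v = (A - 1) (((A - 1) ^ j) v) := by rw [pow_succ']; rfl
      rw [e, step A hn1 hA 1 ω hω', sub_self]
      show 0 + _ = _
      rw [zero_add, ih, pow_succ]
      rfl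
  rw [hmove]
  have hcU : Commute (A - 1) U :=
    ((((Commute.refl A).sub_left (Commute.one_left A))).pow_right (n - 1)).neg_right
  have hprod : ((A - 1) * U) ^ m * ((A - 1) ^ m * A ^ i) = (-1) ^ m * N := by
    have hN' : (A - 1) ^ (2 * m) = N := by
      rw [hN, geom_eq hpV A]; congr 1; omega
    rw [hcU.mul_pow, ← mul_assoc, (hcU.pow_pow m m).eq, mul_assoc (U ^ m), ← pow_add, ← two_mul, hN', hU,
      neg_pow, mul_assoc, mul_assoc]
    congr 1
    have hcN : N * A ^ i = A ^ i * N := by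
      rw [hN, sum_mul, mul_sum]
      exact sum_congr rfl fun j _ => ((Commute.refl A).pow_pow j i).eq
    rw [hcN, hAjN, ← pow_mul, hAjN]
  show ω u ((((A - 1) * U) ^ m * ((A - 1) ^ m * A ^ i)) u) = 0
  rw [hprod]
  have hsum : ω u (N u) = 0 := by
    apply hW
    have hn' : n = 2 * m + 1 := by omega
    have e0 : N u = ∑ j ∈ range n, (A ^ j) u := by
      rw [hN]; exact AddMonoidHom.finsetSum_apply _ _ _
    have hanti : ∀ j ≤ n, ω u ((A ^ j) u) + ω u ((A ^ (n - j)) u) = 0 := by
      intro j hj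
      have hiter : ∀ (l : ℕ) (v w : V), ω ((A ^ l) v) ((A ^ l) w) = ω v w := by
        intro l
        induction l with
        | zero => intro v w; rfl
        | succ l ih => intro v w; rw [pow_succ]; exact (ih (A v) (A w)).trans (hω v w)
      have h1 : ω u ((A ^ (n - j)) u) = ω ((A ^ j) u) u := by
        rw [← hiter j u ((A ^ (n - j)) u)]
        congr 1
        show (A ^ j * A ^ (n - j)) u = u
        rw [← pow_add, Nat.add_sub_cancel' hj, hA]
        rfl
      have h2 := halt (u + (A ^ j) u)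
      simp only [map_add, AddMonoidHom.add_apply, halt, zero_add, add_zero] at h2
      rw [h1, ← h2]
      abel
    rw [e0, map_sum, hn', sum_range_succ', pow_zero]
    show ((∑ j ∈ range (2 * m), ω u ((A ^ (j + 1)) u)) + ω u u) +
      ((∑ j ∈ range (2 * m), ω u ((A ^ (j + 1)) u)) + ω u u) = 0
    rw [halt, add_zero]
    nth_rw 2 [← sum_range_reflect]
    rw [← sum_add_distrib]
    refine sum_eq_zero fun j hj => ?_
    rw [mem_range] at hj
    rw [show 2 * m - 1 - j + 1 = n - (j + 1) by omega]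
    exact hanti (j + 1) (by omega)
  rcases neg_one_pow_eq_or (AddMonoid.End V) m with h | h <;> rw [h]
  · rw [one_mul]; exact hsum
  · show ω u (-(N u)) = 0
    rw [map_neg, hsum, neg_zero]

end CfsgLib.LocalEvenB.JFactorAlgebra
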