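import Cfsg.Agent.Lib.LocalEvenB.JFactorSection
import Cfsg.Agent.Lib.Fusion.Thompson

/-!
For `p ≥ 5` the `p`-group `Q` has an abelian subgroup of order larger than `p ^ k |E|`.
-/

set_option autoImplicit false
set_option linter.unusedSectionVars false

namespace CfsgLib.LocalEvenB.JFactorCore

open Subgroup CfsgLib.LocalEvenB.JFactorSetup CfsgLib.LocalEvenB.JFactorSection

variable {G : Type*} [Group G] [Finite G] {p k : ℕ} [Fact p.Prime] {Q T E B D : Subgroup G} {a : G}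

/-- `[x, y]`. -/
def cm (x y : G) : G := x * y * x⁻¹ * y⁻¹

/-- `C_D(E)`. -/
abbrev fixD (D E : Subgroup G) : Subgroup G := D ⊓ centralizer (E : Set G)

theorem arith {p k : ℕ} (hp : 5 ≤ p) (hk : 1 ≤ k) : 2 * k + 3 ≤ p ^ k := by
  induction k with
  | zero => omega
  | succ k ih =>
    rcases Nat.eq_zero_or_pos k with rfl | hk0
    · simpa using hp
    · have h := ih hk0
      have h2 : p ^ k * 5 ≤ p ^ k * p := Nat.mul_le_mul_left _ hp
      rw [pow_succ]
      omega

theorem isComm_sup {X Y : Subgroup G} (hX : X ≤ centralizer (X : Set G)) (hY : Y ≤ centralizer (Y : Set G))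
    (h : X ≤ centralizer (Y : Set G)) : X ⊔ Y ≤ centralizer ((X ⊔ Y : Subgroup G) : Set G) :=
  sup_le (le_centralizer_iff.mp (sup_le hX (le_centralizer_iff.mp h)))
    (le_centralizer_iff.mp (sup_le h hY))

theorem closure_le_centralizer {S : Set G} {X : Subgroup G} (h : ∀ x ∈ S, ∀ y ∈ X, y * x = x * y) :
    closure S ≤ centralizer (X : Set G) :=
  (closure_le _).mpr fun x hx => mem_centralizer_iff.mpr fun y hy => h x hx y hy

theorem cm_central (hd : Data p Q T a B D) {x y d e : G} (hx : x ∈ B) (hy : y ∈ B) (hdd : d ∈ D) (hee : e ∈ D) :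
    cm (x * d) (y * e) = cm x y := by
  have h1 : (y * e) * d = d * (y * e) := hd.central _ (mul_mem hy (hd.hDB hee)) _ hdd
  have h2 : x * e = e * x := hd.central _ hx _ hee
  unfold cm
  calc x * d * (y * e) * (x * d)⁻¹ * (y * e)⁻¹ = x * (d * (y * e)) * d⁻¹ * x⁻¹ * e⁻¹ * y⁻¹ := by group
    _ = x * ((y * e) * d) * d⁻¹ * x⁻¹ * e⁻¹ * y⁻¹ := by rw [h1]
    _ = x * y * (e * (x⁻¹ * e⁻¹)) * y⁻¹ := by group
    _ = x * y * x⁻¹ * y⁻¹ := by
      rw [show e * (x⁻¹ * e⁻¹) = x⁻¹ from by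
        calc e * (x⁻¹ * e⁻¹) = e * (e * x)⁻¹ := by group
          _ = e * (x * e)⁻¹ := by rw [h2]
          _ = x⁻¹ := by group]

theorem cm_mul_right (hd : Data p Q T a B D) {x y z : G} (hx : x ∈ Q) (hy : y ∈ B) (hz : z ∈ B) :
    cm x (y * z) = cm x y * cm x z := by
  have h := hd.central _ hy _ (hd.comm x hx z hz)
  unfold cm
  calc x * (y * z) * x⁻¹ * (y * z)⁻¹ = x * y * x⁻¹ * ((x * z * x⁻¹ * z⁻¹) * y⁻¹) := by group
    _ = x * y * x⁻¹ * (y⁻¹ * (x * z * x⁻¹ * z⁻¹)) := by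
      congr 1
      calc x * z * x⁻¹ * z⁻¹ * y⁻¹ = y⁻¹ * (y * (x * z * x⁻¹ * z⁻¹)) * y⁻¹ := by group
        _ = y⁻¹ * ((x * z * x⁻¹ * z⁻¹) * y) * y⁻¹ := by rw [h]
        _ = _ := by group
    _ = _ := by group

theorem cm_mem_fix (hs : Setup p k Q T E a) (hd : Data p Q T a B D) {x y : G} (hx : x ∈ B) (hy : y ∈ B) :
    cm x y ∈ fixD D E := by
  refine ⟨hd.comm x (hd.hBQ hx) y hy, mem_centralizer_iff.mpr fun e he => ?_⟩
  have h1 : ∀ {z : G}, z ∈ B → e * z * e⁻¹ = z * (z⁻¹ * (e * z * e⁻¹)) := fun _ => by group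
  have h2 : ∀ {z : G}, z ∈ B → z⁻¹ * (e * z * e⁻¹) ∈ D := fun {z} hz => by
    have := (mem_normalizer_iff.mp (hd.nD (mem_sup_left (hd.hBQ (inv_mem hz)))) _).mp (hd.comm e (hs.hEQ he) z hz)
    convert this using 1
    group
  have h3 : e * cm x y * e⁻¹ = cm x y := by
    calc e * cm x y * e⁻¹ = cm (x * (x⁻¹ * (e * x * e⁻¹))) (y * (y⁻¹ * (e * y * e⁻¹))) := by
          rw [← h1 hx, ← h1 hy]; unfold cm; group
      _ = cm x y := cm_central hd hx hy (h2 hx) (h2 hy)
  exact mul_inv_eq_iff_eq_mul.mp h3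

theorem fixD_comm (hd : Data p Q T a B D) : fixD D E ≤ centralizer (fixD D E : Set G) := fun x hx =>
  mem_centralizer_iff.mpr fun y hy => hd.central _ (hd.hDB hy.1) _ hx.1

theorem aC (hs : Setup p k Q T E a) {i : ℕ} {e : G} (he : e ∈ E) : e * a ^ i = a ^ i * e :=
  ((show Commute e a from hs.hEa e he).pow_right i).eq

theorem conj_fixD (hs : Setup p k Q T E a) (hd : Data p Q T a B D) {x : G} (hx : x ∈ fixD D E) :
    a * x * a⁻¹ ∈ fixD D E := by
  refine ⟨(mem_normalizer_iff.mp hd.aD x).mp hx.1, mem_centralizer_iff.mpr fun e he => ?_⟩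
  have h := mem_centralizer_iff.mp hx.2 e he
  have ha := hs.hEa e he
  calc e * (a * x * a⁻¹) = (e * a) * x * a⁻¹ := by group
    _ = a * (e * x) * a⁻¹ := by rw [ha]; group
    _ = a * x * (e * a⁻¹) := by rw [h]; group
    _ = a * x * (a⁻¹ * e) := by
      rw [((show Commute e a from ha).inv_right).eq]
    _ = _ := by group

/-- **The counting lemma.** -/
theorem exists_large (hs : Setup p k Q T E a) :
    ∃ F : Subgroup G, F ≤ Q ∧ F ≤ centralizer (F : Set G) ∧ p ^ k * Nat.card E < Nat.card F := by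
  obtain ⟨B, D, hd⟩ := exists_data hs
  have hp : p.Prime := Fact.out
  have := subgroupOf_normal hd
  let _ := commGroup hd
  obtain ⟨A, hA, hAn, hp0, hnt, u, hu⟩ := exists_free hd hs
  obtain ⟨ũ, hũ, hũu⟩ := cls_surj (D := D) u
  set n := p ^ k with hn
  have hn5 : 2 * k + 3 ≤ n := arith hs.five hs.kpos
  -- `W = C_D(E)`
  set W0 := fixD D E with hW0
  have : IsMulCommutative W0 := ⟨⟨fun x y => Subtype.ext (mem_centralizer_iff.mp (fixD_comm hd y.2) x x.2)⟩⟩
  let _ : CommGroup W0 := { (inferInstance : Group W0) with mul_comm := mul_comm' }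
  let WW := Additive W0
  obtain ⟨eW, heW⟩ := (hs.hQ.to_le ((inf_le_left (a := D) (b := centralizer (E : Set G))).trans
    (hd.hDB.trans hd.hBQ))).exists_card_eq
  have hcardW : Nat.card WW = p ^ eW := heW
  let α : AddMonoid.End WW := MonoidHom.toAdditive
    (MonoidHom.mk' (fun w : W0 => (⟨a * w * a⁻¹, conj_fixD hs hd w.2⟩ : W0)) fun x y => Subtype.ext (by
      show a * ((x : G) * y) * a⁻¹ = a * x * a⁻¹ * (a * y * a⁻¹)
      group))
  have hαi : ∀ (i : ℕ) (w : WW), ((Additive.toMul ((α ^ i) w) : W0) : G) = a ^ i * (Additive.toMul w : W0) * (a ^ i)⁻¹ := by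
    intro i
    induction i with
    | zero => intro w; simp
    | succ i ih =>
      intro w
      rw [pow_succ' α]
      show a * ((Additive.toMul ((α ^ i) w) : W0) : G) * a⁻¹ = _
      rw [ih, pow_succ']
      group
  have hαn : α ^ n = 1 := AddMonoidHom.ext fun w => by
    refine Additive.toMul.injective (Subtype.ext ?_)
    refine (hαi n w).trans ?_
    show a ^ n * _ * (a ^ n)⁻¹ = ((Additive.toMul w : W0) : G)
    rw [mem_centralizer_iff.mp (Additive.toMul w : W0).2.2 _ (show a ^ n ∈ E from hs.han)]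
    group
  have hnil := JFactorAlgebra.exists_pow_eq_zero hcardW α hαn
  classical
  set s := Nat.find hnil with hs_def
  have hs0 : (α - 1) ^ s = 0 := Nat.find_spec hnil
  -- `|E ∩ W| p ^ (s - 1) ≤ |W|`
  have hWbig : Nat.card ↥(E ⊓ W0) * p ^ (s - 1) ≤ Nat.card W0 := by
    rcases Nat.lt_or_ge s 2 with h | h
    · rw [show s - 1 = 0 by omega, pow_zero, mul_one]
      exact Subgroup.card_le_of_le inf_le_right
    let f : WW →+ WW := (α - 1 : AddMonoid.End WW)
    obtain ⟨w, hw⟩ : ∃ w, ((α - 1) ^ (s - 1)) w ≠ 0 := by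
      by_contra hc
      push Not at hc
      exact Nat.find_min hnil (show s - 1 < s by omega) (AddMonoidHom.ext hc)
    have h1 := JFactorAlgebra.chain hcardW (α - 1) hnil (s - 2) f.range (f w)
      (by rintro _ ⟨x, rfl⟩; exact ⟨f x, rfl⟩) ⟨w, rfl⟩ (by
        rw [show s - 1 = s - 2 + 1 by omega, pow_succ] at hw
        exact hw)
    rw [show s - 2 + 1 = s - 1 by omega] at h1
    have h2 : Nat.card ↥(E ⊓ W0) ≤ Nat.card f.ker := by
      refine Nat.card_le_card_of_injective (fun x => ⟨Additive.ofMul (⟨x.1, x.2.2⟩ : W0), ?_⟩) ?_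
      · show α _ - Additive.ofMul _ = (0 : WW)
        rw [sub_eq_zero]
        refine Additive.toMul.injective (Subtype.ext ?_)
        show a * (x : G) * a⁻¹ = x
        rw [← hs.hEa _ x.2.1, mul_inv_cancel_right]
      · intro x y h
        exact Subtype.ext (congrArg (fun z : f.ker => ((Additive.toMul z.1 : W0) : G)) h :)
    calc Nat.card ↥(E ⊓ W0) * p ^ (s - 1) ≤ Nat.card f.ker * Nat.card f.range := Nat.mul_le_mul h2 h1
      _ = Nat.card WW := by rw [← AddSubgroup.index_ker, AddSubgroup.card_mul_index]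
      _ = _ := rfl
  have hEab : E ≤ centralizer (E : Set G) := fun e he => mem_centralizer_iff.mpr fun f hf => hs.hEab f hf e he
  have hW0Q : W0 ≤ Q := inf_le_left.trans (hd.hDB.trans hd.hBQ)
  -- bound on `s`
  by_contra hcon
  push Not at hcon
  have hsk : s ≤ k + 1 := by
    by_contra hlt
    have h1 : Nat.card ↥(E ⊔ W0) * Nat.card ↥(E ⊓ W0) = Nat.card E * Nat.card W0 :=
      Fusion.Thompson.card_sup_mul_card_inf fun w hw => centralizer_le_normalizer _ hw.2
    have h2 := hcon (E ⊔ W0) (sup_le hs.hEQ hW0Q)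
      (isComm_sup hEab (fixD_comm hd) (le_centralizer_iff.mp inf_le_right))
    have hpos : 0 < Nat.card ↥(E ⊓ W0) := Nat.card_pos
    have h3 : Nat.card E * (Nat.card ↥(E ⊓ W0) * p ^ (s - 1)) ≤
        n * Nat.card E * Nat.card ↥(E ⊓ W0) :=
      ((Nat.mul_le_mul_left _ hWbig).trans h1.ge).trans (Nat.mul_le_mul_right _ h2)
    have h4 : p ^ (s - 1) ≤ p ^ k := by
      refine Nat.le_of_mul_le_mul_left (?_ : Nat.card E * Nat.card ↥(E ⊓ W0) * p ^ (s - 1) ≤ Nat.card E * Nat.card ↥(E ⊓ W0) * p ^ k) (Nat.mul_pos Nat.card_pos hpos)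
      calc Nat.card E * Nat.card ↥(E ⊓ W0) * p ^ (s - 1) = Nat.card E * (Nat.card ↥(E ⊓ W0) * p ^ (s - 1)) := by ring
        _ ≤ n * Nat.card E * Nat.card ↥(E ⊓ W0) := h3
        _ = _ := by rw [hn]; ring
    have := (Nat.pow_le_pow_iff_right hp.one_lt).mp h4
    omega
  -- the choice of `m`
  have hodd : Odd n := Odd.pow (hp.odd_of_ne_two (by have := hs.five; omega))
  obtain ⟨l, hl⟩ := hodd
  set m := if s ≤ 1 then l else (n + s) / 2 with hm
  have hm1 : s ≤ m ∧ m + 2 ≤ n ∧ k + 2 + m ≤ n + (s - 1) ∧ (n + s ≤ 2 * m + 1 ∨ s ≤ 1 ∧ 2 * m + 1 = n) := by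
    rw [hm]
    split_ifs with h
    · omega
    · omega
  obtain ⟨hm_s, hm_n, hm_k, hm_c⟩ := hm1
  -- iterated commutators with `a`
  let φ : G → G := fun x => a * x * a⁻¹ * x⁻¹
  have hφB : ∀ {x : G}, x ∈ B → φ x ∈ B := fun {x} hx => mul_mem ((mem_normalizer_iff.mp hd.aB x).mp hx) (inv_mem hx)
  have hAc : ∀ {x : G} (hx : x ∈ B), A (cls hx) = cls (D := D) ((mem_normalizer_iff.mp hd.aB x).mp hx) :=
    fun {x} hx => hA x hx
  have hφc : ∀ {x : G} (hx : x ∈ B), cls (D := D) (hφB hx) = (A - 1) (cls hx) := fun {x} hx => by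
    show _ = A (cls hx) - cls hx
    rw [eq_sub_iff_add_eq, hAc hx]
    exact (cls_mul (D := D) (hφB hx) hx).symm.trans (cls_congr _ _ (by simp [φ]))
  have hit : ∀ i : ℕ, ∃ h : φ^[i] ũ ∈ B, cls (D := D) h = ((A - 1) ^ i) u := by
    intro i
    induction i with
    | zero => exact ⟨hũ, hũu⟩
    | succ i ih =>
      obtain ⟨h, he⟩ := ih
      refine ⟨by rw [Function.iterate_succ_apply']; exact hφB h, ?_⟩
      rw [pow_succ']
      show _ = (A - 1) (((A - 1) ^ i) u)
      rw [← he, ← hφc h]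
      exact cls_congr _ _ (Function.iterate_succ_apply' φ i ũ)
  set y := φ^[m] ũ with hy
  obtain ⟨hyB, hyu⟩ := hit m
  -- the subgroups
  set Z := W0 ⊔ closure ((fun f => cm f ũ) '' (E : Set G)) with hZ
  have hZD : Z ≤ D := sup_le inf_le_left ((closure_le _).mpr (by
    rintro _ ⟨f, hf, rfl⟩; exact hd.comm f (hs.hEQ hf) ũ hũ))
  have hZB : Z ≤ B := hZD.trans hd.hDB
  set C := E ⊓ centralizer (Z : Set G) with hC
  have hgen : ∀ {f : G}, f ∈ E → cm f ũ ∈ Z := fun {f} hf => mem_sup_right (subset_closure ⟨f, hf, rfl⟩)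
  have hδC : ∀ e ∈ C, cm e ũ ∈ W0 := by
    intro e he
    refine ⟨hd.comm e (hs.hEQ he.1) ũ hũ, mem_centralizer_iff.mpr fun f hf => ?_⟩
    have h1 : e * cm f ũ * e⁻¹ = cm f ũ := by
      rw [(mem_centralizer_iff.mp he.2 _ (hgen hf)).symm, mul_inv_cancel_right]
    have h2 : (f * cm e ũ * f⁻¹) * cm f ũ = (e * cm f ũ * e⁻¹) * cm e ũ := by
      unfold cm
      calc f * (e * ũ * e⁻¹ * ũ⁻¹) * f⁻¹ * (f * ũ * f⁻¹ * ũ⁻¹) = (f * e) * ũ * (f * e)⁻¹ * ũ⁻¹ := by group
        _ = (e * f) * ũ * (e * f)⁻¹ * ũ⁻¹ := by rw [hs.hEab f hf e he.1]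
        _ = _ := by group
    have hcomm' : cm f ũ * cm e ũ = cm e ũ * cm f ũ :=
      hd.central _ (hd.hDB (hd.comm f (hs.hEQ hf) ũ hũ)) _ (hd.comm e (hs.hEQ he.1) ũ hũ)
    rw [h1, hcomm'] at h2
    exact mul_inv_eq_iff_eq_mul.mp (mul_right_cancel h2)
  -- `E` commutes with `y`
  have hCy : ∀ e ∈ C, e * y = y * e := by
    intro e he
    have key : ∀ i : ℕ, cm e (φ^[i] ũ) =
        ((Additive.toMul (((α - 1) ^ i) (Additive.ofMul (⟨_, hδC e he⟩ : W0))) : W0) : G) := by
      intro i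
      induction i with
      | zero => rfl
      | succ i ih =>
        obtain ⟨h, -⟩ := hit i
        rw [Function.iterate_succ_apply']
        set x := φ^[i] ũ
        have h1 : cm e (φ x) = cm e (a * x * a⁻¹) * cm e x⁻¹ :=
          cm_mul_right hd (hs.hEQ he.1) ((mem_normalizer_iff.mp hd.aB x).mp h) (inv_mem h)
        have h2 : cm e (a * x * a⁻¹) = a * cm e x * a⁻¹ := by
          have ha := hs.hEa e he.1
          have ha' := ((show Commute e a from ha).inv_right).eq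
          have ha'' := ((show Commute e a from ha).inv_left).eq
          unfold cm
          calc e * (a * x * a⁻¹) * e⁻¹ * (a * x * a⁻¹)⁻¹ = (e * a) * x * (e * a)⁻¹ * (a * x⁻¹ * a⁻¹) := by group
            _ = (a * e) * x * (a * e)⁻¹ * (a * x⁻¹ * a⁻¹) := by rw [ha]
            _ = _ := by group
        have h3 : cm e x⁻¹ = (cm e x)⁻¹ := eq_inv_of_mul_eq_one_right (by
          rw [← cm_mul_right hd (hs.hEQ he.1) h (inv_mem h), mul_inv_cancel]; simp [cm])
        rw [h1, h2, h3, ih, pow_succ' (α - 1)]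
        set X := ((α - 1) ^ i) (Additive.ofMul (⟨_, hδC e he⟩ : W0))
        show a * ((Additive.toMul X : W0) : G) * a⁻¹ * ((Additive.toMul X : W0) : G)⁻¹ =
          ((Additive.toMul (α X - X) : W0) : G)
        rw [toMul_sub, Subgroup.coe_div, div_eq_mul_inv]
        rfl
    have h1 := key m
    rw [show (α - 1) ^ m = 0 from by rw [show m = m - s + s by omega, pow_add, hs0, mul_zero]] at h1
    have h2 : cm e y = 1 := h1
    exact mul_inv_eq_iff_eq_mul.mp (mul_inv_eq_one.mp h2)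
  -- `Y`
  let yi : ℕ → G := fun i => a ^ i * y * (a ^ i)⁻¹
  have hyiB : ∀ i, ∃ h : yi i ∈ B, cls (D := D) h = ((A - 1) ^ m) ((A ^ i) u) := by
    intro i
    induction i with
    | zero => exact ⟨by simpa [yi] using hyB, (cls_congr _ _ (by simp [yi, hy])).trans hyu⟩
    | succ i ih =>
      obtain ⟨h, he⟩ := ih
      have e1 : yi (i + 1) = a * yi i * a⁻¹ := by simp [yi, pow_succ', mul_assoc]
      refine ⟨by rw [e1]; exact (mem_normalizer_iff.mp hd.aB _).mp h, ?_⟩
      rw [cls_congr _ ((mem_normalizer_iff.mp hd.aB _).mp h) e1, ← hAc h, he]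
      show (A * (A - 1) ^ m) ((A ^ i) u) = _
      rw [((Commute.refl A).sub_right (Commute.one_right A)).pow_right m |>.eq, pow_succ']
      rfl
  set Y := closure (Set.range yi) with hY
  have hYB : Y ≤ B := (closure_le _).mpr (by rintro _ ⟨i, rfl⟩; exact (hyiB i).1)
  -- the bilinear map
  choose rep hrep hrep' using fun v : Sec B D => cls_surj (D := D) v
  let ωf : Sec B D → Sec B D → WW := fun v w => Additive.ofMul ⟨cm (rep v) (rep w), cm_mem_fix hs hd (hrep v) (hrep w)⟩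
  have hωf : ∀ {x z : G} (hx : x ∈ B) (hz : z ∈ B), ωf (cls hx) (cls hz) = Additive.ofMul ⟨cm x z, cm_mem_fix hs hd hx hz⟩ := by
    intro x z hx hz
    refine congrArg Additive.ofMul (Subtype.ext ?_)
    have h1 := (cls_eq_iff (D := D) hx (hrep (cls hx))).mp (hrep' _).symm
    have h2 := (cls_eq_iff (D := D) hz (hrep (cls hz))).mp (hrep' _).symm
    have := cm_central hd hx hz h1 h2
    simpa using this
  have hωadd : ∀ v w z, ωf v (w + z) = ωf v w + ωf v z := by
    intro v w z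
    obtain ⟨x, hx, rfl⟩ := cls_surj v
    obtain ⟨y₁, hy₁, rfl⟩ := cls_surj w
    obtain ⟨z₁, hz₁, rfl⟩ := cls_surj z
    rw [← cls_mul, hωf, hωf, hωf]
    exact congrArg Additive.ofMul (Subtype.ext (cm_mul_right hd (hd.hBQ hx) hy₁ hz₁))
  have hωanti : ∀ v w, ωf w v = - ωf v w := fun v w => by
    refine congrArg Additive.ofMul (Subtype.ext ?_ : _ = (⟨_, cm_mem_fix hs hd (hrep v) (hrep w)⟩ : W0)⁻¹)
    show cm _ _ = (cm _ _)⁻¹
    unfold cm
    group
  let ω : Sec B D →+ Sec B D →+ WW :=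
    AddMonoidHom.mk' (fun v => AddMonoidHom.mk' (ωf v) (hωadd v)) fun v₁ v₂ => AddMonoidHom.ext fun w => by
      show ωf (v₁ + v₂) w = ωf v₁ w + ωf v₂ w
      rw [hωanti w, hωadd, neg_add, ← hωanti, ← hωanti]
  have hωA : ∀ v w, ω (A v) (A w) = α (ω v w) := by
    intro v w
    obtain ⟨x, hx, rfl⟩ := cls_surj v
    obtain ⟨z, hz, rfl⟩ := cls_surj w
    rw [hAc, hAc]
    show ωf _ _ = α (ωf _ _)
    rw [hωf, hωf]
    refine congrArg Additive.ofMul (Subtype.ext ?_)
    show cm _ _ = a * cm x z * a⁻¹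
    unfold cm
    group
  have hθn : (A - 1) ^ n = 0 := by
    have : Nontrivial (AddMonoid.End (Sec B D)) := ⟨(A - 1) ^ (n - 1), 0, fun h => hu (by rw [h]; rfl)⟩
    have : CharP (AddMonoid.End (Sec B D)) p := (CharP.charP_iff_prime_eq_zero hp).mpr hp0
    rw [hn, sub_pow_char_pow_of_commute _ _ (Commute.one_right A), one_pow, ← hn, hAn, sub_self]
  have hω0 : ∀ i j, ω (((A - 1) ^ m) ((A ^ i) u)) (((A - 1) ^ m) ((A ^ j) u)) = 0 := by
    intro i j
    rcases hm_c with hc | ⟨hs1, hmn⟩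
    · exact JFactorAlgebra.twisted A (by omega) hAn hθn α s ω hωA (fun v w => by rw [hs0]; rfl) m m _ _ (by omega)
    · have hα1 : ∀ w : WW, α w = w := fun w => by
        have : (α - 1) = 0 := by
          rcases Nat.eq_zero_or_pos s with h0 | h0
          · rw [h0, pow_zero] at hs0
            rw [← mul_one (α - 1), hs0, mul_zero]
          · rw [show s = 1 by omega, pow_one] at hs0
            exact hs0
        exact (DFunLike.congr_fun (sub_eq_zero.mp this) w)
      have hW2 : ∀ w : WW, w + w = 0 → w = 0 := fun w h => by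
        have h1 : addOrderOf w ∣ 2 := addOrderOf_dvd_of_nsmul_eq_zero (by rw [two_nsmul]; exact h)
        have h2 : addOrderOf w ∣ p ^ eW := hcardW ▸ addOrderOf_dvd_natCard w
        exact AddMonoid.addOrderOf_eq_one_iff.mp (Nat.eq_one_of_dvd_coprimes
          (Nat.Coprime.pow_left _ ((Nat.coprime_primes hp Nat.prime_two).mpr (by have := hs.five; omega))) h2 h1)
      have hA' : A ^ (j + (n - 1) * i) * A ^ i = A ^ j := by
        rw [← pow_add, add_assoc, show (n - 1) * i + i = n * i by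
          rw [← Nat.succ_mul, Nat.succ_eq_add_one, Nat.sub_add_cancel (by omega)], pow_add, pow_mul, hAn, one_pow, mul_one]
      rw [show (A ^ j) u = (A ^ (j + (n - 1) * i)) ((A ^ i) u) from (DFunLike.congr_fun hA' u).symm]
      refine JFactorAlgebra.invariant A hp0 hAn hmn hW2 ω (fun v => ?_) (fun v w => by rw [hωA, hα1]) _ _
      exact congrArg Additive.ofMul (Subtype.ext (show cm (rep v) (rep v) = 1 by simp [cm]))
  have hYab : Y ≤ centralizer (Y : Set G) := by
    refine closure_le_centralizer fun x hx z hz => ?_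
    obtain ⟨i, rfl⟩ := hx
    have : Y ≤ centralizer ({yi i} : Set G) := (closure_le _).mpr (by
      rintro _ ⟨j, rfl⟩
      rw [SetLike.mem_coe, mem_centralizer_singleton_iff]
      obtain ⟨hi, hi'⟩ := hyiB i
      obtain ⟨hj, hj'⟩ := hyiB j
      have h1 := hω0 j i
      rw [← hi', ← hj'] at h1
      have h2 : cm (yi j) (yi i) = 1 := congrArg (fun w : WW => ((Additive.toMul w : W0) : G)) ((hωf hj hi).symm.trans h1)
      exact mul_inv_eq_iff_eq_mul.mp (mul_inv_eq_one.mp h2))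
    exact mem_centralizer_singleton_iff.mp (this hz)
  -- `F`
  set F₀ := C ⊔ Z with hF₀
  have hF₀ab : F₀ ≤ centralizer (F₀ : Set G) :=
    isComm_sup (fun e he => mem_centralizer_iff.mpr fun f hf => hs.hEab f hf.1 e he.1)
      (fun z hz => mem_centralizer_iff.mpr fun w hw => hd.central _ (hZB hw) _ (hZD hz)) inf_le_right
  have hYF₀ : Y ≤ centralizer (F₀ : Set G) := by
    refine le_centralizer_iff.mp (sup_le ?_ ?_)
    · intro e he
      have : Y ≤ centralizer ({e} : Set G) := (closure_le _).mpr (by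
        rintro _ ⟨i, rfl⟩
        rw [SetLike.mem_coe, mem_centralizer_singleton_iff]
        have h1 : Commute e (a ^ i) := aC hs he.1
        exact ((h1.mul_right (hCy e he)).mul_right h1.inv_right).eq.symm)
      exact mem_centralizer_iff.mpr fun z hz => mem_centralizer_singleton_iff.mp (this hz)
    · exact fun z hz => mem_centralizer_iff.mpr fun w hw => hd.central _ (hYB hw) _ (hZD hz)
  set F := F₀ ⊔ Y with hF
  have hFQ : F ≤ Q := sup_le (sup_le (inf_le_left.trans hs.hEQ) (hZB.trans hd.hBQ)) (hYB.trans hd.hBQ)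
  have hFbound := hcon F hFQ (isComm_sup hF₀ab hYab (le_centralizer_iff.mp hYF₀))
  -- `|F₀|`
  have hEC : Nat.card E * Nat.card W0 ≤ Nat.card C * Nat.card Z := by
    have h1 : (C.subgroupOf E).index ≤ (W0.subgroupOf Z).index := by
      refine Nat.card_le_card_of_injective
        (fun q : E ⧸ C.subgroupOf E => (QuotientGroup.mk (⟨cm q.out.1 ũ, hgen q.out.2⟩ : Z) : Z ⧸ W0.subgroupOf Z))
        fun q r h => ?_
      have hmem : (cm q.out.1 ũ)⁻¹ * cm r.out.1 ũ ∈ W0 := mem_subgroupOf.mp (QuotientGroup.eq.mp h)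
      rw [← QuotientGroup.out_eq' q, ← QuotientGroup.out_eq' r, QuotientGroup.eq, mem_subgroupOf]
      set e := q.out.1 with he
      set f := r.out.1 with hf
      have heE : e ∈ E := q.out.2
      have hfE : f ∈ E := r.out.2
      show e⁻¹ * f ∈ C
      set g := e⁻¹ * f with hg
      have hgE : g ∈ E := mul_mem (inv_mem heE) hfE
      have hgD : cm g ũ ∈ D := hd.comm g (hs.hEQ hgE) ũ hũ
      have hsplit : cm f ũ = (e * cm g ũ * e⁻¹) * cm e ũ := by rw [hg]; unfold cm; group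
      have h2 : e * cm g ũ * e⁻¹ ∈ W0 := by
        have h3 : (cm e ũ)⁻¹ * cm f ũ = e * cm g ũ * e⁻¹ := by
          have hcomm' : cm e ũ * (e * cm g ũ * e⁻¹) = e * cm g ũ * e⁻¹ * cm e ũ :=
            hd.central _ (hd.hDB (hd.comm e (hs.hEQ heE) ũ hũ)) _
              ((mem_normalizer_iff.mp (hd.nD (mem_sup_left (hs.hEQ heE))) _).mp hgD)
          rw [hsplit, ← hcomm', inv_mul_cancel_left]
        rwa [h3] at hmem
      have hgW : cm g ũ ∈ W0 := by
        have h4 : e⁻¹ * (e * cm g ũ * e⁻¹) * e = e * cm g ũ * e⁻¹ := by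
          rw [mul_assoc, ← mem_centralizer_iff.mp h2.2 e heE, inv_mul_cancel_left]
        rw [show cm g ũ = e⁻¹ * (e * cm g ũ * e⁻¹) * e by group, h4]
        exact h2
      refine ⟨hgE, mem_centralizer_iff.mpr fun z hz => ?_⟩
      have hle : Z ≤ centralizer ({g} : Set G) := by
        refine sup_le (fun w hw => mem_centralizer_singleton_iff.mpr ?_) ((closure_le _).mpr ?_)
        · exact (mem_centralizer_iff.mp hw.2 g hgE).symm
        rintro _ ⟨c, hc, rfl⟩
        rw [SetLike.mem_coe, mem_centralizer_singleton_iff]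
        have h5 : (g * cm c ũ * g⁻¹) * cm g ũ = (c * cm g ũ * c⁻¹) * cm c ũ := by
          unfold cm
          calc g * (c * ũ * c⁻¹ * ũ⁻¹) * g⁻¹ * (g * ũ * g⁻¹ * ũ⁻¹) = (g * c) * ũ * (g * c)⁻¹ * ũ⁻¹ := by group
            _ = (c * g) * ũ * (c * g)⁻¹ * ũ⁻¹ := by rw [hs.hEab g hgE c hc]
            _ = _ := by group
        have hcomm' : cm g ũ * cm c ũ = cm c ũ * cm g ũ :=
          hd.central _ (hd.hDB hgD) _ (hd.comm c (hs.hEQ hc) ũ hũ)
        rw [show c * cm g ũ * c⁻¹ = cm g ũ by rw [mem_centralizer_iff.mp hgW.2 c hc, mul_inv_cancel_right],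
          hcomm'] at h5
        exact (mul_inv_eq_iff_eq_mul.mp (mul_right_cancel h5)).symm
      exact mem_centralizer_singleton_iff.mp (hle hz)
    rw [← Nat.card_congr (subgroupOfEquivOfLe (show C ≤ E from inf_le_left)).toEquiv,
      ← card_mul_index (C.subgroupOf E), ← card_mul_index (W0.subgroupOf Z),
      Nat.card_congr (subgroupOfEquivOfLe (show W0 ≤ Z from le_sup_left)).toEquiv, mul_assoc,
      mul_comm _ (Nat.card W0)]
    exact Nat.mul_le_mul_left _ (Nat.mul_le_mul_left _ h1)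
  have hCZ : C ⊓ Z ≤ E ⊓ W0 := fun x hx =>
    ⟨hx.1.1, hZD hx.2, mem_centralizer_iff.mpr fun e he => hs.hEab e he x hx.1.1⟩
  have hF₀card : Nat.card F₀ * Nat.card ↥(C ⊓ Z) = Nat.card C * Nat.card Z :=
    Fusion.Thompson.card_sup_mul_card_inf fun z hz =>
      centralizer_le_normalizer _ (le_centralizer_iff.mp inf_le_right hz)
  -- `|F : F₀|`
  have hFcard : Nat.card F * Nat.card ↥(F₀ ⊓ Y) = Nat.card F₀ * Nat.card Y :=
    Fusion.Thompson.card_sup_mul_card_inf fun z hz => centralizer_le_normalizer _ (hYF₀ hz)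
  have hYbig : Nat.card ↥(F₀ ⊓ Y) * p ^ (n - 1 - m) ≤ Nat.card Y := by
    let g₀ : Additive Y →+ Sec B D := MonoidHom.toAdditive ((QuotientGroup.mk' (D.subgroupOf B)).comp (inclusion hYB))
    let g : Additive Y →+ Sec B D := AddMonoidHom.comp (A - 1 : AddMonoid.End (Sec B D)) g₀
    obtain ⟨eV, hVc⟩ : ∃ e, Nat.card (Sec B D) = p ^ e :=
      ((hs.hQ.to_le hd.hBQ).to_quotient (D.subgroupOf B)).exists_card_eq
    have hYa : ∀ {x : G}, x ∈ Y → a * x * a⁻¹ ∈ Y := by
      intro x hx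
      have : Y.map (MulAut.conj a).toMonoidHom ≤ Y := by
        rw [hY, MonoidHom.map_closure]
        refine closure_mono ?_
        rintro _ ⟨_, ⟨i, rfl⟩, rfl⟩
        exact ⟨i + 1, by simp [yi, pow_succ', mul_assoc]⟩
      exact this ⟨x, hx, rfl⟩
    have hinv : ∀ v ∈ g.range, (A - 1) v ∈ g.range := by
      rintro _ ⟨x, rfl⟩
      let x' : Additive Y := Additive.ofMul ⟨_, hYa (Additive.toMul x : Y).2⟩
      refine ⟨x' - x, ?_⟩
      rw [map_sub]
      show (A - 1) (g₀ x') - (A - 1) (g₀ x) = (A - 1) ((A - 1) (g₀ x))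
      rw [← map_sub]
      congr 1
      show g₀ x' - g₀ x = A (g₀ x) - g₀ x
      congr 1
      exact (hAc (hYB (Additive.toMul x : Y).2)).symm
    have hy0 : yi 0 ∈ Y := subset_closure ⟨0, rfl⟩
    have hv : ((A - 1) ^ (m + 1)) u ∈ g.range := by
      refine ⟨Additive.ofMul ⟨_, hy0⟩, ?_⟩
      show (A - 1) (cls (D := D) (hYB hy0)) = _
      rw [cls_congr (hYB hy0) hyB (by simp [yi, hy]), hyu, pow_succ']
      rfl
    have h1 := JFactorAlgebra.chain hVc (A - 1) ⟨n, hθn⟩ (n - 2 - m) g.range _ hinv hv (by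
      show ((A - 1) ^ (n - 2 - m) * (A - 1) ^ (m + 1)) u ≠ 0
      rw [← pow_add, show n - 2 - m + (m + 1) = n - 1 by omega]
      exact hu)
    rw [show n - 2 - m + 1 = n - 1 - m by omega] at h1
    have h2 : Nat.card ↥(F₀ ⊓ Y) ≤ Nat.card g.ker := by
      refine Nat.card_le_card_of_injective (fun x => ⟨Additive.ofMul (⟨x.1, x.2.2⟩ : Y), ?_⟩) ?_
      · obtain ⟨x, hx, hxY⟩ := x
        obtain ⟨c, hc, z, hz, rfl⟩ := (Coprime.mem_sup_of_le_normalizer (N := C) (H := Z) fun z hz =>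
          centralizer_le_normalizer _ (le_centralizer_iff.mp inf_le_right hz)).mp hx
        have hxB : c * z ∈ B := hYB hxY
        have hcB : c ∈ B := by simpa using mul_mem hxB (inv_mem (hZB hz))
        show (A - 1) (cls (D := D) hxB) = 0
        rw [show cls (D := D) hxB = cls hcB from (cls_eq_iff hxB hcB).mpr (by simpa using inv_mem (hZD hz))]
        show A (cls hcB) - cls hcB = 0
        rw [hAc, sub_eq_zero]
        exact cls_congr _ _ (by rw [← hs.hEa c hc.1, mul_inv_cancel_right])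
      · intro x z h
        exact Subtype.ext (congrArg (fun w : g.ker => ((Additive.toMul w.1 : Y) : G)) h :)
    calc Nat.card ↥(F₀ ⊓ Y) * p ^ (n - 1 - m) ≤ Nat.card g.ker * Nat.card g.range := Nat.mul_le_mul h2 h1
      _ = Nat.card (Additive Y) := by rw [← AddSubgroup.index_ker, AddSubgroup.card_mul_index]
      _ = _ := rfl
  -- the contradiction
  have key : Nat.card E * p ^ (s - 1) ≤ Nat.card F₀ := by
    refine Nat.le_of_mul_le_mul_right ?_ (Nat.card_pos (α := ↥(C ⊓ Z)))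
    rw [hF₀card]
    calc Nat.card E * p ^ (s - 1) * Nat.card ↥(C ⊓ Z) ≤ Nat.card E * p ^ (s - 1) * Nat.card ↥(E ⊓ W0) :=
          Nat.mul_le_mul_left _ (Subgroup.card_le_of_le hCZ)
      _ = Nat.card E * (Nat.card ↥(E ⊓ W0) * p ^ (s - 1)) := by ring
      _ ≤ Nat.card E * Nat.card W0 := Nat.mul_le_mul_left _ hWbig
      _ ≤ _ := hEC
  have key2 : Nat.card F₀ * p ^ (n - 1 - m) ≤ Nat.card F := by
    refine Nat.le_of_mul_le_mul_right ?_ (Nat.card_pos (α := ↥(F₀ ⊓ Y)))
    rw [hFcard, mul_assoc, mul_comm (p ^ _)]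
    exact Nat.mul_le_mul_left _ hYbig
  have key3 : Nat.card E * p ^ (k + 1) ≤ Nat.card E * p ^ k := by
    calc Nat.card E * p ^ (k + 1) ≤ Nat.card E * (p ^ (s - 1) * p ^ (n - 1 - m)) := by
          rw [← pow_add]
          exact Nat.mul_le_mul_left _ (Nat.pow_le_pow_right hp.pos (by omega))
      _ = Nat.card E * p ^ (s - 1) * p ^ (n - 1 - m) := by ring
      _ ≤ Nat.card F₀ * p ^ (n - 1 - m) := Nat.mul_le_mul_right _ key
      _ ≤ Nat.card F := key2
      _ ≤ p ^ k * Nat.card E := hFbound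
      _ = _ := mul_comm _ _
  have := (Nat.pow_le_pow_iff_right hp.one_lt).mp (Nat.le_of_mul_le_mul_left key3 Nat.card_pos)
  omega

end CfsgLib.LocalEvenB.JFactorCore
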