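import Cfsg.Agent.Lib.LocalEvenB.JFactorOffender
import Cfsg.Agent.Lib.FusionSystem.ThompsonAbelian
import Cfsg.Agent.Lib.Coprime.Sylow
import Cfsg.Agent.Lib.Solvable.Cores

/-!
For `p ≥ 5` a group has a normal `p`-complement as soon as `N(J(S)) / C(J(S))` is a `p`-group.
-/

set_option autoImplicit false
set_option linter.unusedSectionVars false

open scoped Pointwise commutatorElement

namespace CfsgLib.LocalEvenB.JFactorMain

open Subgroup CfsgLib.LocalEven.PushingUpClosure CfsgLib.Fsys CfsgLib.Solvable.Basic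

universe u

variable {G : Type u} [Group G] {p : ℕ}

/-- The elements of order prime to `p` in `N(J(S))` centralise `J(S)`. -/
def Hyp (p : ℕ) (S : Subgroup G) : Prop :=
  ∀ g ∈ normalizer (Cfsg.thompsonSubgroupAOf S : Set G), (orderOf g).Coprime p →
    g ∈ centralizer (Cfsg.thompsonSubgroupAOf S : Set G)

theorem Hyp.of_map [Finite G] {L : Type u} [Group L] (f : L →* G) (hf : Function.Injective f) {S : Subgroup L}
    (h : Hyp p (S.map f)) : Hyp p S := by
  have : Finite L := Finite.of_injective f hf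
  intro g hg hgc
  have e := ThompsonA.thompsonA_map f S (hf.comp S.subtype_injective)
  have h1 := h (f g) (by rw [e]; exact le_normalizer_map f ⟨g, hg, rfl⟩) (by rwa [orderOf_injective f hf])
  rw [mem_centralizer_iff] at h1 ⊢
  intro j hj
  exact hf (by rw [map_mul, map_mul]; exact h1 _ (by rw [e]; exact ⟨j, hj, rfl⟩))

theorem Hyp.smul [Finite G] {S : Subgroup G} (h : Hyp p S) (g : G) : Hyp p (MulAut.conj g • S) := by
  refine Hyp.of_map (MulAut.conj g⁻¹).toMonoidHom (MulAut.conj g⁻¹).injective ?_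
  rwa [← conj_smul_eq_map, conj_smul_conj_smul, inv_mul_cancel, map_one, one_smul]

/-- In a group with a normal `p`-complement, elements of order prime to `p` centralise normal `p`-subgroups. -/
theorem commute_of_npc [Finite G] [Fact p.Prime] {M R : Subgroup G} (hM : Cfsg.HasNormalPComplement p M)
    (hR : IsPGroup p R) (hRM : R ≤ M) (hn : M ≤ normalizer (R : Set G)) {g : G} (hg : g ∈ M)
    (hgc : (orderOf g).Coprime p) : g ∈ centralizer (R : Set G) := by
  have : (R.subgroupOf M).Normal := normal_subgroupOf_of_le_normalizer hn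
  have hd : Disjoint (R.subgroupOf M) (Cfsg.pResidual p M) :=
    disjoint_iff.mpr (Fusion.Basic.inf_eq_bot_of_coprime (hR.comap_subtype (K := M))
      (Fusion.Basic.npc_iff_coprime.mp hM))
  rw [mem_centralizer_iff]
  intro r hr
  exact congrArg Subtype.val (Subgroup.commute_of_normal_of_disjoint _ _ inferInstance inferInstance hd
    (⟨r, hRM hr⟩ : M) ⟨g, hg⟩ hr (Fusion.Basic.mem_pResidual_of_coprime (by rwa [Subgroup.orderOf_mk]))).eq

theorem hyp_of_npc [Finite G] [Fact p.Prime] {S : Subgroup G} (hS : IsPGroup p S)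
    (h : Cfsg.HasNormalPComplement p (normalizer (Cfsg.thompsonSubgroupAOf S : Set G))) : Hyp p S := fun _ hg hgc =>
  commute_of_npc h (hS.to_le (ThompsonA.thompsonA_le S)) le_normalizer le_rfl hg hgc

/-- A power of order prime to `p` generating the same element of order prime to `p` in an image. -/
theorem exists_coprime_lift [Finite G] [Fact p.Prime] {H : Type*} [Group H] (f : G →* H) (g : G)
    (hg : (orderOf (f g)).Coprime p) : ∃ h ∈ zpowers g, (orderOf h).Coprime p ∧ f g ∈ zpowers (f h) := by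
  obtain ⟨k, hk⟩ := Fusion.Basic.exists_pow_coprime (p := p) g
  refine ⟨g ^ p ^ k, pow_mem (mem_zpowers g) _, hk, ?_⟩
  obtain ⟨m, hm⟩ := exists_pow_eq_self_of_coprime (x := f g) (hg.pow_right k).symm
  rw [map_pow]
  exact ⟨m, (zpow_natCast _ m).trans hm⟩

theorem hyp_quotient [Finite G] [Fact p.Prime] {N : Subgroup G} [N.Normal] (hN : (Nat.card N).Coprime p)
    {S : Subgroup G} (hS : IsPGroup p S) (h : Hyp p S) : Hyp p (S.map (QuotientGroup.mk' N)) := by
  intro g hg hgc
  have hJ := hS.to_le (ThompsonA.thompsonA_le S)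
  rw [ThompsonA.thompsonA_quotient hN hS, Fusion.Quotient.normalizer_map hN hJ] at hg
  obtain ⟨g, hg, rfl⟩ := hg
  obtain ⟨h', hh', hc, hgen⟩ := exists_coprime_lift _ g hgc
  have h1 := h h' (zpowers_le.mpr hg hh') hc
  refine (zpowers_le.mpr ?_) hgen
  rw [ThompsonA.thompsonA_quotient hN hS, mem_centralizer_iff]
  rintro _ ⟨j, hj, rfl⟩
  rw [← map_mul, ← map_mul, mem_centralizer_iff.mp h1 j hj]

/-- A `p'`-normal-complement argument: proper overgroups of the Sylow image have proper preimages. -/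
theorem npc_image [Finite G] [Fact p.Prime] {Q : Subgroup G} [Q.Normal] (P : Sylow p G)
    (hproper : ∀ L : Subgroup G, L ≠ ⊤ → (P : Subgroup G) ≤ L → Cfsg.HasNormalPComplement p L)
    {M : Subgroup (G ⧸ Q)} (hM : M ≠ ⊤) (hPM : (P : Subgroup G).map (QuotientGroup.mk' Q) ≤ M) :
    Cfsg.HasNormalPComplement p M := by
  have h1 := hproper (M.comap (QuotientGroup.mk' Q)) (fun e => hM (by
    rw [← map_comap_eq_self_of_surjective (QuotientGroup.mk'_surjective Q) M, e,
      ← MonoidHom.range_eq_map, MonoidHom.range_eq_top.mpr (QuotientGroup.mk'_surjective Q)]))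
    (map_le_iff_le_comap.mp hPM)
  exact Fusion.Basic.npc_of_surjective ((QuotientGroup.mk' Q).subgroupComap M)
    ((QuotientGroup.mk' Q).subgroupComap_surjective_of_surjective M (QuotientGroup.mk'_surjective Q)) h1

/-- The quotient by `O_p` has a normal `p`-complement. -/
theorem npc_quotient [Finite G] [Fact p.Prime] (hp : p ≠ 2) (P : Sylow p G) {Q : Subgroup G} [Q.Normal]
    (hQ : IsPGroup p Q) (hmax : ∀ X : Subgroup G, X.Normal → IsPGroup p X → X ≤ Q)
    (hproper : ∀ L : Subgroup G, L ≠ ⊤ → (P : Subgroup G) ≤ L → Cfsg.HasNormalPComplement p L) :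
    Cfsg.HasNormalPComplement p (G ⧸ Q) := by
  set π := QuotientGroup.mk' Q
  set Pb := P.mapSurjective (QuotientGroup.mk'_surjective Q) with hPb
  have hnormal : ∀ X : Subgroup (G ⧸ Q), X.Normal → IsPGroup p X → X = ⊥ := by
    intro X hX hXp
    have hle := hmax (X.comap π) (hX.comap π) (hXp.comap_of_ker_isPGroup π (by rw [QuotientGroup.ker_mk']; exact hQ))
    rw [← map_comap_eq_self_of_surjective (QuotientGroup.mk'_surjective Q) X, Subgroup.map_eq_bot_iff,
      QuotientGroup.ker_mk']
    exact hle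
  rcases eq_or_ne (Pb : Subgroup (G ⧸ Q)) ⊥ with he | hne
  · exact Fusion.Basic.npc_of_not_dvd fun hd => by
      have := Pb.ne_bot_of_dvd_card hd
      exact this he
  refine ThompsonA.npc_of_thompsonA (Or.inl hp) Pb (npc_image P hproper (fun e => ?_) ?_)
    (npc_image P hproper (fun e => ?_) ?_)
  · exact ThompsonA.thompsonA_ne_bot Pb.isPGroup' hne (hnormal _ (normalizer_eq_top_iff.mp e)
      (Pb.isPGroup'.to_le (ThompsonA.thompsonA_le _)))
  · exact le_normalizer.trans (ThompsonA.normalizer_le_thompsonA _)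
  · refine Solvable.ThompsonComplement.centerOf_ne_bot Pb.isPGroup' hne (hnormal _ ?_ (Pb.isPGroup'.to_le inf_le_left))
    rw [centralizer_eq_top_iff_subset] at e
    exact ⟨fun x hx g => by rw [Subgroup.mem_center_iff.mp (e hx) g, mul_inv_cancel_right]; exact hx⟩
  · exact fun x hx => mem_centralizer_iff.mpr fun z hz => (mem_centralizer_iff.mp hz.2 x hx).symm

/-- **The theorem.** -/
theorem npc [Fact p.Prime] (hp : 5 ≤ p) : ∀ (n : ℕ) (G : Type u) [Group G] [Finite G],
    Nat.card G = n → ∀ P : Sylow p G, Hyp p (P : Subgroup G) → Cfsg.HasNormalPComplement p G := by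
  intro n
  induction n using Nat.strong_induction_on with | _ n ih => ?_
  intro G _ _ hn P hyp
  subst hn
  have hpp : p.Prime := Fact.out
  by_contra hG
  have hypP : ∀ P' : Sylow p G, Hyp p (P' : Subgroup G) := fun P' => by
    obtain ⟨g, hg⟩ := MulAction.exists_smul_eq G P P'
    rw [← hg, Sylow.coe_subgroup_smul]
    exact hyp.smul g
  have hproper : ∀ L : Subgroup G, L ≠ ⊤ → ∀ P' : Sylow p G, (P' : Subgroup G) ≤ L →
      Cfsg.HasNormalPComplement p L := fun L hL P' hle => by
    refine ih _ (card_subgroup_lt L hL) L rfl (P'.subtype hle) (Hyp.of_map L.subtype L.subtype_injective ?_)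
    rw [Sylow.coe_subtype, Subgroup.map_subgroupOf_eq_of_le hle]
    exact hypP P'
  obtain ⟨U₀, hU₀⟩ : ∃ U : Subgroup G, IsPGroup p U ∧ U ≠ ⊥ ∧
      ¬ Cfsg.HasNormalPComplement p (normalizer (U : Set G)) := by
    by_contra hall
    push Not at hall
    exact hG (Fusion.Alperin.npc_iff_locals.mpr hall)
  obtain ⟨U, ⟨hUp, hU, hUn⟩, hmax⟩ := Set.exists_max_image
    {U : Subgroup G | IsPGroup p U ∧ U ≠ ⊥ ∧ ¬ Cfsg.HasNormalPComplement p (normalizer (U : Set G))}
    (fun U => (Nat.card (normalizer (U : Set G))).factorization p) (Set.toFinite _) ⟨U₀, hU₀⟩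
  set N := normalizer (U : Set G) with hN
  obtain ⟨S⟩ : Nonempty (Sylow p N) := inferInstance
  set S₀ := (S : Subgroup N).map N.subtype with hS₀
  have hS₀p : IsPGroup p S₀ := S.isPGroup'.map _
  obtain ⟨P', hP'⟩ := hS₀p.exists_le_sylow
  have hUS : U ≤ S₀ := by
    have : (Subgroup.comap N.subtype U).Normal := Subgroup.normal_in_normalizer
    have h := (hUp.comap_subtype (K := N)).le_sylow_of_normal S
    have h2 : (U.subgroupOf N).map N.subtype ≤ (S : Subgroup N).map N.subtype := map_mono h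
    rwa [Subgroup.map_subgroupOf_eq_of_le le_normalizer] at h2
  have hS₀bot : S₀ ≠ ⊥ := fun e => hU (le_bot_iff.mp (e ▸ hUS))
  have hSeq : S₀ = P' := by
    by_contra hne
    have hlt := CfsgLib.Coprime.lt_normalizer_inf_of_lt P'.isPGroup' (lt_of_le_of_ne hP' hne)
    set T := (P' : Subgroup G) ⊓ normalizer (S₀ : Set G)
    have key : Cfsg.HasNormalPComplement p (normalizer (Cfsg.thompsonSubgroupAOf S₀ : Set G)) := by
      by_contra hVn
      have h := hmax _ ⟨hS₀p.to_le (ThompsonA.thompsonA_le _), ThompsonA.thompsonA_ne_bot hS₀p hS₀bot, hVn⟩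
      obtain ⟨t, ht⟩ := IsPGroup.iff_card.mp (P'.isPGroup'.to_le (inf_le_left : T ≤ _))
      have h1 : t ≤ (Nat.card (normalizer (Cfsg.thompsonSubgroupAOf S₀ : Set G))).factorization p := by
        refine (hpp.pow_dvd_iff_le_factorization Nat.card_pos.ne').mp ?_
        rw [← ht]
        exact Subgroup.card_dvd_of_le (inf_le_right.trans (ThompsonA.normalizer_le_thompsonA S₀))
      have h2 : Nat.card S₀ < Nat.card T := by
        by_contra hge
        exact hlt.ne (eq_of_le_of_card_ge hlt.le (not_lt.mp hge))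
      rw [Subgroup.card_subtype, S.card_eq_multiplicity, ht, Nat.pow_lt_pow_iff_right hpp.one_lt] at h2
      omega
    have hNtop : N ≠ ⊤ := by
      intro e
      refine hne ?_
      have hle : (P' : Subgroup G) ≤ N := e ▸ le_top
      have h := S.3 (P'.subtype hle).2 fun x hx => mem_subgroupOf.mpr (hP' (mem_map_of_mem _ hx))
      rw [hS₀, ← h, Sylow.coe_subtype, Subgroup.map_subgroupOf_eq_of_le hle]
    exact hUn (ih _ (card_subgroup_lt N hNtop) N rfl S
      (Hyp.of_map N.subtype N.subtype_injective (hyp_of_npc hS₀p key)))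
  have hUnormal : U.Normal := by
    rw [← normalizer_eq_top_iff]
    by_contra hNtop
    exact hUn (hproper N hNtop P' (hSeq ▸ map_subtype_le _))
  have := hUnormal
  -- `O_p'(G) = 1`
  have hO : ∀ X : Subgroup G, X.Normal → (Nat.card X).Coprime p → X = ⊥ := by
    intro X hX hXp
    by_contra hne
    have := hX
    refine hG (Solvable.ThompsonComplement.npc_of_quotient_coprime X hXp
      (ih _ ?_ (G ⧸ X) rfl (P.mapSurjective (QuotientGroup.mk'_surjective X)) (hyp_quotient hXp P.isPGroup' hyp)))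
    have h1 := Subgroup.card_eq_card_quotient_mul_card_subgroup X
    have h2 : 1 < Nat.card X :=
      lt_of_le_of_ne Nat.card_pos fun e => hne (Subgroup.card_eq_one.mp e.symm)
    rw [h1]
    exact lt_mul_of_one_lt_right Nat.card_pos h2
  set Q := Cfsg.pCore p G with hQdef
  have hQp : IsPGroup p Q := Solvable.Cores.isPGroup_pCore p
  have hQn : Q.Normal := Subgroup.sSup_normal _ fun _ h => h.1
  have hQP : Q ≤ (P : Subgroup G) := hQp.le_sylow_of_normal P
  have hnQ : ∀ X : Subgroup G, X.Normal → IsPGroup p X → X ≤ Q := fun X hX hXp => le_sSup ⟨hX, hXp⟩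
  have hq := npc_quotient (by omega) P hQp hnQ fun L hL => hproper L hL P
  set π := QuotientGroup.mk' Q with hπ
  set K := Cfsg.pResidual p (G ⧸ Q) with hK
  have hKc : (Nat.card K).Coprime p := Fusion.Basic.npc_iff_coprime.mp hq
  have hker : ∀ {x : G}, π x = 1 ↔ x ∈ Q := fun {x} => QuotientGroup.eq_one_iff x
  -- `C(Q)` inside the preimage of `K`
  have hcent : ∀ g : G, π g ∈ K → g ∈ centralizer (Q : Set G) → g ∈ Q := by
    set C := centralizer (Q : Set G) ⊓ K.comap π with hC
    have : C.Normal := normal_inf (normal_centralizer hQn) inferInstance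
    let Z := Q.subgroupOf C
    have hZc : ∀ (x : C) (z : Z), (z : C) * x = x * z := fun x z =>
      Subtype.ext (mem_centralizer_iff.mp x.2.1 _ (mem_subgroupOf.mp z.2))
    have hZn : Z.Normal := ⟨fun z hz x => by
      rw [← hZc x ⟨z, hz⟩, mul_inv_cancel_right]; exact hz⟩
    have hidx : Z.index.Coprime p := by
      rw [show Z.index = Nat.card (π.comp C.subtype).range by
        rw [← index_ker]; congr 1; ext x; exact (mem_subgroupOf.trans hker.symm)]
      refine hKc.coprime_dvd_left (card_dvd_of_le ?_)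
      rintro _ ⟨x, rfl⟩
      exact x.2.2
    obtain ⟨eZ, heZ⟩ := (hQp.comap_subtype (K := C)).exists_card_eq
    obtain ⟨H, hH⟩ := Subgroup.exists_right_complement'_of_coprime (N := Z)
      (by rw [show Nat.card Z = p ^ eZ from heZ]; exact hidx.symm.pow_left eZ)
    have hHc : (Nat.card H).Coprime p := hH.symm.index_eq_card ▸ hidx
    have hHT : ∀ x : C, (orderOf x).Coprime p → x ∈ H := by
      intro x hx
      obtain ⟨z, hz, h, hh, rfl⟩ := mem_sup_of_normal_left.mp
        (show x ∈ Z ⊔ H by rw [hH.sup_eq_top]; exact mem_top _)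
      have hc : Commute z h := hZc h ⟨z, hz⟩
      have h1 : z ^ (orderOf (z * h) * orderOf h) = 1 := by
        have := pow_orderOf_eq_one (z * h)
        rw [hc.mul_pow] at this
        rw [pow_mul, eq_inv_of_mul_eq_one_left this, inv_pow, ← pow_mul, mul_comm, pow_mul, pow_orderOf_eq_one,
          one_pow, inv_one]
      have : z = 1 := orderOf_eq_one_iff.mp (Nat.eq_one_of_dvd_coprimes
        (Nat.Coprime.pow_right eZ (Nat.Coprime.mul_left hx (hHc.coprime_dvd_left (orderOf_dvd_natCard H hh))))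
        (orderOf_dvd_of_pow_eq_one h1) (heZ ▸ orderOf_dvd_natCard Z hz))
      rwa [this, one_mul]
    have hHn : (H.map C.subtype).Normal := ⟨by
      rintro _ ⟨x, hx, rfl⟩ g
      refine ⟨⟨g * x * g⁻¹, Normal.conj_mem ‹_› _ x.2 g⟩, hHT _ ?_, rfl⟩
      rw [← Subgroup.orderOf_coe]
      show (orderOf (g * (x : G) * g⁻¹)).Coprime p
      rw [← MulAut.conj_apply, MulEquiv.orderOf_eq, Subgroup.orderOf_coe]
      exact hHc.coprime_dvd_left (orderOf_dvd_natCard H hx)⟩
    have hHbot : H = ⊥ := by
      have := hO _ hHn (by rwa [card_map_of_injective C.subtype_injective])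
      rwa [map_eq_bot_iff_of_injective _ C.subtype_injective] at this
    intro g hg hgQ
    have hx : (⟨g, hgQ, hg⟩ : C) ∈ Z ⊔ H := by rw [hH.sup_eq_top]; exact mem_top _
    rw [hHbot, sup_bot_eq] at hx
    exact mem_subgroupOf.mp hx
  have hKlift : ∀ x ∈ K, ∃ g : G, (orderOf g).Coprime p ∧ π g ∈ K ∧ x ∈ zpowers (π g) := by
    intro x hx
    obtain ⟨g, rfl⟩ := QuotientGroup.mk'_surjective Q x
    obtain ⟨h, hh, hc, hgen⟩ := exists_coprime_lift π g (hKc.coprime_dvd_left (orderOf_dvd_natCard _ hx))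
    obtain ⟨i, rfl⟩ := hh
    exact ⟨_, hc, by rw [map_zpow]; exact zpow_mem hx i, hgen⟩
  have hKne : K ≠ ⊥ := by
    intro h
    refine hG (Fusion.Basic.npc_of_isPGroup ?_)
    have h2 : IsPGroup p (G ⧸ Q) := by
      intro x
      obtain ⟨k, hk⟩ := Fusion.Basic.exists_pow_coprime (p := p) x
      have h3 := Fusion.Basic.mem_pResidual_of_coprime hk
      rw [← hK, h, mem_bot] at h3
      exact ⟨k, h3⟩
    intro g
    obtain ⟨i, hi⟩ := h2 (π g)
    rw [← map_pow, hker] at hi
    obtain ⟨j, hj⟩ := hQp ⟨_, hi⟩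
    exact ⟨i + j, by rw [pow_add, pow_mul]; exact congrArg Subtype.val hj⟩
  set Pb := (P : Subgroup G).map π with hPb
  have hPbp : IsPGroup p Pb := P.isPGroup'.map π
  have hsup : Pb ⊔ K = ⊤ := by
    rw [sup_comm, hK, show Pb = ((P.mapSurjective (QuotientGroup.mk'_surjective Q) : Sylow p (G ⧸ Q)) :
      Subgroup (G ⧸ Q)) from rfl]
    exact Fusion.Basic.pResidual_sup_sylow _
  have hKn : K.Normal := inferInstance
  have hfaith : Pb ⊓ centralizer (K : Set (G ⧸ Q)) = ⊥ := by
    set Z := Pb ⊓ centralizer (K : Set (G ⧸ Q))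
    have hZn : Z.Normal := by
      rw [← normalizer_eq_top_iff, eq_top_iff, ← hsup]
      refine sup_le ((le_inf le_normalizer fun x _ => ?_).trans inf_normalizer_le_normalizer_inf) ?_
      · rw [show normalizer (centralizer (K : Set (G ⧸ Q)) : Set (G ⧸ Q)) = ⊤ from
          normalizer_eq_top_iff.mpr (normal_centralizer hKn)]
        exact mem_top x
      · exact fun x hx => centralizer_le_normalizer _ (mem_centralizer_iff.mpr fun z hz =>
          (mem_centralizer_iff.mp hz.2 x hx).symm)
    have hle := hnQ (Z.comap π) (hZn.comap π)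
      ((hPbp.to_le inf_le_left).comap_of_ker_isPGroup π (by rw [hπ, QuotientGroup.ker_mk']; exact hQp))
    rw [← map_comap_eq_self_of_surjective (QuotientGroup.mk'_surjective Q) Z, Subgroup.map_eq_bot_iff,
      QuotientGroup.ker_mk']
    exact hle
  -- proper invariant subgroups of `K`
  have hsmall : ∀ X : Subgroup (G ⧸ Q), X ≤ K → Pb ≤ normalizer (X : Set (G ⧸ Q)) → X ≠ K → X = ⊥ := by
    intro X hXK hXn hXne
    have hM : X ⊔ Pb ≠ ⊤ := fun e => hXne <| eq_of_le_of_card_ge hXK <| by
      obtain ⟨eP, heP⟩ := hPbp.exists_card_eq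
      have hc : ∀ Y : Subgroup (G ⧸ Q), Y ≤ K → Disjoint Y Pb := fun Y hY =>
        disjoint_of_coprime_natCard (heP ▸ (hKc.coprime_dvd_left (card_dvd_of_le hY)).pow_right eP)
      have h1 := Coprime.card_sup_of_le_normalizer hXn (hc X hXK)
      rw [e] at h1
      have h2 := Coprime.card_sup_of_le_normalizer
        (show Pb ≤ normalizer (K : Set (G ⧸ Q)) from fun x _ => by rw [normalizer_eq_top]; exact mem_top x) (hc K le_rfl)
      rw [sup_comm K, hsup, h1] at h2
      exact (Nat.eq_of_mul_eq_mul_right Nat.card_pos h2).ge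
    have hMn := hproper ((X ⊔ Pb).comap π) (fun e => hM (by
      rw [← map_comap_eq_self_of_surjective (QuotientGroup.mk'_surjective Q) (X ⊔ Pb), e,
        ← MonoidHom.range_eq_map, MonoidHom.range_eq_top.mpr (QuotientGroup.mk'_surjective Q)])) P
      (map_le_iff_le_comap.mp le_sup_right)
    rw [eq_bot_iff]
    intro x hx
    obtain ⟨g, rfl⟩ := QuotientGroup.mk'_surjective Q x
    obtain ⟨h, hh, hc, hgen⟩ := exists_coprime_lift π g
      (hKc.coprime_dvd_left (orderOf_dvd_natCard _ (hXK hx)))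
    obtain ⟨i, rfl⟩ := hh
    have hiX : π (g ^ i) ∈ X := by rw [map_zpow]; exact zpow_mem hx i
    have hcen : g ^ i ∈ centralizer (Q : Set G) :=
      commute_of_npc hMn hQp (fun y hy => show π y ∈ X ⊔ Pb by rw [hker.mpr hy]; exact one_mem _)
        (fun y _ => by rw [normalizer_eq_top]; exact mem_top y)
        (show π (g ^ i) ∈ X ⊔ Pb from mem_sup_left hiX) hc
    rw [hker.mpr (hcent _ (hXK hiX) hcen), zpowers_one_eq_bot] at hgen
    exact hgen
  -- `K` is abelian
  have hKab : IsMulCommutative K := by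
    obtain ⟨q, hq', hqd⟩ := Nat.exists_prime_and_dvd (show Nat.card K ≠ 1 from fun h => hKne (card_eq_one.mp h))
    have := Fact.mk hq'
    have := hPbp.isNilpotent
    have hcop : (Nat.card Pb).Coprime (Nat.card K) := by
      obtain ⟨eP, heP⟩ := hPbp.exists_card_eq
      rw [heP]; exact hKc.symm.pow_left eP
    obtain ⟨R, hR⟩ := Coprime.exists_invariant_sylow (A := Pb) (K := K)
      (fun x _ => by rw [normalizer_eq_top]; exact mem_top x) hcop (Or.inl inferInstance) q
    have hRK : (R : Subgroup K).map K.subtype = K := by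
      by_contra hne
      have h1 := hsmall _ (map_subtype_le _) hR hne
      exact R.ne_bot_of_dvd_card hqd ((map_eq_bot_iff_of_injective _ K.subtype_injective).mp h1)
    have hKq : IsPGroup q K := fun x => by
      obtain ⟨j, hj⟩ := (R.isPGroup'.map K.subtype) ⟨x, hRK.symm ▸ x.2⟩
      exact ⟨j, Subtype.ext (congrArg Subtype.val hj :)⟩
    have := hKq.isNilpotent
    have hlt := Coprime.commutator_self_lt (N := K) inferInstance hKne
    have h1 := hsmall _ hlt.le (fun x _ => by
      rw [normalizer_eq_top_iff.mpr (Subgroup.commutator_normal K K)]; exact mem_top x) hlt.ne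
    refine ⟨⟨fun x y => Subtype.ext ?_⟩⟩
    have h2 : ⁅(x : G ⧸ Q), (y : G ⧸ Q)⁆ ∈ ⁅K, K⁆ := commutator_mem_commutator x.2 y.2
    rw [h1, mem_bot] at h2
    exact commutatorElement_eq_one_iff_mul_comm.mp h2
  -- `J(P) ≤ Q`
  have hAQ : ∀ A, IsMaxAb (P : Subgroup G) A → A ≤ Q := fun A hA =>
    JFactorOffender.maxAb_le hp P.isPGroup' hQP K hKc hKab hfaith hcent hA
  set J := Cfsg.thompsonSubgroupAOf (P : Subgroup G) with hJ
  have hJn : J.Normal := normal_of_map_le fun g => by
    rw [map_le_iff_le_comap]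
    exact thompson_le_iff.mpr fun A hA => map_le_iff_le_comap.mp (le_thompson (hA.map (hAQ A hA) hQP g).1)
  have hJQ : J ≤ Q := thompson_le_iff.mpr hAQ
  have hallc : ∀ g : G, (orderOf g).Coprime p → g ∈ centralizer (Q : Set G) := by
    intro g hg
    have hgJ : g ∈ centralizer (J : Set G) := hyp g (by rw [normalizer_eq_top]; exact mem_top g) hg
    rw [mem_centralizer_iff]
    intro q hq
    refine (Coprime.commute_of_stabilizes (N := J) ?_ hgJ ?_).eq.symm
    · obtain ⟨e, he⟩ := (hQp.to_le hJQ).exists_card_eq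
      rw [he]; exact hg.pow_right e
    · obtain ⟨A, hA⟩ := exists_maxAb (P : Subgroup G)
      refine le_thompson hA (hA.mem (hQP ?_) fun a ha => ?_)
      · rw [commutatorElement_def]
        exact mul_mem (hQn.conj_mem q hq g) (inv_mem hq)
      · rw [commutatorElement_def]
        have hb : q⁻¹ * a * q ∈ J := by simpa using hJn.conj_mem a (le_thompson hA ha) q⁻¹
        have h1 := mem_centralizer_iff.mp hgJ _ hb
        have h2 := mem_centralizer_iff.mp hgJ a (le_thompson hA ha)
        calc a * (g * q * g⁻¹ * q⁻¹) = g * q * ((q⁻¹ * a * q) * g⁻¹) * q⁻¹ := by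
              rw [← mul_assoc a, ← mul_assoc a, ← mul_assoc a, h2]; group
          _ = g * q * (g⁻¹ * (q⁻¹ * a * q)) * q⁻¹ := by
              rw [((show Commute (q⁻¹ * a * q) g from h1).inv_right).eq]
          _ = _ := by group
  refine hKne (eq_bot_iff.mpr fun x hx => ?_)
  obtain ⟨g, hgc, hgK, hgen⟩ := hKlift x hx
  rw [hker.mpr (hcent g hgK (hallc g hgc)), zpowers_one_eq_bot] at hgen
  exact hgen

end CfsgLib.LocalEvenB.JFactorMain
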