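import Cfsg.Agent.Lib.LocalEvenB.JFactorCore
import Cfsg.Agent.Lib.Coprime.Abelian
import Cfsg.Agent.Lib.LocalEven.PushingUpClosure
import Cfsg.Agent.Lib.Solvable.Basic

/-!
For `p ≥ 5`, an abelian subgroup of largest order of a Sylow subgroup lies in a normal `p`-subgroup `Q` as soon as
`G / Q` has an abelian normal `p'`-subgroup on which the Sylow subgroup acts faithfully, and `Q` is self-centralising
in its preimage.
-/

set_option autoImplicit false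
set_option linter.unusedSectionVars false

namespace CfsgLib.LocalEvenB.JFactorOffender

open Subgroup CfsgLib.LocalEven.PushingUpClosure

variable {G : Type*} [Group G] [Finite G] {p : ℕ} [Fact p.Prime] {P A Q : Subgroup G} [Q.Normal]

/-- A noncyclic abelian `p`-quotient cannot act fixed-point-freely on a nontrivial `p'`-group. -/
theorem isCyclic_of_free {H : Type*} [Group H] [Finite H] {Ab R B₀ : Subgroup H} (hR : IsMulCommutative R)
    (hAb : IsMulCommutative Ab) (hp : IsPGroup p Ab) (hRp : (Nat.card R).Coprime p)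
    (hnorm : Ab ≤ normalizer (R : Set H)) (htriv : B₀ ≤ centralizer (R : Set H))
    (hfree : ∀ a ∈ Ab, a ∉ B₀ → ∀ r ∈ R, a * r * a⁻¹ = r → r = 1) (hne : R ≠ ⊥) :
    ∃ a ∈ Ab, ∀ x ∈ Ab, ∃ i : ℕ, (a ^ i)⁻¹ * x ∈ B₀ := by
  let _ : CommGroup Ab := { (inferInstance : Group Ab) with mul_comm := mul_comm' }
  let _ : CommGroup R := { (inferInstance : Group R) with mul_comm := mul_comm' }
  let N := B₀.subgroupOf Ab
  by_cases hcyc : IsCyclic (Ab ⧸ N)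
  · obtain ⟨g, hg⟩ := hcyc.exists_generator
    obtain ⟨a, rfl⟩ := QuotientGroup.mk'_surjective N g
    refine ⟨a, a.2, fun x hx => ?_⟩
    obtain ⟨i, hi⟩ := mem_powers_iff_mem_zpowers.mpr (hg (QuotientGroup.mk' N ⟨x, hx⟩))
    refine ⟨i, ?_⟩
    simp only at hi
    rw [← map_pow] at hi
    exact mem_subgroupOf.mp (QuotientGroup.eq.mp hi)
  exfalso
  classical
  obtain ⟨q, E, F, hq, hqd, hFc, hFE, hpart⟩ := Coprime.exists_partition_of_not_isCyclic (Ab ⧸ N) hcyc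
  let _ : Fintype Ab := Fintype.ofFinite Ab
  let ρ : Ab →* MulAut R := Coprime.conjHom hnorm
  have hqp : q = p := by
    obtain ⟨e, he⟩ := (hp.to_quotient N).exists_card_eq
    exact (Nat.prime_dvd_prime_iff_eq hq Fact.out).mp (hq.dvd_of_dvd_pow (he ▸ hqd))
  obtain ⟨r, hr, hr1⟩ := (Subgroup.bot_or_exists_ne_one R).resolve_left hne
  set v : R := ⟨r, hr⟩
  have hv : ∀ b ∈ N, ρ b v = v := fun b hb => Subtype.ext (by
    show (b : H) * r * (b : H)⁻¹ = r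
    rw [← mem_centralizer_iff.mp (htriv (mem_subgroupOf.mp hb)) r hr, mul_inv_cancel_right])
  have hone : ∀ (B : Subgroup (Ab ⧸ N)), B ≠ ⊥ →
      Coprime.normOver ρ (B.comap (QuotientGroup.mk' N)) v = 1 := by
    intro B hB
    obtain ⟨x, hx, hx1⟩ := (Subgroup.bot_or_exists_ne_one B).resolve_left hB
    obtain ⟨x, rfl⟩ := QuotientGroup.mk'_surjective N x
    refine Subtype.ext (hfree x x.2 (fun h => hx1 ((QuotientGroup.eq_one_iff _).mpr (mem_subgroupOf.mpr h))) _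
      (Coprime.normOver ρ _ v).2 ?_)
    exact congrArg Subtype.val (Coprime.apply_normOver ρ (B.comap (QuotientGroup.mk' N)) hx v)
  have hle : ∀ B : Subgroup (Ab ⧸ N), N ≤ B.comap (QuotientGroup.mk' N) := fun B b hb => by
    show QuotientGroup.mk' N b ∈ B
    rw [show QuotientGroup.mk' N b = 1 from (QuotientGroup.eq_one_iff _).mpr hb]
    exact one_mem _
  have hE : E ≠ ⊥ := by
    obtain ⟨B, hB⟩ : F.Nonempty := Finset.card_pos.mp (by omega)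
    exact fun h => (hFE B hB).2 (le_bot_iff.mp (h ▸ (hFE B hB).1))
  have key := Coprime.pow_eq_prod_normOver ρ (B := fun i : {B // B ∈ F} => i.1.comap (QuotientGroup.mk' N))
    (fun i => comap_mono (hFE i.1 i.2).1) (fun i => hle i.1) (hle E) (fun a ha haN => ?_) hv
  · rw [hone E hE, one_mul, Finset.prod_eq_one (fun i _ => hone i.1 (hFE i.1 i.2).2), one_mul,
      Fintype.card_coe, hFc, add_mul, one_mul, pow_add] at key
    have h1 : v ^ (q * Nat.card N) = 1 := by simpa using key.symm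
    obtain ⟨e, he⟩ := (hp.to_subgroup N).exists_card_eq
    have h2 : orderOf v ∣ p ^ (1 + e) := by
      rw [pow_add, pow_one, ← he, ← hqp]
      exact orderOf_dvd_of_pow_eq_one h1
    have h3 : v = 1 := orderOf_eq_one_iff.mp
      (Nat.eq_one_of_dvd_coprimes (hRp.pow_right (1 + e)) (orderOf_dvd_natCard v) h2)
    exact hr1 (congrArg Subtype.val h3)
  · obtain ⟨B, ⟨hB, haB⟩, huniq⟩ := hpart _ ha (fun h => haN ((QuotientGroup.eq_one_iff _).mp h))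
    exact ⟨⟨B, hB⟩, haB, fun i hi => Subtype.ext (huniq i.1 ⟨i.2, hi⟩)⟩

/-- The main lemma: `A ≤ Q`. -/
theorem maxAb_le (hp : 5 ≤ p) (hP : IsPGroup p P) (hQP : Q ≤ P) (K : Subgroup (G ⧸ Q)) [K.Normal]
    (hK : (Nat.card K).Coprime p) (hKab : IsMulCommutative K)
    (hfaith : P.map (QuotientGroup.mk' Q) ⊓ centralizer (K : Set (G ⧸ Q)) = ⊥)
    (hcent : ∀ g : G, QuotientGroup.mk' Q g ∈ K → g ∈ centralizer (Q : Set G) → g ∈ Q)
    (hA : IsMaxAb P A) : A ≤ Q := by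
  set π := QuotientGroup.mk' Q with hπ
  have hker : ∀ {x : G}, π x = 1 ↔ x ∈ Q := fun {x} => QuotientGroup.eq_one_iff x
  by_contra hAQ
  let Fam : Set (Subgroup G) := {A₁ | A ⊓ Q ≤ A₁ ∧ A₁ ≤ A ∧ ∃ r ∈ K, (∀ x ∈ A₁, π x * r = r * π x) ∧
    ∃ x ∈ A, π x * r ≠ r * π x}
  have hbase : A ⊓ Q ∈ Fam := by
    obtain ⟨a, ha, haQ⟩ := SetLike.not_le_iff_exists.mp hAQ
    have : π a ∉ centralizer (K : Set (G ⧸ Q)) := fun h => by
      have : π a ∈ P.map π ⊓ centralizer (K : Set (G ⧸ Q)) := ⟨⟨a, hA.1 ha, rfl⟩, h⟩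
      rw [hfaith, mem_bot] at this
      exact haQ (hker.mp this)
    rw [mem_centralizer_iff] at this
    push Not at this
    obtain ⟨r, hr, hne⟩ := this
    exact ⟨le_rfl, inf_le_left, r, hr, fun x hx => by rw [hker.mpr hx.2, one_mul, mul_one], a, ha, fun h => hne h.symm⟩
  obtain ⟨A₁, ⟨hA₁Q, hA₁A, r₁, hr₁, hr₁A₁, hr₁A⟩, hmax⟩ := (Set.toFinite Fam).exists_maximal ⟨_, hbase⟩
  set R₁ := K ⊓ centralizer ((A₁.map π : Subgroup (G ⧸ Q)) : Set (G ⧸ Q)) with hR₁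
  have hR₁mem : ∀ {r : G ⧸ Q}, r ∈ R₁ → ∀ x ∈ A₁, π x * r = r * π x := fun hr x hx =>
    mem_centralizer_iff.mp hr.2 _ ⟨x, hx, rfl⟩
  have hstep : ∀ g ∈ A, g ∉ A₁ → ∀ r ∈ R₁, π g * r = r * π g → ∀ x ∈ A, π x * r = r * π x := by
    intro g hg hg₁ r hr hgr x hx
    by_contra hne
    have hle : A₁ ⊔ zpowers g ≤ (centralizer ({r} : Set (G ⧸ Q))).comap π :=
      sup_le (fun y hy => mem_centralizer_singleton_iff.mpr (hR₁mem hr y hy))
        (zpowers_le.mpr (mem_centralizer_singleton_iff.mpr hgr))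
    have : A₁ ⊔ zpowers g ∈ Fam := ⟨hA₁Q.trans le_sup_left, sup_le hA₁A (zpowers_le.mpr hg), r, hr.1,
      fun y hy => mem_centralizer_singleton_iff.mp (hle hy), x, hx, hne⟩
    exact hg₁ (hmax this le_sup_left (mem_sup_right (mem_zpowers g)))
  have hAne : A₁ ≠ A := by
    rintro rfl
    obtain ⟨x, hx, hne⟩ := hr₁A
    exact hne (hr₁A₁ x hx)
  obtain ⟨g₀, hg₀, hg₀₁⟩ : ∃ g ∈ A, g ∉ A₁ := SetLike.not_le_iff_exists.mp fun h => hAne (le_antisymm hA₁A h)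
  have hAcomm : ∀ x ∈ A, ∀ y ∈ A, π x * π y = π y * π x := fun x hx y hy => by
    rw [← map_mul, ← map_mul, hA.2.1 hy x hx]
  have hKc : ∀ x ∈ K, ∀ y ∈ K, x * y = y * x := fun x hx y hy =>
    congrArg Subtype.val (mul_comm' (⟨x, hx⟩ : K) ⟨y, hy⟩)
  have hR₁conj : ∀ x ∈ A, ∀ r ∈ R₁, π x * r * (π x)⁻¹ ∈ R₁ := by
    intro x hx r hr
    refine ⟨(inferInstance : K.Normal).conj_mem r hr.1 _, mem_centralizer_iff.mpr ?_⟩
    rintro _ ⟨y, hy, rfl⟩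
    have h1 := hAcomm y (hA₁A hy) x hx
    calc π y * (π x * r * (π x)⁻¹) = (π y * π x) * r * (π x)⁻¹ := by group
      _ = π x * (π y * r) * (π x)⁻¹ := by rw [h1]; group
      _ = π x * r * (π y * (π x)⁻¹) := by rw [hR₁mem hr y hy]; group
      _ = π x * r * ((π x)⁻¹ * π y) := by rw [((show Commute (π y) (π x) from h1).inv_right).eq]
      _ = _ := by group
  let ψ : R₁ →* G ⧸ Q := MonoidHom.mk' (fun r => π g₀ * (r : G ⧸ Q) * (π g₀)⁻¹ * (r : G ⧸ Q)⁻¹) fun r s => by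
    show π g₀ * ((r : G ⧸ Q) * s) * (π g₀)⁻¹ * ((r : G ⧸ Q) * s)⁻¹ =
      π g₀ * r * (π g₀)⁻¹ * (r : G ⧸ Q)⁻¹ * (π g₀ * s * (π g₀)⁻¹ * (s : G ⧸ Q)⁻¹)
    have hm : π g₀ * (s : G ⧸ Q) * (π g₀)⁻¹ * (s : G ⧸ Q)⁻¹ ∈ K :=
      mul_mem (hR₁conj g₀ hg₀ _ s.2).1 (inv_mem s.2.1)
    have := hKc _ hm (r : G ⧸ Q)⁻¹ (inv_mem r.2.1)
    calc π g₀ * ((r : G ⧸ Q) * s) * (π g₀)⁻¹ * ((r : G ⧸ Q) * s)⁻¹
        = π g₀ * r * (π g₀)⁻¹ * ((π g₀ * s * (π g₀)⁻¹ * (s : G ⧸ Q)⁻¹) * (r : G ⧸ Q)⁻¹) := by group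
      _ = _ := by rw [this]; group
  set R₀ := ψ.range with hR₀
  have hR₀R₁ : R₀ ≤ R₁ := by
    rintro _ ⟨r, rfl⟩
    exact mul_mem (hR₁conj g₀ hg₀ _ r.2) (inv_mem r.2)
  have hfree : ∀ g ∈ A, g ∉ A₁ → ∀ x ∈ R₀, π g * x = x * π g → x = 1 := by
    intro g hg hg₁ x hx hgx
    have hfix := hstep g hg hg₁ x (hR₀R₁ hx) hgx g₀ hg₀
    obtain ⟨r, rfl⟩ := hx
    set z := ψ r with hz
    have hit : ∀ i : ℕ, π g₀ ^ i * (r : G ⧸ Q) * (π g₀ ^ i)⁻¹ = z ^ i * r := by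
      intro i
      induction i with
      | zero => simp
      | succ i ih =>
        have hzc : π g₀ * z ^ i * (π g₀)⁻¹ = z ^ i := by
          rw [((show Commute (π g₀) z from hfix).pow_right i).eq, mul_inv_cancel_right]
        have hzr : π g₀ * (r : G ⧸ Q) * (π g₀)⁻¹ = z * r := by
          show _ = π g₀ * (r : G ⧸ Q) * (π g₀)⁻¹ * (r : G ⧸ Q)⁻¹ * r
          group
        calc π g₀ ^ (i + 1) * (r : G ⧸ Q) * (π g₀ ^ (i + 1))⁻¹
            = π g₀ * (π g₀ ^ i * (r : G ⧸ Q) * (π g₀ ^ i)⁻¹) * (π g₀)⁻¹ := by rw [pow_succ']; group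
          _ = (π g₀ * z ^ i * (π g₀)⁻¹) * (π g₀ * r * (π g₀)⁻¹) := by rw [ih]; group
          _ = _ := by rw [hzc, hzr, pow_succ, mul_assoc]
    have h1 := hit (orderOf (π g₀))
    rw [pow_orderOf_eq_one, one_mul, inv_one, mul_one, eq_comm, mul_eq_right] at h1
    obtain ⟨e, he⟩ := IsPGroup.iff_orderOf.mp hP ⟨g₀, hA.1 hg₀⟩
    rw [Subgroup.orderOf_mk] at he
    exact orderOf_eq_one_iff.mp (Nat.eq_one_of_dvd_coprimes (hK.pow_right e)
      (orderOf_dvd_natCard _ (mem_inf.mp (hR₀R₁ ⟨r, rfl⟩)).1)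
      ((orderOf_dvd_of_pow_eq_one h1).trans (he ▸ orderOf_map_dvd π g₀)))
  have hR₀ne : R₀ ≠ ⊥ := by
    intro h
    obtain ⟨x, hx, hne⟩ := hr₁A
    have hr : r₁ ∈ R₁ := ⟨hr₁, mem_centralizer_iff.mpr (by rintro _ ⟨y, hy, rfl⟩; exact hr₁A₁ y hy)⟩
    have h1 : ψ ⟨r₁, hr⟩ = 1 := by rw [← mem_bot, ← h]; exact ⟨_, rfl⟩
    exact hne (hstep g₀ hg₀ hg₀₁ r₁ hr (mul_inv_eq_iff_eq_mul.mp (mul_inv_eq_one.mp h1)) x hx)
  have hR₀conj : ∀ x ∈ A, ∀ z ∈ R₀, π x * z * (π x)⁻¹ ∈ R₀ := by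
    intro x hx _ hz
    obtain ⟨r, rfl⟩ := hz
    refine ⟨⟨_, hR₁conj x hx r r.2⟩, ?_⟩
    show π g₀ * (π x * r * (π x)⁻¹) * (π g₀)⁻¹ * (π x * r * (π x)⁻¹)⁻¹ =
      π x * (π g₀ * r * (π g₀)⁻¹ * (r : G ⧸ Q)⁻¹) * (π x)⁻¹
    have h1 : π g₀ * π x = π x * π g₀ := hAcomm g₀ hg₀ x hx
    calc π g₀ * (π x * r * (π x)⁻¹) * (π g₀)⁻¹ * (π x * r * (π x)⁻¹)⁻¹
        = (π g₀ * π x) * r * (π g₀ * π x)⁻¹ * π x * (r : G ⧸ Q)⁻¹ * (π x)⁻¹ := by group
      _ = (π x * π g₀) * r * (π x * π g₀)⁻¹ * π x * (r : G ⧸ Q)⁻¹ * (π x)⁻¹ := by rw [h1]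
      _ = _ := by group
  -- cyclicity
  have hR₀K : R₀ ≤ K := hR₀R₁.trans inf_le_left
  have hR₀p : (Nat.card R₀).Coprime p := hK.coprime_dvd_left (Subgroup.card_dvd_of_le hR₀K)
  have hnormR₀ : A.map π ≤ normalizer (R₀ : Set (G ⧸ Q)) := by
    rintro _ ⟨x, hx, rfl⟩
    rw [mem_normalizer_iff_map_conj_eq]
    refine eq_of_le_of_card_ge ?_ (by rw [card_map_of_injective (MulAut.conj (π x)).injective])
    rintro _ ⟨z, hz, rfl⟩
    exact hR₀conj x hx z hz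
  have hQA₁ : ∀ x ∈ A, π x ∈ A₁.map π → x ∈ A₁ := by
    rintro x hx ⟨y, hy, he⟩
    have : y⁻¹ * x ∈ A ⊓ Q := ⟨A.mul_mem (A.inv_mem (hA₁A hy)) hx,
      hker.mp (by rw [map_mul, map_inv, he, inv_mul_cancel])⟩
    simpa using mul_mem hy (hA₁Q this)
  obtain ⟨_, ⟨a, ha, rfl⟩, hgen⟩ := isCyclic_of_free (p := p) (H := G ⧸ Q) (Ab := A.map π) (R := R₀) (B₀ := A₁.map π)
    ⟨⟨fun x y => Subtype.ext (hKc _ (hR₀K x.2) _ (hR₀K y.2))⟩⟩
    ⟨⟨fun x y => Subtype.ext (by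
      obtain ⟨u, hu, hu'⟩ := x.2
      obtain ⟨w, hw, hw'⟩ := y.2
      show (x : G ⧸ Q) * y = y * x
      rw [← hu', ← hw']
      exact hAcomm u hu w hw)⟩⟩
    ((hP.to_le hA.1).map π) hR₀p hnormR₀
    (fun b hb => mem_centralizer_iff.mpr fun z hz => (mem_centralizer_iff.mp (hR₀R₁ hz).2 b hb).symm)
    (fun b hb hb₁ z hz he => by
      obtain ⟨x, hx, rfl⟩ := hb
      exact hfree x hx (fun h => hb₁ ⟨x, h, rfl⟩) z hz (mul_inv_eq_iff_eq_mul.mp he))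
    hR₀ne
  -- `a` modulo `A₁`
  have hgenA : ∀ x ∈ A, ∃ i : ℕ, (a ^ i)⁻¹ * x ∈ A₁ := fun x hx => by
    obtain ⟨i, hi⟩ := hgen _ ⟨x, hx, rfl⟩
    exact ⟨i, hQA₁ _ (mul_mem (inv_mem (pow_mem ha i)) hx) (by rwa [map_mul, map_inv, map_pow])⟩
  let ā : A ⧸ A₁.subgroupOf A := QuotientGroup.mk ⟨a, ha⟩
  have hAn : (A₁.subgroupOf A).Normal := ⟨fun x hx y => by
    rw [mem_subgroupOf] at hx ⊢
    rw [show ((y * x * y⁻¹ : A) : G) = x by
      show (y : G) * x * (y : G)⁻¹ = x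
      rw [hA.2.1 x.2 y y.2, mul_inv_cancel_right]]
    exact hx⟩
  have hpowA₁ : ∀ i : ℕ, (a ^ i ∈ A₁ ↔ orderOf ā ∣ i) := fun i => by
    rw [orderOf_dvd_iff_pow_eq_one]
    show _ ↔ ((QuotientGroup.mk ((⟨a, ha⟩ : A) ^ i)) : A ⧸ A₁.subgroupOf A) = 1
    rw [QuotientGroup.eq_one_iff, mem_subgroupOf]
    rfl
  obtain ⟨k, hk⟩ : ∃ k, orderOf ā = p ^ k :=
    IsPGroup.iff_orderOf.mp ((hP.to_le hA.1).to_quotient _) ā
  have hcardA : Nat.card A = p ^ k * Nat.card A₁ := by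
    have htop : zpowers ā = ⊤ := eq_top_iff.mpr fun y _ => by
      obtain ⟨⟨x, hx⟩, rfl⟩ := QuotientGroup.mk'_surjective (A₁.subgroupOf A) y
      obtain ⟨i, hi⟩ := hgenA x hx
      refine ⟨i, ?_⟩
      show ā ^ (i : ℤ) = _
      rw [zpow_natCast]
      exact QuotientGroup.eq.mpr (mem_subgroupOf.mpr hi)
    rw [← card_mul_index (A₁.subgroupOf A), Nat.card_congr (subgroupOfEquivOfLe hA₁A).toEquiv, mul_comm,
      ← hk, ← Nat.card_zpowers, htop, Subgroup.card_top]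
    rfl
  have hk1 : 1 ≤ k := by
    by_contra h0
    rw [show k = 0 by omega, pow_zero, one_mul] at hcardA
    exact hAne (eq_of_le_of_card_ge hA₁A hcardA.le)
  -- the complement
  set M := R₀.comap π with hM
  have hQM : Q ≤ M := fun x hx => show π x ∈ R₀ by rw [hker.mpr hx]; exact one_mem _
  obtain ⟨eQ, heQ⟩ := (hP.to_le hQP).exists_card_eq
  have hcardQM : Nat.card (Q.subgroupOf M) = Nat.card Q := Nat.card_congr (subgroupOfEquivOfLe hQM).toEquiv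
  have hindex : (Q.subgroupOf M).index = Nat.card R₀ := by
    have h1 := card_mul_index (Q.subgroupOf M)
    rw [hcardQM, show Nat.card M = _ from Solvable.Basic.card_comap_mk Q R₀, mul_comm (Nat.card R₀)] at h1
    exact Nat.eq_of_mul_eq_mul_left Nat.card_pos h1
  obtain ⟨H', hH'⟩ := Subgroup.exists_right_complement'_of_coprime (N := Q.subgroupOf M)
    (by rw [hindex, hcardQM, heQ]; exact (hR₀p.symm.pow_left eQ))
  set T := H'.map M.subtype with hT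
  have hTR : ∀ t ∈ T, π t ∈ R₀ := by rintro _ ⟨x, -, rfl⟩; exact x.2
  have hTQ : ∀ t ∈ T, t ∈ Q → t = 1 := by
    rintro _ ⟨x, hx, rfl⟩ hxQ
    have := hH'.disjoint.le_bot (mem_inf.mpr ⟨mem_subgroupOf.mpr hxQ, hx⟩)
    rw [mem_bot] at this
    rw [this]; rfl
  have hinj : ∀ s ∈ T, ∀ t ∈ T, π s = π t → s = t := fun s hs t ht h => by
    have := hTQ _ (mul_mem (inv_mem hs) ht) (hker.mp (by rw [map_mul, map_inv, h, inv_mul_cancel]))
    exact inv_mul_eq_one.mp this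
  have hsurjT : ∀ z ∈ R₀, ∃ t ∈ T, π t = z := by
    intro z hz
    obtain ⟨x, rfl⟩ := QuotientGroup.mk'_surjective Q z
    have hx : (⟨x, hz⟩ : M) ∈ (Q.subgroupOf M) ⊔ H' := by rw [hH'.sup_eq_top]; exact mem_top _
    obtain ⟨u, hu, h, hh, he⟩ := mem_sup_of_normal_left.mp hx
    refine ⟨h, ⟨h, hh, rfl⟩, ?_⟩
    show π h = π x
    rw [← (show (u : G) * h = x from congrArg Subtype.val he), map_mul, hker.mpr (mem_subgroupOf.mp hu), one_mul]
  have hTab : ∀ s ∈ T, ∀ t ∈ T, s * t = t * s := fun s hs t ht =>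
    hinj _ (mul_mem hs ht) _ (mul_mem ht hs) (by
      rw [map_mul, map_mul]; exact hKc _ (hR₀K (hTR s hs)) _ (hR₀K (hTR t ht)))
  have hTcard : (Nat.card T).Coprime p := by
    refine hR₀p.coprime_dvd_left ?_
    have : T.map π ≤ R₀ := by rintro _ ⟨t, ht, rfl⟩; exact hTR t ht
    have hinj' : Function.Injective (π.comp T.subtype) := fun s t h => Subtype.ext (hinj _ s.2 _ t.2 h)
    rw [Nat.card_congr (MonoidHom.ofInjective hinj').toEquiv]
    refine Subgroup.card_dvd_of_le ?_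
    rintro _ ⟨t, rfl⟩
    exact hTR t t.2
  -- the contradiction
  set Q₁ := Q ⊔ A₁ with hQ₁
  have hQ₁P : Q₁ ≤ P := sup_le hQP (hA₁A.trans hA.1)
  have hmapQ₁ : ∀ x ∈ Q₁, π x ∈ A₁.map π := fun x hx => by
    have : Q₁.map π ≤ A₁.map π := by
      rw [hQ₁, Subgroup.map_sup]
      refine sup_le ?_ le_rfl
      rintro _ ⟨y, hy, rfl⟩
      rw [hker.mpr hy]; exact one_mem _
    exact this ⟨x, hx, rfl⟩
  have hQ₁n : ∀ g : G, (∀ x ∈ A₁, g * x * g⁻¹ ∈ Q₁) → g ∈ normalizer (Q₁ : Set G) := fun g hg => by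
    rw [mem_normalizer_iff_map_conj_eq]
    refine eq_of_le_of_card_ge ?_ (by rw [card_map_of_injective (MulAut.conj g).injective])
    rw [hQ₁, Subgroup.map_sup]
    refine sup_le ?_ ?_
    · rintro _ ⟨y, hy, rfl⟩; exact mem_sup_left ((inferInstance : Q.Normal).conj_mem y hy g)
    · rintro _ ⟨y, hy, rfl⟩; exact hg y hy
  have hs : JFactorSetup.Setup p k Q₁ T A₁ a := by
    refine ⟨hp, hk1, hP.to_le hQ₁P, hTcard, hTab, fun t ht => hQ₁n t fun x hx => ?_,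
      hQ₁n a fun x hx => ?_, ?_, fun t ht => ?_, fun t ht i hi0 hin h => ?_, fun hle => hR₀ne ?_,
      le_sup_right, fun e he f hf => hA.2.1 (hA₁A hf) e (hA₁A he), fun e he => hA.2.1 ha e (hA₁A he),
      (hpowA₁ _).mpr (by rw [hk])⟩
    · have h1 : t * x * t⁻¹ * x⁻¹ ∈ Q := hker.mp (by
        rw [map_mul, map_mul, map_mul, map_inv, map_inv,
          ← hR₁mem (hR₀R₁ (hTR t ht)) x hx, mul_inv_cancel_right, mul_inv_cancel])
      simpa using mul_mem (mem_sup_left (T := A₁) h1) (mem_sup_right (S := Q) hx)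
    · rw [hA.2.1 (hA₁A hx) a ha, mul_inv_cancel_right]
      exact mem_sup_right hx
    · obtain ⟨r, hr⟩ := hP ⟨a, hA.1 ha⟩
      exact ⟨r, congrArg Subtype.val hr⟩
    · obtain ⟨t', ht', he⟩ := hsurjT _ (hR₀conj a ha _ (hTR t ht))
      refine ⟨t', ht', mem_sup_left (hker.mp ?_)⟩
      rw [map_mul, map_mul, map_mul, map_inv, map_inv, he, mul_inv_cancel]
    · have h1 := hmapQ₁ _ h
      have h2 : π (a ^ i * t * (a ^ i)⁻¹ * t⁻¹) ∈ R₀ := by
        rw [map_mul, map_mul, map_mul, map_inv, map_inv]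
        exact mul_mem (hR₀conj _ (pow_mem ha i) _ (hTR t ht)) (inv_mem (hTR t ht))
      have h3 : π (a ^ i * t * (a ^ i)⁻¹ * t⁻¹) = 1 := by
        obtain ⟨e, he⟩ := ((hP.to_le (hA₁A.trans hA.1)).map π).exists_card_eq
        exact orderOf_eq_one_iff.mp (Nat.eq_one_of_dvd_coprimes (hR₀p.pow_right e)
          (orderOf_dvd_natCard _ h2) (he ▸ orderOf_dvd_natCard _ h1))
      rw [map_mul, map_mul, map_mul, map_inv, map_inv, mul_inv_eq_one, mul_inv_eq_iff_eq_mul] at h3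
      have h4 := hfree _ (pow_mem ha i) (fun hmem => Nat.not_dvd_of_pos_of_lt hi0 hin
        (hk ▸ (hpowA₁ i).mp hmem)) _ (hTR t ht) h3
      exact hTQ t ht (hker.mp h4)
    · rw [eq_bot_iff]
      intro z hz
      obtain ⟨t, ht, rfl⟩ := hsurjT z hz
      exact mem_bot.mpr (hker.mpr (hcent t (hR₀K (hTR t ht)) (centralizer_le (SetLike.coe_subset_coe.mpr (le_sup_left : Q ≤ Q₁)) (hle ht))))
  obtain ⟨F, hFQ, hFab, hFlt⟩ := JFactorCore.exists_large hs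
  exact absurd (hA.2.2 F (hFQ.trans hQ₁P) hFab) (by rw [hcardA]; omega)

end CfsgLib.LocalEvenB.JFactorOffender
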