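import Cfsg.Agent.Lib.LocalEvenB.JFactorSetup

/-!
The action on the section `B / D`: a free vector, the bilinear commutator map, the centraliser of `E` in `D`.
-/

set_option autoImplicit false
set_option linter.unusedSectionVars false

namespace CfsgLib.LocalEvenB.JFactorSection

open Subgroup Finset CfsgLib.LocalEvenB.JFactorSetup

variable {G : Type*} [Group G] [Finite G] {p k : ℕ} [Fact p.Prime] {Q T E B D : Subgroup G} {a : G}

/-- The elements acting on the section. -/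
abbrev stab (B D : Subgroup G) : Subgroup G := normalizer (B : Set G) ⊓ normalizer (D : Set G)

theorem mem_stab (hd : Data p Q T a B D) {g : G} (hg : g ∈ Q ⊔ T) : g ∈ stab B D := ⟨hd.nB hg, hd.nD hg⟩

theorem a_stab (hd : Data p Q T a B D) : a ∈ stab B D := ⟨hd.aB, hd.aD⟩

theorem subgroupOf_normal (hd : Data p Q T a B D) : (D.subgroupOf B).Normal :=
  normal_subgroupOf_of_le_normalizer ((hd.hBQ.trans le_sup_left).trans hd.nD)

/-- The commutator in the section. -/
theorem conj_mem (g : stab B D) {x : G} (hx : x ∈ B) : (g : G) * x * (g : G)⁻¹ ∈ B :=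
  (mem_normalizer_iff.mp g.2.1 x).mp hx

theorem conj_memD (g : stab B D) {x : G} (hx : x ∈ D) : (g : G) * x * (g : G)⁻¹ ∈ D :=
  (mem_normalizer_iff.mp g.2.2 x).mp hx

/-- `V = B / D`, written additively. -/
abbrev Sec (B D : Subgroup G) [(D.subgroupOf B).Normal] : Type _ := Additive (B ⧸ D.subgroupOf B)

section

variable [hn : (D.subgroupOf B).Normal]

/-- The class of an element of `B`. -/
def cls {x : G} (hx : x ∈ B) : Sec B D := Additive.ofMul (QuotientGroup.mk' (D.subgroupOf B) ⟨x, hx⟩)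

theorem cls_surj (v : Sec B D) : ∃ (x : G) (hx : x ∈ B), cls (D := D) hx = v := by
  obtain ⟨x, hx⟩ := QuotientGroup.mk'_surjective (D.subgroupOf B) (Additive.toMul v)
  exact ⟨x.1, x.2, show Additive.ofMul _ = v by rw [hx]; rfl⟩

theorem cls_congr {x y : G} (hx : x ∈ B) (hy : y ∈ B) (e : x = y) : cls (D := D) hx = cls hy := by
  subst e; rfl

theorem cls_mul {x y : G} (hx : x ∈ B) (hy : y ∈ B) :
    cls (D := D) (mul_mem hx hy) = cls hx + cls hy :=
  congrArg Additive.ofMul (map_mul (QuotientGroup.mk' (D.subgroupOf B)) ⟨x, hx⟩ ⟨y, hy⟩)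

theorem cls_eq_iff {x y : G} (hx : x ∈ B) (hy : y ∈ B) : cls (D := D) hx = cls hy ↔ x⁻¹ * y ∈ D :=
  Additive.ofMul.injective.eq_iff.trans (QuotientGroup.eq.trans mem_subgroupOf)

theorem cls_zero {x : G} (hx : x ∈ B) : cls (D := D) hx = 0 ↔ x ∈ D :=
  Additive.ofMul.injective.eq_iff.trans ((QuotientGroup.eq_one_iff _).trans mem_subgroupOf)

/-- Conjugation on `B`. -/
def conjB (g : stab B D) : B →* B :=
  MonoidHom.mk' (fun x => ⟨(g : G) * x * (g : G)⁻¹, conj_mem g x.2⟩) fun x y => Subtype.ext (by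
    show (g : G) * (x * y : G) * (g : G)⁻¹ = (g : G) * x * (g : G)⁻¹ * ((g : G) * y * (g : G)⁻¹)
    group)

end

variable (hd : Data p Q T a B D)

/-- The commutative structure of the section. -/
@[reducible] def commGroup [(D.subgroupOf B).Normal] : CommGroup (B ⧸ D.subgroupOf B) where
  mul_comm x y := by
    obtain ⟨x, rfl⟩ := QuotientGroup.mk'_surjective (D.subgroupOf B) x
    obtain ⟨y, rfl⟩ := QuotientGroup.mk'_surjective (D.subgroupOf B) y
    rw [← commutatorElement_eq_one_iff_mul_comm, ← map_commutatorElement]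
    exact (QuotientGroup.eq_one_iff _).mpr (mem_subgroupOf.mpr (hd.comm _ (hd.hBQ x.2) _ y.2))

/-- The action on the section. -/
def act [(D.subgroupOf B).Normal] :
    letI := commGroup hd
    stab B D →* AddMonoid.End (Sec B D) :=
  let _ := commGroup hd
  { toFun := fun g => MonoidHom.toAdditive (QuotientGroup.map _ (D.subgroupOf B) (conjB g)
      fun _ hx => mem_subgroupOf.mpr (conj_memD g (mem_subgroupOf.mp hx)))
    map_one' := AddMonoidHom.ext fun v => by
      obtain ⟨x, hx, rfl⟩ := cls_surj v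
      exact cls_congr (conj_mem 1 hx) hx (by simp)
    map_mul' := fun g h => AddMonoidHom.ext fun v => by
      obtain ⟨x, hx, rfl⟩ := cls_surj v
      exact cls_congr (conj_mem (g * h) hx) (conj_mem g (conj_mem h hx)) (by simp [mul_assoc]) }

section

variable [hn : (D.subgroupOf B).Normal]

theorem act_cls (g : stab B D) {x : G} (hx : x ∈ B) :
    letI := commGroup hd
    act hd g (cls hx) = cls (conj_mem g hx) := rfl

theorem act_Q {q : G} (hq : q ∈ Q) :
    letI := commGroup hd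
    act hd ⟨q, mem_stab hd (mem_sup_left hq)⟩ = 1 := by
  let _ := commGroup hd
  refine AddMonoidHom.ext fun v => ?_
  obtain ⟨x, hx, rfl⟩ := cls_surj v
  refine (act_cls hd _ hx).trans ((cls_eq_iff (D := D) hx (conj_mem _ hx)).mpr ?_).symm
  have h1 := (mem_normalizer_iff.mp (hd.nD (mem_sup_left (hd.hBQ (inv_mem hx)))) _).mp (hd.comm q hq x hx)
  convert h1 using 1
  group

theorem natCast_eq_zero :
    letI := commGroup hd
    (p : AddMonoid.End (Sec B D)) = 0 := by
  let _ := commGroup hd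
  refine AddMonoidHom.ext fun v => ?_
  obtain ⟨x, hx, rfl⟩ := cls_surj v
  refine (AddMonoid.End.natCast_apply p _).trans ?_
  show Additive.ofMul ((QuotientGroup.mk' (D.subgroupOf B) ⟨x, hx⟩) ^ p) = 0
  rw [← map_pow]
  exact (cls_zero (pow_mem hx p)).mpr (hd.pow x hx)

include hd in
theorem exists_ne_zero : ∃ (x : G) (hx : x ∈ B), cls (D := D) hx ≠ 0 := by
  obtain ⟨x, hx, hx'⟩ := SetLike.not_le_iff_exists.mp hd.hne
  exact ⟨x, hx, fun e => hx' ((cls_zero hx).mp e)⟩

theorem act_T_mul (u w : T) :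
    letI := commGroup hd
    act hd ⟨(u * w : T), mem_stab hd (mem_sup_right (u * w).2)⟩ =
      act hd ⟨u, mem_stab hd (mem_sup_right u.2)⟩ * act hd ⟨w, mem_stab hd (mem_sup_right w.2)⟩ := by
  let _ := commGroup hd
  rw [← map_mul]
  exact congrArg (act hd) (Subtype.ext rfl)

theorem sum_T [Fintype T] :
    letI := commGroup hd
    ∑ s : T, act hd ⟨s, mem_stab hd (mem_sup_right s.2)⟩ = 0 := by
  let _ := commGroup hd
  set Tt : T → AddMonoid.End (Sec B D) := fun s => act hd ⟨s, mem_stab hd (mem_sup_right s.2)⟩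
  refine AddMonoidHom.ext fun v => ?_
  obtain ⟨x, hx, hxv⟩ := cls_surj ((∑ s : T, Tt s) v)
  refine hxv.symm.trans ((cls_zero hx).mpr (hd.fixed x hx fun t ht => ?_))
  have h1 : Tt ⟨t, ht⟩ * (∑ s : T, Tt s) = ∑ s : T, Tt s := by
    rw [Finset.mul_sum]
    have hb : Function.Bijective fun s : T => (⟨t, ht⟩ : T) * s := (Equiv.mulLeft (⟨t, ht⟩ : T)).bijective
    refine Fintype.sum_bijective _ hb _ _ fun s => ?_
    exact (act_T_mul hd ⟨t, ht⟩ s).symm
  have h2 : Tt ⟨t, ht⟩ (cls hx) = cls (D := D) hx := by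
    rw [hxv]
    exact DFunLike.congr_fun h1 v
  have h3 := (cls_eq_iff (D := D) hx (conj_mem _ hx)).mp ((act_cls hd _ hx).symm.trans h2).symm
  have h4 := (mem_normalizer_iff.mp (hd.nD (mem_sup_left (hd.hBQ hx))) _).mp h3
  convert h4 using 1
  group

theorem act_comm (i : ℕ) {t t' : G} (ht : t ∈ T) (ht' : t' ∈ T)
    (h : a ^ i * t * (a ^ i)⁻¹ * t'⁻¹ ∈ Q) :
    letI := commGroup hd
    act hd ⟨a, a_stab hd⟩ ^ i * act hd ⟨t, mem_stab hd (mem_sup_right ht)⟩ =
      act hd ⟨t', mem_stab hd (mem_sup_right ht')⟩ * act hd ⟨a, a_stab hd⟩ ^ i := by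
  let _ := commGroup hd
  rw [← map_pow, ← map_mul, ← map_mul]
  have h2 : (⟨a, a_stab hd⟩ : stab B D) ^ i * ⟨t, mem_stab hd (mem_sup_right ht)⟩ =
      ⟨_, mem_stab hd (mem_sup_left h)⟩ *
        ((⟨t', mem_stab hd (mem_sup_right ht')⟩ : stab B D) * ⟨a, a_stab hd⟩ ^ i) :=
    Subtype.ext (by simp only [Subgroup.coe_mul, SubgroupClass.coe_pow]; group)
  rw [h2, map_mul, act_Q hd h, one_mul]

theorem exists_sigma (hs : Setup p k Q T E a) : ∃ σ : ℕ → T → T,
    (∀ i (t : T), a ^ i * t * (a ^ i)⁻¹ * (σ i t : G)⁻¹ ∈ Q) ∧ (∀ t, σ 0 t = t) ∧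
    ∀ i, 0 < i → i < p ^ k → Function.Bijective fun s : T => s⁻¹ * σ i s := by
  have hQT : Q ⊓ T = ⊥ := Fusion.Basic.inf_eq_bot_of_coprime hs.hQ hs.hT
  have hex : ∀ (i : ℕ) (t : T), ∃ t' : T, a ^ i * t * (a ^ i)⁻¹ * (t' : G)⁻¹ ∈ Q := by
    intro i
    induction i with
    | zero => exact fun t => ⟨t, by simp⟩
    | succ i ih =>
      intro t
      obtain ⟨t', ht'⟩ := ih t
      obtain ⟨t'', ht'', hq⟩ := hs.haT t' t'.2
      refine ⟨⟨t'', ht''⟩, ?_⟩
      have h1 := mul_mem ((mem_normalizer_iff.mp hs.haQ _).mp ht') hq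
      convert h1 using 1
      simp only [pow_succ']
      group
  choose σ hσ using hex
  have huniq : ∀ (i : ℕ) (t t' : T), a ^ i * t * (a ^ i)⁻¹ * (t' : G)⁻¹ ∈ Q → σ i t = t' := by
    intro i t t' h
    have h1 := mul_mem (inv_mem (hσ i t)) h
    have h2 : ((σ i t : G) * (t' : G)⁻¹) ∈ Q ⊓ T :=
      Subgroup.mem_inf.mpr ⟨by convert h1 using 1; group, mul_mem (σ i t).2 (inv_mem t'.2)⟩
    rw [hQT, mem_bot, mul_inv_eq_one] at h2
    exact Subtype.ext h2
  have hσmul : ∀ i (s t : T), σ i (s * t) = σ i s * σ i t := by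
    intro i s t
    refine huniq i _ _ ?_
    have hsQ : (σ i s : G) ∈ normalizer (Q : Set G) := hs.hTQ (σ i s).2
    have h1 := mul_mem (hσ i s) ((mem_normalizer_iff.mp hsQ _).mp (hσ i t))
    convert h1 using 1
    simp only [Subgroup.coe_mul]
    group
  refine ⟨σ, hσ, fun t => huniq 0 t t (by simp), fun i hi0 hin => Finite.injective_iff_bijective.mp fun s t h => ?_⟩
  have hc : ∀ x y : T, x * y = y * x := fun x y => Subtype.ext (hs.hTab x x.2 y y.2)
  have hfix : σ i (s⁻¹ * t) = s⁻¹ * t := by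
    have h0 : σ i 1 = 1 := huniq i 1 1 (by simp)
    have hinv : σ i s⁻¹ = (σ i s)⁻¹ := eq_inv_of_mul_eq_one_left (by rw [← hσmul, inv_mul_cancel, h0])
    have h' : σ i t = t * (s⁻¹ * σ i s) := by rw [show s⁻¹ * σ i s = t⁻¹ * σ i t from h, mul_inv_cancel_left]
    rw [hσmul, hinv, h', ← mul_assoc, ← mul_assoc, hc (σ i s)⁻¹ t, mul_assoc t, mul_assoc t,
      hc (σ i s)⁻¹ s⁻¹, mul_assoc, inv_mul_cancel, mul_one, hc]
  have h3 := hσ i (s⁻¹ * t)
  rw [hfix] at h3
  exact inv_mul_eq_one.mp (Subtype.ext (hs.free _ (s⁻¹ * t).2 i hi0 hin h3))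

theorem geom_ne_zero (hs : Setup p k Q T E a) :
    letI := commGroup hd
    ∑ i ∈ range (p ^ k), act hd ⟨a, a_stab hd⟩ ^ i ≠ 0 := by
  let _ := commGroup hd
  intro hN
  let _ : Fintype T := Fintype.ofFinite T
  obtain ⟨σ, hσ, hσ0, hbij⟩ := exists_sigma hs
  set A := act hd ⟨a, a_stab hd⟩
  set Tt : T → AddMonoid.End (Sec B D) := fun t => act hd ⟨t, mem_stab hd (mem_sup_right t.2)⟩
  have hTmul : ∀ s t : T, Tt (s * t) = Tt s * Tt t := act_T_mul hd
  have hTone : Tt 1 = 1 := map_one (act hd)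
  have key : ∀ s : T, ∑ i ∈ range (p ^ k), Tt (s⁻¹ * σ i s) * A ^ i = 0 := by
    intro s
    have h1 : Tt s⁻¹ * ((∑ i ∈ range (p ^ k), A ^ i) * Tt s) = 0 := by rw [hN, zero_mul, mul_zero]
    rw [sum_mul, mul_sum] at h1
    rw [← h1]
    exact sum_congr rfl fun i _ => by
      rw [hTmul, mul_assoc, show A ^ i * Tt s = Tt (σ i s) * A ^ i from
        act_comm hd i s.2 (σ i s).2 (hσ i s)]
  have hsum : ∑ s : T, ∑ i ∈ range (p ^ k), Tt (s⁻¹ * σ i s) * A ^ i = 0 := sum_eq_zero fun s _ => key s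
  rw [sum_comm] at hsum
  simp only [← sum_mul] at hsum
  rw [sum_eq_single 0] at hsum
  · rw [pow_zero, mul_one] at hsum
    simp only [hσ0, inv_mul_cancel, hTone, sum_const, card_univ, nsmul_one] at hsum
    rw [← Nat.card_eq_fintype_card] at hsum
    obtain ⟨l, m, hlm⟩ : ∃ l m : ℤ, l * (Nat.card T : ℤ) + m * (p : ℤ) = 1 :=
      ⟨Nat.gcdA (Nat.card T) p, Nat.gcdB (Nat.card T) p, by
        rw [mul_comm, mul_comm (Nat.gcdB (Nat.card T) p), ← Nat.gcd_eq_gcd_ab, hs.hT.gcd_eq_one, Nat.cast_one]⟩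
    have h2 := congrArg (Int.cast : ℤ → AddMonoid.End (Sec B D)) hlm
    rw [Int.cast_add, Int.cast_mul, Int.cast_mul, Int.cast_natCast, Int.cast_natCast, hsum, natCast_eq_zero hd,
      mul_zero, mul_zero, add_zero, Int.cast_one] at h2
    obtain ⟨x, hx, hx'⟩ := exists_ne_zero hd
    exact hx' (DFunLike.congr_fun h2 (cls hx)).symm
  · intro i hi hi0
    rw [Fintype.sum_bijective _ (hbij i (Nat.pos_of_ne_zero hi0) (mem_range.mp hi)) _ Tt fun _ => rfl,
      sum_T hd, zero_mul]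
  · intro h
    exact absurd (mem_range.mpr (Nat.one_le_pow _ _ (Fact.out : p.Prime).pos)) h

end

/-- The result of the analysis of the section: a vector on which `a` acts freely. -/
theorem exists_free (hs : Setup p k Q T E a) [(D.subgroupOf B).Normal] :
    letI := commGroup hd
    ∃ A : AddMonoid.End (Sec B D),
      (∀ (x : G) (hx : x ∈ B), A (cls hx) = cls (conj_mem ⟨a, a_stab hd⟩ hx)) ∧ A ^ p ^ k = 1 ∧
      ((p : AddMonoid.End (Sec B D)) = 0) ∧ Nontrivial (Sec B D) ∧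
      ∃ u, ((A - 1) ^ (p ^ k - 1)) u ≠ 0 := by
  let _ := commGroup hd
  obtain ⟨x, hx, hx'⟩ := exists_ne_zero hd
  refine ⟨act hd ⟨a, a_stab hd⟩, fun y hy => act_cls hd _ hy, ?_, natCast_eq_zero hd, ⟨cls hx, 0, hx'⟩, ?_⟩
  · rw [← map_pow]
    exact act_Q hd (hs.hEQ hs.han)
  · by_contra hcon
    push Not at hcon
    have : Nontrivial (AddMonoid.End (Sec B D)) :=
      ⟨0, 1, fun h => hx' (DFunLike.congr_fun h (cls hx)).symm⟩
    refine geom_ne_zero hd hs ?_
    rw [JFactorAlgebra.geom_eq (natCast_eq_zero hd)]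
    exact AddMonoidHom.ext hcon

end CfsgLib.LocalEvenB.JFactorSection
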