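import Cfsg.Agent.Lib.LocalEvenB.JFactorAlgebra
import Cfsg.Agent.Lib.Coprime.Action
import Cfsg.Agent.Lib.Fusion.Basic

/-!
Abelian subgroups of largest order in `p`-solvable groups, `p ≥ 5`: the minimal section `B / D`.
-/

set_option autoImplicit false
set_option linter.unusedSectionVars false

namespace CfsgLib.LocalEvenB.JFactorSetup

open Subgroup
open scoped commutatorElement

variable {G : Type*} [Group G] {p k : ℕ}

/-- An abelian `p'`-group `T` and an element `a` acting on the `p`-group `Q`, `a` moving every element of `T` modulo `Q`. -/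
structure Setup (p k : ℕ) (Q T E : Subgroup G) (a : G) : Prop where
  five : 5 ≤ p
  kpos : 1 ≤ k
  hQ : IsPGroup p Q
  hT : (Nat.card T).Coprime p
  hTab : ∀ s ∈ T, ∀ t ∈ T, s * t = t * s
  hTQ : T ≤ normalizer (Q : Set G)
  haQ : a ∈ normalizer (Q : Set G)
  hap : ∃ r, a ^ p ^ r = 1
  haT : ∀ t ∈ T, ∃ t' ∈ T, a * t * a⁻¹ * t'⁻¹ ∈ Q
  free : ∀ t ∈ T, ∀ i, 0 < i → i < p ^ k → a ^ i * t * (a ^ i)⁻¹ * t⁻¹ ∈ Q → t = 1
  hne : ¬ T ≤ centralizer (Q : Set G)
  hEQ : E ≤ Q
  hEab : ∀ e ∈ E, ∀ f ∈ E, e * f = f * e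
  hEa : ∀ e ∈ E, e * a = a * e
  han : a ^ p ^ k ∈ E

/-- The elements of order prime to `p` in `Q T`. -/
def ppart (p : ℕ) (Q T : Subgroup G) : Subgroup G :=
  closure {g : G | g ∈ Q ⊔ T ∧ (orderOf g).Coprime p}

/-- The minimal section. -/
structure Data (p : ℕ) (Q T : Subgroup G) (a : G) (B D : Subgroup G) : Prop where
  hBQ : B ≤ Q
  hDB : D ≤ B
  hne : ¬ B ≤ D
  nB : Q ⊔ T ≤ normalizer (B : Set G)
  nD : Q ⊔ T ≤ normalizer (D : Set G)
  aB : a ∈ normalizer (B : Set G)
  aD : a ∈ normalizer (D : Set G)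
  central : ∀ b ∈ B, ∀ d ∈ D, b * d = d * b
  comm : ∀ q ∈ Q, ∀ b ∈ B, q * b * q⁻¹ * b⁻¹ ∈ D
  pow : ∀ b ∈ B, b ^ p ∈ D
  fixed : ∀ b ∈ B, (∀ t ∈ T, t * b * t⁻¹ * b⁻¹ ∈ D) → b ∈ D

variable [Finite G] [Fact p.Prime] {Q T E : Subgroup G} {a : G}

theorem mem_sup {g : G} (hs : Setup p k Q T E a) (hg : g ∈ Q ⊔ T) : ∃ q ∈ Q, ∃ t ∈ T, q * t = g :=
  (Coprime.mem_sup_of_le_normalizer hs.hTQ).mp hg

theorem a_normalizer (hs : Setup p k Q T E a) : a ∈ normalizer ((Q ⊔ T : Subgroup G) : Set G) := by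
  rw [mem_normalizer_iff_map_conj_eq]
  refine eq_of_le_of_card_ge ?_ (by rw [card_map_of_injective (MulAut.conj a).injective])
  rw [Subgroup.map_sup]
  refine sup_le (le_trans (le_of_eq (mem_normalizer_iff_map_conj_eq.mp hs.haQ)) le_sup_left) ?_
  rintro _ ⟨t, ht, rfl⟩
  obtain ⟨t', ht', hq⟩ := hs.haT t ht
  have := mul_mem (mem_sup_left (T := T) hq) (mem_sup_right ht')
  simpa using this

theorem sup_le_normalizer (hs : Setup p k Q T E a) : Q ⊔ T ≤ normalizer (Q : Set G) :=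
  sup_le le_normalizer hs.hTQ

theorem normalizer_ppart {g : G} (hg : g ∈ normalizer ((Q ⊔ T : Subgroup G) : Set G)) :
    g ∈ normalizer (ppart p Q T : Set G) := by
  rw [mem_normalizer_iff_map_conj_eq]
  refine eq_of_le_of_card_ge ?_ (by rw [card_map_of_injective (MulAut.conj g).injective])
  rw [ppart, MonoidHom.map_closure]
  refine closure_mono ?_
  rintro _ ⟨x, ⟨hx, hxc⟩, rfl⟩
  refine ⟨by simpa using (mem_normalizer_iff.mp hg x).mp hx, ?_⟩
  rwa [orderOf_injective _ (MulAut.conj g).injective]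

theorem le_ppart (hs : Setup p k Q T E a) : T ≤ ppart p Q T := fun _ ht =>
  subset_closure ⟨mem_sup_right ht, hs.hT.coprime_dvd_left (Subgroup.orderOf_dvd_natCard T ht)⟩

theorem ppart_le : ppart p Q T ≤ Q ⊔ T := (closure_le _).mpr fun _ hx => hx.1

theorem commute_of_mem (hB : IsPGroup p Q) {N : Subgroup G} (hN : N ≤ Q) {g b : G} (hg : (orderOf g).Coprime p)
    (hc : g ∈ centralizer (N : Set G)) (hb : g * b * g⁻¹ * b⁻¹ ∈ N) : g * b = b * g := by
  obtain ⟨e, he⟩ := (hB.to_le hN).exists_card_eq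
  exact (Coprime.commute_of_stabilizes (N := N) (by rw [he]; exact hg.pow_right e) hc
    (by rwa [commutatorElement_def])).eq

/-- The section exists. -/
theorem exists_data (hs : Setup p k Q T E a) : ∃ B D : Subgroup G, Data p Q T a B D := by
  have hK : Q ⊔ T ≤ normalizer (Q : Set G) := sup_le_normalizer hs
  set O := ppart p Q T with hO
  have hKO : Q ⊔ T ≤ normalizer (O : Set G) := fun g hg => normalizer_ppart (le_normalizer hg)
  have haO : a ∈ normalizer (O : Set G) := normalizer_ppart (a_normalizer hs)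
  let Fam : Set (Subgroup G) := {B | B ≤ O ⊓ Q ∧ Q ⊔ T ≤ normalizer (B : Set G) ∧ a ∈ normalizer (B : Set G) ∧
    ¬ O ≤ centralizer (B : Set G)}
  have hbase : O ⊓ Q ∈ Fam := by
    refine ⟨le_rfl, (le_inf hKO hK).trans inf_normalizer_le_normalizer_inf,
      inf_normalizer_le_normalizer_inf ⟨haO, hs.haQ⟩, fun h => hs.hne fun t ht => ?_⟩
    rw [mem_centralizer_iff]
    intro x hx
    refine (commute_of_mem (N := O ⊓ Q) hs.hQ inf_le_right
      (hs.hT.coprime_dvd_left (Subgroup.orderOf_dvd_natCard T ht)) (h (le_ppart hs ht)) ?_).symm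
    refine ⟨?_, Q.mul_mem ((mem_normalizer_iff.mp (hs.hTQ ht) x).mp hx) (Q.inv_mem hx)⟩
    have h1 : x * t⁻¹ * x⁻¹ ∈ O := (mem_normalizer_iff.mp (hKO (mem_sup_left hx)) _).mp (Subgroup.inv_mem O (le_ppart hs ht))
    have := mul_mem (le_ppart hs ht) h1
    simpa [mul_assoc] using this
  obtain ⟨B, hBF, hmin⟩ := (Set.toFinite Fam).exists_minimal ⟨_, hbase⟩
  obtain ⟨hBle, hnB, haB, hOB⟩ := hBF
  set D := B ⊓ centralizer (O : Set G) with hD
  have hnC : ∀ {g : G}, g ∈ normalizer (O : Set G) → g ∈ normalizer (centralizer (O : Set G) : Set G) := by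
    intro g hg
    rw [mem_normalizer_iff_map_conj_eq]
    refine eq_of_le_of_card_ge ?_ (by rw [card_map_of_injective (MulAut.conj g).injective])
    rintro _ ⟨c, hc, rfl⟩
    rw [mem_centralizer_iff]
    intro o ho
    have h1 : g⁻¹ * o * g ∈ O := by simpa using (mem_normalizer_iff.mp (inv_mem hg) o).mp ho
    have h2 := mem_centralizer_iff.mp hc _ h1
    show o * (g * c * g⁻¹) = g * c * g⁻¹ * o
    calc o * (g * c * g⁻¹) = g * ((g⁻¹ * o * g) * c) * g⁻¹ := by group
      _ = g * (c * (g⁻¹ * o * g)) * g⁻¹ := by rw [h2]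
      _ = g * c * g⁻¹ * o := by group
  have hnD : Q ⊔ T ≤ normalizer (D : Set G) :=
    (le_inf hnB fun g hg => hnC (hKO hg)).trans inf_normalizer_le_normalizer_inf
  have haD : a ∈ normalizer (D : Set G) := inf_normalizer_le_normalizer_inf ⟨haB, hnC haO⟩
  have hmin' : ∀ X : Subgroup G, X ≤ B → Q ⊔ T ≤ normalizer (X : Set G) → a ∈ normalizer (X : Set G) → X ≠ B →
      X ≤ D := fun X hX h1 h2 hne => by
    refine le_inf hX ?_
    by_contra h
    refine hne (le_antisymm hX (hmin ⟨hX.trans hBle, h1, h2, fun hO => h ?_⟩ hX))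
    exact le_centralizer_iff.mp hO
  have hne : ¬ B ≤ D := fun h => hOB (le_centralizer_iff.mp (h.trans inf_le_right))
  have hBQ : B ≤ Q := hBle.trans inf_le_right
  have hBp : IsPGroup p B := hs.hQ.to_le hBQ
  have hBbot : B ≠ ⊥ := fun h => hne (h ▸ bot_le)
  have hQB : Q ≤ normalizer (B : Set G) := le_sup_left.trans hnB
  -- `[B, Q] ≤ D`
  have hcomm : ∀ q ∈ Q, ∀ b ∈ B, q * b * q⁻¹ * b⁻¹ ∈ D := by
    have hlt := Coprime.commutator_lt_of_isPGroup hs.hQ hBp hQB hBbot
    have hnorm : ∀ {g : G}, g ∈ normalizer (B : Set G) → g ∈ normalizer (Q : Set G) →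
        g ∈ normalizer ((⁅B, Q⁆ : Subgroup G) : Set G) := fun {g} h1 h2 => by
      rw [mem_normalizer_iff_map_conj_eq, map_commutator, mem_normalizer_iff_map_conj_eq.mp h1,
        mem_normalizer_iff_map_conj_eq.mp h2]
    have hle := hmin' _ hlt.le (fun g hg => hnorm (hnB hg) (hK hg)) (hnorm haB hs.haQ) hlt.ne
    intro q hq b hb
    have := hle (commutator_mem_commutator hb hq)
    rw [← inv_mem_iff, commutatorElement_inv, commutatorElement_def] at this
    exact this
  have hBD : ∀ b ∈ B, ∀ c ∈ B, b * c * b⁻¹ * c⁻¹ ∈ D := fun b hb c hc => hcomm b (hBQ hb) c hc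
  -- `p`-th powers
  have hpow : ∀ b ∈ B, b ^ p ∈ D := by
    set P : Set G := (fun b => b ^ p) '' (B : Set G)
    set X := D ⊔ closure P with hX
    have hXB : X ≤ B := sup_le inf_le_left ((closure_le _).mpr (by rintro _ ⟨b, hb, rfl⟩; exact pow_mem hb p))
    have hnX : ∀ {g : G}, g ∈ normalizer (B : Set G) → g ∈ normalizer (D : Set G) →
        g ∈ normalizer (X : Set G) := fun {g} h1 h2 => by
      rw [mem_normalizer_iff_map_conj_eq]
      refine eq_of_le_of_card_ge ?_ (by rw [card_map_of_injective (MulAut.conj g).injective])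
      rw [hX, Subgroup.map_sup, MonoidHom.map_closure, mem_normalizer_iff_map_conj_eq.mp h2]
      refine sup_le_sup_left (closure_mono ?_) _
      rintro _ ⟨_, ⟨b, hb, rfl⟩, rfl⟩
      exact ⟨MulAut.conj g b, by simpa using (mem_normalizer_iff.mp h1 b).mp hb, by simp⟩
    rcases ne_or_eq X B with hne' | heq
    · exact fun b hb => hmin' X hXB (fun g hg => hnX (hnB hg) (hnD hg)) (hnX haB haD) hne'
        (mem_sup_right (subset_closure ⟨b, hb, rfl⟩))
    exfalso
    have hDn : (D.subgroupOf B).Normal :=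
      normal_subgroupOf_of_le_normalizer ((hBQ.trans le_sup_left).trans hnD)
    let π := QuotientGroup.mk' (D.subgroupOf B)
    have hab : ∀ x y : B ⧸ D.subgroupOf B, x * y = y * x := fun x y => by
      obtain ⟨x, rfl⟩ := QuotientGroup.mk'_surjective (D.subgroupOf B) x
      obtain ⟨y, rfl⟩ := QuotientGroup.mk'_surjective (D.subgroupOf B) y
      rw [← commutatorElement_eq_one_iff_mul_comm, ← map_commutatorElement]
      exact (QuotientGroup.eq_one_iff _).mpr (mem_subgroupOf.mpr (hBD _ x.2 _ y.2))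
    let _ : CommGroup (B ⧸ D.subgroupOf B) := { (inferInstance : Group (B ⧸ D.subgroupOf B)) with mul_comm := hab }
    let pw : (B ⧸ D.subgroupOf B) →* (B ⧸ D.subgroupOf B) := powMonoidHom p
    have hle : X.subgroupOf B ≤ pw.range.comap π := by
      rw [← map_le_map_iff_of_injective B.subtype_injective, subgroupOf_map_subtype, inf_eq_left.mpr hXB, hX]
      refine sup_le (fun d hd => ⟨⟨d, inf_le_left (a := B) hd⟩, ?_, rfl⟩) ((closure_le _).mpr ?_)
      · show π _ ∈ pw.range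
        rw [show π ⟨d, _⟩ = 1 from (QuotientGroup.eq_one_iff _).mpr (mem_subgroupOf.mpr hd)]
        exact one_mem _
      · rintro _ ⟨b, hb, rfl⟩
        exact ⟨⟨b, hb⟩ ^ p, ⟨π ⟨b, hb⟩, (map_pow π _ p).symm⟩, by simp⟩
    have hsurj : Function.Surjective pw := fun x => by
      obtain ⟨x, rfl⟩ := QuotientGroup.mk'_surjective (D.subgroupOf B) x
      exact hle (show x ∈ X.subgroupOf B by rw [mem_subgroupOf, heq]; exact x.2)
    have hinj := Finite.injective_iff_surjective.mpr hsurj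
    have hq : IsPGroup p (B ⧸ D.subgroupOf B) := hBp.to_quotient _
    refine hne fun b hb => ?_
    obtain ⟨i, hi⟩ := hq (π ⟨b, hb⟩)
    have : ∀ j : ℕ, ∀ x : B ⧸ D.subgroupOf B, x ^ p ^ j = 1 → x = 1 := by
      intro j
      induction j with
      | zero => intro x hx; simpa using hx
      | succ j ih =>
        intro x hx
        refine ih x (hinj (a₁ := x ^ p ^ j) (a₂ := 1) ?_)
        simp only [pw, powMonoidHom_apply, one_pow, ← pow_mul, ← pow_succ, hx]
    exact mem_subgroupOf.mp ((QuotientGroup.eq_one_iff _).mp (this i _ hi))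
  refine ⟨B, D, hBQ, inf_le_left, hne, hnB, hnD, haB, haD, fun b hb d hd => ?_, hcomm, hpow, ?_⟩
  · exact mem_centralizer_iff.mp hd.2 b ((hBle hb).1)
  -- fixed points
  let Z : Subgroup G :=
    { carrier := {b | b ∈ B ∧ ∀ g ∈ Q ⊔ T, g * b * g⁻¹ * b⁻¹ ∈ D}
      one_mem' := ⟨one_mem _, fun g _ => by simp⟩
      mul_mem' := by
        rintro b c ⟨hb, hb'⟩ ⟨hc, hc'⟩
        refine ⟨mul_mem hb hc, fun g hg => ?_⟩
        have h1 := mul_mem (hb' g hg) ((mem_normalizer_iff.mp (hnD (mem_sup_left (hBQ hb))) _).mp (hc' g hg))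
        convert h1 using 1
        group
      inv_mem' := by
        rintro b ⟨hb, hb'⟩
        refine ⟨inv_mem hb, fun g hg => ?_⟩
        have h1 := (mem_normalizer_iff.mp (hnD (mem_sup_left (hBQ (inv_mem hb)))) _).mp (inv_mem (hb' g hg))
        convert h1 using 1
        group }
  have hnZ : ∀ {x : G}, x ∈ normalizer (B : Set G) → x ∈ normalizer (D : Set G) →
      x ∈ normalizer ((Q ⊔ T : Subgroup G) : Set G) → x ∈ normalizer (Z : Set G) := fun {x} h1 h2 h3 => by
    rw [mem_normalizer_iff_map_conj_eq]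
    refine eq_of_le_of_card_ge ?_ (by rw [card_map_of_injective (MulAut.conj x).injective])
    rintro _ ⟨b, ⟨hb, hb'⟩, rfl⟩
    refine ⟨by simpa using (mem_normalizer_iff.mp h1 b).mp hb, fun g hg => ?_⟩
    have h4 : x⁻¹ * g * x ∈ Q ⊔ T := by simpa using (mem_normalizer_iff.mp (inv_mem h3) g).mp hg
    have h5 := (mem_normalizer_iff.mp h2 _).mp (hb' _ h4)
    convert h5 using 1
    show g * (x * b * x⁻¹) * g⁻¹ * (x * b * x⁻¹)⁻¹ = _
    group
  have hZ : Z ≤ D := by
    refine hmin' Z (fun b hb => hb.1) (fun g hg => hnZ (hnB hg) (hnD hg) (le_normalizer hg))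
      (hnZ haB haD (a_normalizer hs)) fun he => hOB ?_
    rw [hO, ppart, closure_le]
    rintro g ⟨hgK, hgc⟩
    rw [SetLike.mem_coe, mem_centralizer_iff]
    intro b hb
    have hbZ : b ∈ Z := by rw [he]; exact hb
    refine (commute_of_mem hs.hQ (inf_le_left.trans hBQ) hgc ?_ (hbZ.2 g hgK)).symm
    rw [mem_centralizer_iff]
    intro d hd
    exact (mem_centralizer_iff.mp hd.2 g (subset_closure ⟨hgK, hgc⟩)).symm
  intro b hb hfix
  refine hZ ⟨hb, fun g hg => ?_⟩
  obtain ⟨q, hq, t, ht, rfl⟩ := mem_sup hs hg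
  have h1 := mul_mem ((mem_normalizer_iff.mp (hnD (mem_sup_left hq)) _).mp (hfix t ht)) (hcomm q hq b hb)
  convert h1 using 1
  group

end CfsgLib.LocalEvenB.JFactorSetup
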