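import Cfsg.Agent.Lib.LocalEvenB.JExist

/-!
The Thompson subgroup of a solvable group is generated by `J(T)`, `O₂` and the `J(T)`-components.
-/

set_option autoImplicit false
set_option linter.style.haveILetI false
set_option linter.unusedSectionVars false

open scoped Pointwise

namespace CfsgLib.LocalEvenB.JGenerate

open CfsgLib.Fusion CfsgLib.Fusion.OffenderTv CfsgLib.Fusion.OffenderAction
open CfsgLib.LocalEven

universe u

attribute [local instance] OmegaCenter.normal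

variable {L : Type u} [Group L] [Finite L]

local notation "VV" => OmegaCenter.closureOmega 2 L
local notation "CC" => Subgroup.centralizer (VV : Set L)
local notation "QQ" => L ⧸ CC
local notation "qq" => QuotientGroup.mk' CC
local notation "RR" => Cfsg.pCore 2 L
local notation "JA" => Cfsg.thompsonSubgroup 2 L

/-- The part of being a `J(T)`-component that is visible in `L`. -/
structure IsComp (T : Sylow 2 L) (K : Subgroup L) : Prop where
  gen : Subgroup.closure {g : L | g ∈ K ∧ Odd (orderOf g)} = K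
  comm : ⁅K, Cfsg.thompsonSubgroupOf 2 (T : Subgroup L)⁆ = K
  idx : (Cfsg.pCoreOf 2 K).relIndex K = 3
  wcard : Nat.card ↥(Cfsg.wOf K) = 4
  wsq : ∀ w ∈ Cfsg.wOf K, w * w = 1

variable (h : JLocal.Setting L)
include h

/-- If `J(T)` is not in `O₂(L)` then `L` has a component. -/
theorem exists_isComp (T : Sylow 2 L)
    (hJ : ¬ Cfsg.thompsonSubgroupOf 2 (T : Subgroup L) ≤ RR) : ∃ K, IsComp T K := by
  haveI : Fact (Nat.Prime 2) := ⟨Nat.prime_two⟩
  obtain ⟨A₀, hA₀, hle⟩ := Fusion.Thompson.exists_maxEA_le_sylow T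
  obtain ⟨A, hA, hAT, hAR⟩ : ∃ A ∈ Cfsg.maxElementaryAbelianSubgroups 2 L,
      A ≤ (T : Subgroup L) ∧ ¬ A ≤ RR := by
    by_contra hcon
    push Not at hcon
    refine hJ ?_
    rw [Fusion.Thompson.thompsonSubgroupOf_eq hA₀ hle]
    exact sSup_le fun A hA => hcon A hA.1 hA.2
  obtain ⟨a, ⟨j, hj, rfl⟩, hja⟩ : ∃ a, a ∈ A.map qq ∧ IsTv (p := 2) a := by
    by_contra hcon
    push Not at hcon
    refine hAR fun x hx => JLocal.two_mem h ((QuotientGroup.eq_one_iff x).1 ?_)
      ((Fusion.Thompson.isPGroup_isEA hA.1).to_le (Subgroup.zpowers_le.2 hx))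
    have h1 := JLocal.map_max_le h hA (Subgroup.mem_map_of_mem qq hx)
    have h2 : Subgroup.closure {a : QQ | a ∈ A.map qq ∧ IsTv (p := 2) a} = ⊥ :=
      le_bot_iff.1 ((Subgroup.closure_le _).2 fun a ha => absurd ha.2 (hcon a ha.1))
    rw [h2] at h1
    exact h1
  obtain ⟨K, h1, h2, h3, h4, h5, -⟩ := JExist.exists_comp h T hA hAT hj hja
  exact ⟨K, h1, h2, h3, h4, h5⟩

/-- A Sylow subgroup of a normal subgroup containing `J(T)` has the same Thompson subgroup. -/
theorem thompson_eq_of_between (T : Sylow 2 L) {T1 : Subgroup L} (hT1 : IsPGroup 2 T1)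
    (hJ : Cfsg.thompsonSubgroupOf 2 (T : Subgroup L) ≤ T1) :
    Cfsg.thompsonSubgroupOf 2 T1 = Cfsg.thompsonSubgroupOf 2 (T : Subgroup L) := by
  haveI : Fact (Nat.Prime 2) := ⟨Nat.prime_two⟩
  obtain ⟨A₀, hA₀, hle⟩ := Fusion.Thompson.exists_maxEA_le_sylow T
  have hA₀1 : A₀ ≤ T1 := (JExist.le_thompson hA₀ hle).trans hJ
  obtain ⟨S, hS⟩ := hT1.exists_le_sylow
  have hge : Cfsg.thompsonSubgroupOf 2 (T : Subgroup L) ≤ Cfsg.thompsonSubgroupOf 2 T1 := by
    rw [Fusion.Thompson.thompsonSubgroupOf_eq hA₀ hle, Fusion.Thompson.thompsonSubgroupOf_eq hA₀ hA₀1]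
    exact sSup_le_sSup fun A hA => ⟨hA.1, (JExist.le_thompson hA.1 hA.2).trans hJ⟩
  have hle2 : Cfsg.thompsonSubgroupOf 2 T1 ≤ Cfsg.thompsonSubgroupOf 2 (S : Subgroup L) := by
    rw [Fusion.Thompson.thompsonSubgroupOf_eq hA₀ hA₀1,
      Fusion.Thompson.thompsonSubgroupOf_eq hA₀ (hA₀1.trans hS)]
    exact sSup_le_sSup fun A hA => ⟨hA.1, hA.2.trans hS⟩
  obtain ⟨g, hg⟩ := MulAction.exists_smul_eq L T S
  refine (Subgroup.eq_of_le_of_card_ge hge ((Subgroup.card_dvd_of_le hle2 |> Nat.le_of_dvd Nat.card_pos).trans ?_)).symm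
  rw [← hg, Fusion.Thompson.thompsonSubgroupOf_smul, Subgroup.card_map_of_injective (MulAut.conj g).injective]

/-- The Thompson subgroup lies in any subgroup containing `J(T)`, `O₂(L)` and all components. -/
theorem thompson_le (T : Sylow 2 L) {H : Subgroup L}
    (hJ : Cfsg.thompsonSubgroupOf 2 (T : Subgroup L) ≤ H) (hR : RR ≤ H)
    (hcomp : ∀ K, IsComp T K → K ≤ H) : JA ≤ H := by
  haveI : Fact (Nat.Prime 2) := ⟨Nat.prime_two⟩
  set J := Cfsg.thompsonSubgroupOf 2 (T : Subgroup L) with hJdef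
  obtain ⟨T1, hT1, hJT1⟩ := SylowIn.exists_isSylowIn (p := 2) JA (JExist.thompson_le_ja T)
    (T.isPGroup'.to_le (Fusion.Thompson.thompsonSubgroupOf_le _))
  have hJeq : Cfsg.thompsonSubgroupOf 2 T1 = J := thompson_eq_of_between h T hT1.2.1 hJT1
  -- every maximal elementary abelian subgroup is conjugate inside `J(L)` to one in `J`
  have hA : ∀ A ∈ Cfsg.maxElementaryAbelianSubgroups 2 L, ∃ l ∈ JA, A ≤ J.map (MulAut.conj l).toMonoidHom := by
    intro A hA
    obtain ⟨S, hS⟩ := (Fusion.Thompson.isPGroup_isEA hA.1).exists_le_sylow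
    obtain ⟨g, hg⟩ := MulAction.exists_smul_eq L T S
    obtain ⟨l, hl, n, hn, rfl⟩ := SylowIn.frattini_argument (H := (⊤ : Subgroup L)) hT1
      (by rw [Subgroup.normalizer_eq_top_iff.2 inferInstance]) le_top (Subgroup.mem_top g)
    refine ⟨l, hl, ?_⟩
    have h1 := JExist.le_thompson hA hS
    rw [← hg, Fusion.Thompson.thompsonSubgroupOf_smul] at h1
    have h2 : J.map (MulAut.conj n).toMonoidHom = J := by
      rw [← hJeq]
      exact SylowIn.map_conj_eq_iff.2 (Fusion.Thompson.normalizer_le_normalizer_thompsonOf _ hn.2)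
    rwa [← SylowIn.map_conj_conj, h2] at h1
  -- the image of `H` contains that of `J(L)`
  have himg : (JA).map qq ≤ H.map qq := by
    rw [Subgroup.map_le_iff_le_comap]
    refine sSup_le fun A hAm => Subgroup.map_le_iff_le_comap.1 ?_
    refine (JLocal.map_max_le h hAm).trans ((Subgroup.closure_le _).2 ?_)
    rintro b ⟨⟨z, hz, rfl⟩, hb⟩
    obtain ⟨l, hl, hAl⟩ := hA A hAm
    set A' := A.map (MulAut.conj l⁻¹).toMonoidHom with hA'def
    have hA' : A' ∈ Cfsg.maxElementaryAbelianSubgroups 2 L := Fusion.Thompson.maxEA_map_equiv (MulAut.conj l⁻¹) hAm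
    have hA'J : A' ≤ J := by
      refine (Subgroup.map_mono hAl).trans (le_of_eq ?_)
      rw [SylowIn.map_conj_conj, inv_mul_cancel, SylowIn.map_conj_one]
    set j := l⁻¹ * z * l with hjdef
    have hjA' : j ∈ A' := ⟨z, hz, by simp [hjdef]⟩
    have hja : IsTv (p := 2) (qq j) := by
      have := tau_isTv h.sep h.core (MulAut.conj : L →* MulAut L) l⁻¹ hb
      rw [tau_mk] at this
      simpa [hjdef] using this
    obtain ⟨K, h1, h2, h3, h4, h5, h6⟩ := JExist.exists_comp h T hA' (hA'J.trans (Fusion.Thompson.thompsonSubgroupOf_le _)) hjA' hja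
    have hKH : K ≤ H := hcomp K ⟨h1, h2, h3, h4, h5⟩
    have hlq : qq l ∈ jq 2 L := Subgroup.mem_map_of_mem _ hl
    have hbe : qq z ∈ egroup (qq j) := by
      have e : qq z = qq l * qq j * (qq l)⁻¹ := by
        rw [← map_inv, ← map_mul, ← map_mul]; congr 1; rw [hjdef]; group
      have h := self_mem (p := 2) (K := L) (qq z)
      rw [e, egroup_conj hlq] at h
      rwa [e]
    obtain ⟨k, -, hk3, hk1, hke, -⟩ := JExist.exists_inverted h hA' hjA' hja
    have hk3' : qq k ^ 3 = 1 := by rw [← map_pow, hk3, map_one]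
    have hx : qq k ∈ H.map qq := Subgroup.map_mono hKH (h6 _ hke hk3')
    have hj : qq j ∈ H.map qq := Subgroup.mem_map_of_mem _ (hJ (hA'J hjA'))
    rcases JLocal.involution_conj h hja hke hk3' hk1 hbe (JLocal.tv_sq h hb) (JLocal.tv_ne h hb) with e | e | e <;>
      rw [SetLike.mem_coe, e]
    · exact hj
    · exact mul_mem (mul_mem hx hj) (inv_mem hx)
    · exact mul_mem (mul_mem (mul_mem hx hx) hj) (inv_mem (mul_mem hx hx))
  refine sSup_le fun A hAm => ?_
  obtain ⟨l, hl, hAl⟩ := hA A hAm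
  refine hAl.trans ?_
  obtain ⟨y, hy, hyl⟩ := himg (Subgroup.mem_map_of_mem _ hl)
  have hcC : y⁻¹ * l ∈ CC := QuotientGroup.eq.1 hyl
  rintro _ ⟨x, hx, rfl⟩
  show l * x * l⁻¹ ∈ H
  have h1 := inv_mem (JLocal.comm_cc h hcC (Subgroup.mem_sup_left (JExist.thompson_le_ja T hx)))
  have e : l * x * l⁻¹ = y * ((x * (y⁻¹ * l) * x⁻¹ * (y⁻¹ * l)⁻¹)⁻¹ * x) * y⁻¹ := by group
  rw [e]
  exact mul_mem (mul_mem hy (mul_mem (hR h1) (hJ hx))) (inv_mem hy)

end CfsgLib.LocalEvenB.JGenerate
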