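import Cfsg.Agent.Lib.LocalEvenB.JShape
import Cfsg.Agent.Lib.Solvable.FrattiniFitting

/-!
The maximal straddling subgroup `T`: it centralizes `Ω₁(Z(J(T)))` and lies in two vertices with
noncommuting four-groups.
-/

set_option autoImplicit false
set_option linter.style.haveILetI false
set_option linter.unusedSectionVars false

open scoped Pointwise commutatorElement

namespace CfsgLib.LocalEvenB.JGlobal

open Subgroup CfsgLib.LocalEven JVertex JOffend JSquares JPath JPairs JShape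

universe u

variable {G : Type u} [Group G] [Finite G]

theorem le_of_le_normalizer {X : Subgroup G} (hX : IsPGroup 2 X) (S : Sylow 2 G)
    (hn : X ≤ normalizer ((S : Subgroup G) : Set G)) : X ≤ (S : Subgroup G) := by
  have h := S.is_maximal' (IsPGroup.to_sup_of_normal_left' S.isPGroup' hX hn) le_sup_left
  exact h ▸ le_sup_right

theorem sylowIn_top (S : Sylow 2 G) : SylowIn.IsSylowIn 2 (S : Subgroup G) ⊤ :=
  ⟨le_top, S.isPGroup', fun _ _ hU hle => S.is_maximal' hU hle⟩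

theorem exists_sylow_map (S : Sylow 2 G) (g : G) : ∃ S' : Sylow 2 G, (S' : Subgroup G) = cj g (S : Subgroup G) := by
  refine ⟨⟨cj g (S : Subgroup G), S.isPGroup'.map _, fun {Q} hQ hle => ?_⟩, rfl⟩
  have h : cj g⁻¹ (cj g (S : Subgroup G)) ≤ cj g⁻¹ Q := map_mono hle
  rw [cj_cj, inv_mul_cancel, cj_one] at h
  have h' := S.is_maximal' (hQ.map _) h
  rw [← h', cj_cj, mul_inv_cancel, cj_one]

theorem maxIn_cj {T A : Subgroup G} (hA : JComponent.MaxIn T A) (g : G) : JComponent.MaxIn (cj g T) (cj g A) := by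
  refine ⟨map_mono hA.1, Fusion.Thompson.isEA_map _ hA.2.1, fun B hB hBe => ?_⟩
  have h : cj g⁻¹ B ≤ cj g⁻¹ (cj g T) := map_mono hB
  rw [cj_cj, inv_mul_cancel, cj_one] at h
  have h2 := hA.2.2 _ h (Fusion.Thompson.isEA_map _ hBe)
  rw [card_map_of_injective (MulAut.conj g⁻¹).injective] at h2
  rwa [card_map_of_injective (MulAut.conj g).injective]

theorem maxOrder_cj (T : Subgroup G) (g : G) :
    Cfsg.maxElemAbelianOrder (cj g T) = Cfsg.maxElemAbelianOrder T := by
  obtain ⟨A, hA⟩ := JComponent.exists_maxIn T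
  rw [Straddle.maxElemAbelianOrder_eq hA, Straddle.maxElemAbelianOrder_eq (maxIn_cj hA g),
    card_map_of_injective (MulAut.conj g).injective]

theorem card_thompson_cj (T : Subgroup G) (g : G) :
    Nat.card ↥(Cfsg.thompsonSubgroupOf 2 (cj g T)) = Nat.card ↥(Cfsg.thompsonSubgroupOf 2 T) := by
  rw [cj, Fusion.Thompson.thompsonSubgroupOf_map_conj, card_map_of_injective (MulAut.conj g).injective]

theorem maxStraddle_conj {M T : Subgroup G} (hT : T ∈ Cfsg.maxStraddlingTwoSubgroups M) {g : G} (hg : g ∈ M) :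
    cj g T ∈ Cfsg.maxStraddlingTwoSubgroups M := by
  obtain ⟨⟨hp, h1, hM, X, hX, hTX, hXM⟩, hmax⟩ := hT
  have hgM : cj g M = M := SylowIn.map_conj_eq_iff.2 (Subgroup.le_normalizer hg)
  refine ⟨⟨hp.map _, fun e => h1 ?_, (map_mono hM).trans hgM.le, cj g X, isTwoLocal_cj hX g, map_mono hTX,
    fun h => hXM ?_⟩, fun U hU => ?_⟩
  · exact map_injective (f := (MulAut.conj g).toMonoidHom) (MulAut.conj g).injective (by rw [Subgroup.map_bot]; exact e)
  · rw [← hgM] at h
    exact (map_le_map_iff_of_injective (MulAut.conj g).injective).1 h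
  · rw [maxOrder_cj, card_thompson_cj, card_map_of_injective (MulAut.conj g).injective]
    exact hmax U hU

theorem exists_max {M : Subgroup G} (h : (Cfsg.straddlingTwoSubgroups M).Nonempty) :
    (Cfsg.maxStraddlingTwoSubgroups M).Nonempty := by
  set N := Nat.card G
  obtain ⟨T0, hT0, hmax⟩ := Set.exists_max_image (Cfsg.straddlingTwoSubgroups M) (fun T : Subgroup G =>
    Cfsg.maxElemAbelianOrder T * ((N + 1) * (N + 1)) + Nat.card ↥(Cfsg.thompsonSubgroupOf 2 T) * (N + 1) + Nat.card T)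
    (Set.toFinite _) h
  refine ⟨T0, hT0, fun T hT => ?_⟩
  have hm := hmax T hT
  have hj : ∀ X : Subgroup G, Nat.card X ≤ N := fun X =>
    Nat.le_of_dvd Nat.card_pos (card_subgroup_dvd_card X)
  have j1 := hj (Cfsg.thompsonSubgroupOf 2 T)
  have j2 := hj (Cfsg.thompsonSubgroupOf 2 T0)
  have n1 := hj T
  have n2 := hj T0
  have h1 : Cfsg.maxElemAbelianOrder T ≤ Cfsg.maxElemAbelianOrder T0 := by nlinarith
  refine ⟨h1, fun e => ?_⟩
  rw [e] at hm
  have h2 : Nat.card ↥(Cfsg.thompsonSubgroupOf 2 T) ≤ Nat.card ↥(Cfsg.thompsonSubgroupOf 2 T0) := by nlinarith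
  exact ⟨h2, fun e' => by rw [e'] at hm; omega⟩

theorem sylow_max {M : Subgroup G} (S : Sylow 2 G) (hS : (S : Subgroup G) ∈ Cfsg.straddlingTwoSubgroups M) :
    (S : Subgroup G) ∈ Cfsg.maxStraddlingTwoSubgroups M := by
  haveI : Fact (Nat.Prime 2) := ⟨Nat.prime_two⟩
  refine ⟨hS, fun X hX => ?_⟩
  obtain ⟨g, -, hle⟩ := Straddle.le_map_of_sylow (Straddle.isSylowTwoIn_iff.2 (sylowIn_top S)) le_top hX.1
  have h : cj g⁻¹ X ≤ cj g⁻¹ (cj g (S : Subgroup G)) := map_mono hle
  rw [cj_cj, inv_mul_cancel, cj_one] at h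
  obtain ⟨A, hA⟩ := JComponent.exists_maxIn (S : Subgroup G)
  obtain ⟨B, hB⟩ := JComponent.exists_maxIn X
  have hB' := maxIn_cj hB g⁻¹
  have hcX : Nat.card ↥(cj g⁻¹ X) = Nat.card X := card_map_of_injective (MulAut.conj g⁻¹).injective
  rw [← maxOrder_cj X g⁻¹, ← card_thompson_cj X g⁻¹, ← hcX,
    Straddle.maxElemAbelianOrder_eq hA, Straddle.maxElemAbelianOrder_eq hB']
  refine ⟨hA.2.2 _ (hB'.1.trans h) hB'.2.1, fun e => ⟨Nat.le_of_dvd Nat.card_pos (card_dvd_of_le ?_),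
    fun _ => Nat.le_of_dvd Nat.card_pos (card_dvd_of_le h)⟩⟩
  exact JComponent.thompson_le fun C hC => JComponent.maxIn_le ⟨hC.1.trans h, hC.2.1, fun D hD hDe =>
    (hA.2.2 D hD hDe).trans (e ▸ hC.2.2 _ hB'.1 hB'.2.1)⟩

theorem exists_maximal {X : Subgroup G} (hX : Cfsg.IsTwoLocal X) :
    ∃ L, Cfsg.IsMaximalTwoLocal L ∧ X ≤ L := by
  obtain ⟨L, ⟨hL, hXL⟩, hmax⟩ := Set.exists_max_image {L : Subgroup G | Cfsg.IsTwoLocal L ∧ X ≤ L}
    (fun L : Subgroup G => Nat.card L) (Set.toFinite _) ⟨X, hX, le_rfl⟩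
  exact ⟨L, ⟨hL, fun N hN hle => (eq_of_le_of_card_ge hle (hmax N ⟨hN, hXL.trans hle⟩)).symm⟩, hXL⟩

section Outside

variable (H : Hyp G) {M T : Subgroup G} (hT : T ∈ Cfsg.maxStraddlingTwoSubgroups M) {S : Sylow 2 G}
  (hMJ : normalizer (Cfsg.thompsonSubgroupOf 2 (S : Subgroup G) : Set G) ≤ M)
include H hT hMJ

theorem vertex_of {K : Subgroup G} (hK : K ∈ Cfsg.jComponentsOutside M T) :
    ∃ L, Vertex T K L ∧ ∀ L' : Subgroup G, Cfsg.IsMaximalTwoLocal L' → K ⊔ Cfsg.thompsonSubgroupOf 2 T ≤ L' → L' = L := by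
  obtain ⟨L, hL, hKJ, huniq, -, hTS⟩ := JPlanes.main H.char2 H.solv H.cz hT hMJ hK
  refine ⟨L, ⟨hK.1.1, hL, le_sup_left.trans hKJ, hTS, fun X hX hKX hJX => ?_⟩, huniq⟩
  obtain ⟨X', hX', hXX'⟩ := exists_maximal hX
  exact hXX'.trans (huniq X' hX' (sup_le (hKX.trans hXX') (hJX.trans hXX'))).le

theorem vertex_in {X : Subgroup G} (hX : Cfsg.IsTwoLocal X) (hTX : T ≤ X) (hXM : ¬ X ≤ M) :
    ∃ K L, Vertex T K L ∧ K ≤ X ∧ ¬ K ≤ M ∧ X ≤ L := by
  haveI : Fact (Nat.Prime 2) := ⟨Nat.prime_two⟩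
  obtain ⟨hTp, hT1, hTM, -⟩ := hT.1
  have hTS := Straddle.sylow_of_le hT hMJ hX hXM hTX
  have hLT := Straddle.overgroup hT hMJ H.char2 hX hXM hTS (Fusion.Thompson.thompsonSubgroupOf_le T)
  obtain ⟨K, hK, hKX, hKM⟩ : ∃ K : Subgroup G, Cfsg.IsJComponent T K ∧ K ≤ X ∧ ¬ K ≤ M := by
    by_contra hcon
    push Not at hcon
    exact hXM (Straddle.overgroup_le H.solv H.cz hT1 hLT hTM (Straddle.normalizer_thompson_le hT hMJ) hcon)
  obtain ⟨L, hv, -⟩ := vertex_of H hT hMJ (K := K) ⟨⟨hK, fun U hJU hU => by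
    obtain ⟨h2, hNM, -, -⟩ := JPlanes.normalizer_wOf_facts H.char2 H.solv H.cz hT hMJ hK hKM
    exact (Straddle.sylow_facts hT hMJ h2 hNM hU hJU).2⟩, hKM, by
      have hRT : Cfsg.pCoreOf 2 X ≤ T := SylowIn.pCoreOf_le_sylowIn (Straddle.isSylowTwoIn_iff.1 hTS)
      have := SylowIn.le_pCoreOf (hRT.trans le_sup_right) ((sup_le hKX hTX).trans (SylowIn.normalizer_pCoreOf X))
        (hTp.to_le hRT)
      exact fun e => Straddle.pCoreOf_ne_bot hT1 hLT (le_bot_iff.1 (e ▸ this))⟩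
  exact ⟨K, L, hv, hKX, hKM, hv.uniq X hX hKX ((Fusion.Thompson.thompsonSubgroupOf_le T).trans hTX)⟩

end Outside

local notation "Ω" => Cfsg.omegaCenterOf

theorem omega_le {T K L : Subgroup G} (H : Hyp G) (hv : Vertex T K L) (S : Sylow 2 G) (hTS : T ≤ (S : Subgroup G)) :
    Ω (S : Subgroup G) ≤ Ω (Cfsg.thompsonSubgroupOf 2 T) := by
  haveI : Fact (Nat.Prime 2) := ⟨Nat.prime_two⟩
  intro x hx
  have hxS := JComponent.omegaCenterOf_le _ hx
  have hR : Cfsg.pCoreOf 2 L ≤ T := SylowIn.pCoreOf_le_sylowIn (Straddle.isSylowTwoIn_iff.1 hv.syl)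
  have hxR : x ∈ Cfsg.pCoreOf 2 L := (Vertex.jover H hv).2.2
    (mem_centralizer_iff.2 fun r hr => mem_centralizer_iff.1 hxS.2 r (hTS (hR hr)))
  exact mem_z (hR hxR) (JComponent.mul_self_of_mem_omegaCenterOf _ hx)
    fun t ht => mem_centralizer_iff.1 hxS.2 t (hTS ht)

theorem exists_omega {T K L : Subgroup G} (hv : Vertex T K L) (S : Sylow 2 G) (hTS : T ≤ (S : Subgroup G)) :
    ∃ z ∈ Ω (S : Subgroup G), z ≠ 1 := by
  haveI : Fact (Nat.Prime 2) := ⟨Nat.prime_two⟩
  have hne : (S : Subgroup G) ≠ ⊥ := fun e => Vertex.t_ne_bot hv (le_bot_iff.1 (e ▸ hTS))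
  haveI : Nontrivial ↥(S : Subgroup G) := (Subgroup.nontrivial_iff_ne_bot _).2 hne
  have hc := S.isPGroup'.bot_lt_center
  have hne' : Nontrivial (Subgroup.center ↥(S : Subgroup G)) := (Subgroup.nontrivial_iff_ne_bot _).2 hc.ne'
  obtain ⟨n, hn0, hn⟩ := (S.isPGroup'.to_subgroup (Subgroup.center _)).nontrivial_iff_card.1 hne'
  obtain ⟨x, hx⟩ := exists_prime_orderOf_dvd_card' 2 (hn ▸ dvd_pow_self 2 hn0.ne' :
    2 ∣ Nat.card (Subgroup.center ↥(S : Subgroup G)))
  have hxx : ((x : ↥(S : Subgroup G)) : G) ^ 2 = 1 := by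
    have := congrArg (fun y : Subgroup.center ↥(S : Subgroup G) => ((y : ↥(S : Subgroup G)) : G)) (pow_orderOf_eq_one x)
    rw [hx] at this
    simpa using this
  refine ⟨_, subset_closure ⟨⟨(x : ↥(S : Subgroup G)).2, mem_centralizer_iff.2 fun y hy => ?_⟩, hxx⟩, fun e => ?_⟩
  · exact congrArg Subtype.val ((Subgroup.mem_center_iff.1 x.2) ⟨y, hy⟩)
  · rw [show x = 1 from Subtype.ext (Subtype.ext e), orderOf_one] at hx
    omega

theorem cen_eq {X : Subgroup G} {z : G} (h : ∀ x ∈ X, x = 1 ∨ x = z) :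
    centralizer ({z} : Set G) ≤ centralizer (X : Set G) := fun y hy => mem_centralizer_iff.2 fun x hx => by
  rcases h x hx with rfl | rfl
  · simp
  · exact (mem_centralizer_singleton_iff.1 hy).symm

section Proper

variable (H : Hyp G) {T K L : Subgroup G} (hv : Vertex T K L) (S : Sylow 2 G) (hTS : T ≤ (S : Subgroup G))
  (hne : T ≠ (S : Subgroup G))
include H hv hTS hne

local notation "Z₀" => Cfsg.omegaCenterOf (Cfsg.thompsonSubgroupOf 2 T)

theorem proper_facts : ∃ t, t ∈ (S : Subgroup G) ∧ t ∈ normalizer (T : Set G) ∧ cj t L ≠ L ∧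
    Nat.card ↥(Z₀) ≤ 4 ∧ T ≤ centralizer (Z₀ : Set G) ∧
    ∃ z, z ∈ Ω (S : Subgroup G) ∧ z ≠ 1 ∧ z ∈ Z₀ ∧ (∀ x ∈ Ω (S : Subgroup G), x = 1 ∨ x = z) ∧
      centralizer ({z} : Set G) ≤ normalizer ((S : Subgroup G) : Set G) ∧ t * z = z * t ∧
      ∀ d ∈ Z₀, d ≠ 1 → K ≤ centralizer ({d} : Set G) →
        d ≠ t * d * t⁻¹ ∧ z = d * (t * d * t⁻¹) ∧ t * (t * d * t⁻¹) * t⁻¹ = d := by
  haveI : Fact (Nat.Prime 2) := ⟨Nat.prime_two⟩
  obtain ⟨t, htS, htn, htT⟩ : ∃ t ∈ (S : Subgroup G), t ∈ normalizer (T : Set G) ∧ t ∉ T := by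
    by_contra hcon
    push Not at hcon
    exact hne (Straddle.eq_of_normalizer S.isPGroup' hTS hcon)
  have hS0 := Straddle.isSylowTwoIn_iff.1 hv.syl
  have hSL : ∀ x ∈ (S : Subgroup G), x ∈ L → x ∈ T := by
    intro x hx hxL
    have h := hS0.2.2 ((S : Subgroup G) ⊓ L) inf_le_right (S.isPGroup'.to_le inf_le_left) (le_inf hTS hS0.1)
    exact h ▸ ⟨hx, hxL⟩
  have htL : cj t L ≠ L := fun e => htT (hSL t htS ((normalizer_eq_self hv.max).le (SylowIn.map_conj_eq_iff.1 e)))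
  have hv' := vertex_cj hv htn
  have hdis : ∀ X : Subgroup G, Cfsg.IsTwoLocal X → K ≤ X → cj t K ≤ X → Cfsg.thompsonSubgroupOf 2 T ≤ X → False :=
    fun X hX h1 h2 h3 => not_common hv hv' (Ne.symm htL) hX h1 h2 h3
  have hT := Vertex.t_pgroup hv
  have hle4 := (card_le_four hT hv.comp hv'.comp hdis).1
  have hTZ : ∀ g ∈ normalizer (T : Set G), g ∈ normalizer (Z₀ : Set G) := fun g hg =>
    JComponent.normalizer_le_omegaCenterOf _ (Fusion.Thompson.normalizer_le_normalizer_thompsonOf T hg)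
  obtain ⟨z, hzΩ, hz1⟩ := exists_omega hv S hTS
  have hzZ := omega_le H hv S hTS hzΩ
  have hzfix : ∀ s ∈ (S : Subgroup G), s * z = z * s := fun s hs =>
    mem_centralizer_iff.1 (JComponent.omegaCenterOf_le _ hzΩ).2 s hs
  have hd : ∀ d ∈ Z₀, d ≠ 1 → K ≤ centralizer ({d} : Set G) →
      d ≠ t * d * t⁻¹ ∧ z = d * (t * d * t⁻¹) ∧ t * (t * d * t⁻¹) * t⁻¹ = d := by
    intro d hd hd1 hdK
    set d' := t * d * t⁻¹ with hd'
    have hdK' : cj t K ≤ centralizer ({d'} : Set G) := cj_singleton hdK t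
    have hdd : d ≠ d' := fun e => hdis _ (isTwoLocal_cen hd hd1) hdK (e ▸ hdK') (j_cen hd)
    have hd'Z : d' ∈ Z₀ := (mem_normalizer_iff.1 (hTZ t htn) d).1 hd
    have hd1' : d' ≠ 1 := fun e => hd1 (conj_eq_one_iff.1 e)
    have h4 : Nat.card ↥(Z₀) = 4 := by
      rcases card_two_or_four hT hv.comp hle4 with h | h
      · obtain ⟨y, -, hy⟩ := (Nat.card_eq_two_iff' (1 : Z₀)).1 h
        exact absurd (congrArg Subtype.val ((hy ⟨d, hd⟩ fun e => hd1 (congrArg Subtype.val e)).trans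
          (hy ⟨d', hd'Z⟩ fun e => hd1' (congrArg Subtype.val e)).symm)) hdd
      · exact h
    have hz : z = d * d' := by
      rcases z_cases h4 hd hd1 hd'Z hd1' hdd hzZ with e | e | e | e
      · exact absurd e hz1
      · subst e
        exact absurd (by rw [hd', hzfix t htS, mul_inv_cancel_right] : z = d') hdd
      · exfalso
        refine hdd ?_
        have h1 : t * z * t⁻¹ = z := by rw [hzfix t htS, mul_inv_cancel_right]
        rw [e] at h1
        have h2 : d' = d := by rw [hd'] at h1 ⊢; exact mul_left_cancel (mul_right_cancel h1)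
        exact h2.symm
      · exact e
    refine ⟨hdd, hz, ?_⟩
    rcases z_cases h4 hd hd1 hd'Z hd1' hdd ((mem_normalizer_iff.1 (hTZ t htn) d').1 hd'Z) with e | e | e | e
    · exact absurd (conj_eq_one_iff.1 e) hd1'
    · exact e
    · exact absurd (mul_left_cancel (mul_right_cancel e)).symm hdd
    · rw [← hz, show z = t * z * t⁻¹ by rw [hzfix t htS, mul_inv_cancel_right]] at e
      have h2 := mul_left_cancel (mul_right_cancel e)
      rw [hz] at h2
      exact absurd (right_eq_mul.1 h2) hd1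
  have hcen : T ≤ centralizer (Z₀ : Set G) := by
    rcases card_two_or_four hT hv.comp hle4 with h | h
    · exact cen_of_card_two h
    obtain ⟨d, hdZ, hd1, hdK⟩ := exists_d hT hv.comp h
    obtain ⟨hdd, hz, htd⟩ := hd d hdZ hd1 hdK
    set d' := t * d * t⁻¹ with hd'
    have hd'Z : d' ∈ Z₀ := (mem_normalizer_iff.1 (hTZ t htn) d).1 hdZ
    intro s hs
    have hsd : s * d * s⁻¹ = d := by
      have hm := (mem_normalizer_iff.1 (hTZ s (Subgroup.le_normalizer hs)) d).1 hdZ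
      rcases z_cases h hdZ hd1 hd'Z (fun e => hd1 (conj_eq_one_iff.1 e)) hdd hm with e | e | e | e
      · exact absurd (conj_eq_one_iff.1 e) hd1
      · exact e
      · exfalso
        have hst : s⁻¹ * t ∈ L := by
          refine hv.uniq _ (isTwoLocal_cen hdZ hd1) hdK (j_cen hdZ) (mem_centralizer_singleton_iff.2 ?_)
          refine mul_inv_eq_iff_eq_mul.1 ?_
          calc s⁻¹ * t * d * (s⁻¹ * t)⁻¹ = s⁻¹ * d' * s := by rw [hd']; group
            _ = s⁻¹ * (s * d * s⁻¹) * s := by rw [e]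
            _ = d := by group
        exact htT (by simpa using mul_mem hs (hSL _ (mul_mem (inv_mem (hTS hs)) htS) hst))
      · exfalso
        rw [← hz, show z = s * z * s⁻¹ by rw [hzfix s (hTS hs), mul_inv_cancel_right]] at e
        have h2 := mul_left_cancel (mul_right_cancel e)
        rw [hz] at h2
        exact hd1 (conj_eq_one_iff.1 (left_eq_mul.1 h2))
    refine mem_centralizer_iff.2 fun x hx => ?_
    have hsd' : Commute s d := mul_inv_eq_iff_eq_mul.1 hsd
    have hsz : Commute s z := hzfix s (hTS hs)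
    have hd'eq : d' = d * z := by rw [hz, ← mul_assoc, z_sq hdZ, one_mul]
    rcases z_cases h hdZ hd1 hd'Z (fun e => hd1 (conj_eq_one_iff.1 e)) hdd hx with rfl | rfl | rfl | rfl
    · simp
    · exact hsd'.eq.symm
    · exact (hd'eq ▸ (hsd'.mul_right hsz)).eq.symm
    · rw [← hz]; exact hsz.eq.symm
  have huniq : ∀ x ∈ Ω (S : Subgroup G), x = 1 ∨ x = z := by
    intro x hx
    have hxZ := omega_le H hv S hTS hx
    rcases card_two_or_four hT hv.comp hle4 with h | h
    · obtain ⟨y, -, hy⟩ := (Nat.card_eq_two_iff' (1 : Z₀)).1 h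
      by_cases hx1 : x = 1
      · exact Or.inl hx1
      · exact Or.inr (congrArg Subtype.val ((hy ⟨x, hxZ⟩ fun e => hx1 (congrArg Subtype.val e)).trans
          (hy ⟨z, hzZ⟩ fun e => hz1 (congrArg Subtype.val e)).symm))
    · obtain ⟨d, hdZ, hd1, hdK⟩ := exists_d hT hv.comp h
      obtain ⟨hdd, hz, htd⟩ := hd d hdZ hd1 hdK
      have hxt : t * x * t⁻¹ = x := by
        rw [mem_centralizer_iff.1 (JComponent.omegaCenterOf_le _ hx).2 t htS, mul_inv_cancel_right]
      rcases z_cases h hdZ hd1 ((mem_normalizer_iff.1 (hTZ t htn) d).1 hdZ) (fun e => hd1 (conj_eq_one_iff.1 e))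
        hdd hxZ with rfl | rfl | rfl | rfl
      · exact Or.inl rfl
      · exact absurd hxt.symm hdd
      · exact absurd (htd.symm.trans hxt) hdd
      · exact Or.inr hz.symm
  exact ⟨t, htS, htn, htL, hle4, hcen, z, hzΩ, hz1, hzZ, huniq, (cen_eq huniq).trans (H.cz S), hzfix t htS, hd⟩

theorem proper_edge : ∃ A M A' M', Edge T A M A' M' := by
  obtain ⟨t, htS, htn, htL, -, hcen, -⟩ := proper_facts H hv S hTS hne
  by_contra hcon
  push Not at hcon
  have hall : ∀ A M A' M' : Subgroup G, Vertex T A M → Vertex T A' M' → M ≠ M' →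
      Cfsg.wOf A' ≤ centralizer (Cfsg.wOf A : Set G) := fun A M A' M' hA hA' hMM' => by
    by_contra hmove
    exact hcon A M A' M' ⟨H, hA, hA', hMM', hcen, hmove⟩
  obtain ⟨B, N, f, hB, hfW, hfZ, hf1, hbeta⟩ :=
    exists_beta H hv (vertex_cj hv htn) (Ne.symm htL) hcen hall
  obtain ⟨t, htS, htn, htN, hle4, -, z, hzΩ, hz1, hzZ, -, hcz, htz, hd⟩ := proper_facts H hB S hTS hne
  have hv' := vertex_cj hB htn
  have hfA := hbeta _ _ hv' htN
  have hT := Vertex.t_pgroup hv
  have h4 : Nat.card ↥(Cfsg.omegaCenterOf (Cfsg.thompsonSubgroupOf 2 T)) = 4 := by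
    rcases card_two_or_four hT hB.comp hle4 with h | h
    · exfalso
      have h1 := card_z hT hv'.comp
      have hbot : dd T (cj t B) = ⊥ := eq_bot_of_card_eq _ (by omega)
      exact hf1 (mem_bot.1 (hbot ▸ mem_dd.2 ⟨hfZ, hfA⟩))
    · exact h
  obtain ⟨d, hdZ, hd1, hdK⟩ := exists_d hT hB.comp h4
  obtain ⟨hdd, hz, htd⟩ := hd d hdZ hd1 hdK
  set d' := t * d * t⁻¹ with hd'
  have hd'Z : d' ∈ Cfsg.omegaCenterOf (Cfsg.thompsonSubgroupOf 2 T) := (mem_normalizer_iff.1
    (JComponent.normalizer_le_omegaCenterOf _ (Fusion.Thompson.normalizer_le_normalizer_thompsonOf T htn)) d).1 hdZ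
  have hd1' : d' ≠ 1 := fun e => hd1 (conj_eq_one_iff.1 e)
  have hfd : f = d' := only hT hv'.comp hle4 hfZ hfA hf1 hd'Z (cj_singleton hdK t) hd1'
  have hnz : z ∉ Cfsg.wOf B := by
    intro hzW
    obtain ⟨f0, -, -, -, huniq⟩ := Vertex.exists_f hB
    have e : z = f := by
      rw [(huniq z hzW hzZ).resolve_left hz1, (huniq f hfW hfZ).resolve_left hf1]
    rw [hfd, hz] at e
    exact hd1 (mul_eq_right.1 e)
  refine bad_false H hB hv' (Ne.symm htN) hcen (hall _ _ _ _ hB hv' (Ne.symm htN)) hdZ hd1 hdK hd'Z hd1'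
    (cj_singleton hdK t) S hTS (hz ▸ hcz) (fun h => absurd (hz.symm ▸ h) hnz) fun h => ?_
  rw [← hz, wOf_cj] at h
  obtain ⟨v, hv0, hve⟩ := h
  have hvz : v = z := by
    have h2 : t * v * t⁻¹ = t * z * t⁻¹ := by rw [htz, mul_inv_cancel_right]; exact hve
    exact mul_left_cancel (mul_right_cancel h2)
  exact absurd (hvz ▸ hv0) hnz

end Proper

section Top

variable (H : Hyp G) (S : Sylow 2 G) {K L : Subgroup G} (hv : Vertex (S : Subgroup G) K L)
include H hv

local notation "Z₁" => Cfsg.omegaCenterOf (Cfsg.thompsonSubgroupOf 2 (S : Subgroup G))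

theorem le_omega (hcen : (S : Subgroup G) ≤ centralizer (Z₁ : Set G)) : Z₁ ≤ Ω (S : Subgroup G) := fun x hx =>
  subset_closure ⟨⟨Fusion.Thompson.thompsonSubgroupOf_le _ (JComponent.omegaCenterOf_le _ hx).1,
    mem_centralizer_iff.2 fun s hs => (mem_centralizer_iff.1 (hcen hs) x hx).symm⟩,
    by rw [pow_two]; exact z_sq hx⟩

/-- A second component forces `S` to centralize `Ω₁(Z(J(S)))`. -/
theorem top_cen {K' : Subgroup G} (hK' : Cfsg.IsJComponent (S : Subgroup G) K')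
    (hdis : ∀ X : Subgroup G, Cfsg.IsTwoLocal X → K ≤ X → K' ≤ X →
      Cfsg.thompsonSubgroupOf 2 (S : Subgroup G) ≤ X → False) :
    Nat.card ↥(Z₁) ≤ 4 ∧ (S : Subgroup G) ≤ centralizer (Z₁ : Set G) ∧
      centralizer (Z₁ : Set G) ≤ normalizer ((S : Subgroup G) : Set G) := by
  haveI : Fact (Nat.Prime 2) := ⟨Nat.prime_two⟩
  have hle4 := (card_le_four S.isPGroup' hv.comp hK' hdis).1
  have hcen : (S : Subgroup G) ≤ centralizer (Z₁ : Set G) := by
    rcases card_two_or_four S.isPGroup' hv.comp hle4 with h | h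
    · exact cen_of_card_two h
    obtain ⟨d, hd, hd1, hdK⟩ := exists_d S.isPGroup' hv.comp h
    obtain ⟨d', hd', hd1', hdK'⟩ := exists_d S.isPGroup' hK' h
    have hdd : d ≠ d' := fun e => hdis _ (isTwoLocal_cen hd hd1) hdK (e ▸ hdK') (j_cen hd)
    intro s hs
    have hsN : s ∈ normalizer (Z₁ : Set G) := JComponent.normalizer_le_omegaCenterOf _
      (Fusion.Thompson.normalizer_le_normalizer_thompsonOf _ (Subgroup.le_normalizer hs))
    obtain ⟨z, hzΩ, hz1⟩ := exists_omega hv S le_rfl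
    have hzc : ∀ s' ∈ (S : Subgroup G), s' * z = z * s' := fun s' hs' =>
      mem_centralizer_iff.1 (JComponent.omegaCenterOf_le _ hzΩ).2 s' hs'
    -- the fixed elements of `s`
    by_contra hmove
    have hfix2 : ∀ {a b : G}, a ∈ Z₁ → a ≠ 1 → b ∈ Z₁ → b ≠ 1 → a ≠ b → s * a = a * s → s * b = b * s → False := by
      intro a b ha ha1 hb hb1 hab hsa hsb
      refine hmove (mem_centralizer_iff.2 fun x hx => ?_)
      rcases z_cases h ha ha1 hb hb1 hab hx with rfl | rfl | rfl | rfl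
      · simp
      · exact hsa.symm
      · exact hsb.symm
      · exact ((show Commute s a from hsa).mul_right (show Commute s b from hsb)).eq.symm
    have hzZ := omega_le H hv S le_rfl hzΩ
    have huniq : ∀ x ∈ Ω (S : Subgroup G), x = 1 ∨ x = z := by
      intro x hx
      by_contra hcon
      push Not at hcon
      exact hfix2 (omega_le H hv S le_rfl hx) hcon.1 hzZ hz1 hcon.2
        (mem_centralizer_iff.1 (JComponent.omegaCenterOf_le _ hx).2 s hs) (hzc s hs)
    have hczS := (cen_eq huniq).trans (H.cz S)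
    have hnot : ∀ {X : Subgroup G}, Cfsg.IsJComponent (S : Subgroup G) X → ¬ X ≤ centralizer ({z} : Set G) :=
      fun hX hle => comp_not_le S.isPGroup' hX
        ((hle.trans hczS).trans (Fusion.Thompson.normalizer_le_normalizer_thompsonOf _))
    have hzdd : z = d * d' := by
      rcases z_cases h hd hd1 hd' hd1' hdd hzZ with e | e | e | e
      · exact absurd e hz1
      · exact absurd (e ▸ hdK) (hnot hv.comp)
      · exact absurd (e ▸ hdK') (hnot hK')
      · exact e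
    have hsd : s * d * s⁻¹ = d' := by
      have hm := (mem_normalizer_iff.1 hsN d).1 hd
      rcases z_cases h hd hd1 hd' hd1' hdd hm with e | e | e | e
      · exact absurd (conj_eq_one_iff.1 e) hd1
      · exfalso
        refine hfix2 hd hd1 hzZ hz1 ?_ (mul_inv_eq_iff_eq_mul.1 e) (hzc s hs)
        intro e'
        exact hd1' (left_eq_mul.1 (e'.trans hzdd))
      · exact e
      · exfalso
        rw [← hzdd, show z = s * z * s⁻¹ by rw [hzc s hs, mul_inv_cancel_right]] at e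
        have h2 := mul_left_cancel (mul_right_cancel e)
        exact hd1' (left_eq_mul.1 (h2.trans hzdd))
    have hsL : s ∈ L := hv.syl.1 hs
    have hcd : centralizer ({d} : Set G) ≤ L := hv.uniq _ (isTwoLocal_cen hd hd1) hdK (j_cen hd)
    have hK'L : K' ≤ L := by
      intro x hx
      have h1 := cj_singleton hdK' s⁻¹ (mem_map_of_mem _ hx)
      rw [show s⁻¹ * d' * s⁻¹⁻¹ = d by rw [← hsd]; group] at h1
      have h2 : s * ((MulAut.conj s⁻¹).toMonoidHom x) * s⁻¹ ∈ L := mul_mem (mul_mem hsL (hcd h1)) (inv_mem hsL)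
      simpa [mul_assoc] using h2
    exact hdis L hv.max.1 hv.le hK'L (Vertex.j_le hv)
  refine ⟨hle4, hcen, ?_⟩
  rw [le_antisymm (le_omega H S hv hcen) (omega_le H hv S le_rfl)]
  exact H.cz S

theorem top_edge {K' L' : Subgroup G} (hv' : Vertex (S : Subgroup G) K' L') (hne : L ≠ L') :
    ∃ A M A' M', Edge (S : Subgroup G) A M A' M' := by
  haveI : Fact (Nat.Prime 2) := ⟨Nat.prime_two⟩
  obtain ⟨hle4, hcen, hcS⟩ := top_cen H S hv hv'.comp fun X hX h1 h2 h3 => not_common hv hv' hne hX h1 h2 h3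
  by_contra hcon
  push Not at hcon
  have hall : ∀ A M A' M' : Subgroup G, Vertex (S : Subgroup G) A M → Vertex (S : Subgroup G) A' M' → M ≠ M' →
      Cfsg.wOf A' ≤ centralizer (Cfsg.wOf A : Set G) := fun A M A' M' hA hA' hMM' => by
    by_contra hmove
    exact hcon A M A' M' ⟨H, hA, hA', hMM', hcen, hmove⟩
  obtain ⟨B, N, f, hB, hfW, hfZ, hf1, hbeta⟩ := exists_beta H hv hv' hne hcen hall
  obtain ⟨A, M, hA, hMN⟩ : ∃ A M, Vertex (S : Subgroup G) A M ∧ M ≠ N := by
    by_cases h : L = N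
    · exact ⟨K', L', hv', fun e => hne (h.trans e.symm)⟩
    · exact ⟨K, L, hv, h⟩
  have hfA := hbeta A M hA hMN
  have hT := S.isPGroup'
  have h4 : Nat.card ↥(Z₁) = 4 := by
    rcases card_two_or_four hT hB.comp hle4 with h | h
    · exfalso
      have h1 := card_z hT hA.comp
      have hbot : dd (S : Subgroup G) A = ⊥ := eq_bot_of_card_eq _ (by omega)
      exact hf1 (mem_bot.1 (hbot ▸ mem_dd.2 ⟨hfZ, hfA⟩))
    · exact h
  obtain ⟨d', hd'Z, hd1', hdK'⟩ := exists_d hT hB.comp h4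
  have hfd : f ≠ d' := fun e => not_common hA hB hMN (isTwoLocal_cen hfZ hf1) hfA (e.symm ▸ hdK') (j_cen hfZ)
  set z := f * d' with hz
  have hzZ : z ∈ Z₁ := mul_mem hfZ hd'Z
  have hz1 : z ≠ 1 := fun e => hfd (by
    calc f = f * d' * d' := by rw [mul_assoc, z_sq hd'Z, mul_one]
      _ = d' := by rw [← hz, e, one_mul])
  have hzN : centralizer ({z} : Set G) ≤ normalizer (Cfsg.thompsonSubgroupOf 2 (S : Subgroup G) : Set G) := by
    by_contra hnot
    set M1 := normalizer (Cfsg.thompsonSubgroupOf 2 (S : Subgroup G) : Set G) with hM1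
    have hSC : (S : Subgroup G) ≤ centralizer ({z} : Set G) := le_centralizer_singleton hcen hzZ
    have hS1 := sylow_max (M := M1) S ⟨S.isPGroup', Vertex.t_ne_bot hv,
      Subgroup.le_normalizer.trans (Fusion.Thompson.normalizer_le_normalizer_thompsonOf _),
      _, isTwoLocal_cen hzZ hz1, hSC, hnot⟩
    obtain ⟨C, N1, hC, hCz, -, -⟩ := vertex_in H hS1 le_rfl (isTwoLocal_cen hzZ hz1) hSC hnot
    have hfz : z ≠ f := fun e => hd1' (mul_eq_left.1 e)
    have hdz : z ≠ d' := fun e => hf1 (mul_eq_right.1 e)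
    refine hfz (only hT hC.comp hle4 hzZ hCz hz1 hfZ ?_ hf1)
    by_cases hN1 : N1 = N
    · subst hN1
      by_cases hCB : C = B
      · subst hCB
        exact absurd (only hT hC.comp hle4 hzZ hCz hz1 hd'Z hdK' hd1') hdz
      · exact le_centralizer_singleton (JPlanes.centralizes_wOf H.char2 H.solv H.cz (Vertex.t_ne_bot hB)
          (Vertex.jover H hB) hB.comp hB.le hC.comp hC.le (Ne.symm hCB)) hfW
    · exact hbeta C N1 hC hN1
  have hzS : centralizer ({z} : Set G) ≤ normalizer ((S : Subgroup G) : Set G) := by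
    intro g hg
    have hgZ : cj g Z₁ = Z₁ := SylowIn.map_conj_eq_iff.2 (JComponent.normalizer_le_omegaCenterOf _ (hzN hg))
    have h : cj g (S : Subgroup G) ≤ centralizer (Z₁ : Set G) := by
      have := cj_centralizes g hcen
      rwa [hgZ] at this
    have hle := le_of_le_normalizer (S.isPGroup'.map _) S (h.trans hcS)
    exact SylowIn.map_conj_eq_iff.1 (eq_of_le_of_card_ge hle
      (card_map_of_injective (MulAut.conj g).injective).ge)
  exact bad_false H hA hB hMN hcen (hall A M B N hA hB hMN) hfZ hf1 hfA hd'Z hd1' hdK' S le_rfl hzS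
    (fun _ => rfl) fun _ => rfl

omit H hv in
theorem exists_central_step {P : Type u} [Group P] [Finite P] (hP : IsPGroup 2 P) (V : Subgroup P) [V.Normal]
    (Z : Subgroup P) [Z.Normal] (hne : ¬ V ≤ Z) : ∃ u ∈ V, u ∉ Z ∧ ∀ s : P, s * u * s⁻¹ * u⁻¹ ∈ Z := by
  haveI : Fact (Nat.Prime 2) := ⟨Nat.prime_two⟩
  haveI := (hP.to_quotient Z).isNilpotent
  haveI : (V.map (QuotientGroup.mk' Z)).Normal :=
    Subgroup.Normal.map inferInstance _ (QuotientGroup.mk'_surjective Z)
  have h := CfsgLib.Solvable.FrattiniFitting.inf_center_ne_bot (V.map (QuotientGroup.mk' Z)) fun e => hne (by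
    rw [Subgroup.map_eq_bot_iff, QuotientGroup.ker_mk'] at e
    exact e)
  obtain ⟨x, ⟨hxV, hxc⟩, hx1⟩ := ((bot_or_exists_ne_one _).resolve_left h)
  obtain ⟨u, hu, rfl⟩ := hxV
  refine ⟨u, hu, fun hZ => hx1 ((QuotientGroup.eq_one_iff u).2 hZ), fun s => ?_⟩
  rw [← QuotientGroup.eq_one_iff]
  have := Subgroup.mem_center_iff.1 hxc (QuotientGroup.mk' Z s)
  simp only [QuotientGroup.mk'_apply] at this
  simp only [QuotientGroup.mk_mul, QuotientGroup.mk_inv]
  rw [this]
  group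

theorem not_strongly (hall : ∀ X : Subgroup G, Cfsg.IsTwoLocal X → ∀ U : Subgroup G, IsPGroup 2 U → U ≠ ⊥ →
    U ≤ L → U ≤ X → X ≤ L) (hO : Cfsg.pCore 2 G = ⊥) : False := by
  haveI : Fact (Nat.Prime 2) := ⟨Nat.prime_two⟩
  have hcl : ∀ t ∈ L, t * t = 1 → t ≠ 1 → centralizer ({t} : Set G) ≤ L := fun t ht htt ht1 =>
    hall _ (JPath.isTwoLocal_centralizer htt ht1) (zpowers t)
      (Fusion.Thompson.isPGroup_isEA (JComponent.isEA_zpowers htt)) (by simpa using ht1) (zpowers_le.2 ht)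
      (zpowers_le.2 (mem_centralizer_singleton_iff.2 rfl))
  -- conjugation within `L` happens in `L`
  have hconj : ∀ g t : G, t ∈ L → t * t = 1 → t ≠ 1 → g * t * g⁻¹ ∈ L → g ∈ L := by
    intro g t ht htt ht1 hgt
    set t' := g * t * g⁻¹ with ht'
    have htt' : t' * t' = 1 := by
      rw [ht', show g * t * g⁻¹ * (g * t * g⁻¹) = g * (t * t) * g⁻¹ by group, htt]; group
    have hz' : IsPGroup 2 (zpowers t') := Fusion.Thompson.isPGroup_isEA (JComponent.isEA_zpowers htt')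
    have ht'g : t' ∈ cj g L := ⟨t, ht, rfl⟩
    obtain ⟨U, hU, htU⟩ := SylowIn.exists_isSylowIn (p := 2) (L ⊓ cj g L)
      (zpowers_le.2 (Subgroup.mem_inf.2 ⟨hgt, ht'g⟩) : zpowers t' ≤ L ⊓ cj g L) hz'
    have hU1 : U ≠ ⊥ := fun e => ht1 (conj_eq_one_iff.1 (mem_bot.1 (e ▸ htU (mem_zpowers t'))))
    have hNL : ∀ V : Subgroup G, IsPGroup 2 V → V ≠ ⊥ → V ≤ L → normalizer (V : Set G) ≤ L := fun V hV hV1 hVL =>
      hall _ ⟨V, hV, hV1, rfl⟩ V hV hV1 hVL Subgroup.le_normalizer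
    set U' := cj g⁻¹ U with hU'
    have hU'L : U' ≤ L := (map_mono (hU.1.trans inf_le_right)).trans
      (le_of_eq (by rw [← cj, cj_cj, inv_mul_cancel, cj_one]))
    have hU'1 : U' ≠ ⊥ := fun e => hU1 (by
      rw [← cj_one U, ← mul_inv_cancel g, ← cj_cj, ← hU', e, cj, Subgroup.map_bot])
    have hNg : normalizer (U : Set G) ≤ cj g L := by
      have h := map_mono (f := (MulAut.conj g).toMonoidHom) (hNL U' (hU.2.1.map _) hU'1 hU'L)
      rw [← SylowIn.normalizer_map_conj] at h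
      rwa [show U'.map (MulAut.conj g).toMonoidHom = U by rw [← cj, hU', cj_cj, mul_inv_cancel, cj_one]] at h
    obtain ⟨P, hP, hUP⟩ := SylowIn.exists_isSylowIn (p := 2) L (hU.1.trans inf_le_left) hU.2.1
    have hUeq : U = P := Straddle.eq_of_normalizer hP.2.1 hUP fun x hxP hxn => by
      have h := hU.2.2 (P ⊓ normalizer (U : Set G))
        (le_inf (inf_le_left.trans hP.1) (inf_le_right.trans hNg)) (hP.2.1.to_le inf_le_left)
        (le_inf hUP Subgroup.le_normalizer)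
      exact h ▸ ⟨hxP, hxn⟩
    obtain ⟨P', hP', hUP'⟩ := SylowIn.exists_isSylowIn (p := 2) L hU'L (hU.2.1.map _)
    obtain ⟨l, hl, he⟩ := hP.conjugate hP'
    have hU'P : U' = P' := eq_of_le_of_card_ge hUP' (by
      rw [he, card_map_of_injective (MulAut.conj l).injective, ← hUeq, hU',
        card_map_of_injective (MulAut.conj g⁻¹).injective])
    have h : cj (g * l) U = U := by
      rw [← cj_cj, show cj l U = U' by rw [hU'P, he, hUeq], hU', cj_cj, mul_inv_cancel, cj_one]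
    have hgl := hNL U hU.2.1 hU1 (hU.1.trans inf_le_left) (SylowIn.map_conj_eq_iff.1 h)
    simpa using mul_mem hgl (inv_mem hl)
  obtain ⟨z, hzΩ, hz1⟩ := exists_omega hv S le_rfl
  have hzS := JComponent.omegaCenterOf_le _ hzΩ
  have hzz : z * z = 1 := JComponent.mul_self_of_mem_omegaCenterOf _ hzΩ
  have hj := Vertex.jover H hv
  have hRS : Cfsg.pCoreOf 2 L ≤ (S : Subgroup G) := SylowIn.pCoreOf_le_sylowIn (Straddle.isSylowTwoIn_iff.1 hv.syl)
  have hzR : z ∈ Cfsg.pCoreOf 2 L := hj.2.2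
    (mem_centralizer_iff.2 fun r hr => mem_centralizer_iff.1 hzS.2 r (hRS hr))
  have hzL : z ∈ L := hv.syl.1 hzS.1
  obtain ⟨g, hg⟩ : ∃ g, g ∉ L := by
    by_contra hcon
    push Not at hcon
    obtain ⟨W, hW, hW1, hWe⟩ := hv.max.1
    have : W.Normal := Subgroup.normalizer_eq_top_iff.1 (top_unique fun x _ => hWe ▸ hcon x)
    exact hW1 (le_bot_iff.1 (hO ▸ le_sSup ⟨this, hW⟩))
  obtain ⟨u, hu⟩ : ∃ u, u = g * z * g⁻¹ := ⟨_, rfl⟩
  have huu : u * u = 1 := by rw [hu, show g * z * g⁻¹ * (g * z * g⁻¹) = g * (z * z) * g⁻¹ by group, hzz]; group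
  have huL : u ∉ L := fun h => hg (hconj g z hzL hzz hz1 (hu ▸ h))
  have hu1 : u ≠ 1 := fun e => huL (e ▸ one_mem L)
  -- every involution of `L` is `L`-conjugate to `z`
  have hcls : ∀ t ∈ L, t * t = 1 → t ≠ 1 → t ∈ Cfsg.pCoreOf 2 L := by
    intro t ht htt ht1
    set a := t * u with ha
    have hti : t⁻¹ = t := inv_eq_of_mul_eq_one_right htt
    have hui : u⁻¹ = u := inv_eq_of_mul_eq_one_right huu
    have hta : t * a * t⁻¹ = a⁻¹ := by rw [ha, mul_inv_rev t u, hti, hui, ← mul_assoc, htt, one_mul]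
    have hua : u * a * u⁻¹ = a⁻¹ := by rw [ha, mul_inv_rev t u, hti, hui, mul_assoc, mul_assoc, huu, mul_one]
    rcases Nat.even_or_odd (orderOf a) with ⟨n, hn⟩ | ⟨n, hn⟩
    · exfalso
      have hn0 : 0 < n := by have := orderOf_pos a; omega
      set i := a ^ n with hi
      have hii : i * i = 1 := by rw [hi, ← pow_add, ← hn, pow_orderOf_eq_one]
      have hi1 : i ≠ 1 := fun e => by
        have := Nat.le_of_dvd hn0 (orderOf_dvd_of_pow_eq_one e)
        omega
      have hti' : i * t = t * i := by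
        refine (mul_inv_eq_iff_eq_mul.1 ?_).symm
        rw [hi, ← conj_pow, hta, inv_pow, ← hi, inv_eq_of_mul_eq_one_right hii]
      have hui' : u * i = i * u := by
        refine mul_inv_eq_iff_eq_mul.1 ?_
        rw [hi, ← conj_pow, hua, inv_pow, ← hi, inv_eq_of_mul_eq_one_right hii]
      exact huL (hcl i (hcl t ht htt ht1 (mem_centralizer_singleton_iff.2 hti')) hii hi1
        (mem_centralizer_singleton_iff.2 hui'))
    · set r := a ^ n with hr
      have h1 : u * r * u⁻¹ = r⁻¹ := by rw [hr, ← conj_pow, hua, inv_pow]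
      have h2 : r * r * a = 1 := by
        rw [hr, ← pow_add, ← pow_succ, show n + n + 1 = orderOf a by omega, pow_orderOf_eq_one]
      -- `t` is conjugate to `z`
      have hrt : r * u * r⁻¹ = u * t * u := by
        calc r * u * r⁻¹ = r * u * (u * r * u⁻¹) := by rw [h1]
          _ = r * (u * u) * r * u⁻¹ := by group
          _ = (r * r * a) * a⁻¹ * u := by rw [huu, hui]; group
          _ = u * t * u := by rw [h2, one_mul, ha, mul_inv_rev, hti, hui]
      have hh : (u * r * g) * z * (u * r * g)⁻¹ = t := by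
        calc (u * r * g) * z * (u * r * g)⁻¹ = u * (r * u * r⁻¹) * u⁻¹ := by rw [hu]; group
          _ = t := by rw [hrt, hui, show u * (u * t * u) * u = (u * u) * t * (u * u) by group, huu, one_mul, mul_one]
      rw [← hh]
      exact (mem_normalizer_iff.1 (SylowIn.normalizer_pCoreOf L (hconj _ z hzL hzz hz1 (hh.symm ▸ ht))) z).1 hzR
  refine hj.2.1 (JComponent.thompson_le fun A hA a ha => ?_)
  by_cases ha1 : a = 1
  · rw [ha1]; exact one_mem _
  · exact hcls a (hv.syl.1 (hA.1 ha)) (JComponent.mul_self_of_isEA hA.2.1 ha) ha1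

/-- A Sylow subgroup is not contained in a single maximal `2`-local subgroup together with `N(J(S))`. -/
theorem not_max (hO : Cfsg.pCore 2 G = ⊥)
    (hJ : normalizer (Cfsg.thompsonSubgroupOf 2 (S : Subgroup G) : Set G) ≤ L)
    (hall : ∀ X : Subgroup G, Cfsg.IsTwoLocal X → (S : Subgroup G) ≤ X → X ≤ L) : False := by
  haveI : Fact (Nat.Prime 2) := ⟨Nat.prime_two⟩
  by_cases hs : (Cfsg.straddlingTwoSubgroups L).Nonempty
  swap
  · refine not_strongly H S hv (fun X hX U hU hU1 hUL hUX => ?_) hO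
    by_contra hXL
    exact hs ⟨U, hU, hU1, hUL, X, hX, hUX, hXL⟩
  obtain ⟨T0, hT0⟩ := exists_max hs
  have hS0 := Straddle.isSylowTwoIn_iff.1 hv.syl
  obtain ⟨l, hl, hle⟩ := Straddle.le_map_of_sylow hv.syl hT0.1.2.2.1 hT0.1.1
  set T := cj l⁻¹ T0 with hTdef
  have hT : T ∈ Cfsg.maxStraddlingTwoSubgroups L := maxStraddle_conj hT0 (inv_mem hl)
  have hTS : T ≤ (S : Subgroup G) := (map_mono hle).trans (le_of_eq (by rw [← cj, ← cj, cj_cj, inv_mul_cancel, cj_one]))
  have hne : T ≠ (S : Subgroup G) := by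
    intro e
    obtain ⟨X, hX, hTX, hXL⟩ := hT.1.2.2.2
    exact hXL (hall X hX (e ▸ hTX))
  obtain ⟨K2, hK2⟩ := Straddle.exists_outside hT hJ H.char2 H.solv H.cz
  obtain ⟨L2, hv2, -⟩ := vertex_of H hT hJ hK2
  obtain ⟨t, -, -, -, -, hcen, z, hzΩ, hz1, hzZ, huniq, hczS, -, -⟩ := proper_facts H hv2 S hTS hne
  obtain ⟨A, M, A', M', b⟩ := proper_edge H hv2 S hTS hne
  -- the normal elementary abelian subgroup generated by the conjugates of `W_K`
  set W := Cfsg.wOf K with hW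
  set J := Cfsg.thompsonSubgroupOf 2 (S : Subgroup G) with hJdef
  have hcomp : ∀ s ∈ (S : Subgroup G), Cfsg.IsJComponent (S : Subgroup G) (cj s K) ∧ cj s K ≤ L := fun s hs => by
    refine ⟨JPlanes.isJComponent_congr ?_ (JPlanes.isJComponent_conj hv.comp s), (map_mono hv.le).trans
      (SylowIn.map_conj_eq_iff.2 (Subgroup.le_normalizer (hv.syl.1 hs))).le⟩
    exact congrArg _ (SylowIn.map_conj_eq_iff.2 (Subgroup.le_normalizer hs)).symm
  have hWsq : ∀ x ∈ W, x * x = 1 := hv.comp.2.2.2.2.2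
  have hWcomm : ∀ x ∈ W, ∀ y ∈ W, x * y = y * x := fun x hx y hy =>
    mem_centralizer_iff.1 (JComponent.omegaCenterOf_le _ (JAmbient.wOf_le K hy)).2 x
      (JComponent.omegaCenterOf_le _ (JAmbient.wOf_le K hx)).1
  have hdist : ∀ s ∈ (S : Subgroup G), cj s K ≠ K → cj s W ≤ centralizer (W : Set G) ∧ cj s W ⊓ W = ⊥ := by
    intro s hs hsK
    obtain ⟨hc, hcL⟩ := hcomp s hs
    have h := JPlanes.centralizes_wOf H.char2 H.solv H.cz (Vertex.t_ne_bot hv) (Vertex.jover H hv) hv.comp hv.le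
      hc hcL (Ne.symm hsK)
    have hcW : cj s W = Cfsg.wOf (cj s K) := (wOf_cj K s).symm
    refine ⟨hcW.le.trans ((JAmbient.wOf_le_K _).trans h), (eq_bot_iff_forall _).2 fun x hx => ?_⟩
    exact JAmbient.wfix hc x (hcW ▸ hx.1) fun k hk => (mem_centralizer_iff.1 (h hk) x hx.2).symm
  set gens := {x : G | ∃ s ∈ (S : Subgroup G), ∃ w ∈ W, x = s * w * s⁻¹} with hgens
  have hgc : ∀ x ∈ gens, ∀ y ∈ gens, x * y = y * x := by
    rintro _ ⟨s, hs, w, hw, rfl⟩ _ ⟨s', hs', w', hw', rfl⟩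
    set r := s'⁻¹ * s with hr
    have h : (r * w * r⁻¹) * w' = w' * (r * w * r⁻¹) := by
      by_cases hrK : cj r K = K
      · refine hWcomm _ ?_ _ hw'
        have h1 : cj r W = W := by rw [hW, ← wOf_cj, hrK]
        exact h1.le (mem_map_of_mem _ hw)
      · exact (mem_centralizer_iff.1 ((hdist r (mul_mem (inv_mem hs') hs) hrK).1 (mem_map_of_mem _ hw)) w' hw').symm
    calc s * w * s⁻¹ * (s' * w' * s'⁻¹) = s' * ((r * w * r⁻¹) * w') * s'⁻¹ := by rw [hr]; group
      _ = s' * (w' * (r * w * r⁻¹)) * s'⁻¹ := by rw [h]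
      _ = s' * w' * s'⁻¹ * (s * w * s⁻¹) := by rw [hr]; group
  have hg2 : ∀ x ∈ gens, x * x = 1 := by
    rintro _ ⟨s, hs, w, hw, rfl⟩
    rw [show s * w * s⁻¹ * (s * w * s⁻¹) = s * (w * w) * s⁻¹ by group, hWsq w hw]; group
  set V := closure gens with hVdef
  have hVe : Cfsg.IsElementaryAbelian 2 V := isEA_closure hgc hg2
  have hVW : W ≤ V := fun w hw => subset_closure ⟨1, one_mem _, w, hw, by group⟩
  have hVn : (S : Subgroup G) ≤ normalizer (V : Set G) := by
    intro s hs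
    refine SylowIn.map_conj_eq_iff.1 (eq_of_le_of_card_ge ?_ (card_map_of_injective (MulAut.conj s).injective).ge)
    rw [hVdef, MonoidHom.map_closure, closure_le]
    rintro _ ⟨_, ⟨s', hs', w, hw, rfl⟩, rfl⟩
    refine subset_closure ⟨s * s', mul_mem hs hs', w, hw, ?_⟩
    show s * (s' * w * s'⁻¹) * s⁻¹ = _
    group
  have hVL : V ≤ L := (closure_le _).2 (by
    rintro _ ⟨s, hs, w, hw, rfl⟩
    exact mul_mem (mul_mem (hv.syl.1 hs) (hv.le (JAmbient.wOf_le_K K hw))) (inv_mem (hv.syl.1 hs)))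
  have hVS : V ≤ (S : Subgroup G) := by
    have h := hS0.2.2 (V ⊔ (S : Subgroup G)) (sup_le hVL hS0.1)
      (IsPGroup.to_sup_of_normal_left' (Fusion.Thompson.isPGroup_isEA hVe) S.isPGroup' hVn) le_sup_right
    exact h ▸ le_sup_left
  have hbig : V = W ∨ 16 ≤ Nat.card V := by
    by_cases hall' : ∀ s ∈ (S : Subgroup G), cj s K = K
    · refine Or.inl (le_antisymm ((closure_le _).2 ?_) hVW)
      rintro _ ⟨s, hs, w, hw, rfl⟩
      have h1 : cj s W = W := by rw [hW, ← wOf_cj, hall' s hs]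
      exact h1.le (mem_map_of_mem _ hw)
    · push Not at hall'
      obtain ⟨s, hs, hsK⟩ := hall'
      obtain ⟨hc, hinf⟩ := hdist s hs hsK
      have hle : cj s W ⊔ W ≤ V := sup_le (by
        rintro _ ⟨w, hw, rfl⟩
        exact subset_closure ⟨s, hs, w, hw, rfl⟩) hVW
      have h := Fusion.Thompson.card_sup_mul_card_inf
        ((le_centralizer_iff.1 hc).trans (centralizer_le_normalizer _) : W ≤ normalizer (cj s W : Set G))
      rw [hinf, card_bot, mul_one, card_map_of_injective (MulAut.conj s).injective, hv.comp.2.2.2.2.1] at h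
      have := Nat.le_of_dvd Nat.card_pos (card_dvd_of_le hle)
      exact Or.inr (by omega)
  have hVcard : 4 ≤ Nat.card V := hv.comp.2.2.2.2.1 ▸ Nat.le_of_dvd Nat.card_pos (card_dvd_of_le hVW)
  -- all involutions of `W` are conjugate
  have hWconj : ∀ x ∈ W, x ≠ 1 → ∀ y ∈ W, y ≠ 1 → ∃ g : G, g * x * g⁻¹ = y := by
    intro x hx hx1 y hy hy1
    obtain ⟨g, -, hg⟩ := conj_f H hv hx hx1 hy hy1
    exact ⟨g, hg⟩
  -- `z` lies in `V`
  haveI : (V.subgroupOf (S : Subgroup G)).Normal := (normal_subgroupOf_iff_le_normalizer hVS).2 hVn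
  have hzS : z ∈ (S : Subgroup G) := (JComponent.omegaCenterOf_le _ hzΩ).1
  have hzc : ∀ s ∈ (S : Subgroup G), s * z = z * s := fun s hs =>
    mem_centralizer_iff.1 (JComponent.omegaCenterOf_le _ hzΩ).2 s hs
  haveI hZn : (zpowers (⟨z, hzS⟩ : ↥(S : Subgroup G))).Normal := by
    refine ⟨fun a ha s => ?_⟩
    obtain ⟨i, rfl⟩ := ha
    refine ⟨i, ?_⟩
    have hc : Commute s (⟨z, hzS⟩ : ↥(S : Subgroup G)) := Subtype.ext (hzc s s.2)
    simp only
    rw [(hc.zpow_right i).eq, mul_inv_cancel_right]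
  obtain ⟨u', huV, huz, hucomm⟩ := exists_central_step S.isPGroup' (V.subgroupOf (S : Subgroup G))
    (zpowers (⟨z, hzS⟩ : ↥(S : Subgroup G))) (fun hle => by
      have h := Nat.le_of_dvd Nat.card_pos (card_dvd_of_le hle)
      rw [Nat.card_congr (subgroupOfEquivOfLe hVS).toEquiv, Nat.card_zpowers] at h
      have := Nat.le_of_dvd (by norm_num) (orderOf_dvd_of_pow_eq_one (x := (⟨z, hzS⟩ : ↥(S : Subgroup G)))
        (Subtype.ext (show z ^ 2 = 1 by rw [pow_two]; exact z_sq hzZ)))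
      omega)
  have hzV : z ∈ V := by
    haveI := S.isPGroup'.isNilpotent
    have h := CfsgLib.Solvable.FrattiniFitting.inf_center_ne_bot (V.subgroupOf (S : Subgroup G)) fun e => by
      rw [subgroupOf_eq_bot, disjoint_iff, inf_eq_left.2 hVS] at e
      rw [e, card_bot] at hVcard
      omega
    obtain ⟨x, ⟨hxV, hxc⟩, hx1⟩ := (bot_or_exists_ne_one _).resolve_left h
    rcases huniq x (subset_closure ⟨⟨x.2, mem_centralizer_iff.2 fun s hs =>
      congrArg Subtype.val (Subgroup.mem_center_iff.1 hxc ⟨s, hs⟩)⟩,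
        by rw [pow_two]; exact JComponent.mul_self_of_isEA hVe hxV⟩) with e | e
    · exact absurd (Subtype.ext e) hx1
    · exact e ▸ hxV
  set u : G := (u' : G) with hudef
  have huVm : u ∈ V := huV
  have huu : u * u = 1 := JComponent.mul_self_of_isEA hVe huVm
  have hu1 : u ≠ 1 := fun e => huz (by rw [show u' = 1 from Subtype.ext e]; exact one_mem _)
  have huz' : u ≠ z := fun e => huz (by
    rw [show u' = ⟨z, hzS⟩ from Subtype.ext e]; exact mem_zpowers _)
  have hzz : z * z = 1 := z_sq hzZ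
  have hcomm : ∀ s ∈ (S : Subgroup G), u * s * u⁻¹ = s ∨ u * s * u⁻¹ = s * z := by
    intro s hs
    obtain ⟨i, hi⟩ := hucomm ⟨s⁻¹, inv_mem hs⟩
    have hi' : z ^ i = s⁻¹ * u * s * u⁻¹ := by simpa using congrArg Subtype.val hi
    have hz2 : z ^ i = 1 ∨ z ^ i = z := by
      rcases Int.even_or_odd i with ⟨j, rfl⟩ | ⟨j, rfl⟩
      · exact Or.inl (by rw [zpow_add, ← (Commute.refl z).mul_zpow, hzz, one_zpow])
      · exact Or.inr (by rw [zpow_add, zpow_mul, show z ^ (2 : ℤ) = 1 by rw [zpow_two, hzz], one_zpow, one_mul, zpow_one])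
    rcases hz2 with e | e <;> rw [e] at hi'
    · left; calc u * s * u⁻¹ = s * (s⁻¹ * u * s * u⁻¹) := by group
        _ = s := by rw [← hi', mul_one]
    · right; calc u * s * u⁻¹ = s * (s⁻¹ * u * s * u⁻¹) := by group
        _ = s * z := by rw [← hi']
  -- so `u ∈ T`
  have hzT : z ∈ T := Fusion.Thompson.thompsonSubgroupOf_le T (JComponent.omegaCenterOf_le _ hzZ).1
  have huT : u ∈ T := by
    have hzQ := b.z_le_q hzZ
    have hun : u ∈ normalizer ((T ⊓ centralizer (Cfsg.wOf A : Set G) : Subgroup G) : Set G) := by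
      refine SylowIn.map_conj_eq_iff.1 (eq_of_le_of_card_ge ?_ (card_map_of_injective (MulAut.conj u).injective).ge)
      rintro _ ⟨q, hq, rfl⟩
      rcases hcomm q (hTS hq.1) with e | e
      · show u * q * u⁻¹ ∈ _; rw [e]; exact hq
      · show u * q * u⁻¹ ∈ _; rw [e]; exact mul_mem hq hzQ
    rw [b.normalizer_q] at hun
    have h := (Straddle.isSylowTwoIn_iff.1 b.v.syl).2.2 ((S : Subgroup G) ⊓ M) inf_le_right
      (S.isPGroup'.to_le inf_le_left) (le_inf hTS b.v.syl.1)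
    exact h ▸ ⟨hVS huVm, hun⟩
  -- finish inside one vertex
  have key : ∀ {A M A' M' : Subgroup G}, Edge T A M A' M' → u ∈ T ⊓ centralizer (Cfsg.wOf A : Set G) → False := by
    intro A M A' M' b huQ
    have hTp := Vertex.t_pgroup b.v
    have hnc : ∀ {A M : Subgroup G} {x : G}, Vertex T A M → x ∈ Cfsg.omegaCenterOf (Cfsg.thompsonSubgroupOf 2 T) →
        A ≤ centralizer ({x} : Set G) → ∀ g : G, g * x * g⁻¹ ≠ z :=
      fun hA hx hAx g => JPath.not_conj (g := g) hA hAx (j_cen hx) S hczS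
    have hbad : ∀ {A M A' M' : Subgroup G} {d x g : G}, Edge T A M A' M' →
        d ∈ Cfsg.omegaCenterOf (Cfsg.thompsonSubgroupOf 2 T) → d ≠ 1 → A ≤ centralizer ({d} : Set G) →
        x ∈ V → x ≠ 1 → g * d * g⁻¹ = x → False := by
      intro A M A' M' d x g b hd hd1 hdA hxV hx1 hgd
      rcases hbig with e | h16
      · obtain ⟨g2, hg2⟩ := hWconj x (e ▸ hxV) hx1 z (e ▸ hzV) hz1
        exact hnc b.v hd hdA (g2 * g) (by rw [← hg2, ← hgd]; group)
      · have hVx : cj g⁻¹ V ≤ centralizer ({d} : Set G) := by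
          have h := cj_singleton (X := V) (x := x) (fun y hy => mem_centralizer_singleton_iff.2
            (Fusion.Thompson.mul_comm_of_isEA hVe hy hxV)) g⁻¹
          rwa [show g⁻¹ * x * g⁻¹⁻¹ = d by rw [← hgd]; group] at h
        have h8 := b.ea_le (hVx.trans (b.v.uniq _ (isTwoLocal_cen hd hd1) hdA (j_cen hd)))
          (Fusion.Thompson.isEA_map _ hVe)
        rw [card_map_of_injective (MulAut.conj g⁻¹).injective] at h8
        omega
    obtain ⟨f, hfW, hfZ, hf1, -⟩ := Vertex.exists_f b.v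
    obtain ⟨c, hc, v, hvW, huv⟩ := b.q_split huQ
    obtain ⟨hcZ, hcA⟩ := mem_dd.1 hc
    -- the four-group inside `V`
    have hgood : z = f → c = 1 → False := by
      intro hzf hc1
      rw [hc1, one_mul] at huv
      have hle : Cfsg.wOf A ≤ V := fun x hx => by
        rcases JComponent.four_cases b.v.comp.2.2.2.2.1 hfW hf1 (huv ▸ hvW : u ∈ Cfsg.wOf A) (hzf ▸ huz') hu1
          (b.w_sq hfW) hx with e | e | e | e <;> rw [e]
        exacts [one_mem _, hzf ▸ hzV, huVm, mul_mem huVm (hzf ▸ hzV)]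
      have hVC : V ≤ centralizer (Cfsg.wOf A : Set G) := fun y hy => mem_centralizer_iff.2 fun x hx =>
        Fusion.Thompson.mul_comm_of_isEA hVe (hle hx) hy
      have hWA : normalizer (Cfsg.wOf A : Set G) ≤ M := by
        refine b.v.uniq _ ⟨_, IsPGroup.of_card (n := 2) (by rw [b.v.comp.2.2.2.2.1]; norm_num),
          fun e => hf1 (mem_bot.1 (e ▸ hfW)), rfl⟩ (Subgroup.le_normalizer.trans (JAmbient.conjK_le_normalizer_wOf A))
          ((Fusion.Thompson.thompsonSubgroupOf_le T).trans (Vertex.t_le_normalizer_w b.hyp b.v b.cen))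
      have hSM : (S : Subgroup G) ⊓ M = T := (Straddle.isSylowTwoIn_iff.1 b.v.syl).2.2 _ inf_le_right
        (S.isPGroup'.to_le inf_le_left) (le_inf hTS b.v.syl.1)
      have hVQ : V ≤ T ⊓ centralizer (Cfsg.wOf A : Set G) := fun y hy =>
        ⟨hSM ▸ ⟨hVS hy, hWA (centralizer_le_normalizer _ (hVC hy))⟩, hVC hy⟩
      have h1 := Nat.le_of_dvd Nat.card_pos (card_dvd_of_le hVQ)
      rw [b.card_q] at h1
      have h2 := b.card_dd.1
      rcases hbig with e | h16
      · have heq : Cfsg.wOf A = V := eq_of_le_of_card_ge hle (by rw [e, hv.comp.2.2.2.2.1, b.v.comp.2.2.2.2.1])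
        have hSle : (S : Subgroup G) ≤ T := fun s hs => hSM ▸ ⟨hs, hWA (by rw [heq]; exact hVn hs)⟩
        exact hne (le_antisymm hTS hSle)
      · omega
    obtain ⟨g, hg, hgv⟩ : ∃ g ∈ A, v ≠ 1 → g * f * g⁻¹ = v := by
      by_cases hv1 : v = 1
      · exact ⟨1, one_mem _, fun h => absurd hv1 h⟩
      · obtain ⟨g, hg, hgv⟩ := conj_f H b.v hfW hf1 hvW hv1
        exact ⟨g, hg, fun _ => hgv⟩
    obtain ⟨c0, hc0, hzsplit⟩ := z_split hTp b.v.comp hfW hfZ hf1 hzZ
    obtain ⟨hc0Z, hc0A⟩ := mem_dd.1 hc0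
    by_cases hd : Nat.card ↥(dd T A) = 1
    · have hbot := eq_bot_of_card_eq _ hd
      rw [hbot, mem_bot] at hc hc0
      refine hgood ?_ hc
      rcases hzsplit with e | e
      · exact absurd (e.trans hc0) hz1
      · rw [e, hc0, one_mul]
    have h4 : Nat.card ↥(Cfsg.omegaCenterOf (Cfsg.thompsonSubgroupOf 2 T)) = 4 := by
      have := card_z hTp b.v.comp
      have := b.card_dd.1
      have : 0 < Nat.card ↥(dd T A) := Nat.card_pos
      omega
    obtain ⟨d, hdZ, hd1, hdA⟩ := exists_d hTp b.v.comp h4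
    obtain ⟨d', hdZ', hd1', hdA'⟩ := exists_d hTp b.v'.comp h4
    have hdd : d ≠ d' := fun e => not_common b.v b.v' b.ne (isTwoLocal_cen hdZ hd1) hdA (e ▸ hdA') (j_cen hdZ)
    have hzd : z ≠ d := fun e => hnc b.v hdZ hdA 1 (by rw [e]; group)
    have hzd' : z ≠ d' := fun e => hnc b.v' hdZ' hdA' 1 (by rw [e]; group)
    have hcd : c = 1 ∨ c = d := by
      by_cases h : c = 1
      · exact Or.inl h
      · exact Or.inr (only hTp b.v.comp b.card_dd.2 hcZ hcA h hdZ hdA hd1)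
    have hfd : f ≠ d := fun e => hf1 (JAmbient.wfix b.v.comp f hfW fun k hk =>
      mem_centralizer_singleton_iff.1 ((e.symm ▸ hdA) hk))
    have hcases := z_cases h4 hdZ hd1 hfZ hf1 hfd.symm hzZ
    have hcases' := z_cases h4 hdZ hd1 hfZ hf1 hfd.symm hdZ'
    by_cases hzf : z = f
    · rcases hcd with hc1 | hc1
      · exact hgood hzf hc1
      have hd'f : d' = d * f := by
        rcases hcases' with e | e | e | e
        exacts [absurd e hd1', absurd e.symm hdd, absurd (hzf.trans e.symm) hzd', e]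
      by_cases hv1 : v = 1
      · exact hbad b hdZ hd1 hdA huVm hu1 (g := 1) (by rw [huv, hc1, hv1]; group)
      · refine hbad b.symm hdZ' hd1' hdA' huVm hu1 (g := g) ?_
        rw [hd'f, show g * (d * f) * g⁻¹ = (g * d * g⁻¹) * (g * f * g⁻¹) by group, hgv hv1,
          mem_centralizer_singleton_iff.1 (hdA hg), mul_inv_cancel_right, huv, hc1]
    · have hzdf : z = d * f := by
        rcases hcases with e | e | e | e
        exacts [absurd e hz1, absurd e hzd, absurd e hzf, e]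
      have hd'f : d' = f := by
        rcases hcases' with e | e | e | e
        exacts [absurd e hd1', absurd e.symm hdd, e, absurd (hzdf.trans e.symm) hzd']
      rcases hcd with hc1 | hc1
      · have hv1 : v ≠ 1 := fun e => hu1 (by rw [huv, hc1, e, mul_one])
        refine hbad b.symm hdZ' hd1' hdA' huVm hu1 (g := g) ?_
        rw [hd'f, hgv hv1, huv, hc1, one_mul]
      · by_cases hv1 : v = 1
        · exact hbad b hdZ hd1 hdA huVm hu1 (g := 1) (by rw [huv, hc1, hv1]; group)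
        -- `u z` lies in `W_A`
        have hzu : u * z = v * f := by
          rw [huv, hc1, hzdf, show d * v * (d * f) = d * (v * d) * f by group,
            show v * d = d * v from (mem_centralizer_singleton_iff.1 (hdA (JAmbient.wOf_le_K A hvW))),
            show d * (d * v) * f = (d * d) * (v * f) by group, z_sq hdZ, one_mul]
        have hvf : v * f ≠ 1 := fun e => huz' (by
          calc u = u * (z * z) := by rw [hzz, mul_one]
            _ = z := by rw [← mul_assoc, hzu, e, one_mul])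
        obtain ⟨g2, hg2, hg2f⟩ := conj_f H b.v hfW hf1 (mul_mem hvW hfW) hvf
        exact hbad b.symm hdZ' hd1' hdA' (mul_mem huVm hzV) (hzu ▸ hvf) (g := g2) (by rw [hd'f, hg2f, hzu])
  rcases b.invol huT huu with h | h
  exacts [key b h, key b.symm h]

/-- A second vertex over a Sylow subgroup. -/
theorem two_vertices (hO : Cfsg.pCore 2 G = ⊥) : ∃ K' L', Vertex (S : Subgroup G) K' L' ∧ L ≠ L' := by
  haveI : Fact (Nat.Prime 2) := ⟨Nat.prime_two⟩
  by_cases hJ : normalizer (Cfsg.thompsonSubgroupOf 2 (S : Subgroup G) : Set G) ≤ L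
  · obtain ⟨X, hX, hSX, hXL⟩ : ∃ X, Cfsg.IsTwoLocal X ∧ (S : Subgroup G) ≤ X ∧ ¬ X ≤ L := by
      by_contra hcon
      push Not at hcon
      exact not_max H S hv hO hJ hcon
    have hS1 := sylow_max (M := L) S ⟨S.isPGroup', Vertex.t_ne_bot hv, hv.syl.1, X, hX, hSX, hXL⟩
    obtain ⟨K', L', hv', -, hK', -⟩ := vertex_in H hS1 hJ hX hSX hXL
    exact ⟨K', L', hv', fun e => hK' (e ▸ hv'.le)⟩
  obtain ⟨n, hnJ, hnL⟩ := SetLike.not_le_iff_exists.1 hJ
  have hJn : cj n (Cfsg.thompsonSubgroupOf 2 (S : Subgroup G)) = Cfsg.thompsonSubgroupOf 2 (S : Subgroup G) :=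
    SylowIn.map_conj_eq_iff.2 hnJ
  have hK' : Cfsg.IsJComponent (S : Subgroup G) (cj n K) := by
    refine JPlanes.isJComponent_congr ?_ (JPlanes.isJComponent_conj hv.comp n)
    rw [Fusion.Thompson.thompsonSubgroupOf_map_conj]
    exact hJn.symm
  have hdis : ∀ X : Subgroup G, Cfsg.IsTwoLocal X → K ≤ X → cj n K ≤ X →
      Cfsg.thompsonSubgroupOf 2 (S : Subgroup G) ≤ X → False := by
    intro X hX h1 h2 h3
    have hK'L : cj n K ≤ L := h2.trans (hv.uniq X hX h1 h3)
    have hsub : cj n⁻¹ L ≤ L := by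
      refine hv.uniq _ (isTwoLocal_cj hv.max.1 _) ?_ ?_
      · have h : cj n⁻¹ (cj n K) ≤ cj n⁻¹ L := map_mono hK'L
        rwa [cj_cj, inv_mul_cancel, cj_one] at h
      · have h : cj n⁻¹ (cj n (Cfsg.thompsonSubgroupOf 2 (S : Subgroup G))) ≤ cj n⁻¹ L :=
          map_mono (hJn.le.trans (Vertex.j_le hv))
        rwa [cj_cj, inv_mul_cancel, cj_one] at h
    have heq := eq_of_le_of_card_ge hsub (card_map_of_injective (MulAut.conj n⁻¹).injective).ge
    exact hnL (inv_mem_iff.1 ((normalizer_eq_self hv.max).le (SylowIn.map_conj_eq_iff.1 heq)))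
  obtain ⟨-, hcen, hcS⟩ := top_cen H S hv hK' hdis
  have hnS : n ∈ normalizer ((S : Subgroup G) : Set G) := by
    have hnZ : cj n Z₁ = Z₁ := SylowIn.map_conj_eq_iff.2 (JComponent.normalizer_le_omegaCenterOf _ hnJ)
    have h : cj n (S : Subgroup G) ≤ centralizer (Z₁ : Set G) := by
      have := cj_centralizes n hcen
      rwa [hnZ] at this
    exact SylowIn.map_conj_eq_iff.1 (eq_of_le_of_card_ge (le_of_le_normalizer (S.isPGroup'.map _) S (h.trans hcS))
      (card_map_of_injective (MulAut.conj n).injective).ge)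
  exact ⟨cj n K, cj n L, vertex_cj hv hnS, fun e => hnL
    ((normalizer_eq_self hv.max).le (SylowIn.map_conj_eq_iff.1 e.symm))⟩

end Top

/-- Summary for a maximal straddling subgroup. -/
theorem main (H : Hyp G) (hO : Cfsg.pCore 2 G = ⊥) (S : Sylow 2 G) {M T : Subgroup G}
    (hMJ : normalizer (Cfsg.thompsonSubgroupOf 2 (S : Subgroup G) : Set G) ≤ M)
    (hT : T ∈ Cfsg.maxStraddlingTwoSubgroups M) :
    T ≤ centralizer (Cfsg.omegaCenterOf (Cfsg.thompsonSubgroupOf 2 T) : Set G) ∧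
      ∃ A N A' N', Edge T A N A' N' := by
  haveI : Fact (Nat.Prime 2) := ⟨Nat.prime_two⟩
  obtain ⟨K, hK⟩ := Straddle.exists_outside hT hMJ H.char2 H.solv H.cz
  obtain ⟨L, hv, -⟩ := vertex_of H hT hMJ hK
  obtain ⟨g, -, hle⟩ := Straddle.le_map_of_sylow (Straddle.isSylowTwoIn_iff.2 (sylowIn_top S)) le_top hT.1.1
  obtain ⟨S', hS'⟩ := exists_sylow_map S g
  have hTS : T ≤ (S' : Subgroup G) := hS'.symm ▸ hle
  by_cases hne : T = (S' : Subgroup G)
  · subst hne
    obtain ⟨K', L', hv', hLL'⟩ := two_vertices H S' hv hO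
    exact ⟨(top_cen H S' hv hv'.comp fun X hX h1 h2 h3 => not_common hv hv' hLL' hX h1 h2 h3).2.1,
      top_edge H S' hv hv' hLL'⟩
  · obtain ⟨t, -, -, -, -, hcen, -⟩ := proper_facts H hv S' hTS hne
    exact ⟨hcen, proper_edge H hv S' hTS hne⟩

end CfsgLib.LocalEvenB.JGlobal
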