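import Cfsg.Agent.Lib.Fusion.OffenderFixed
import Cfsg.Agent.Lib.LocalEven.SylowIn
import Cfsg.Agent.Lib.LocalEven.Commutators
import Mathlib.GroupTheory.IsSubnormal

/-!
`J(T)`-components inside a solvable `2`-local group: the image of such a component in the group
induced on the closure of the `Ω₁(Z(S))` is the subgroup of order three of one induced `SL(2,2)`.
-/

set_option autoImplicit false
set_option linter.style.haveILetI false
set_option linter.unusedSectionVars false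

open scoped MatrixGroups commutatorElement Pointwise

namespace CfsgLib.LocalEvenB.JLocal

open CfsgLib.Fusion CfsgLib.Fusion.OffenderTv CfsgLib.Fusion.OffenderAction

universe u

attribute [local instance] OmegaCenter.normal

variable {L : Type u} [Group L] [Finite L]

local notation "VV" => OmegaCenter.closureOmega 2 L
local notation "CC" => Subgroup.centralizer (VV : Set L)
local notation "QQ" => L ⧸ CC
local notation "qq" => QuotientGroup.mk' CC
local notation "RR" => Cfsg.pCore 2 L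
local notation "JA" => Cfsg.thompsonSubgroup 2 L

/-- The standing hypotheses. -/
structure Setting (L : Type u) [Group L] : Prop where
  sep : Cfsg.IsPSolvable 2 L
  core : Cfsg.pPrimeCore 2 L = ⊥
  cc : ∀ S : Sylow 2 L,
    Subgroup.centralizer (OmegaCenter.closureOmega 2 L : Set L) ≤
      Subgroup.normalizer ((S : Subgroup L) : Set L)

section Small

theorem sl_three : ∀ x y : SL(2, ZMod 2), x ^ 3 = 1 → y ^ 3 = 1 → x * y = y * x := by decide +kernel
theorem sl_comm : ∀ c d : SL(2, ZMod 2), (c * d * c⁻¹ * d⁻¹) ^ 3 = 1 := by decide +kernel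
set_option synthInstance.maxSize 4000 in
theorem sl_involutions : ∀ a x b : SL(2, ZMod 2), a * a = 1 → a ≠ 1 → x ^ 3 = 1 → x ≠ 1 → b * b = 1 →
    b ≠ 1 → b = a ∨ b = x * a * x⁻¹ ∨ b = x * x * a * (x * x)⁻¹ := by decide +kernel
theorem sl_generator : ∀ x y : SL(2, ZMod 2), x ^ 3 = 1 → x ≠ 1 → y ^ 3 = 1 →
    y = 1 ∨ y = x ∨ y = x * x := by decide +kernel

end Small

variable (h : Setting L)
include h

theorem tv_sq {a : QQ} (ha : IsTv a) : a * a = 1 := by
  rw [← pow_two]
  exact SemidirectProduct.inr_injective (φ := FailureFactor.act VV) (by rw [map_pow, ha.pow, map_one])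

theorem tv_ne {a : QQ} (ha : IsTv a) : a ≠ 1 := fun e => ha.ne (by rw [e, map_one])

theorem three_comm {a : QQ} (ha : IsTv a) {x y : QQ} (hx : x ∈ egroup a) (hy : y ∈ egroup a)
    (hx3 : x ^ 3 = 1) (hy3 : y ^ 3 = 1) : x * y = y * x := by
  obtain ⟨φ⟩ := exists_equiv h.sep h.core ha
  have := sl_three (φ ⟨x, hx⟩) (φ ⟨y, hy⟩) (by rw [← map_pow, ← map_one φ]; congr 1; exact Subtype.ext hx3)
    (by rw [← map_pow, ← map_one φ]; congr 1; exact Subtype.ext hy3)
  rw [← map_mul, ← map_mul, φ.injective.eq_iff] at this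
  exact congrArg Subtype.val this

theorem comm_three {a : QQ} (ha : IsTv a) {x y : QQ} (hx : x ∈ egroup a) (hy : y ∈ egroup a) :
    (x * y * x⁻¹ * y⁻¹) ^ 3 = 1 := by
  obtain ⟨φ⟩ := exists_equiv h.sep h.core ha
  have := sl_comm (φ ⟨x, hx⟩) (φ ⟨y, hy⟩)
  rw [← map_inv, ← map_inv, ← map_mul, ← map_mul, ← map_mul, ← map_pow, ← map_one φ, φ.injective.eq_iff] at this
  exact congrArg Subtype.val this

theorem involution_conj {a : QQ} (ha : IsTv a) {x b : QQ} (hx : x ∈ egroup a) (hx3 : x ^ 3 = 1)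
    (hx1 : x ≠ 1) (hb : b ∈ egroup a) (hb2 : b * b = 1) (hb1 : b ≠ 1) :
    b = a ∨ b = x * a * x⁻¹ ∨ b = x * x * a * (x * x)⁻¹ := by
  obtain ⟨φ⟩ := exists_equiv h.sep h.core ha
  have hne : ∀ z : egroup a, (z : QQ) ≠ 1 → φ z ≠ 1 := fun z hz e =>
    hz (congrArg Subtype.val (φ.injective (e.trans (map_one φ).symm)))
  rcases sl_involutions (φ ⟨a, self_mem a⟩) (φ ⟨x, hx⟩) (φ ⟨b, hb⟩)
    (by rw [← map_mul, ← map_one φ]; congr 1; exact Subtype.ext (tv_sq h ha)) (hne _ (tv_ne h ha))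
    (by rw [← map_pow, ← map_one φ]; congr 1; exact Subtype.ext hx3) (hne _ hx1)
    (by rw [← map_mul, ← map_one φ]; congr 1; exact Subtype.ext hb2) (hne _ hb1) with e | e | e
  · exact Or.inl (congrArg Subtype.val (φ.injective e))
  · rw [← map_inv, ← map_mul, ← map_mul, φ.injective.eq_iff] at e
    exact Or.inr (Or.inl (congrArg Subtype.val e))
  · rw [← map_mul, ← map_inv, ← map_mul, ← map_mul, φ.injective.eq_iff] at e
    exact Or.inr (Or.inr (congrArg Subtype.val e))

theorem generator {a : QQ} (ha : IsTv a) {x y : QQ} (hx : x ∈ egroup a) (hx3 : x ^ 3 = 1)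
    (hx1 : x ≠ 1) (hy : y ∈ egroup a) (hy3 : y ^ 3 = 1) : y ∈ Subgroup.zpowers x := by
  obtain ⟨φ⟩ := exists_equiv h.sep h.core ha
  rcases sl_generator (φ ⟨x, hx⟩) (φ ⟨y, hy⟩)
    (by rw [← map_pow, ← map_one φ]; congr 1; exact Subtype.ext hx3)
    (fun e => hx1 (congrArg Subtype.val (φ.injective (e.trans (map_one φ).symm))))
    (by rw [← map_pow, ← map_one φ]; congr 1; exact Subtype.ext hy3) with e | e | e
  · rw [← map_one φ, φ.injective.eq_iff] at e
    rw [show y = 1 from congrArg Subtype.val e]; exact one_mem _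
  · rw [show y = x from congrArg Subtype.val (φ.injective e)]; exact Subgroup.mem_zpowers x
  · rw [← map_mul, φ.injective.eq_iff] at e
    rw [show y = x * x from congrArg Subtype.val e]
    exact mul_mem (Subgroup.mem_zpowers x) (Subgroup.mem_zpowers x)

theorem egroup_conj_mem {a g x : QQ} (hg : g ∈ jq 2 L) (hx : x ∈ egroup a) :
    g * x * g⁻¹ ∈ egroup a := by
  have : (egroup a).map (MulAut.conj g).toMonoidHom ≤ egroup a := by
    rw [egroup, MonoidHom.map_closure]
    refine (Subgroup.closure_le _).2 ?_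
    rintro _ ⟨_, ⟨t, ht, rfl⟩, rfl⟩
    exact Subgroup.subset_closure ⟨g * t, mul_mem hg ht, by simp [mul_assoc]⟩
  exact this (Subgroup.mem_map_of_mem _ hx)

omit h in
/-- The subgroup generated by the elements of order three of the induced `SL(2,2)`'s. -/
def dd (L : Type u) [Group L] [Finite L] :
    Subgroup (L ⧸ Subgroup.centralizer (OmegaCenter.closureOmega 2 L : Set L)) :=
  Subgroup.closure {x | ∃ a, IsTv (p := 2) a ∧ x ∈ egroup a ∧ x ^ 3 = 1}

theorem dd_le : dd L ≤ jq 2 L := by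
  rw [dd, Subgroup.closure_le]
  rintro x ⟨a, ha, hx, -⟩
  exact egroup_le ha hx

theorem dd_comm {x y : QQ} (hx : x ∈ dd L) (hy : y ∈ dd L) : x * y = y * x := by
  have hgen : ∀ x ∈ {x : QQ | ∃ a, IsTv (p := 2) a ∧ x ∈ egroup a ∧ x ^ 3 = 1},
      ∀ y ∈ {x : QQ | ∃ a, IsTv (p := 2) a ∧ x ∈ egroup a ∧ x ^ 3 = 1}, x * y = y * x := by
    rintro x ⟨a, ha, hxa, hx3⟩ y ⟨c, hc, hyc, hy3⟩
    rcases eq_or_commute h.sep h.core ha hc with e | e
    · exact three_comm h ha hxa (e ▸ hyc) hx3 hy3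
    · exact (e y hyc x hxa).symm
  have h1 : dd L ≤ Subgroup.centralizer (dd L : Set QQ) := by
    rw [dd, Subgroup.centralizer_closure, Subgroup.closure_le]
    exact fun x hx => Subgroup.mem_centralizer_iff.2 fun y hy => hgen y hy x hx
  exact (Subgroup.mem_centralizer_iff.1 (h1 hy) x hx)

theorem dd_cube {x : QQ} (hx : x ∈ dd L) : x ^ 3 = 1 := by
  induction hx using Subgroup.closure_induction with
  | mem x hx => obtain ⟨a, -, -, e⟩ := hx; exact e
  | one => exact one_pow 3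
  | mul x y hx hy ix iy =>
    rw [(show Commute x y from dd_comm h hx hy).mul_pow, ix, iy, one_mul]
  | inv x _ ix => rw [inv_pow, ix, inv_one]

theorem dd_conj {g x : QQ} (hg : g ∈ jq 2 L) (hx : x ∈ dd L) : g * x * g⁻¹ ∈ dd L := by
  have : (dd L).map (MulAut.conj g).toMonoidHom ≤ dd L := by
    rw [dd, MonoidHom.map_closure, Subgroup.closure_le]
    rintro _ ⟨x, ⟨a, ha, hxa, hx3⟩, rfl⟩
    refine Subgroup.subset_closure ⟨a, ha, egroup_conj_mem h hg hxa, ?_⟩
    rw [← map_pow, hx3, map_one]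
  exact this (Subgroup.mem_map_of_mem _ hx)

theorem comm_mem_dd {x y : QQ} (hx : x ∈ jq 2 L) (hy : y ∈ jq 2 L) : x * y * x⁻¹ * y⁻¹ ∈ dd L := by
  have h1 : ∀ x ∈ jq 2 L, ∀ c, IsTv (p := 2) c → x * c * x⁻¹ * c⁻¹ ∈ dd L := by
    intro x hx
    have hx' := jq_le_closure h.sep h.core hx
    induction hx' using Subgroup.closure_induction with
    | mem a ha =>
      intro c hc
      rcases eq_or_commute h.sep h.core ha hc with e | e
      · have hc' : c ∈ egroup a := e ▸ self_mem c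
        refine Subgroup.subset_closure ⟨a, ha, ?_, comm_three h ha (self_mem a) hc'⟩
        exact mul_mem (mul_mem (mul_mem (self_mem a) hc') (inv_mem (self_mem a))) (inv_mem hc')
      · rw [show a * c = c * a from (e c (self_mem c) a (self_mem a)).symm, mul_inv_cancel_right,
          mul_inv_cancel]
        exact one_mem _
    | one => intro c _; simp
    | mul a b ha hb iha ihb =>
      intro c hc
      have haJ : a ∈ jq 2 L := (Subgroup.closure_le _).2 (fun t ht => IsTv.mem ht) ha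
      have hbJ : b ∈ jq 2 L := (Subgroup.closure_le _).2 (fun t ht => IsTv.mem ht) hb
      rw [show a * b * c * (a * b)⁻¹ * c⁻¹ = a * (b * c * b⁻¹ * c⁻¹) * a⁻¹ * (a * c * a⁻¹ * c⁻¹) by group]
      exact mul_mem (dd_conj h haJ (ihb hbJ c hc)) (iha haJ c hc)
    | inv a ha iha =>
      intro c hc
      have haJ : a ∈ jq 2 L := (Subgroup.closure_le _).2 (fun t ht => IsTv.mem ht) ha
      rw [show a⁻¹ * c * a⁻¹⁻¹ * c⁻¹ = a⁻¹ * (a * c * a⁻¹ * c⁻¹)⁻¹ * a⁻¹⁻¹ by group]
      exact dd_conj h (inv_mem haJ) (inv_mem (iha haJ c hc))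
  have hy' := jq_le_closure h.sep h.core hy
  induction hy' using Subgroup.closure_induction with
  | mem c hc => exact h1 x hx c hc
  | one => simp
  | mul a b ha hb iha ihb =>
    have haJ : a ∈ jq 2 L := (Subgroup.closure_le _).2 (fun t ht => IsTv.mem ht) ha
    have hbJ : b ∈ jq 2 L := (Subgroup.closure_le _).2 (fun t ht => IsTv.mem ht) hb
    rw [show x * (a * b) * x⁻¹ * (a * b)⁻¹ = (x * a * x⁻¹ * a⁻¹) * (a * (x * b * x⁻¹ * b⁻¹) * a⁻¹) by group]
    exact mul_mem (iha haJ) (dd_conj h haJ (ihb hbJ))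
  | inv a ha iha =>
    have haJ : a ∈ jq 2 L := (Subgroup.closure_le _).2 (fun t ht => IsTv.mem ht) ha
    rw [show x * a⁻¹ * x⁻¹ * a⁻¹⁻¹ = a⁻¹ * (x * a * x⁻¹ * a⁻¹)⁻¹ * a⁻¹⁻¹ by group]
    exact dd_conj h (inv_mem haJ) (inv_mem (iha haJ))

theorem sq_mem_dd {x : QQ} (hx : x ∈ jq 2 L) : x * x ∈ dd L := by
  have hx' := jq_le_closure h.sep h.core hx
  induction hx' using Subgroup.closure_induction with
  | mem a ha => rw [tv_sq h ha]; exact one_mem _
  | one => simp
  | mul a b ha hb iha ihb =>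
    have haJ : a ∈ jq 2 L := (Subgroup.closure_le _).2 (fun t ht => IsTv.mem ht) ha
    have hbJ : b ∈ jq 2 L := (Subgroup.closure_le _).2 (fun t ht => IsTv.mem ht) hb
    rw [show a * b * (a * b) = a * (b * a * b⁻¹ * a⁻¹) * a⁻¹ * (a * a) * (b * b) by group]
    exact mul_mem (mul_mem (dd_conj h haJ (comm_mem_dd h hbJ haJ)) (iha haJ)) (ihb hbJ)
  | inv a ha iha =>
    have haJ : a ∈ jq 2 L := (Subgroup.closure_le _).2 (fun t ht => IsTv.mem ht) ha
    rw [← mul_inv_rev]; exact inv_mem (iha haJ)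

theorem mem_dd_of_odd {x : QQ} (hx : x ∈ jq 2 L) (ho : Odd (orderOf x)) : x ∈ dd L := by
  obtain ⟨t, ht⟩ := exists_pow_eq_self_of_coprime (x := x) (n := 2) (Nat.coprime_two_left.2 ho)
  rw [← ht, pow_two]
  exact pow_mem (sq_mem_dd h hx) t

theorem rr_le_cc : RR ≤ CC := by
  haveI : Fact (Nat.Prime 2) := ⟨Nat.prime_two⟩
  exact Subgroup.le_centralizer_iff.1 ((OmegaCenter.omega_le h.sep h.core).trans inf_le_right)

/-- Elements of `2`-power order of `C_L(V)` lie in `O₂(L)`. -/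
theorem two_mem {c : L} (hc : c ∈ CC) (h2 : IsPGroup 2 (Subgroup.zpowers c)) : c ∈ RR := by
  haveI : Fact (Nat.Prime 2) := ⟨Nat.prime_two⟩
  have hle : ∀ S : Sylow 2 L, c ∈ (S : Subgroup L) := fun S => by
    have hp : IsPGroup 2 ↥((S : Subgroup L) ⊔ Subgroup.zpowers c) :=
      IsPGroup.to_sup_of_normal_left' S.isPGroup' h2 (Subgroup.zpowers_le.2 (h.cc S hc))
    have := S.is_maximal' hp le_sup_left
    exact this ▸ Subgroup.mem_sup_right (Subgroup.mem_zpowers c)
  haveI hn : (⨅ S : Sylow 2 L, (S : Subgroup L)).Normal := by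
    refine ⟨fun x hx g => ?_⟩
    rw [Subgroup.mem_iInf] at hx ⊢
    intro S
    have := Subgroup.smul_mem_pointwise_smul x (MulAut.conj g) _ (hx (g⁻¹ • S))
    rw [← Sylow.pointwise_smul_def, ← Sylow.smul_def, smul_smul, mul_inv_cancel, one_smul] at this
    simpa using this
  obtain ⟨S⟩ : Nonempty (Sylow 2 L) := inferInstance
  exact CfsgLib.LocalEven.SylowIn.le_pCore (S.isPGroup'.to_le (iInf_le _ S))
    (Subgroup.mem_iInf.2 hle)

/-- `J(L)` centralizes `C_L(V)` modulo `O₂(L)`. -/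
theorem comm_cc {c y : L} (hc : c ∈ CC) (hy : y ∈ JA ⊔ RR) : y * c * y⁻¹ * c⁻¹ ∈ RR := by
  haveI : Fact (Nat.Prime 2) := ⟨Nat.prime_two⟩
  haveI := CfsgLib.LocalEven.SylowIn.pCore_normal L 2
  let f := QuotientGroup.mk' RR
  suffices hle : JA ⊔ RR ≤ (Subgroup.centralizer (Subgroup.map f CC : Set (L ⧸ RR))).comap f by
    have h1 := Subgroup.mem_centralizer_iff.1 (hle hy) (f c) (Subgroup.mem_map_of_mem f hc)
    refine (QuotientGroup.eq_one_iff _).1 ?_
    show f (y * c * y⁻¹ * c⁻¹) = 1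
    rw [map_mul, map_mul, map_mul, map_inv, map_inv, ← h1]
    group
  refine sup_le (sSup_le fun A hA => ?_) fun r hr => ?_
  · intro a ha
    refine Subgroup.mem_centralizer_iff.2 ?_
    rintro _ ⟨d, hd, rfl⟩
    obtain ⟨S, hS⟩ := (Fusion.Thompson.isPGroup_isEA hA.1).exists_le_sylow
    have h1 : d * a * d⁻¹ * a⁻¹ ∈ RR := by
      refine two_mem h ?_ ?_
      · have : a * d⁻¹ * a⁻¹ ∈ CC := (inferInstance : (CC).Normal).conj_mem _ (inv_mem hd) a
        simpa [mul_assoc] using mul_mem hd this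
      · exact S.isPGroup'.to_le (Subgroup.zpowers_le.2 (mul_mem
          ((Subgroup.mem_normalizer_iff.1 (h.cc S hd) a).1 (hS ha)) (inv_mem (hS ha))))
    show f d * f a = f a * f d
    have h2 : f (d * a * d⁻¹ * a⁻¹) = 1 := (QuotientGroup.eq_one_iff _).2 h1
    rw [map_mul, map_mul, map_mul, map_inv, map_inv, mul_inv_eq_one, mul_inv_eq_iff_eq_mul] at h2
    exact h2
  · refine Subgroup.mem_centralizer_iff.2 ?_
    rintro _ ⟨d, -, rfl⟩
    rw [show f r = 1 from (QuotientGroup.eq_one_iff r).2 hr, mul_one, one_mul]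

/-- Images of the maximal elementary abelian subgroups are generated by transvections. -/
theorem map_max_le {A : Subgroup L} (hA : A ∈ Cfsg.maxElementaryAbelianSubgroups 2 L) :
    A.map qq ≤ Subgroup.closure {a : QQ | a ∈ A.map qq ∧ IsTv (p := 2) a} := by
  haveI : Fact (Nat.Prime 2) := ⟨Nat.prime_two⟩
  have hV := OmegaCenter.isEA h.sep h.core
  have h1 := le_closure_tv (isSetup h.sep h.core) (Subgroup.map_mono (le_sSup hA))
    (FailureFactor.image_isBest (G := L) VV hV hA)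
  refine (Subgroup.map_le_map_iff_of_injective
    (f := (SemidirectProduct.inr : QQ →* FailureFactor.Amb VV)) SemidirectProduct.inr_injective).1 ?_
  rw [MonoidHom.map_closure, Subgroup.map_map]
  refine h1.trans (Subgroup.closure_mono ?_)
  rintro c ⟨hc, htv⟩
  obtain ⟨g, hg, rfl⟩ := hc
  exact ⟨qq g, ⟨Subgroup.mem_map_of_mem _ hg, htv⟩, rfl⟩

/-- The data of a `J(T)`-component inside `L`. -/
structure Comp (K J W : Subgroup L) : Prop where
  gen : Subgroup.closure {g : L | g ∈ K ∧ Odd (orderOf g)} = K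
  comm : ⁅K, J⁆ = K
  idx : (Cfsg.pCoreOf 2 K).relIndex K = 3
  jgen : ∃ S : Set (Subgroup L), S ⊆ Cfsg.maxElementaryAbelianSubgroups 2 L ∧ J = sSup S
  jp : IsPGroup 2 J
  wcard : Nat.card W = 4
  q_fix : ∀ q ∈ Cfsg.pCoreOf 2 K, ∀ w ∈ W, q * w = w * q
  wnorm : K ≤ Subgroup.normalizer (W : Set L)
  wfix : ∀ w ∈ W, (∀ k ∈ K, k * w = w * k) → w = 1

variable {K J W : Subgroup L} (hK : Comp K J W)
include hK

theorem j_le : J ≤ JA := by
  obtain ⟨S, hS, rfl⟩ := hK.jgen
  exact sSup_le fun A hA => le_sSup (hS hA)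

omit h in
theorem j_norm : J ≤ Subgroup.normalizer (K : Set L) := by
  have := CfsgLib.LocalEven.Commutators.normalizer_commutator_right K J
  rwa [hK.comm] at this

theorem k_le : K ≤ JA := by
  rw [← hK.comm]
  refine Subgroup.commutator_le.2 fun k _ j hj => ?_
  haveI : (JA).Normal := inferInstance
  rw [commutatorElement_def]
  exact mul_mem (Subgroup.Normal.conj_mem inferInstance j (j_le h hK hj) k) (inv_mem (j_le h hK hj))

theorem not_le_rr : ¬ K ≤ RR := by
  haveI : Fact (Nat.Prime 2) := ⟨Nat.prime_two⟩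
  intro hle
  have hbot : K = ⊥ := by
    rw [← hK.gen, Subgroup.closure_eq_bot_iff]
    rintro g ⟨hg, ho⟩
    obtain ⟨n, hn⟩ := IsPGroup.iff_orderOf.1 (CfsgLib.LocalEven.SylowIn.isPGroup_pCore L 2) ⟨g, hle hg⟩
    rw [Subgroup.orderOf_mk] at hn
    rw [hn] at ho
    rcases Nat.eq_zero_or_pos n with rfl | hpos
    · exact orderOf_eq_one_iff.1 (by simpa using hn)
    · exact absurd ho (Nat.not_odd_iff_even.2 (Nat.even_pow.2 ⟨even_two, hpos.ne'⟩))
  have h3 := hK.idx
  rw [hbot, Subgroup.relIndex_bot_right] at h3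
  omega

theorem not_le_cc : ¬ K ≤ CC := by
  intro hle
  refine not_le_rr h hK ?_
  rw [← hK.comm]
  refine Subgroup.commutator_le.2 fun k hk j hj => ?_
  haveI : Fact (Nat.Prime 2) := ⟨Nat.prime_two⟩
  have h1 := comm_cc h (hle hk) (Subgroup.mem_sup_left (j_le h hK hj))
  have h2 := inv_mem h1
  rw [commutatorElement_def]
  convert h2 using 1
  group

theorem map_le_dd : K.map qq ≤ dd L := by
  rw [← hK.gen, MonoidHom.map_closure, Subgroup.closure_le]
  rintro _ ⟨g, ⟨hg, ho⟩, rfl⟩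
  exact mem_dd_of_odd h (Subgroup.mem_map_of_mem _ (k_le h hK hg))
    (ho.of_dvd_nat (orderOf_map_dvd _ g))

theorem q_le_rr : Cfsg.pCoreOf 2 K ≤ RR := by
  haveI : Fact (Nat.Prime 2) := ⟨Nat.prime_two⟩
  intro q hq
  have hqK := CfsgLib.LocalEven.SylowIn.pCoreOf_le K hq
  obtain ⟨n, hn⟩ := IsPGroup.iff_orderOf.1 (CfsgLib.LocalEven.SylowIn.isPGroup_pCoreOf K) ⟨q, hq⟩
  rw [Subgroup.orderOf_mk] at hn
  refine two_mem h ((QuotientGroup.eq_one_iff q).1 ?_) (IsPGroup.of_card (n := n) (by rw [Nat.card_zpowers, hn]))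
  show qq q = 1
  have h3 : (qq q) ^ 3 = 1 := dd_cube h (map_le_dd h hK (Subgroup.mem_map_of_mem _ hqK))
  have h2 : (qq q) ^ (2 ^ n) = 1 := by rw [← map_pow, ← hn, pow_orderOf_eq_one, map_one]
  have hg := pow_gcd_eq_one.2 ⟨h3, h2⟩
  rwa [Nat.Coprime.gcd_eq_one (Nat.Coprime.pow_right n (by norm_num)), pow_one] at hg

/-- `K` has image of order three inside the `SL(2,2)` of a transvection coming from `J`. -/
theorem exists_tv : ∃ a, IsTv (p := 2) a ∧ (∃ j ∈ J, qq j = a) ∧
    ∃ k ∈ K, qq k ∈ egroup a ∧ (qq k) ^ 3 = 1 ∧ qq k ≠ 1 ∧ K.map qq = Subgroup.zpowers (qq k) := by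
  haveI : Fact (Nat.Prime 2) := ⟨Nat.prime_two⟩
  obtain ⟨k, hk, hkC⟩ := SetLike.not_le_iff_exists.1 (not_le_cc h hK)
  have hk1 : qq k ≠ 1 := fun e => hkC ((QuotientGroup.eq_one_iff k).1 e)
  have hk3 : (qq k) ^ 3 = 1 := dd_cube h (map_le_dd h hK (Subgroup.mem_map_of_mem _ hk))
  have hgen : K.map qq = Subgroup.zpowers (qq k) := by
    set C := K ⊓ (Subgroup.zpowers (qq k)).comap qq with hC
    have hQC : Cfsg.pCoreOf 2 K ≤ C := le_inf (CfsgLib.LocalEven.SylowIn.pCoreOf_le K) fun q hq => by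
      rw [Subgroup.mem_comap, show qq q = 1 from (QuotientGroup.eq_one_iff q).2 (rr_le_cc h (q_le_rr h hK hq))]
      exact one_mem _
    have h3 : (Cfsg.pCoreOf 2 K).relIndex C * C.relIndex K = 3 := by
      rw [Subgroup.relIndex_mul_relIndex _ _ _ hQC inf_le_left, hK.idx]
    rcases (Nat.dvd_prime Nat.prime_three).1 (Dvd.intro _ h3) with e | e
    · exfalso
      have := Subgroup.relIndex_eq_one.1 e (Subgroup.mem_inf.2 ⟨hk, Subgroup.mem_zpowers (qq k)⟩)
      exact hkC (rr_le_cc h (q_le_rr h hK this))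
    · rw [e] at h3
      have h1 : K ≤ C := Subgroup.relIndex_eq_one.1 (by omega)
      refine le_antisymm ?_ (Subgroup.zpowers_le.2 (Subgroup.mem_map_of_mem _ hk))
      rintro _ ⟨x, hx, rfl⟩
      exact (h1 hx).2
  -- some transvection from `J` moves the image
  obtain ⟨a, ha, haJ, hne⟩ : ∃ a, IsTv (p := 2) a ∧ (∃ j ∈ J, qq j = a) ∧ a * qq k ≠ qq k * a := by
    by_contra hcon
    push Not at hcon
    refine not_le_cc h hK ?_
    have hJle : J.map qq ≤ Subgroup.centralizer ({qq k} : Set QQ) := by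
      obtain ⟨S, hS, rfl⟩ := hK.jgen
      rw [Subgroup.map_le_iff_le_comap]
      refine sSup_le fun A hA => Subgroup.map_le_iff_le_comap.1 ?_
      refine (map_max_le h (hS hA)).trans ((Subgroup.closure_le _).2 ?_)
      rintro b ⟨⟨g, hg, rfl⟩, hb⟩
      exact Subgroup.mem_centralizer_singleton_iff.2
        (hcon _ hb ⟨g, le_sSup (s := S) hA hg, rfl⟩)
    rw [← hK.comm]
    refine Subgroup.commutator_le.2 fun x hx j hj => (QuotientGroup.eq_one_iff _).1 ?_
    show qq (x * j * x⁻¹ * j⁻¹) = 1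
    obtain ⟨i, hi⟩ : qq x ∈ Subgroup.zpowers (qq k) := hgen ▸ Subgroup.mem_map_of_mem _ hx
    have hc : Commute (qq x) (qq j) := by
      rw [← show qq k ^ i = qq x from hi]
      exact (show Commute (qq k) (qq j) from
        (Subgroup.mem_centralizer_singleton_iff.1 (hJle (Subgroup.mem_map_of_mem _ hj))).symm).zpow_left i
    rw [map_mul, map_mul, map_mul, map_inv, map_inv, hc.eq, mul_inv_cancel_right, mul_inv_cancel]
  refine ⟨a, ha, haJ, k, hk, ?_, hk3, hk1, hgen⟩
  obtain ⟨j, hj, rfl⟩ := haJ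
  -- `a` inverts the image
  have hmem : qq j * qq k * (qq j)⁻¹ ∈ Subgroup.zpowers (qq k) := by
    rw [← hgen, ← map_inv, ← map_mul, ← map_mul]
    exact Subgroup.mem_map_of_mem _ ((Subgroup.mem_normalizer_iff.1 (j_norm hK hj) k).1 hk)
  have hcase : qq j * qq k * (qq j)⁻¹ = qq k * qq k := by
    have hord : orderOf (qq k) = 3 := orderOf_eq_prime hk3 hk1
    obtain ⟨i, hi⟩ := hmem
    simp only at hi
    rw [← zpow_mod_orderOf, hord] at hi
    have h0 : 0 ≤ i % ((3 : ℕ) : ℤ) := Int.emod_nonneg _ (by norm_num)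
    have h1 : i % ((3 : ℕ) : ℤ) < 3 := Int.emod_lt_of_pos _ (by norm_num)
    generalize i % ((3 : ℕ) : ℤ) = r at hi h0 h1
    interval_cases r
    · rw [zpow_zero] at hi
      exact absurd (conj_eq_one_iff.1 hi.symm) hk1
    · rw [zpow_one] at hi
      exact absurd (mul_inv_eq_iff_eq_mul.1 hi.symm) hne
    · rw [zpow_two] at hi; exact hi.symm
  have h4 : qq k * qq j * (qq k)⁻¹ ∈ egroup (qq j) :=
    Subgroup.subset_closure ⟨qq k, dd_le h (map_le_dd h hK (Subgroup.mem_map_of_mem _ hk)), rfl⟩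
  have h5 := mul_mem h4 (inv_mem (self_mem (qq j)))
  have h6 : qq k * qq j * (qq k)⁻¹ * (qq j)⁻¹ = (qq k)⁻¹ := by
    calc qq k * qq j * (qq k)⁻¹ * (qq j)⁻¹ = qq k * (qq j * qq k * (qq j)⁻¹)⁻¹ := by group
      _ = (qq k)⁻¹ := by rw [hcase]; group
  rw [h6] at h5
  simpa using inv_mem h5

/-- `J(L)` normalizes `K O₂(L)`. -/
theorem ja_norm : JA ≤ Subgroup.normalizer ((K ⊔ RR : Subgroup L) : Set L) := by
  haveI : Fact (Nat.Prime 2) := ⟨Nat.prime_two⟩
  haveI hRn := CfsgLib.LocalEven.SylowIn.pCore_normal L 2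
  obtain ⟨a, ha, ⟨j, hj, hja⟩, k, hk, hke, hk3, hk1, hgen⟩ := exists_tv h hK
  set N := Subgroup.normalizer ((K ⊔ RR : Subgroup L) : Set L) with hN
  have hKN : K ≤ N := le_sup_left.trans Subgroup.le_normalizer
  have hCN : ∀ c ∈ CC, c ∈ JA ⊔ RR → c ∈ N := by
    intro c hc hcJ
    refine CfsgLib.LocalEven.SylowIn.map_conj_eq_iff.1
      (Subgroup.eq_of_le_of_card_ge ?_ (Subgroup.card_map_of_injective (MulAut.conj c).injective).ge)
    rw [Subgroup.map_le_iff_le_comap]
    refine sup_le (fun x hx => ?_) fun r hr => ?_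
    · show c * x * c⁻¹ ∈ K ⊔ RR
      have h1 := inv_mem (comm_cc h hc (Subgroup.mem_sup_left (k_le h hK hx)))
      have : c * x * c⁻¹ = (x * c * x⁻¹ * c⁻¹)⁻¹ * x := by group
      rw [this]
      exact mul_mem (Subgroup.mem_sup_right h1) (Subgroup.mem_sup_left hx)
    · exact Subgroup.mem_sup_right (hRn.conj_mem r hr c)
  have hjN : j ∈ N := by
    refine CfsgLib.LocalEven.SylowIn.map_conj_eq_iff.1 ?_
    rw [Subgroup.map_sup, CfsgLib.LocalEven.SylowIn.map_conj_eq_iff.2 (j_norm hK hj),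
      CfsgLib.LocalEven.SylowIn.map_conj_eq_iff.2 (Subgroup.normalizer_eq_top_iff.2 hRn ▸ Subgroup.mem_top j)]
  -- lifts of transvections
  have htv : ∀ b ∈ JA, IsTv (p := 2) (qq b) → b * b ∈ RR → b ∈ N := by
    intro b hb hbt hb2
    rcases eq_or_commute h.sep h.core ha hbt with e | e
    · have hbe : qq b ∈ egroup a := e ▸ self_mem (qq b)
      have : ∃ y ∈ N, y ∈ JA ∧ qq y = qq b := by
        have hjA := j_le h hK hj
        have hkA := k_le h hK hk
        rcases involution_conj h ha hke hk3 hk1 hbe (tv_sq h hbt) (tv_ne h hbt) with e1 | e1 | e1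
        · exact ⟨j, hjN, hjA, by rw [hja, e1]⟩
        · exact ⟨k * j * k⁻¹, mul_mem (mul_mem (hKN hk) hjN) (inv_mem (hKN hk)),
            mul_mem (mul_mem hkA hjA) (inv_mem hkA), by rw [map_mul, map_mul, map_inv, hja, e1]⟩
        · refine ⟨k * k * j * (k * k)⁻¹, mul_mem (mul_mem (mul_mem (hKN hk) (hKN hk)) hjN)
            (inv_mem (mul_mem (hKN hk) (hKN hk))), mul_mem (mul_mem (mul_mem hkA hkA) hjA)
            (inv_mem (mul_mem hkA hkA)), ?_⟩
          rw [map_mul, map_mul, map_inv, map_mul, hja, e1]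
      obtain ⟨y, hyN, hyA, hy⟩ := this
      have hc : y⁻¹ * b ∈ CC := (QuotientGroup.eq).1 hy
      have := mul_mem hyN (hCN _ hc (Subgroup.mem_sup_left (mul_mem (inv_mem hyA) hb)))
      rwa [mul_inv_cancel_left] at this
    · refine CfsgLib.LocalEven.SylowIn.map_conj_eq_iff.1
        (Subgroup.eq_of_le_of_card_ge ?_ (Subgroup.card_map_of_injective (MulAut.conj b).injective).ge)
      rw [Subgroup.map_le_iff_le_comap]
      refine sup_le (fun x hx => ?_) fun r hr => Subgroup.mem_sup_right (hRn.conj_mem r hr b)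
      show b * x * b⁻¹ ∈ K ⊔ RR
      set c := x⁻¹ * (b * x * b⁻¹) with hc
      have hxe : qq x ∈ egroup a := by
        obtain ⟨i, hi⟩ : qq x ∈ Subgroup.zpowers (qq k) := hgen ▸ Subgroup.mem_map_of_mem _ hx
        exact hi ▸ zpow_mem hke i
      have hcC : c ∈ CC := by
        refine (QuotientGroup.eq_one_iff c).1 ?_
        show qq (x⁻¹ * (b * x * b⁻¹)) = 1
        rw [map_mul, map_mul, map_mul, map_inv, map_inv, e (qq b) (self_mem _) (qq x) hxe,
          mul_inv_cancel_right, inv_mul_cancel]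
      have hcJ : c ∈ JA := mul_mem (inv_mem (k_le h hK hx))
        (mul_mem (mul_mem hb (k_le h hK hx)) (inv_mem hb))
      -- `c * c ∈ O₂(L)`
      have h2 : c * c ∈ RR := by
        let f := QuotientGroup.mk' RR
        have hfb : f b * f b = 1 := by rw [← map_mul]; exact (QuotientGroup.eq_one_iff _).2 hb2
        have hfc : f b * f c * (f b)⁻¹ = f c := by
          have h1 := comm_cc h hcC (Subgroup.mem_sup_left hb)
          have : f (b * c * b⁻¹ * c⁻¹) = 1 := (QuotientGroup.eq_one_iff _).2 h1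
          rwa [map_mul, map_mul, map_mul, map_inv, map_inv, mul_inv_eq_one] at this
        refine (QuotientGroup.eq_one_iff _).1 ?_
        show f (c * c) = 1
        have h3 : f b * (f b * f x * (f b)⁻¹) * (f b)⁻¹ = f x := by
          calc f b * (f b * f x * (f b)⁻¹) * (f b)⁻¹ = (f b * f b) * f x * (f b * f b)⁻¹ := by group
            _ = f x := by rw [hfb, inv_one, one_mul, mul_one]
        have h4 : f b * f x * (f b)⁻¹ = f x * f c := by
          rw [hc, map_mul, map_mul, map_mul, map_inv, map_inv]; group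
        rw [h4, show f b * (f x * f c) * (f b)⁻¹ = (f b * f x * (f b)⁻¹) * (f b * f c * (f b)⁻¹) by group,
          h4, hfc, mul_assoc] at h3
        rw [map_mul]
        exact mul_eq_left.1 h3
      obtain ⟨n, hn⟩ := IsPGroup.iff_orderOf.1 (CfsgLib.LocalEven.SylowIn.isPGroup_pCore L 2) ⟨_, h2⟩
      rw [Subgroup.orderOf_mk] at hn
      have hc2 : IsPGroup 2 (Subgroup.zpowers c) := by
        have hdvd : orderOf c ∣ 2 ^ (n + 1) := orderOf_dvd_of_pow_eq_one (by
          rw [pow_succ', pow_mul, pow_two, ← hn, pow_orderOf_eq_one])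
        obtain ⟨m, -, hm⟩ := (Nat.dvd_prime_pow Nat.prime_two).1 hdvd
        exact IsPGroup.of_card (n := m) (by rw [Nat.card_zpowers, hm])
      have : b * x * b⁻¹ = x * c := by rw [hc]; group
      rw [this]
      exact mul_mem (Subgroup.mem_sup_left hx) (Subgroup.mem_sup_right (two_mem h hcC hc2))
  refine sSup_le fun A hA y hy => ?_
  -- each maximal elementary abelian subgroup is generated modulo `C` by transvections
  have hle := map_max_le h hA (Subgroup.mem_map_of_mem _ hy)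
  have key : Subgroup.closure {a : QQ | a ∈ A.map qq ∧ IsTv (p := 2) a} ≤ (A ⊓ N).map qq := by
    rw [Subgroup.closure_le]
    rintro _ ⟨⟨g, hg, rfl⟩, ht⟩
    refine Subgroup.mem_map_of_mem _ ⟨hg, htv g (le_sSup (s := Cfsg.maxElementaryAbelianSubgroups 2 L) hA hg) ht ?_⟩
    rw [← pow_two, hA.1.2 g hg]; exact one_mem _
  obtain ⟨z, hz, hzy⟩ := key hle
  have hc : z⁻¹ * y ∈ CC := (QuotientGroup.eq).1 hzy
  have := mul_mem hz.2 (hCN _ hc (Subgroup.mem_sup_left (mul_mem
    (inv_mem (le_sSup (s := Cfsg.maxElementaryAbelianSubgroups 2 L) hA hz.1))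
    (le_sSup (s := Cfsg.maxElementaryAbelianSubgroups 2 L) hA hy))))
  rwa [mul_inv_cancel_left] at this

/-- A component whose image lies in that of another lies in it. -/
theorem le_of_map_le {K' J' W' : Subgroup L} (hK' : Comp K' J' W')
    (hle : K'.map qq ≤ K.map qq) (hR : RR ≤ Subgroup.normalizer (K : Set L)) : K' ≤ K := by
  haveI : Fact (Nat.Prime 2) := ⟨Nat.prime_two⟩
  haveI hRn := CfsgLib.LocalEven.SylowIn.pCore_normal L 2
  have h1 : K' ≤ K ⊔ RR := by
    rw [← hK'.comm]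
    refine Subgroup.commutator_le.2 fun x hx y hy => ?_
    obtain ⟨k, hk, hkx⟩ := hle (Subgroup.mem_map_of_mem _ hx)
    set c := k⁻¹ * x with hc
    have hcC : c ∈ CC := (QuotientGroup.eq).1 hkx
    have hyA := j_le h hK' hy
    have h2 := inv_mem (comm_cc h hcC (Subgroup.mem_sup_left hyA))
    have h3 : k * (y * k⁻¹ * y⁻¹) ∈ K ⊔ RR := mul_mem (Subgroup.mem_sup_left hk)
      ((Subgroup.mem_normalizer_iff.1 (ja_norm h hK hyA) _).1 (Subgroup.mem_sup_left (inv_mem hk)))
    rw [commutatorElement_def]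
    have e : x * y * x⁻¹ * y⁻¹ = (k * (y * c * y⁻¹ * c⁻¹)⁻¹ * k⁻¹) * (k * (y * k⁻¹ * y⁻¹)) := by
      rw [show x = k * c by rw [hc, mul_inv_cancel_left]]; group
    rw [e]
    exact mul_mem (Subgroup.mem_sup_right (hRn.conj_mem _ h2 k)) h3
  rw [← hK'.gen, Subgroup.closure_le]
  rintro g ⟨hg, ho⟩
  have hg1 : g ∈ ((K : Set L) * (RR : Set L)) := by
    rw [← Subgroup.coe_mul_of_right_le_normalizer_left K RR hR]; exact h1 hg
  obtain ⟨k, hk, r, hr, rfl⟩ := Set.mem_mul.1 hg1
  have hpow : ∀ n : ℕ, (k * r) ^ n * (r ^ n)⁻¹ ∈ K := by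
    intro n
    induction n with
    | zero => simp
    | succ n ih =>
      have h2 := (Subgroup.mem_normalizer_iff.1 (hR (pow_mem hr n)) k).1 hk
      rw [show (k * r) ^ (n + 1) * (r ^ (n + 1))⁻¹ = (k * r) ^ n * (r ^ n)⁻¹ * (r ^ n * k * (r ^ n)⁻¹) by
        rw [pow_succ, pow_succ]; group]
      exact mul_mem ih h2
  obtain ⟨a, ha⟩ := (CfsgLib.LocalEven.SylowIn.isPGroup_pCore L 2) ⟨r, hr⟩
  have hra : r ^ 2 ^ a = 1 := by simpa using congrArg Subtype.val ha
  have h2 : (k * r) ^ 2 ^ a ∈ K := by simpa [hra] using hpow (2 ^ a)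
  obtain ⟨m, hm⟩ := exists_pow_eq_self_of_coprime (x := k * r) (n := 2 ^ a)
    (Nat.Coprime.pow_left a ho.coprime_two_left)
  exact hm ▸ pow_mem h2 m

/-- `W` is the plane of the transvection when it meets `V`. -/
theorem plane_eq {z : L} (hzV : z ∈ VV) (hzW : z ∈ W) (hz1 : z ≠ 1) {a : QQ} {k : L}
    (hk : k ∈ K) (hke : qq k ∈ egroup a) (ha : IsTv (p := 2) a) (hk1 : qq k ≠ 1) :
    W = OffenderFixed.plane a := by
  haveI : Fact (Nat.Prime 2) := ⟨Nat.prime_two⟩
  have hfix : ∀ w ∈ W, k * w = w * k → w = 1 := by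
    intro w hw e
    refine hK.wfix w hw ?_
    set C := K ⊓ Subgroup.centralizer ({w} : Set L) with hC
    have hQC : Cfsg.pCoreOf 2 K ≤ C := by
      refine le_inf (CfsgLib.LocalEven.SylowIn.pCoreOf_le K) fun q hq => Subgroup.mem_centralizer_singleton_iff.2 ?_
      exact hK.q_fix q hq w hw
    have h3 : (Cfsg.pCoreOf 2 K).relIndex C * C.relIndex K = 3 := by
      rw [Subgroup.relIndex_mul_relIndex _ _ _ hQC inf_le_left, hK.idx]
    rcases (Nat.dvd_prime Nat.prime_three).1 (Dvd.intro _ h3) with e' | e'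
    · exfalso
      exact hk1 ((QuotientGroup.eq_one_iff k).2 (rr_le_cc h (q_le_rr h hK (Subgroup.relIndex_eq_one.1 e'
        (Subgroup.mem_inf.2 ⟨hk, Subgroup.mem_centralizer_singleton_iff.2 e⟩)))))
    · rw [e'] at h3
      have h1 : K ≤ C := Subgroup.relIndex_eq_one.1 (by omega)
      exact fun k' hk' => Subgroup.mem_centralizer_singleton_iff.1 (h1 hk').2
  set c := k * z * k⁻¹ * z⁻¹ with hc
  have hcW : c ∈ W := mul_mem ((Subgroup.mem_normalizer_iff.1 (hK.wnorm hk) z).1 hzW) (inv_mem hzW)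
  have hcP : c ∈ OffenderFixed.plane a := by
    have h1 := inv_mem (Subgroup.commutator_mem_commutator hzV (show k ∈ (egroup a).comap qq from hke))
    rw [commutatorElement_def] at h1
    unfold OffenderFixed.plane
    convert h1 using 1
    rw [hc]; group
  have hc1 : c ≠ 1 := fun e => hz1 (hfix z hzW (mul_inv_eq_iff_eq_mul.1 (mul_inv_eq_one.1 e)))
  set d := k * c * k⁻¹ with hd
  have hdW : d ∈ W := (Subgroup.mem_normalizer_iff.1 (hK.wnorm hk) c).1 hcW
  have hdP : d ∈ OffenderFixed.plane a :=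
    (Subgroup.mem_normalizer_iff.1 (OffenderFixed.normalizer_plane (egroup_le ha hke)) c).1 hcP
  have hdc : d ≠ c := fun e => hc1 (hfix c hcW (mul_inv_eq_iff_eq_mul.1 e))
  have hd1 : d ≠ 1 := fun e => hc1 (conj_eq_one_iff.1 e)
  have hsub : ({1, c, d} : Set L) ⊆ ((W ⊓ OffenderFixed.plane a : Subgroup L) : Set L) := by
    rintro x (rfl | rfl | rfl)
    · exact one_mem _
    · exact ⟨hcW, hcP⟩
    · exact ⟨hdW, hdP⟩
  have h3 : 3 ≤ Nat.card ↥(W ⊓ OffenderFixed.plane a) := by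
    have h2 := Set.ncard_le_ncard hsub
    rw [Set.ncard_insert_of_notMem (by simp [hc1.symm, hd1.symm]), Set.ncard_pair hdc.symm] at h2
    rwa [← SetLike.coe_sort_coe, Nat.card_coe_set_eq]
  have h4 : Nat.card ↥(W ⊓ OffenderFixed.plane a) = 4 := by
    have hd4 : Nat.card ↥(W ⊓ OffenderFixed.plane a) ∣ 4 := hK.wcard ▸ Subgroup.card_dvd_of_le inf_le_left
    have := Nat.le_of_dvd (by norm_num) hd4
    interval_cases (Nat.card ↥(W ⊓ OffenderFixed.plane a))
    · norm_num at hd4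
    · rfl
  have e1 : W ⊓ OffenderFixed.plane a = W := Subgroup.eq_of_le_of_card_ge inf_le_left (by rw [h4, hK.wcard])
  have e2 : W ⊓ OffenderFixed.plane a = OffenderFixed.plane a := Subgroup.eq_of_le_of_card_ge inf_le_right
    (by rw [h4, OffenderFixed.card_plane h.sep h.core ha]; norm_num)
  exact e1.symm.trans e2

/-- Two components sharing a nonidentity element of `V` in their four-groups are equal. -/
theorem eq_of_meet {K' J' W' : Subgroup L} (hK' : Comp K' J' W') {z : L} (hzV : z ∈ VV)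
    (hzW : z ∈ W) (hzW' : z ∈ W') (hz1 : z ≠ 1) (hR : RR ≤ Subgroup.normalizer (K : Set L))
    (hR' : RR ≤ Subgroup.normalizer (K' : Set L)) : K = K' := by
  haveI : Fact (Nat.Prime 2) := ⟨Nat.prime_two⟩
  obtain ⟨a, ha, -, k, hk, hke, hk3, hk1, hgen⟩ := exists_tv h hK
  obtain ⟨c, hc, -, k', hk', hke', hk3', hk1', hgen'⟩ := exists_tv h hK'
  have hW : W = OffenderFixed.plane a := plane_eq h hK hzV hzW hz1 hk hke ha hk1
  have hW' : W' = OffenderFixed.plane c := plane_eq h hK' hzV hzW' hz1 hk' hke' hc hk1'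
  have heq : egroup c = egroup a := by
    by_contra hne
    refine hz1 (OffenderFixed.eq_one_of_central h.sep h.core ha (hW ▸ hzW) fun g hg => ?_)
    exact OffenderFixed.plane_le_fixed h.sep h.core ha hc hne (hW' ▸ hzW') hg
  have e1 : K'.map qq ≤ K.map qq := by
    rw [hgen', hgen, Subgroup.zpowers_le]
    exact generator h ha hke hk3 hk1 (heq ▸ hke') hk3'
  have e2 : K.map qq ≤ K'.map qq := by
    rw [hgen', hgen, Subgroup.zpowers_le]
    exact generator h hc hke' hk3' hk1' (heq.symm ▸ hke) hk3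
  exact le_antisymm (le_of_map_le h hK' hK e2 hR') (le_of_map_le h hK hK' e1 hR)

/-- A component normalized by `O₂(L)` is subnormal. -/
theorem isSubnormal (hR : RR ≤ Subgroup.normalizer (K : Set L)) : K.IsSubnormal := by
  haveI : Fact (Nat.Prime 2) := ⟨Nat.prime_two⟩
  haveI hRn := CfsgLib.LocalEven.SylowIn.pCore_normal L 2
  haveI hJn : (JA).Normal := inferInstance
  set J1 := JA ⊔ RR with hJ1
  have hJ1n : J1.Normal := inferInstance
  set M1 := J1 ⊓ (dd L).comap qq with hM1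
  set K1 := K ⊔ RR with hK1
  have hK1M : K1 ≤ M1 := by
    refine sup_le (le_inf ((k_le h hK).trans le_sup_left) (Subgroup.map_le_iff_le_comap.1 (map_le_dd h hK)))
      (le_inf le_sup_right fun r hr => ?_)
    rw [Subgroup.mem_comap, show qq r = 1 from (QuotientGroup.eq_one_iff r).2 (rr_le_cc h hr)]
    exact one_mem _
  have hJ1N : J1 ≤ Subgroup.normalizer (K1 : Set L) :=
    sup_le (ja_norm h hK) (le_sup_right.trans Subgroup.le_normalizer)
  have hn : (K1.subgroupOf J1).Normal :=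
    (Subgroup.normal_subgroupOf_iff_le_normalizer (hK1M.trans inf_le_left)).2 hJ1N
  have hn2 : (K.subgroupOf K1).Normal :=
    (Subgroup.normal_subgroupOf_iff_le_normalizer le_sup_left).2 (sup_le Subgroup.le_normalizer hR)
  exact Subgroup.IsSubnormal.trans le_sup_left hn2.isSubnormal
    (Subgroup.IsSubnormal.trans (hK1M.trans inf_le_left) hn.isSubnormal hJ1n.isSubnormal)

end CfsgLib.LocalEvenB.JLocal
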