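import Cfsg.Agent.Lib.LocalEvenB.JVertex

/-!
Two vertices over `T` with commuting four-groups: an offender forces `f' ∈ C(K)`.
-/

set_option autoImplicit false
set_option linter.style.haveILetI false
set_option linter.unusedSectionVars false

open scoped Pointwise commutatorElement

namespace CfsgLib.LocalEvenB.JOffend

open Subgroup CfsgLib.LocalEven JVertex

universe u

variable {G : Type u} [Group G] [Finite G]

/-- If `k` and `T` fix `x` then so does `K`. -/
theorem le_centralizer_of_fix (H : Hyp G) {T K L : Subgroup G} (hv : Vertex T K L)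
    (hcen : T ≤ centralizer (Cfsg.omegaCenterOf (Cfsg.thompsonSubgroupOf 2 T) : Set G)) {k x : G}
    (hk : k ∈ K) (hk1 : k ∉ centralizer (Cfsg.wOf K : Set G)) (hkx : k * x = x * k)
    (hTx : ∀ t ∈ T, t * x = x * t) : K ≤ centralizer ({x} : Set G) := by
  haveI : Fact (Nat.Prime 2) := ⟨Nat.prime_two⟩
  set C := K ⊓ centralizer ({x} : Set G) with hC
  have hQT : Cfsg.pCoreOf 2 K ≤ T := by
    obtain ⟨-, hcore, -⟩ := Vertex.q_facts H hv hcen
    have hn : K ⊔ T ≤ normalizer (Cfsg.pCoreOf 2 K : Set G) :=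
      (sup_le Subgroup.le_normalizer (Vertex.t_le_normalizer H hv hcen)).trans (JComponent.normalizer_le_pCoreOf K)
    have := SylowIn.le_pCoreOf ((SylowIn.pCoreOf_le K).trans le_sup_left) hn (SylowIn.isPGroup_pCoreOf (p := 2) K)
    rw [hcore] at this
    exact this.trans inf_le_left
  have hQC : Cfsg.pCoreOf 2 K ≤ C :=
    le_inf (SylowIn.pCoreOf_le K) fun q hq => mem_centralizer_singleton_iff.2 (hTx q (hQT hq))
  have h3 : (Cfsg.pCoreOf 2 K).relIndex C * C.relIndex K = 3 := by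
    rw [relIndex_mul_relIndex _ _ _ hQC inf_le_left, hv.comp.2.2.1]
  rcases (Nat.dvd_prime Nat.prime_three).1 (Dvd.intro _ h3) with e | e
  · exfalso
    have hkQ := relIndex_eq_one.1 e ⟨hk, mem_centralizer_singleton_iff.2 hkx⟩
    exact hk1 (mem_centralizer_iff.2 fun w hw => (JAmbient.q_fix K k hkQ w hw).symm)
  · rw [e] at h3
    have h1 : K ≤ C := relIndex_eq_one.1 (by omega)
    exact h1.trans inf_le_right

theorem k_not_centralizes {T K L : Subgroup G} (hv : Vertex T K L) {k : G}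
    (hfix : ∀ w ∈ Cfsg.wOf K, k * w * k⁻¹ = w → w = 1) : k ∉ centralizer (Cfsg.wOf K : Set G) := by
  intro hkc
  obtain ⟨f, hfW, -, hf1, -⟩ := Vertex.exists_f hv
  exact hf1 (hfix f hfW (by rw [← mem_centralizer_iff.1 hkc f hfW, mul_inv_cancel_right]))

theorem w_le_q (H : Hyp G) {T K L : Subgroup G} (hv : Vertex T K L)
    (hcen : T ≤ centralizer (Cfsg.omegaCenterOf (Cfsg.thompsonSubgroupOf 2 T) : Set G)) :
    Cfsg.wOf K ≤ T ⊓ centralizer (Cfsg.wOf K : Set G) := by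
  haveI : Fact (Nat.Prime 2) := ⟨Nat.prime_two⟩
  obtain ⟨-, hcore, -⟩ := Vertex.q_facts H hv hcen
  rw [← hcore]
  refine SylowIn.le_pCoreOf ((JAmbient.wOf_le_K K).trans le_sup_left)
    ((sup_le Subgroup.le_normalizer (Vertex.t_le_normalizer H hv hcen)).trans (JAmbient.conjK_le_normalizer_wOf K)) ?_
  exact IsPGroup.of_card (n := 2) (by rw [hv.comp.2.2.2.2.1]; norm_num)

/-- No `2`-local subgroup contains two vertices with different overgroups. -/
theorem not_common {T K L K' L' : Subgroup G} (hv : Vertex T K L) (hv' : Vertex T K' L') (hne : L ≠ L')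
    {X : Subgroup G} (hX : Cfsg.IsTwoLocal X) (hK : K ≤ X) (hK' : K' ≤ X)
    (hJ : Cfsg.thompsonSubgroupOf 2 T ≤ X) : False := by
  have h1 := hv.uniq X hX hK hJ
  exact hne (hv.max.2 L' hv'.max.1 (hv'.uniq L hv.max.1 (hK'.trans h1) (Vertex.j_le hv))).symm

/-- A maximal elementary abelian subgroup centralizing `W_K`. -/
theorem exists_maxIn_q (H : Hyp G) {T K L : Subgroup G} (hv : Vertex T K L)
    (hcen : T ≤ centralizer (Cfsg.omegaCenterOf (Cfsg.thompsonSubgroupOf 2 T) : Set G)) :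
    ∃ A, JComponent.MaxIn T A ∧ A ≤ centralizer (Cfsg.wOf K : Set G) := by
  obtain ⟨A, hA⟩ := JComponent.exists_maxIn T
  by_cases hAW : A ≤ centralizer (Cfsg.wOf K : Set G)
  · exact ⟨A, hA, hAW⟩
  obtain ⟨a, ha, haW⟩ := SetLike.not_le_iff_exists.1 hAW
  set W := Cfsg.wOf K with hW
  set A1 := A ⊓ centralizer (W : Set G) with hA1
  have hsub : (A : Set G) ⊆ (A1 : Set G) ∪ (fun x => a * x) '' (A1 : Set G) := by
    intro x hx
    by_cases hxW : x ∈ centralizer (W : Set G)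
    · exact Or.inl ⟨hx, hxW⟩
    · refine Or.inr ⟨a⁻¹ * x, ⟨(mul_mem (inv_mem ha) hx : a⁻¹ * x ∈ A), ?_⟩, by simp⟩
      exact Vertex.mul_mem_q H hv hcen (inv_mem (hA.1 ha)) (fun h => haW (by simpa using inv_mem h)) (hA.1 hx) hxW
  have h2 := (Set.ncard_le_ncard hsub).trans (Set.ncard_union_le _ _)
  have h3 := Set.ncard_image_le (f := fun x => a * x) (s := (A1 : Set G)) (Set.toFinite _)
  simp only [← Nat.card_coe_set_eq, SetLike.coe_sort_coe] at h2 h3
  have hWq := w_le_q H hv hcen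
  have hWea : Cfsg.IsElementaryAbelian 2 W := by
    refine ⟨IsMulCommutative.of_comm fun x y => Subtype.ext ?_, fun w hw => by rw [pow_two]; exact hv.comp.2.2.2.2.2 w hw⟩
    exact mem_centralizer_iff.1 (hWq y.2).2 x x.2
  have hBe := JComponent.isEA_sup (Fusion.Thompson.isEA_le hA.2.1 (inf_le_left : A1 ≤ A)) hWea inf_le_right
  refine ⟨A1 ⊔ W, ⟨sup_le (inf_le_left.trans hA.1) (hWq.trans inf_le_left), hBe, fun B hB hBe' => ?_⟩, ?_⟩
  · refine (hA.2.2 B hB hBe').trans (le_trans (by omega) (show 2 * Nat.card A1 ≤ _ from ?_))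
    obtain ⟨m, hm⟩ := card_dvd_of_le (le_sup_left : A1 ≤ A1 ⊔ W)
    rw [hm]
    have hm1 : m ≠ 1 := fun e => by
      have heq : A1 = A1 ⊔ W := eq_of_le_of_card_ge le_sup_left (by rw [hm, e, mul_one])
      refine haW (mem_centralizer_iff.2 fun w hw => ?_)
      have hwA : w ∈ A := (heq.symm.le (mem_sup_right hw)).1
      exact Fusion.Thompson.mul_comm_of_isEA hA.2.1 hwA ha
    have hm0 : m ≠ 0 := fun e => by
      have : 0 < Nat.card ↥(A1 ⊔ W) := Nat.card_pos
      rw [hm, e, mul_zero] at this; omega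
    calc 2 * Nat.card A1 = Nat.card A1 * 2 := by ring
      _ ≤ Nat.card A1 * m := Nat.mul_le_mul_left _ (by omega)
  · exact sup_le inf_le_right fun w hw => mem_centralizer_iff.2 fun v hv' => mem_centralizer_iff.1 (hWq hw).2 v hv'

variable (H : Hyp G) {T K L K' L' : Subgroup G} (hv : Vertex T K L) (hv' : Vertex T K' L') (hne : L ≠ L')
  (hcen : T ≤ centralizer (Cfsg.omegaCenterOf (Cfsg.thompsonSubgroupOf 2 T) : Set G))
include H hv hv' hne hcen

theorem exists_diff : ∃ e ∈ T, e ∈ centralizer (Cfsg.wOf K : Set G) ∧ e ∉ centralizer (Cfsg.wOf K' : Set G) := by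
  haveI : Fact (Nat.Prime 2) := ⟨Nat.prime_two⟩
  by_contra hcon
  push Not at hcon
  set Q := T ⊓ centralizer (Cfsg.wOf K : Set G) with hQ
  set Q' := T ⊓ centralizer (Cfsg.wOf K' : Set G) with hQ'
  have hle : Q ≤ Q' := fun e he => ⟨he.1, hcon e he.1 he.2⟩
  have h1 := Vertex.card_t H hv hcen
  have h2 := Vertex.card_t H hv' hcen
  rw [← hQ] at h1
  rw [← hQ'] at h2
  have heq : Q = Q' := eq_of_le_of_card_ge hle (by omega)
  have hQ1 : Q ≠ ⊥ := fun e => by
    obtain ⟨f, hfW, -, hf1, -⟩ := Vertex.exists_f hv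
    exact hf1 (mem_bot.1 (e ▸ w_le_q H hv hcen hfW))
  have hn := (Vertex.q_facts H hv hcen).1
  have hn' := (Vertex.q_facts H hv' hcen).1
  rw [← hQ'] at hn'
  rw [← heq] at hn'
  exact not_common hv hv' hne ⟨Q, (Vertex.t_pgroup hv).to_le inf_le_left, hQ1, rfl⟩
    (le_sup_left.trans hn) (le_sup_left.trans hn')
    (((Fusion.Thompson.thompsonSubgroupOf_le T).trans le_sup_right).trans hn)

/-- One of the two kernels has a maximal elementary abelian subgroup outside the other. -/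
theorem exists_offender : (∃ A, JComponent.MaxIn T A ∧ A ≤ centralizer (Cfsg.wOf K' : Set G) ∧
      ¬ A ≤ centralizer (Cfsg.wOf K : Set G)) ∨
    Nat.card ↥(Cfsg.thompsonSubgroupOf 2 (T ⊓ centralizer (Cfsg.wOf K' : Set G))) <
      Nat.card ↥(Cfsg.thompsonSubgroupOf 2 (T ⊓ centralizer (Cfsg.wOf K : Set G))) := by
  haveI : Fact (Nat.Prime 2) := ⟨Nat.prime_two⟩
  rw [or_iff_not_imp_left]
  intro hcon
  push Not at hcon
  set Q := T ⊓ centralizer (Cfsg.wOf K : Set G) with hQ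
  set Q' := T ⊓ centralizer (Cfsg.wOf K' : Set G) with hQ'
  obtain ⟨A', hA', hA'q⟩ := exists_maxIn_q H hv' hcen
  have hle : Cfsg.thompsonSubgroupOf 2 Q' ≤ Cfsg.thompsonSubgroupOf 2 Q := by
    refine JComponent.thompson_le fun A hA => JComponent.maxIn_le ?_
    have hAT : JComponent.MaxIn T A := ⟨hA.1.trans inf_le_left, hA.2.1, fun B hB hBe =>
      (hA'.2.2 B hB hBe).trans (hA.2.2 A' (le_inf hA'.1 hA'q) hA'.2.1)⟩
    exact ⟨le_inf hAT.1 (hcon A hAT (hA.1.trans inf_le_right)), hA.2.1, fun B hB hBe => hAT.2.2 B (hB.trans inf_le_left) hBe⟩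
  refine lt_of_le_of_ne (Nat.le_of_dvd Nat.card_pos (card_dvd_of_le hle)) fun e => ?_
  have heq := eq_of_le_of_card_ge hle e.ge
  obtain ⟨f, hfW, -, hf1, -⟩ := Vertex.exists_f hv
  have hQ1 : Q ≠ ⊥ := fun e => hf1 (mem_bot.1 (e ▸ w_le_q H hv hcen hfW))
  have hn : ∀ X : Subgroup G, X ≤ normalizer (Q : Set G) → X ≤ normalizer (Cfsg.thompsonSubgroupOf 2 Q : Set G) :=
    fun X h => h.trans (Fusion.Thompson.normalizer_le_normalizer_thompsonOf Q)
  have hQp : IsPGroup 2 Q := (Vertex.t_pgroup hv).to_le inf_le_left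
  refine not_common hv hv' hne ⟨_, hQp.to_le (Fusion.Thompson.thompsonSubgroupOf_le Q),
    Straddle.thompson_ne_bot hQp hQ1, rfl⟩ (hn _ (le_sup_left.trans (Vertex.q_facts H hv hcen).1)) ?_
    (hn _ (((Fusion.Thompson.thompsonSubgroupOf_le T).trans le_sup_right).trans (Vertex.q_facts H hv hcen).1))
  rw [← heq]
  exact (le_sup_left.trans (Vertex.q_facts H hv' hcen).1).trans (Fusion.Thompson.normalizer_le_normalizer_thompsonOf Q')

/-- The central lemma. -/
theorem offend (hWW : Cfsg.wOf K' ≤ centralizer (Cfsg.wOf K : Set G)) {A : Subgroup G}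
    (hA : JComponent.MaxIn T A) (hA' : A ≤ centralizer (Cfsg.wOf K' : Set G))
    (hA2 : ¬ A ≤ centralizer (Cfsg.wOf K : Set G)) {f : G} (hfW : f ∈ Cfsg.wOf K')
    (hfZ : f ∈ Cfsg.omegaCenterOf (Cfsg.thompsonSubgroupOf 2 T)) (hf1 : f ≠ 1) :
    K ≤ centralizer ({f} : Set G) := by
  classical
  obtain ⟨a, haA, haW⟩ := SetLike.not_le_iff_exists.1 hA2
  have haT : a ∈ T := hA.1 haA
  obtain ⟨k, hkK, hk3, -, hkfix⟩ := Vertex.exists_k H hv
  by_contra hKf
  have hTf : ∀ t ∈ T, t * f = f * t := fun t ht => Vertex.t_fix H hv hcen hfZ ht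
  have hkf : k * f ≠ f * k := fun e =>
    hKf (le_centralizer_of_fix H hv hcen hkK (k_not_centralizes hv hkfix) e hTf)
  set W := Cfsg.wOf K with hW
  set W' := Cfsg.wOf K' with hW'
  set Q := T ⊓ centralizer (W : Set G) with hQ
  have hPQ := (Vertex.q_facts H hv hcen).1
  have hkQ : k ∈ normalizer (Q : Set G) := hPQ (mem_sup_left hkK)
  have hW'Q : W' ≤ Q := le_inf ((w_le_q H hv' hcen).trans inf_le_left) hWW
  have hW'4 : Nat.card W' = 4 := hv'.comp.2.2.2.2.1
  have hW'sq : ∀ x ∈ W', x * x = 1 := hv'.comp.2.2.2.2.2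
  obtain ⟨w, hw, hw1, hwf⟩ := Vertex.exists_w hv' hfW hf1
  have hTW' := Vertex.t_le_normalizer_w H hv' hcen
  have hQconj : ∀ q ∈ Q, ∀ g : G, g ∈ normalizer (Q : Set G) → g⁻¹ * q * g ∈ Q := fun q hq g hg => by
    simpa using (mem_normalizer_iff.1 (inv_mem hg) q).1 hq
  -- images of `W'` under powers of `k`
  have hfix : ∀ g : G, g ∈ normalizer (Q : Set G) → ∀ q ∈ Q, q * (g * f * g⁻¹) * q⁻¹ = g * f * g⁻¹ := by
    intro g hg q hq
    have h1 := hTf _ (hQconj q hq g hg).1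
    calc q * (g * f * g⁻¹) * q⁻¹ = g * ((g⁻¹ * q * g) * f * (g⁻¹ * q * g)⁻¹) * g⁻¹ := by group
      _ = g * f * g⁻¹ := by rw [h1, mul_inv_cancel_right]
  have hperm : ∀ g : G, g ∈ normalizer (Q : Set G) → ∀ q ∈ Q,
      q * (g * w * g⁻¹) * q⁻¹ = g * w * g⁻¹ ∨ q * (g * w * g⁻¹) * q⁻¹ = (g * w * g⁻¹) * (g * f * g⁻¹) := by
    intro g hg q hq
    have hq' := (hQconj q hq g hg).1
    have e0 : q * (g * w * g⁻¹) * q⁻¹ = g * ((g⁻¹ * q * g) * w * (g⁻¹ * q * g)⁻¹) * g⁻¹ := by group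
    rcases four_perm hW'4 hW'sq hfW hf1 hw hwf hw1 (hTW' hq') (hTf _ hq') with e | e
    · exact Or.inl (by rw [e0, e])
    · exact Or.inr (by rw [e0, e]; group)
  -- an element of `Q` moving each image
  obtain ⟨e0, he0T, he0W, he0W'⟩ := exists_diff H hv hv' hne hcen
  have hmover : ∀ g : G, g ∈ normalizer (Q : Set G) →
      ∃ e ∈ Q, e * (g * w * g⁻¹) * e⁻¹ = (g * w * g⁻¹) * (g * f * g⁻¹) := by
    intro g hg
    refine ⟨g * e0 * g⁻¹, (mem_normalizer_iff.1 hg e0).1 ⟨he0T, he0W⟩, ?_⟩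
    rcases four_perm hW'4 hW'sq hfW hf1 hw hwf hw1 (hTW' he0T) (hTf _ he0T) with e | e
    · exact absurd (centralizes_four hW'4 hW'sq hfW hf1 hw hwf hw1 (hTf _ he0T) (mul_inv_eq_iff_eq_mul.1 e)) he0W'
    · rw [show g * e0 * g⁻¹ * (g * w * g⁻¹) * (g * e0 * g⁻¹)⁻¹ = g * (e0 * w * e0⁻¹) * g⁻¹ by group, e]; group
  set f1 := k * f * k⁻¹ with hf1def
  set w1 := k * w * k⁻¹ with hw1def
  set f2 := a * f1 * a⁻¹ with hf2def
  set w2 := a * w1 * a⁻¹ with hw2def
  have haQ : a ∈ normalizer (Q : Set G) := hPQ (mem_sup_right haT)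
  have hakQ : a * k ∈ normalizer (Q : Set G) := mul_mem haQ hkQ
  have e2f : f2 = a * k * f * (a * k)⁻¹ := by rw [hf2def, hf1def]; group
  have e2w : w2 = a * k * w * (a * k)⁻¹ := by rw [hw2def, hw1def]; group
  have hfne : f2 ≠ f1 := by
    intro e
    refine hkf ?_
    have hq := Vertex.invert H hv hcen hkK hk3 hkfix haT haW
    set q := a * k * a⁻¹ * k with hqdef
    have h0 : f2 = q * (k⁻¹ * f * k) * q⁻¹ := by
      have haf : a⁻¹ * f * a = f := by rw [mul_assoc, ← hTf a haT, inv_mul_cancel_left]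
      calc f2 = a * k * (a⁻¹ * (a * f * a⁻¹) * a) * (a * k)⁻¹ := by rw [e2f]; group
        _ = a * k * (a⁻¹ * f * a) * (a * k)⁻¹ := by rw [hTf a haT, mul_inv_cancel_right]
        _ = q * (k⁻¹ * f * k) * q⁻¹ := by rw [hqdef]; group
    have h1 := hfix k⁻¹ (inv_mem hkQ) q hq
    rw [inv_inv] at h1
    rw [h1] at h0
    rw [h0, hf1def] at e
    have h2 : k * (k * f * k⁻¹) * k⁻¹ = f := by rw [← e]; group
    have h3 : k * f * k⁻¹ = f := by
      conv_rhs => rw [← show k * (k * (k * f * k⁻¹) * k⁻¹) * k⁻¹ = f by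
        rw [show k * (k * (k * f * k⁻¹) * k⁻¹) * k⁻¹ = k ^ 3 * f * (k ^ 3)⁻¹ by rw [pow_succ, pow_two]; group,
          hk3, one_mul, inv_one, mul_one]]
      rw [h2]
    exact mul_inv_eq_iff_eq_mul.1 h3
  have hwQ : w1 ∈ Q := (mem_normalizer_iff.1 hkQ w).1 (hW'Q hw)
  have hfQ : f1 ∈ Q := (mem_normalizer_iff.1 hkQ f).1 (hW'Q hfW)
  have hw2Q : w2 ∈ Q := (mem_normalizer_iff.1 haQ w1).1 hwQ
  have hf2Q : f2 ∈ Q := (mem_normalizer_iff.1 haQ f1).1 hfQ
  have hinv : ∀ x ∈ W', ∀ g : G, (g * x * g⁻¹) * (g * x * g⁻¹) = 1 := fun x hx g => by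
    rw [show g * x * g⁻¹ * (g * x * g⁻¹) = g * (x * x) * g⁻¹ by group, hW'sq x hx]; group
  have hw1s : w1 * w1 = 1 := hinv w hw k
  have hf1s : f1 * f1 = 1 := hinv f hfW k
  have hw2s : w2 * w2 = 1 := by rw [e2w]; exact hinv w hw _
  have hf2s : f2 * f2 = 1 := by rw [e2f]; exact hinv f hfW _
  have hff1 : ∀ q ∈ Q, q * f1 = f1 * q := fun q hq => mul_inv_eq_iff_eq_mul.1 (hfix k hkQ q hq)
  have hff2 : ∀ q ∈ Q, q * f2 = f2 * q := fun q hq => by
    rw [e2f]; exact mul_inv_eq_iff_eq_mul.1 (hfix _ hakQ q hq)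
  -- `w₁` and `w₂` commute
  have hww : w1 * w2 = w2 * w1 := by
    have hA0 := hperm (a * k) hakQ w1 hwQ
    rw [← e2w, ← e2f] at hA0
    have hB0 := hperm k hkQ w2 hw2Q
    rcases hA0 with e | e
    · exact mul_inv_eq_iff_eq_mul.1 e
    · rcases hB0 with e' | e'
      · exact (mul_inv_eq_iff_eq_mul.1 e').symm
      · exfalso
        refine hfne ?_
        have hw1i : w1⁻¹ = w1 := inv_eq_of_mul_eq_one_right hw1s
        have hw2i : w2⁻¹ = w2 := inv_eq_of_mul_eq_one_right hw2s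
        rw [hw1i] at e
        change w2 * w1 * w2⁻¹ = w1 * f1 at e'
        rw [hw2i] at e'
        calc f2 = w2 * (w2 * f2) := by rw [← mul_assoc, hw2s, one_mul]
          _ = w2 * (w1 * w2 * w1) := by rw [e]
          _ = (w2 * w1 * w2) * w1 := by group
          _ = w1 * (f1 * w1) := by rw [e']; group
          _ = f1 := by rw [← hff1 w1 hwQ, ← mul_assoc, hw1s, one_mul]
  have hAA : ∀ x ∈ A, ∀ y ∈ A, x * y = y * x := fun x hx y hy => Fusion.Thompson.mul_comm_of_isEA hA.2.1 hx hy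
  -- the test subgroup
  set X := (zpowers f1 ⊔ zpowers w1) ⊔ (zpowers f2 ⊔ zpowers w2) with hX
  have hcom : ∀ {x y : G}, x * y = y * x → zpowers x ≤ centralizer (zpowers y : Set G) := fun {x y} h =>
    zpowers_le.2 (mem_centralizer_iff.2 fun z hz => by
      obtain ⟨i, rfl⟩ := mem_zpowers_iff.1 hz
      exact ((show Commute x y from h).zpow_right i).symm)
  have hXe : Cfsg.IsElementaryAbelian 2 X := by
    refine JComponent.isEA_sup (JComponent.isEA_sup (JComponent.isEA_zpowers hf1s) (JComponent.isEA_zpowers hw1s)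
      (hcom (hff1 w1 hwQ).symm)) (JComponent.isEA_sup (JComponent.isEA_zpowers hf2s) (JComponent.isEA_zpowers hw2s)
      (hcom (hff2 w2 hw2Q).symm)) (le_centralizer_iff.1 (sup_le (le_centralizer_iff.1 (sup_le ?_ ?_))
        (le_centralizer_iff.1 (sup_le ?_ ?_))))
    · exact hcom (hff2 f1 hfQ)
    · exact hcom (hff2 w1 hwQ)
    · exact hcom (hff1 w2 hw2Q).symm
    · exact hcom hww
  have hXT : X ≤ T := sup_le (sup_le (zpowers_le.2 hfQ.1) (zpowers_le.2 hwQ.1))
    (sup_le (zpowers_le.2 hf2Q.1) (zpowers_le.2 hw2Q.1))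
  set A1 := A ⊓ centralizer (W : Set G) with hA1
  have hA1Q : A1 ≤ Q := le_inf (inf_le_left.trans hA.1) inf_le_right
  set C := A1 ⊓ centralizer ({w1} : Set G) with hC
  have hCX : C ≤ centralizer (X : Set G) := by
    intro c hc
    have hcQ : c ∈ Q := hA1Q hc.1
    have hcw1 : c * w1 = w1 * c := mem_centralizer_singleton_iff.1 hc.2
    have hcw2 : c * w2 = w2 * c := by
      have hca : Commute c a := hAA c hc.1.1 a haA
      exact ((hca.mul_right (show Commute c w1 from hcw1)).mul_right hca.inv_right).eq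
    have hX1 : X ≤ centralizer ({c} : Set G) := sup_le
      (sup_le (zpowers_le.2 (mem_centralizer_singleton_iff.2 (hff1 c hcQ).symm))
        (zpowers_le.2 (mem_centralizer_singleton_iff.2 hcw1.symm)))
      (sup_le (zpowers_le.2 (mem_centralizer_singleton_iff.2 (hff2 c hcQ).symm))
        (zpowers_le.2 (mem_centralizer_singleton_iff.2 hcw2.symm)))
    exact mem_centralizer_iff.2 fun x hx => mem_centralizer_singleton_iff.1 (hX1 hx)
  set Y := X ⊓ centralizer (A : Set G) with hY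
  set Ya := X ⊓ centralizer ({a} : Set G) with hYa
  have hineq : Nat.card X * Nat.card C ≤ Nat.card A * Nat.card Y := by
    have hCA : C ≤ A := inf_le_left.trans inf_le_left
    have hCn : C ≤ normalizer (X : Set G) := hCX.trans (centralizer_le_normalizer _)
    have h1 := Fusion.Thompson.card_sup_mul_card_inf hCn
    have h2 := hA.2.2 (X ⊔ C) (sup_le hXT (hCA.trans hA.1))
      (JComponent.isEA_sup hXe (Fusion.Thompson.isEA_le hA.2.1 hCA) (le_centralizer_iff.1 hCX))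
    rw [← h1]
    refine Nat.mul_le_mul h2 (Nat.le_of_dvd Nat.card_pos (card_dvd_of_le ?_))
    exact fun x hx => ⟨hx.1, mem_centralizer_iff.2 fun y hy => hAA y hy x (hCA hx.2)⟩
  have hf1X : f1 ∈ X := mem_sup_left (mem_sup_left (mem_zpowers f1))
  have hw1X : w1 ∈ X := mem_sup_left (mem_sup_right (mem_zpowers w1))
  have hw2X : w2 ∈ X := mem_sup_right (mem_sup_right (mem_zpowers w2))
  have hxx : ∀ {x y : G}, x ∈ X → y ∈ X → x * y = y * x := fun hx hy => Fusion.Thompson.mul_comm_of_isEA hXe hx hy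
  -- `f₁, w₁, f₁ w₁` are moved by `a`
  have hna : f1 ∉ Ya ∧ w1 ∉ Ya ∧ f1 * w1 ∉ Ya := by
    obtain ⟨e, heQ, he⟩ := hmover (a * k) hakQ
    rw [← e2w, ← e2f] at he
    have hmove2 : ∀ u : G, (e * u * e⁻¹ = u ∨ e * u * e⁻¹ = u * f1) → e * u * e⁻¹ = u * f2 → False := by
      intro u hu hu2
      rcases hu with h | h
      · rw [h] at hu2
        have : f2 = 1 := left_eq_mul.1 hu2
        rw [e2f] at this
        exact hf1 (conj_eq_one_iff.1 this)
      · rw [h] at hu2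
        exact hfne (mul_left_cancel hu2).symm
    refine ⟨fun h => hfne ?_, fun h => ?_, fun h => ?_⟩
    · rw [hf2def, ← mem_centralizer_singleton_iff.1 h.2, mul_inv_cancel_right]
    · have e12 : w2 = w1 := by rw [hw2def, ← mem_centralizer_singleton_iff.1 h.2, mul_inv_cancel_right]
      rw [e12] at he
      exact hmove2 w1 (hperm k hkQ e heQ) he
    · have e12 : f2 * w2 = f1 * w1 := by
        have := mem_centralizer_singleton_iff.1 h.2
        rw [hf2def, hw2def, show a * f1 * a⁻¹ * (a * w1 * a⁻¹) = a * (f1 * w1) * a⁻¹ by group, ← this,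
          mul_inv_cancel_right]
      refine hmove2 (f1 * w1) ?_ ?_
      · have hef1 : e * f1 * e⁻¹ = f1 := by rw [hff1 e heQ, mul_inv_cancel_right]
        rw [show e * (f1 * w1) * e⁻¹ = (e * f1 * e⁻¹) * (e * w1 * e⁻¹) by group, hef1]
        rcases hperm k hkQ e heQ with h' | h'
        · exact Or.inl (by rw [h'])
        · exact Or.inr (by rw [h']; simp only [hw1def, hf1def]; group)
      · rw [← e12, show e * (f2 * w2) * e⁻¹ = (e * f2 * e⁻¹) * (e * w2 * e⁻¹) by group, he, hff2 e heQ,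
          mul_inv_cancel_right]
        group
  have hfour : ∀ Y' : Subgroup G, Y' ≤ Ya → 4 * Nat.card Y' ≤ Nat.card X := by
    intro Y' hY'
    have hnY : f1 ∉ Y' ∧ w1 ∉ Y' ∧ f1 * w1 ∉ Y' := ⟨fun h => hna.1 (hY' h), fun h => hna.2.1 (hY' h), fun h => hna.2.2 (hY' h)⟩
    have hYX : Y' ≤ X := hY'.trans inf_le_left
    let φ : Fin 4 × Y' → X := fun p => ⟨![(1 : G), f1, w1, f1 * w1] p.1 * p.2, mul_mem (by
      rcases p.1 with ⟨i, hi⟩
      interval_cases i <;> simp [hf1X, hw1X, mul_mem hf1X hw1X, one_mem]) (hYX p.2.2)⟩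
    have hinj : Function.Injective φ := by
      rintro ⟨i, y⟩ ⟨i', y'⟩ h
      have h' : ![(1 : G), f1, w1, f1 * w1] i * y = ![(1 : G), f1, w1, f1 * w1] i' * y' := congrArg Subtype.val h
      have hmem : (![(1 : G), f1, w1, f1 * w1] i')⁻¹ * ![(1 : G), f1, w1, f1 * w1] i ∈ Y' := by
        have : (![(1 : G), f1, w1, f1 * w1] i')⁻¹ * ![(1 : G), f1, w1, f1 * w1] i = (y' : G) * (y : G)⁻¹ := by
          rw [eq_mul_inv_iff_mul_eq, mul_assoc, h', inv_mul_cancel_left]
        rw [this]; exact mul_mem y'.2 (inv_mem y.2)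
      have hw1i : w1⁻¹ = w1 := inv_eq_of_mul_eq_one_right hw1s
      have hf1i : f1⁻¹ = f1 := inv_eq_of_mul_eq_one_right hf1s
      have hsw : w1 * f1 = f1 * w1 := hxx hw1X hf1X
      have t1 : f1 * (f1 * w1) = w1 := by rw [← mul_assoc, hf1s, one_mul]
      have t2 : w1 * (f1 * w1) = f1 := by rw [← mul_assoc, hsw, mul_assoc, hw1s, mul_one]
      have t3 : f1 * w1 * f1 = w1 := by rw [mul_assoc, hsw, t1]
      have t4 : f1 * w1 * w1 = f1 := by rw [mul_assoc, hw1s, mul_one]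
      have hii : i = i' := by
        fin_cases i <;> fin_cases i' <;>
          simp [hw1i, hf1i, hf1s, hw1s, hsw, t1, t2, t3, t4] at hmem ⊢
        all_goals first
          | exact hnY.1 hmem
          | exact hnY.2.1 hmem
          | exact hnY.2.2 hmem
      subst hii
      exact Prod.ext rfl (Subtype.ext (mul_left_cancel h'))
    have := Nat.card_le_card_of_injective φ hinj
    rwa [Nat.card_prod, Nat.card_eq_fintype_card, Fintype.card_fin] at this
  have hhalf : ∀ {B B0 : Subgroup G}, B ≤ A → (∀ x ∈ B, x ∉ B0 → ∀ y ∈ B, y ∉ B0 → x⁻¹ * y ∈ B0) →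
      Nat.card B ≤ 2 * Nat.card B0 := by
    intro B B0 _ hB
    by_cases hall : B ≤ B0
    · have := Nat.le_of_dvd Nat.card_pos (card_dvd_of_le hall); omega
    obtain ⟨b, hb, hb0⟩ := SetLike.not_le_iff_exists.1 hall
    have hsub : (B : Set G) ⊆ (B0 : Set G) ∪ (fun x => b * x) '' (B0 : Set G) := by
      intro x hx
      by_cases hx0 : x ∈ B0
      · exact Or.inl hx0
      · exact Or.inr ⟨b⁻¹ * x, hB b hb hb0 x hx hx0, by simp⟩
    have h2 := (Set.ncard_le_ncard hsub).trans (Set.ncard_union_le _ _)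
    have h3 := Set.ncard_image_le (f := fun x => b * x) (s := (B0 : Set G)) (Set.toFinite _)
    simp only [← Nat.card_coe_set_eq, SetLike.coe_sort_coe] at h2 h3
    omega
  have hAle : Nat.card A ≤ 2 * Nat.card A1 := hhalf le_rfl fun x hx hx0 y hy hy0 =>
    ⟨(mul_mem (inv_mem hx) hy : x⁻¹ * y ∈ A), Vertex.mul_mem_q H hv hcen (inv_mem (hA.1 hx))
      (fun h => hx0 ⟨hx, by simpa using inv_mem h⟩) (hA.1 hy) (fun h => hy0 ⟨hy, h⟩)⟩
  have hCpos : 0 < Nat.card C := Nat.card_pos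
  have hYpos : 0 < Nat.card Y := Nat.card_pos
  have hYYa : Y ≤ Ya := fun x hx => ⟨hx.1, mem_centralizer_singleton_iff.2 (mem_centralizer_iff.1 hx.2 a haA).symm⟩
  by_cases hall : A1 ≤ centralizer ({w1} : Set G)
  · have hCA1 : C = A1 := inf_eq_left.2 hall
    have h4 := hfour Y hYYa
    rw [hCA1] at hineq hCpos
    nlinarith [Nat.mul_le_mul_right (Nat.card A1) h4, Nat.mul_le_mul_right (Nat.card Y) hAle,
      Nat.mul_pos hCpos hYpos]
  · obtain ⟨b, hb, hbw⟩ := SetLike.not_le_iff_exists.1 hall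
    have hbQ := hA1Q hb
    have hbne : b * w1 * b⁻¹ = w1 * f1 := by
      rcases hperm k hkQ b hbQ with h | h
      · exact absurd (mem_centralizer_singleton_iff.2 (mul_inv_eq_iff_eq_mul.1 h)) hbw
      · exact h
    have hbw2 : b * w2 * b⁻¹ = w2 * f2 := by
      have hba : Commute b a := hAA b hb.1 a haA
      calc b * w2 * b⁻¹ = (b * a) * w1 * (b * a)⁻¹ := by rw [hw2def]; group
        _ = (a * b) * w1 * (a * b)⁻¹ := by rw [hba.eq]
        _ = a * (b * w1 * b⁻¹) * a⁻¹ := by group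
        _ = w2 * f2 := by rw [hbne, hw2def, hf2def]; group
    have hA1le : Nat.card A1 ≤ 2 * Nat.card C := hhalf inf_le_left fun x hx hx0 y hy hy0 => by
      refine ⟨(mul_mem (inv_mem hx) hy : x⁻¹ * y ∈ A1), mem_centralizer_singleton_iff.2 (mul_inv_eq_iff_eq_mul.1 ?_)⟩
      have hcase : ∀ z ∈ A1, z ∉ C → z * w1 * z⁻¹ = w1 * f1 := fun z hz hz0 => by
        rcases hperm k hkQ z (hA1Q hz) with h | h
        · exact absurd ⟨hz, mem_centralizer_singleton_iff.2 (mul_inv_eq_iff_eq_mul.1 h)⟩ hz0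
        · exact h
      rw [show x⁻¹ * y * w1 * (x⁻¹ * y)⁻¹ = x⁻¹ * (y * w1 * y⁻¹) * x by group, hcase y hy hy0, ← hcase x hx hx0]
      group
    have hg : w1 * w2 ∈ Ya := by
      refine ⟨mul_mem hw1X hw2X, mem_centralizer_singleton_iff.2 (mul_inv_eq_iff_eq_mul.1 ?_).symm⟩
      have haa : a * a = 1 := JComponent.mul_self_of_isEA hA.2.1 haA
      have hai : a⁻¹ = a := inv_eq_of_mul_eq_one_right haa
      calc a * (w1 * w2) * a⁻¹ = w2 * (a * w2 * a⁻¹) := by rw [hw2def]; group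
        _ = w2 * w1 := by rw [hw2def, hai, show a * (a * w1 * a) * a = (a * a) * w1 * (a * a) by group, haa, one_mul, mul_one]
        _ = w1 * w2 := hww.symm
    have hgY : w1 * w2 ∉ Y := by
      intro h
      have h' := mem_centralizer_iff.1 h.2 b hb.1
      have : b * (w1 * w2) * b⁻¹ = w1 * w2 := by rw [h', mul_inv_cancel_right]
      rw [show b * (w1 * w2) * b⁻¹ = (b * w1 * b⁻¹) * (b * w2 * b⁻¹) by group, hbne, hbw2,
        show w1 * f1 * (w2 * f2) = w1 * ((f1 * w2) * f2) by group, ← hff1 w2 hw2Q,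
        show w1 * (w2 * f1 * f2) = w1 * w2 * (f1 * f2) by group, mul_eq_left] at this
      refine hfne ?_
      calc f2 = f1 * (f1 * f2) := by rw [← mul_assoc, hf1s, one_mul]
        _ = f1 := by rw [this, mul_one]
    have hY2 : 2 * Nat.card Y ≤ Nat.card Ya := by
      obtain ⟨m, hm⟩ := card_dvd_of_le hYYa
      have hm0 : m ≠ 0 := fun e => by
        have : 0 < Nat.card Ya := Nat.card_pos
        rw [hm, e, mul_zero] at this; omega
      have hm1 : m ≠ 1 := fun e => hgY (by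
        rw [eq_of_le_of_card_ge hYYa (by rw [hm, e, mul_one])]; exact hg)
      rw [hm]
      calc 2 * Nat.card Y = Nat.card Y * 2 := by ring
        _ ≤ Nat.card Y * m := Nat.mul_le_mul_left _ (by omega)
    have h4 := hfour Ya le_rfl
    have h8 : 8 * Nat.card Y ≤ Nat.card X := by omega
    nlinarith [Nat.mul_le_mul_right (Nat.card C) h8, Nat.mul_le_mul_right (Nat.card Y) (show Nat.card A ≤ 4 * Nat.card C by omega),
      Nat.mul_pos hCpos hYpos]

end CfsgLib.LocalEvenB.JOffend
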