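import Cfsg.Agent.Lib.LocalEvenB.JPath

/-!
Two vertices with different overgroups: `Ω₁(Z(J(T)))` has order at most four; commuting four-groups
are impossible once the product of the two centralized involutions has a small centralizer.
-/

set_option autoImplicit false
set_option linter.style.haveILetI false
set_option linter.unusedSectionVars false

open scoped Pointwise commutatorElement

namespace CfsgLib.LocalEvenB.JPairs

open Subgroup CfsgLib.LocalEven JVertex JOffend JSquares JPath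

universe u

variable {G : Type u} [Group G] [Finite G]

theorem mul_of_sup {A B : Subgroup G} (h : A ≤ normalizer (B : Set G)) {x : G} (hx : x ∈ A ⊔ B) :
    ∃ a ∈ A, ∃ b ∈ B, a * b = x := by
  have hx' : x ∈ ((A ⊔ B : Subgroup G) : Set G) := hx
  rw [coe_mul_of_left_le_normalizer_right A B h] at hx'
  exact Set.mem_mul.1 hx'

theorem cj_singleton {X : Subgroup G} {x : G} (h : X ≤ centralizer ({x} : Set G)) (g : G) :
    cj g X ≤ centralizer ({g * x * g⁻¹} : Set G) := by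
  rintro _ ⟨y, hy, rfl⟩
  refine mem_centralizer_singleton_iff.2 ?_
  show g * y * g⁻¹ * (g * x * g⁻¹) = g * x * g⁻¹ * (g * y * g⁻¹)
  calc g * y * g⁻¹ * (g * x * g⁻¹) = g * (y * x) * g⁻¹ := by group
    _ = g * (x * y) * g⁻¹ := by rw [mem_centralizer_singleton_iff.1 (h hy)]
    _ = _ := by group

theorem le_centralizer_singleton {X Y : Subgroup G} (h : X ≤ centralizer (Y : Set G)) {y : G} (hy : y ∈ Y) :
    X ≤ centralizer ({y} : Set G) := fun x hx =>
  mem_centralizer_singleton_iff.2 (mem_centralizer_iff.1 (h hx) y hy).symm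

/-- A maximal `2`-local subgroup is its own normalizer. -/
theorem normalizer_eq_self {L : Subgroup G} (hL : Cfsg.IsMaximalTwoLocal L) : normalizer (L : Set G) = L := by
  haveI : Fact (Nat.Prime 2) := ⟨Nat.prime_two⟩
  refine le_antisymm ?_ Subgroup.le_normalizer
  obtain ⟨W, hW, hW1, hWe⟩ := hL.1
  have hne : Cfsg.pCoreOf 2 L ≠ ⊥ := fun e => hW1 (le_bot_iff.1 (e ▸ SylowIn.le_pCoreOf
    (Subgroup.le_normalizer.trans hWe.ge) hWe.le hW))
  have h2 : Cfsg.IsTwoLocal (normalizer (Cfsg.pCoreOf 2 L : Set G)) :=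
    ⟨_, SylowIn.isPGroup_pCoreOf _, hne, rfl⟩
  exact (JComponent.normalizer_le_pCoreOf L).trans (hL.2 _ h2 (SylowIn.normalizer_pCoreOf L)).le

/-- Conjugation by the normalizer of `T`. -/
theorem vertex_cj {T K L : Subgroup G} (hv : Vertex T K L) {g : G} (hg : g ∈ normalizer (T : Set G)) :
    Vertex T (cj g K) (cj g L) := by
  haveI : Fact (Nat.Prime 2) := ⟨Nat.prime_two⟩
  have hT : cj g T = T := SylowIn.map_conj_eq_iff.2 hg
  have hJ : cj g (Cfsg.thompsonSubgroupOf 2 T) = Cfsg.thompsonSubgroupOf 2 T :=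
    SylowIn.map_conj_eq_iff.2 (Fusion.Thompson.normalizer_le_normalizer_thompsonOf (p := 2) T hg)
  refine ⟨?_, ⟨isTwoLocal_cj hv.max.1 g, fun N hN hle => ?_⟩, map_mono hv.le, ?_, fun X hX hK hJX => ?_⟩
  · exact JPlanes.isJComponent_congr (congrArg _ hT.symm) (JPlanes.isJComponent_conj hv.comp g)
  · have h1 : cj g⁻¹ (cj g L) ≤ cj g⁻¹ N := map_mono hle
    rw [cj_cj, inv_mul_cancel, cj_one] at h1
    rw [← hv.max.2 _ (isTwoLocal_cj hN g⁻¹) h1, cj_cj, mul_inv_cancel, cj_one]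
  · have h := (Straddle.isSylowTwoIn_iff.1 hv.syl).map_conj g
    rw [show T.map (MulAut.conj g).toMonoidHom = T from hT] at h
    exact Straddle.isSylowTwoIn_iff.2 h
  · have h1 : cj g⁻¹ X ≤ L := by
      refine hv.uniq _ (isTwoLocal_cj hX g⁻¹) ?_ ?_
      · have h1 : cj g⁻¹ (cj g K) ≤ cj g⁻¹ X := map_mono hK
        rwa [cj_cj, inv_mul_cancel, cj_one] at h1
      · have h1 : cj g⁻¹ (cj g (Cfsg.thompsonSubgroupOf 2 T)) ≤ cj g⁻¹ X := map_mono (hJ.le.trans hJX)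
        rwa [cj_cj, inv_mul_cancel, cj_one] at h1
    have h2 : cj g (cj g⁻¹ X) ≤ cj g L := map_mono h1
    rwa [cj_cj, mul_inv_cancel, cj_one] at h2

section Centre

variable {T K : Subgroup G}

local notation "Z₀" => Cfsg.omegaCenterOf (Cfsg.thompsonSubgroupOf 2 T)

theorem z_sq {x : G} (hx : x ∈ Z₀) : x * x = 1 := JComponent.mul_self_of_mem_omegaCenterOf _ hx

theorem z_comm {x y : G} (hx : x ∈ Z₀) (hy : y ∈ Z₀) : x * y = y * x :=
  mem_centralizer_iff.1 (JComponent.omegaCenterOf_le _ hy).2 x (JComponent.omegaCenterOf_le _ hx).1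

theorem j_cen {x : G} (hx : x ∈ Z₀) : Cfsg.thompsonSubgroupOf 2 T ≤ centralizer ({x} : Set G) := fun j hj =>
  mem_centralizer_singleton_iff.2 (mem_centralizer_iff.1 (JComponent.omegaCenterOf_le _ hx).2 j hj)

theorem isTwoLocal_cen {x : G} (hx : x ∈ Z₀) (hx1 : x ≠ 1) : Cfsg.IsTwoLocal (centralizer ({x} : Set G)) :=
  JPath.isTwoLocal_centralizer (z_sq hx) hx1

/-- A central involution of `T` lies in `Ω₁(Z(J(T)))`. -/
theorem mem_z {x : G} (hx : x ∈ T) (hxx : x * x = 1) (hc : ∀ t ∈ T, t * x = x * t) : x ∈ Z₀ := by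
  obtain ⟨A, hA⟩ := JComponent.exists_maxIn T
  refine subset_closure ⟨⟨JComponent.maxIn_le hA (JComponent.mem_of_maxIn hA hx hxx fun a ha => hc a (hA.1 ha)),
    mem_centralizer_iff.2 fun j hj => hc j (Fusion.Thompson.thompsonSubgroupOf_le T hj)⟩, ?_⟩
  rw [pow_two]; exact hxx

/-- A two-element subgroup normalized by `T` is centralized by it. -/
theorem cen_of_card_two (h2 : Nat.card ↥(Z₀) = 2) : T ≤ centralizer (Z₀ : Set G) := by
  intro t ht
  refine mem_centralizer_iff.2 fun x hx => ?_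
  by_cases hx1 : x = 1
  · rw [hx1, one_mul, mul_one]
  obtain ⟨y, -, hy⟩ := (Nat.card_eq_two_iff' (1 : Z₀)).1 h2
  have hm : t * x * t⁻¹ ∈ Z₀ := (mem_normalizer_iff.1 (JComponent.normalizer_le_omegaCenterOf _
    (Fusion.Thompson.normalizer_le_normalizer_thompsonOf T (Subgroup.le_normalizer ht))) x).1 hx
  have e1 : (⟨_, hm⟩ : Z₀) = y := hy _ fun e => hx1 (conj_eq_one_iff.1 (congrArg Subtype.val e))
  have e2 : (⟨x, hx⟩ : Z₀) = y := hy _ fun e => hx1 (congrArg Subtype.val e)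
  have e3 : t * x * t⁻¹ = x := congrArg Subtype.val (e1.trans e2.symm)
  exact (mul_inv_eq_iff_eq_mul.1 e3).symm

variable (T K) in
/-- The part of `Ω₁(Z(J(T)))` centralized by `K`. -/
def dd : Subgroup G := Cfsg.omegaCenterOf (Cfsg.thompsonSubgroupOf 2 T) ⊓ centralizer (K : Set G)

theorem mem_dd {x : G} : x ∈ dd T K ↔ x ∈ Z₀ ∧ K ≤ centralizer ({x} : Set G) := by
  refine ⟨fun h => ⟨h.1, fun k hk => mem_centralizer_singleton_iff.2 (mem_centralizer_iff.1 h.2 k hk)⟩,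
    fun h => ⟨h.1, mem_centralizer_iff.2 fun k hk => mem_centralizer_singleton_iff.1 (h.2 hk)⟩⟩

variable (hT : IsPGroup 2 T) (hK : Cfsg.IsJComponent T K)
include hT hK

theorem z_split {f : G} (hfW : f ∈ Cfsg.wOf K) (hfZ : f ∈ Z₀) (hf1 : f ≠ 1) {x : G} (hx : x ∈ Z₀) :
    ∃ c ∈ dd T K, x = c ∨ x = c * f := by
  obtain ⟨h2, hsup⟩ := JComponent.main hT hK
  rw [← hsup] at hx
  set X := Z₀ ⊓ Cfsg.wOf K with hX
  set Y := Z₀ ⊓ ((K ⊔ Cfsg.thompsonSubgroupOf 2 T) ⊓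
    centralizer ((K ⊔ Cfsg.thompsonSubgroupOf 2 T : Subgroup G) : Set G)) with hY
  have hn : Y ≤ normalizer (X : Set G) := fun y hy => centralizer_le_normalizer _
    (mem_centralizer_iff.2 fun z hz => z_comm hz.1 hy.1)
  obtain ⟨a, ha, b, hb, rfl⟩ := mul_of_sup hn hx
  refine ⟨a, mem_dd.2 ⟨ha.1, fun k hk => mem_centralizer_singleton_iff.2
    (mem_centralizer_iff.1 ha.2.2 k (mem_sup_left hk))⟩, ?_⟩
  obtain ⟨y, -, hy⟩ := (Nat.card_eq_two_iff' (1 : X)).1 h2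
  by_cases hb1 : b = 1
  · exact Or.inl (by rw [hb1, mul_one])
  · have e1 : (⟨b, hb⟩ : X) = y := hy _ fun e => hb1 (congrArg Subtype.val e)
    have e2 : (⟨f, hfZ, hfW⟩ : X) = y := hy _ fun e => hf1 (congrArg Subtype.val e)
    exact Or.inr (by rw [show b = f from congrArg Subtype.val (e1.trans e2.symm)])

theorem card_z : Nat.card ↥(Z₀) = 2 * Nat.card ↥(dd T K) := by
  obtain ⟨h2, -⟩ := JComponent.main hT hK
  set X := Z₀ ⊓ Cfsg.wOf K with hX
  obtain ⟨y, hy1, -⟩ := (Nat.card_eq_two_iff' (1 : X)).1 h2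
  have hf1 : (y : G) ≠ 1 := fun e => hy1 (Subtype.ext e)
  have hinf : dd T K ⊓ X = ⊥ := (eq_bot_iff_forall _).2 fun w hw => JAmbient.wfix hK w hw.2.2 fun k hk =>
    mem_centralizer_singleton_iff.1 ((mem_dd.1 hw.1).2 hk)
  have hn : X ≤ normalizer (dd T K : Set G) := fun x hx => centralizer_le_normalizer _
    (mem_centralizer_iff.2 fun z hz => z_comm (mem_dd.1 hz).1 hx.1)
  have hsup : dd T K ⊔ X = Z₀ := by
    refine le_antisymm (sup_le inf_le_left inf_le_left) fun x hx => ?_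
    obtain ⟨c, hc, e | e⟩ := z_split hT hK y.2.2 y.2.1 hf1 hx
    · exact e ▸ mem_sup_left hc
    · exact e ▸ mul_mem (mem_sup_left hc) (mem_sup_right y.2)
  have h := Fusion.Thompson.card_sup_mul_card_inf hn
  rw [hinf, hsup, card_bot, mul_one, h2] at h
  rw [h, mul_comm]

/-- `K` does not centralize two involutions of a group of order at most four. -/
theorem only (h4 : Nat.card ↥(Z₀) ≤ 4) {x y : G} (hx : x ∈ Z₀) (hxK : K ≤ centralizer ({x} : Set G))
    (hx1 : x ≠ 1) (hy : y ∈ Z₀) (hyK : K ≤ centralizer ({y} : Set G)) (hy1 : y ≠ 1) : x = y := by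
  by_contra hne
  have h2 : Nat.card ↥(dd T K) ≤ 2 := by rw [card_z hT hK] at h4; omega
  have h : ({1, x, y} : Set G) ⊆ (dd T K : Set G) := by
    rintro z (rfl | rfl | rfl)
    exacts [one_mem _, mem_dd.2 ⟨hx, hxK⟩, mem_dd.2 ⟨hy, hyK⟩]
  have h3 := Set.ncard_le_ncard h
  rw [Set.ncard_eq_three.2 ⟨1, x, y, Ne.symm hx1, Ne.symm hy1, hne, rfl⟩, ← Nat.card_coe_set_eq] at h3
  simp only [SetLike.coe_sort_coe] at h3
  omega

/-- Two components never centralizing the same involution. -/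
theorem card_le_four {K' : Subgroup G} (hK' : Cfsg.IsJComponent T K')
    (hdis : ∀ X : Subgroup G, Cfsg.IsTwoLocal X → K ≤ X → K' ≤ X → Cfsg.thompsonSubgroupOf 2 T ≤ X → False) :
    Nat.card ↥(Z₀) ≤ 4 ∧ Nat.card ↥(dd T K) ≤ 2 := by
  have hinf : dd T K ⊓ dd T K' = ⊥ := (eq_bot_iff_forall _).2 fun x hx => by
    by_contra hx1
    obtain ⟨hxZ, hxK⟩ := mem_dd.1 hx.1
    exact hdis _ (isTwoLocal_cen hxZ hx1) hxK (mem_dd.1 hx.2).2 (j_cen hxZ)
  have hn : dd T K' ≤ normalizer (dd T K : Set G) := fun x hx => centralizer_le_normalizer _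
    (mem_centralizer_iff.2 fun z hz => z_comm (mem_dd.1 hz).1 (mem_dd.1 hx).1)
  have h := Fusion.Thompson.card_sup_mul_card_inf hn
  rw [hinf, card_bot, mul_one] at h
  have hle := Nat.le_of_dvd Nat.card_pos
    (card_dvd_of_le (sup_le inf_le_left inf_le_left : dd T K ⊔ dd T K' ≤ Z₀))
  have h1 := card_z hT hK
  have h2 := card_z hT hK'
  have hpos : 0 < Nat.card ↥(dd T K') := Nat.card_pos
  have h3 : Nat.card ↥(dd T K) ≤ 2 :=
    Nat.le_of_mul_le_mul_right (by rw [← h, ← h2]; exact hle) hpos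
  exact ⟨by omega, h3⟩

theorem card_two_or_four (h4 : Nat.card ↥(Z₀) ≤ 4) : Nat.card ↥(Z₀) = 2 ∨ Nat.card ↥(Z₀) = 4 := by
  have h1 := card_z hT hK
  have : 0 < Nat.card ↥(dd T K) := Nat.card_pos
  omega

theorem exists_d (h4 : Nat.card ↥(Z₀) = 4) : ∃ d ∈ Z₀, d ≠ 1 ∧ K ≤ centralizer ({d} : Set G) := by
  have h1 := card_z hT hK
  obtain ⟨d, hd, -⟩ := (Nat.card_eq_two_iff' (1 : dd T K)).1 (by omega)
  exact ⟨d, (mem_dd.1 d.2).1, fun e => hd (Subtype.ext e), (mem_dd.1 d.2).2⟩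

omit hT hK in
theorem z_cases (h4 : Nat.card ↥(Z₀) = 4) {d d' : G} (hd : d ∈ Z₀) (hd1 : d ≠ 1) (hd' : d' ∈ Z₀)
    (hd1' : d' ≠ 1) (hne : d ≠ d') {x : G} (hx : x ∈ Z₀) : x = 1 ∨ x = d ∨ x = d' ∨ x = d * d' := by
  rcases JComponent.four_cases h4 hd' hd1' hd hne hd1 (z_sq hd') hx with e | e | e | e
  exacts [Or.inl e, Or.inr (Or.inr (Or.inl e)), Or.inr (Or.inl e), Or.inr (Or.inr (Or.inr e))]

end Centre

/-- The conjugates of a neighbour's four-group commute with it, or an element of order three moves it. -/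
theorem deep_or_orb (H : Hyp G) {T K L K' L' : Subgroup G} (hv : Vertex T K L) (hv' : Vertex T K' L')
    (hcen : T ≤ centralizer (Cfsg.omegaCenterOf (Cfsg.thompsonSubgroupOf 2 T) : Set G))
    (hWW : Cfsg.wOf K' ≤ centralizer (Cfsg.wOf K : Set G)) {f : G} (hfW : f ∈ Cfsg.wOf K')
    (hfZ : f ∈ Cfsg.omegaCenterOf (Cfsg.thompsonSubgroupOf 2 T)) :
    (∀ g ∈ K, cj g (Cfsg.wOf K') ≤ centralizer (Cfsg.wOf K' : Set G)) ∨
      ∃ k ∈ K, k ^ 3 = 1 ∧ (∀ y ∈ Cfsg.wOf K, k * y * k⁻¹ = y → y = 1) ∧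
        ∃ w ∈ Cfsg.wOf K', w ≠ f ∧ w ≠ 1 ∧ k * w * k⁻¹ ∉ centralizer (Cfsg.wOf K' : Set G) := by
  haveI : Fact (Nat.Prime 2) := ⟨Nat.prime_two⟩
  rw [or_iff_not_imp_right]
  intro hcon
  push Not at hcon
  obtain ⟨k, hk, hk3, -, hkfix⟩ := Vertex.exists_k H hv
  set W' := Cfsg.wOf K' with hW'
  have hfcen : ∀ g ∈ K, g * f * g⁻¹ ∈ centralizer (W' : Set G) := by
    intro g hg
    refine mem_centralizer_iff.2 fun w hw => ?_
    have hwQ : w ∈ T ⊓ centralizer (Cfsg.wOf K : Set G) := ⟨(w_le_q H hv' hcen hw).1, hWW hw⟩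
    have h1 := conj_mem_q H hv hcen (mem_sup_left (inv_mem hg)) hwQ
    rw [inv_inv] at h1
    have h2 : g⁻¹ * w * g * f = f * (g⁻¹ * w * g) := Vertex.t_fix H hv' hcen hfZ h1.1
    calc w * (g * f * g⁻¹) = g * (g⁻¹ * w * g * f) * g⁻¹ := by group
      _ = g * (f * (g⁻¹ * w * g)) * g⁻¹ := by rw [h2]
      _ = g * f * g⁻¹ * w := by group
  have hgood : ∀ k ∈ K, k ^ 3 = 1 → (∀ y ∈ Cfsg.wOf K, k * y * k⁻¹ = y → y = 1) →
      cj k W' ≤ centralizer (W' : Set G) := by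
    rintro k hk hk3 hfix _ ⟨w, hw, rfl⟩
    show k * w * k⁻¹ ∈ _
    by_cases hw1 : w = 1
    · subst hw1; simp
    by_cases hwf : w = f
    · subst hwf; exact hfcen k hk
    exact hcon k hk hk3 hfix w hw hwf hw1
  have h1 := hgood k hk hk3 hkfix
  have h2 := hgood k⁻¹ (inv_mem hk) (by rw [inv_pow, hk3, inv_one]) fun y hy e => hkfix y hy (by
    conv_lhs => rw [← e]
    group)
  intro g hg
  set Q0 := Cfsg.pCoreOf 2 K with hQ0
  have hK0 : g ∈ zpowers k ⊔ Q0 := le_of_k hv hk hkfix le_sup_right (mem_sup_left (mem_zpowers k)) hg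
  obtain ⟨a, ha, q, hq, rfl⟩ := mul_of_sup (zpowers_le.2 (SylowIn.normalizer_pCoreOf K hk)) hK0
  have hqW : cj q W' = W' := SylowIn.map_conj_eq_iff.2
    (Vertex.t_le_normalizer_w H hv' hcen (pCoreOf_le_t H hv hcen hq))
  rw [← cj_cj, hqW]
  rcases JExist.three_cases hk3 ha with rfl | rfl | rfl
  · rw [cj_one]
    intro w hw
    exact mem_centralizer_iff.2 fun w' hw' => mem_centralizer_iff.1 (w_le_q H hv' hcen hw).2 w' hw'
  · exact h1
  · exact h2

/-- An element moving the neighbour's four-group fixes its central involution. -/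
theorem deep_fix (H : Hyp G) {T K L K' L' : Subgroup G} (hv : Vertex T K L) (hv' : Vertex T K' L')
    (hcen : T ≤ centralizer (Cfsg.omegaCenterOf (Cfsg.thompsonSubgroupOf 2 T) : Set G))
    (hWW : Cfsg.wOf K' ≤ centralizer (Cfsg.wOf K : Set G)) {f : G} (hfW : f ∈ Cfsg.wOf K')
    (hfZ : f ∈ Cfsg.omegaCenterOf (Cfsg.thompsonSubgroupOf 2 T)) (hf1 : f ≠ 1)
    {k : G} (hk : k ∈ K) (hkfix : ∀ y ∈ Cfsg.wOf K, k * y * k⁻¹ = y → y = 1)
    {w : G} (hw : w ∈ Cfsg.wOf K') (hwf : w ≠ f) (hw1 : w ≠ 1)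
    (hu : k * w * k⁻¹ ∉ centralizer (Cfsg.wOf K' : Set G)) : K ≤ centralizer ({f} : Set G) := by
  have hwQ : w ∈ T ⊓ centralizer (Cfsg.wOf K : Set G) := ⟨(w_le_q H hv' hcen hw).1, hWW hw⟩
  have huQ := conj_mem_q H hv hcen (mem_sup_left hk) hwQ
  have hvQ := conj_mem_q H hv hcen (mem_sup_left (inv_mem hk)) hwQ
  rw [inv_inv] at hvQ
  refine le_centralizer_of_fix H hv hcen hk (k_not_centralizes hv hkfix) ?_
    (fun t ht => Vertex.t_fix H hv hcen hfZ ht)
  set u := k * w * k⁻¹ with hudef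
  have hW4 : Nat.card ↥(Cfsg.wOf K') = 4 := hv'.comp.2.2.2.2.1
  have hsq : ∀ x ∈ Cfsg.wOf K', x * x = 1 := hv'.comp.2.2.2.2.2
  have hperm : ∀ t ∈ T, t * w * t⁻¹ = w ∨ t * w * t⁻¹ = w * f := fun t ht =>
    perm' H hv hcen hv' hfW hfZ hf1 hw hwf hw1 ht
  have e1 : u * w * u⁻¹ = w * f := (hperm u huQ.1).resolve_left fun e =>
    hu (centralizes_four hW4 hsq hfW hf1 hw hwf hw1 (Vertex.t_fix H hv' hcen hfZ huQ.1)
      (mul_inv_eq_iff_eq_mul.1 e))
  have e2 : w * u * w⁻¹ = u * (k * f * k⁻¹) := by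
    rcases hperm (k⁻¹ * w * k) hvQ.1 with e | e
    · exfalso
      have h : w * u * w⁻¹ = u := by
        calc w * u * w⁻¹ = k * ((k⁻¹ * w * k) * w * (k⁻¹ * w * k)⁻¹) * k⁻¹ := by rw [hudef]; group
          _ = u := by rw [e]
      have h' : u * w * u⁻¹ = w := mul_inv_eq_iff_eq_mul.2 (mul_inv_eq_iff_eq_mul.1 h).symm
      rw [h'] at e1
      exact hf1 (left_eq_mul.1 e1)
    · calc w * u * w⁻¹ = k * ((k⁻¹ * w * k) * w * (k⁻¹ * w * k)⁻¹) * k⁻¹ := by rw [hudef]; group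
        _ = u * (k * f * k⁻¹) := by rw [e, hudef]; group
  have hws := hsq w hw
  have hus : u * u = 1 := by rw [hudef, show k * w * k⁻¹ * (k * w * k⁻¹) = k * (w * w) * k⁻¹ by group, hws]; group
  rw [inv_eq_of_mul_eq_one_right hus] at e1
  rw [inv_eq_of_mul_eq_one_right hws] at e2
  refine mul_inv_eq_iff_eq_mul.1 ?_
  calc k * f * k⁻¹ = (u * u) * (k * f * k⁻¹) := by rw [hus, one_mul]
    _ = u * (w * u * w) := by rw [e2]; group
    _ = (u * w * u) * w := by group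
    _ = (w * f) * w := by rw [e1]
    _ = f := by
      rw [mul_assoc, mem_centralizer_iff.1 (w_le_q H hv' hcen hw).2 f hfW, ← mul_assoc, hws, one_mul]

section Bad

variable (H : Hyp G) {T K L K' L' : Subgroup G} (hv : Vertex T K L) (hv' : Vertex T K' L') (hne : L ≠ L')
  (hcen : T ≤ centralizer (Cfsg.omegaCenterOf (Cfsg.thompsonSubgroupOf 2 T) : Set G))
include H hv hv' hne hcen

/-- Commuting four-groups and a small centralizer of `d d'` are incompatible. -/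
theorem bad_false (hWW : Cfsg.wOf K' ≤ centralizer (Cfsg.wOf K : Set G)) {d d' : G}
    (hd : d ∈ Cfsg.omegaCenterOf (Cfsg.thompsonSubgroupOf 2 T)) (hd1 : d ≠ 1)
    (hdK : K ≤ centralizer ({d} : Set G))
    (hd' : d' ∈ Cfsg.omegaCenterOf (Cfsg.thompsonSubgroupOf 2 T)) (hd1' : d' ≠ 1)
    (hdK' : K' ≤ centralizer ({d'} : Set G)) (S : Sylow 2 G) (hTS : T ≤ (S : Subgroup G))
    (hz : centralizer ({d * d'} : Set G) ≤ normalizer ((S : Subgroup G) : Set G))
    (fz : d * d' ∈ Cfsg.wOf K → T = (S : Subgroup G))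
    (fz' : d * d' ∈ Cfsg.wOf K' → T = (S : Subgroup G)) : False := by
  haveI : Fact (Nat.Prime 2) := ⟨Nat.prime_two⟩
  have hdis : ∀ X : Subgroup G, Cfsg.IsTwoLocal X → K ≤ X → K' ≤ X → Cfsg.thompsonSubgroupOf 2 T ≤ X → False :=
    fun X hX h1 h2 h3 => not_common hv hv' hne hX h1 h2 h3
  have hT := Vertex.t_pgroup hv
  have hle4 := (card_le_four hT hv.comp hv'.comp hdis).1
  have hdd : d ≠ d' := fun e => hdis _ (isTwoLocal_cen hd hd1) hdK (e ▸ hdK') (j_cen hd)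
  have h4 : Nat.card ↥(Cfsg.omegaCenterOf (Cfsg.thompsonSubgroupOf 2 T)) = 4 := by
    rcases card_two_or_four hT hv.comp hle4 with h | h
    · obtain ⟨y, -, hy⟩ := (Nat.card_eq_two_iff' (1 : Cfsg.omegaCenterOf (Cfsg.thompsonSubgroupOf 2 T))).1 h
      have e1 : (⟨d, hd⟩ : Cfsg.omegaCenterOf _) = y := hy _ fun e => hd1 (congrArg Subtype.val e)
      have e2 : (⟨d', hd'⟩ : Cfsg.omegaCenterOf _) = y := hy _ fun e => hd1' (congrArg Subtype.val e)
      exact absurd (congrArg Subtype.val (e1.trans e2.symm)) hdd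
    · exact h
  have hWW' : Cfsg.wOf K ≤ centralizer (Cfsg.wOf K' : Set G) := le_centralizer_iff.1 hWW
  have hcomm : d' * d = d * d' := z_comm hd' hd
  obtain ⟨f, hfW, hfZ, hf1, -⟩ := Vertex.exists_f hv
  obtain ⟨f', hfW', hfZ', hf1', -⟩ := Vertex.exists_f hv'
  obtain ⟨v, hvW, hv1, hvf⟩ := Vertex.exists_w hv hfW hf1
  obtain ⟨v', hvW', hv1', hvf'⟩ := Vertex.exists_w hv' hfW' hf1'
  obtain ⟨k0, hk0, hk03, -, hk0fix⟩ := Vertex.exists_k H hv
  obtain ⟨k0', hk0', hk03', -, hk0fix'⟩ := Vertex.exists_k H hv'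
  have hf'd : K ≤ centralizer ({f'} : Set G) → f' = d := fun h => only hT hv.comp hle4 hfZ' h hf1' hd hdK hd1
  have hfd' : K' ≤ centralizer ({f} : Set G) → f = d' := fun h => only hT hv'.comp hle4 hfZ h hf1 hd' hdK' hd1'
  rcases deep_or_orb H hv hv' hcen hWW hfW' hfZ' with horb | ⟨k, hk, hk3, hkfix, w, hw, hwf, hw1, hu⟩
  · rcases deep_or_orb H hv' hv hcen hWW' hfW hfZ with horb' | ⟨k', hk', hk3', hkfix', u, hu1, huf, hu1', hu'⟩
    · exact false_of_bad
        { hyp := H, v := hv, v' := hv', ne := hne, cen := hcen, mem := hd, mem' := hd', d1 := hd1, d1' := hd1',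
          dd := hdd, cases := fun x hx => z_cases h4 hd hd1 hd' hd1' hdd hx, cK := hdK, cK' := hdK', hTS := hTS,
          hz := hz, fz := fz, fz' := fz', ww := hWW', ww' := hWW, orb := horb, orb' := horb' }
    · have hfix := deep_fix H hv' hv hcen hWW' hfW hfZ hf1 hk' hkfix' hu1 huf hu1' hu'
      refine lopsided H hv' hcen hv hWW' (Ne.symm hne) hWW hk' hk3' hkfix' hk0 hk03 hk0fix hfW' hfZ' hf1'
        hvW' hvf' hv1' (horb k0 hk0 (mem_map_of_mem _ hvW')) hfW hfZ hf1 hfix hu1 huf hu1' hu' S fun e => ?_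
      have e' : f' = d := hf'd (le_centralizer_of_fix H hv hcen hk0 (k_not_centralizes hv hk0fix) e
        (fun t ht => Vertex.t_fix H hv hcen hfZ' ht))
      rw [e', hfd' hfix]
      exact hz
  · have hfix := deep_fix H hv hv' hcen hWW hfW' hfZ' hf1' hk hkfix hw hwf hw1 hu
    rcases deep_or_orb H hv' hv hcen hWW' hfW hfZ with horb' | ⟨k', hk', hk3', hkfix', u, hu1, huf, hu1', hu'⟩
    · refine lopsided H hv hcen hv' hWW hne hWW' hk hk3 hkfix hk0' hk03' hk0fix' hfW hfZ hf1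
        hvW hvf hv1 (horb' k0' hk0' (mem_map_of_mem _ hvW)) hfW' hfZ' hf1' hfix hw hwf hw1 hu S fun e => ?_
      have e' : f = d' := hfd' (le_centralizer_of_fix H hv' hcen hk0' (k_not_centralizes hv' hk0fix') e
        (fun t ht => Vertex.t_fix H hv' hcen hfZ ht))
      rw [e', hf'd hfix, hcomm]
      exact hz
    · have hfix' := deep_fix H hv' hv hcen hWW' hfW hfZ hf1 hk' hkfix' hu1 huf hu1' hu'
      exact not_both H hv hcen hv' hWW hne hWW' hk hk3 hk' hk3' hfW hfZ hf1 hfix' hu1 huf hu1' hu'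
        hfW' hfZ' hf1' hfix hw hwf hw1 hu

/-- If all four-groups commute, some vertex has its involution centralized by all the others. -/
theorem exists_beta (hall : ∀ A M A' M' : Subgroup G, Vertex T A M → Vertex T A' M' → M ≠ M' →
      Cfsg.wOf A' ≤ centralizer (Cfsg.wOf A : Set G)) :
    ∃ B N f : _, Vertex T B N ∧ f ∈ Cfsg.wOf B ∧ f ∈ Cfsg.omegaCenterOf (Cfsg.thompsonSubgroupOf 2 T) ∧ f ≠ (1 : G) ∧
      ∀ A M : Subgroup G, Vertex T A M → M ≠ N → A ≤ centralizer ({f} : Set G) := by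
  obtain ⟨⟨B, N⟩, hB, hmax⟩ := Set.exists_max_image {p : Subgroup G × Subgroup G | Vertex T p.1 p.2}
    (fun p => Nat.card ↥(Cfsg.thompsonSubgroupOf 2 (T ⊓ centralizer (Cfsg.wOf p.1 : Set G))))
    (Set.toFinite _) ⟨(K, L), hv⟩
  obtain ⟨f, hfW, hfZ, hf1, -⟩ := Vertex.exists_f (show Vertex T B N from hB)
  refine ⟨B, N, f, hB, hfW, hfZ, hf1, fun A M hA hAN => ?_⟩
  rcases exists_offender H hA hB hAN hcen with ⟨X, hX, hX', hX2⟩ | hlt
  · exact offend H hA hB hAN hcen (hall A M B N hA hB hAN) hX hX' hX2 hfW hfZ hf1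
  · exact absurd hlt (not_lt.2 (hmax (A, M) hA))

end Bad

end CfsgLib.LocalEvenB.JPairs
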