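import Cfsg.Agent.Lib.LocalEvenB.JSquares

/-!
Two vertices whose conjugates all centralize each other's four-groups: the conjugates generate a
`2`-group normalized by both, which is impossible.
-/

set_option autoImplicit false
set_option linter.style.haveILetI false
set_option linter.unusedSectionVars false

open scoped Pointwise commutatorElement

namespace CfsgLib.LocalEvenB.JPath

open Subgroup CfsgLib.LocalEven JVertex JOffend JSquares

universe u

variable {G : Type u} [Group G] [Finite G]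

/-- Conjugation of subgroups. -/
abbrev cj (g : G) (X : Subgroup G) : Subgroup G := X.map (MulAut.conj g).toMonoidHom

theorem cj_cj (X : Subgroup G) (g h : G) : cj g (cj h X) = cj (g * h) X := SylowIn.map_conj_conj X g h

theorem cj_one (X : Subgroup G) : cj (1 : G) X = X := SylowIn.map_conj_one X

theorem cj_centralizes {X Y : Subgroup G} (g : G) (h : X ≤ centralizer (Y : Set G)) :
    cj g X ≤ centralizer (cj g Y : Set G) := by
  rw [cj, cj, SylowIn.centralizer_map_conj]; exact map_mono h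

theorem wOf_cj (X : Subgroup G) (g : G) : Cfsg.wOf (cj g X) = cj g (Cfsg.wOf X) :=
  (JPlanes.wOf_map _ (MulAut.conj g).injective X).symm

theorem centralizer_singleton_eq_normalizer {x : G} (hx : x * x = 1) :
    centralizer ({x} : Set G) = normalizer (zpowers x : Set G) := by
  refine le_antisymm (fun g hg => centralizer_le_normalizer _ ?_) fun g hg => ?_
  · refine mem_centralizer_iff.2 fun y hy => ?_
    obtain ⟨i, rfl⟩ := mem_zpowers_iff.1 hy
    exact (((show Commute g x from mem_centralizer_singleton_iff.1 hg)).zpow_right i).symm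
  · obtain ⟨i, hi⟩ := mem_zpowers_iff.1 ((mem_normalizer_iff.1 hg x).1 (mem_zpowers x))
    refine mem_centralizer_singleton_iff.2 (mul_inv_eq_iff_eq_mul.1 ?_)
    rcases Int.even_or_odd i with ⟨j, rfl⟩ | ⟨j, rfl⟩
    · rw [← hi]
      rw [show x ^ (j + j) = 1 by rw [zpow_add, ← (Commute.refl x).mul_zpow, hx, one_zpow]] at hi ⊢
      exact (conj_eq_one_iff.1 hi.symm).symm
    · rw [← hi, zpow_add, zpow_mul, show x ^ (2 : ℤ) = 1 by rw [zpow_two, hx], one_zpow, one_mul, zpow_one]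

theorem isTwoLocal_centralizer {x : G} (hx : x * x = 1) (hx1 : x ≠ 1) :
    Cfsg.IsTwoLocal (centralizer ({x} : Set G)) :=
  ⟨zpowers x, Fusion.Thompson.isPGroup_isEA (JComponent.isEA_zpowers hx), by simpa using hx1,
    centralizer_singleton_eq_normalizer hx⟩

theorem isTwoLocal_cj {X : Subgroup G} (hX : Cfsg.IsTwoLocal X) (g : G) : Cfsg.IsTwoLocal (cj g X) := by
  obtain ⟨W, hW, hW1, hWe⟩ := hX
  refine ⟨cj g W, hW.map _, fun e => hW1 (map_injective (f := (MulAut.conj g).toMonoidHom) (MulAut.conj g).injective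
    (by rw [Subgroup.map_bot]; exact e)), ?_⟩
  rw [cj, cj, SylowIn.normalizer_map_conj, ← hWe]

/-- `K` normalizes no subgroup whose Thompson subgroup is `J(T)`. -/
theorem comp_not_le {T K : Subgroup G} (hT : IsPGroup 2 T) (hK : Cfsg.IsJComponent T K) :
    ¬ K ≤ normalizer (Cfsg.thompsonSubgroupOf 2 T : Set G) := by
  haveI : Fact (Nat.Prime 2) := ⟨Nat.prime_two⟩
  intro h
  obtain ⟨-, hcomm, hidx, -⟩ := hK
  have hKJ : K ≤ Cfsg.thompsonSubgroupOf 2 T := by
    rw [← hcomm]
    refine commutator_le.2 fun k hk j hj => ?_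
    rw [commutatorElement_def]
    exact mul_mem ((mem_normalizer_iff.1 (h hk) j).1 hj) (inv_mem hj)
  have hp : IsPGroup 2 K := (hT.to_le (Fusion.Thompson.thompsonSubgroupOf_le T)).to_le hKJ
  rw [relIndex_eq_one.2 (SylowIn.le_pCoreOf le_rfl Subgroup.le_normalizer hp)] at hidx
  omega

/-- An involution centralized by a component is not conjugate to one whose centralizer normalizes a
Sylow `2`-subgroup. -/
theorem not_conj {T K L : Subgroup G} (hv : Vertex T K L) {x z g : G}
    (hK : K ≤ centralizer ({x} : Set G))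
    (hJ : Cfsg.thompsonSubgroupOf 2 T ≤ centralizer ({x} : Set G)) (S : Sylow 2 G)
    (hz : centralizer ({z} : Set G) ≤ normalizer ((S : Subgroup G) : Set G)) : g * x * g⁻¹ ≠ z := by
  haveI : Fact (Nat.Prime 2) := ⟨Nat.prime_two⟩
  intro hg
  have hc : ∀ y ∈ centralizer ({x} : Set G), g * y * g⁻¹ ∈ normalizer ((S : Subgroup G) : Set G) := fun y hy =>
    hz (mem_centralizer_singleton_iff.2 (by
      rw [← hg]
      calc g * y * g⁻¹ * (g * x * g⁻¹) = g * (y * x) * g⁻¹ := by group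
        _ = g * (x * y) * g⁻¹ := by rw [mem_centralizer_singleton_iff.1 hy]
        _ = _ := by group))
  set R := cj g⁻¹ (S : Subgroup G) with hR
  have hn : ∀ y ∈ centralizer ({x} : Set G), y ∈ normalizer (R : Set G) := fun y hy => by
    rw [hR, cj, SylowIn.normalizer_map_conj]
    exact ⟨g * y * g⁻¹, hc y hy, by simp [mul_assoc]⟩
  have hJR : Cfsg.thompsonSubgroupOf 2 T ≤ R := by
    intro j hj
    have hjn := hc j (hJ hj)
    obtain ⟨n, hn⟩ := ((hv.syl.2.1).to_le (Fusion.Thompson.thompsonSubgroupOf_le T)) ⟨j, hj⟩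
    have hjp : (g * j * g⁻¹) ^ 2 ^ n = 1 := by
      rw [conj_pow, show j ^ 2 ^ n = 1 by simpa using congrArg Subtype.val hn, mul_one, mul_inv_cancel]
    have hzp : IsPGroup 2 (zpowers (g * j * g⁻¹)) := by
      obtain ⟨m, -, hm⟩ := (Nat.dvd_prime_pow Nat.prime_two).1 (orderOf_dvd_of_pow_eq_one hjp)
      exact IsPGroup.of_card (n := m) (by rw [Nat.card_zpowers, hm])
    have := S.is_maximal' (IsPGroup.to_sup_of_normal_left' S.isPGroup' hzp (zpowers_le.2 hjn)) le_sup_left
    exact ⟨g * j * g⁻¹, this ▸ mem_sup_right (mem_zpowers _), by simp [mul_assoc]⟩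
  have hXp : IsPGroup 2 ↥(R ⊓ L : Subgroup G) := (S.isPGroup'.map _).to_le inf_le_left
  have hJX := Straddle.thompson_eq hv.syl inf_le_right hXp (le_inf hJR (Vertex.j_le hv))
  refine comp_not_le hv.syl.2.1 hv.comp ?_
  rw [← hJX]
  refine le_trans ?_ (Fusion.Thompson.normalizer_le_normalizer_thompsonOf _)
  exact (le_inf (fun y hy => hn y (hK hy)) (hv.le.trans Subgroup.le_normalizer)).trans inf_normalizer_le_normalizer_inf

/-- The configuration to be excluded. -/
structure Bad (T K L K' L' : Subgroup G) (d d' : G) (S : Sylow 2 G) : Prop where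
  hyp : Hyp G
  v : Vertex T K L
  v' : Vertex T K' L'
  ne : L ≠ L'
  cen : T ≤ centralizer (Cfsg.omegaCenterOf (Cfsg.thompsonSubgroupOf 2 T) : Set G)
  mem : d ∈ Cfsg.omegaCenterOf (Cfsg.thompsonSubgroupOf 2 T)
  mem' : d' ∈ Cfsg.omegaCenterOf (Cfsg.thompsonSubgroupOf 2 T)
  d1 : d ≠ 1
  d1' : d' ≠ 1
  dd : d ≠ d'
  cases : ∀ x ∈ Cfsg.omegaCenterOf (Cfsg.thompsonSubgroupOf 2 T), x = 1 ∨ x = d ∨ x = d' ∨ x = d * d'
  cK : K ≤ centralizer ({d} : Set G)
  cK' : K' ≤ centralizer ({d'} : Set G)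
  hTS : T ≤ (S : Subgroup G)
  hz : centralizer ({d * d'} : Set G) ≤ normalizer ((S : Subgroup G) : Set G)
  fz : d * d' ∈ Cfsg.wOf K → T = (S : Subgroup G)
  fz' : d * d' ∈ Cfsg.wOf K' → T = (S : Subgroup G)
  ww : Cfsg.wOf K ≤ centralizer (Cfsg.wOf K' : Set G)
  ww' : Cfsg.wOf K' ≤ centralizer (Cfsg.wOf K : Set G)
  orb : ∀ g ∈ K, cj g (Cfsg.wOf K') ≤ centralizer (Cfsg.wOf K' : Set G)
  orb' : ∀ g ∈ K', cj g (Cfsg.wOf K) ≤ centralizer (Cfsg.wOf K : Set G)

namespace Bad

variable {T K L K' L' : Subgroup G} {d d' : G} {S : Sylow 2 G}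

theorem comm_dd (b : Bad T K L K' L' d d' S) : d' * d = d * d' :=
  mem_centralizer_iff.1 (JComponent.omegaCenterOf_le _ b.mem).2 d' (JComponent.omegaCenterOf_le _ b.mem').1

theorem symm (b : Bad T K L K' L' d d' S) : Bad T K' L' K L d' d S where
  hyp := b.hyp
  v := b.v'
  v' := b.v
  ne := b.ne.symm
  cen := b.cen
  mem := b.mem'
  mem' := b.mem
  d1 := b.d1'
  d1' := b.d1
  dd := b.dd.symm
  cases := fun x hx => by
    rw [b.comm_dd]
    rcases b.cases x hx with h | h | h | h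
    exacts [Or.inl h, Or.inr (Or.inr (Or.inl h)), Or.inr (Or.inl h), Or.inr (Or.inr (Or.inr h))]
  cK := b.cK'
  cK' := b.cK
  hTS := b.hTS
  hz := by rw [b.comm_dd]; exact b.hz
  fz := fun h => b.fz' (b.comm_dd ▸ h)
  fz' := fun h => b.fz (b.comm_dd ▸ h)
  ww := b.ww'
  ww' := b.ww
  orb := b.orb'
  orb' := b.orb

variable (b : Bad T K L K' L' d d' S)
include b

local notation "Z₀" => Cfsg.omegaCenterOf (Cfsg.thompsonSubgroupOf 2 T)

theorem z_sq {x : G} (hx : x ∈ Z₀) : x * x = 1 := JComponent.mul_self_of_mem_omegaCenterOf _ hx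

theorem j_cen {x : G} (hx : x ∈ Z₀) : Cfsg.thompsonSubgroupOf 2 T ≤ centralizer ({x} : Set G) := fun j hj =>
  mem_centralizer_singleton_iff.2 (mem_centralizer_iff.1 (JComponent.omegaCenterOf_le _ hx).2 j hj)

/-- `C(d) ≤ L`. -/
theorem c_le : centralizer ({d} : Set G) ≤ L :=
  b.v.uniq _ (isTwoLocal_centralizer (b.z_sq b.mem) b.d1) b.cK (b.j_cen b.mem)

theorem f_cases {f : G} (hfW : f ∈ Cfsg.wOf K) (hfZ : f ∈ Z₀) (hf1 : f ≠ 1) : f = d' ∨ f = d * d' := by
  rcases b.cases f hfZ with h | h | h | h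
  · exact absurd h hf1
  · subst h
    exact absurd (JAmbient.wfix b.v.comp f hfW fun k hk => mem_centralizer_singleton_iff.1 (b.cK hk)) hf1
  · exact Or.inl h
  · exact Or.inr h

/-- `d` is the only involution of `Z₀` centralized by `K`. -/
theorem only_d {x : G} (hx : x ∈ Z₀) (hK : K ≤ centralizer ({x} : Set G)) (hx1 : x ≠ 1) : x = d := by
  by_contra hne
  obtain ⟨f, hfW, hfZ, hf1, -⟩ := Vertex.exists_f b.v
  refine hf1 (JAmbient.wfix b.v.comp f hfW fun k hk => ?_)
  have hkd : Commute k d := mem_centralizer_singleton_iff.1 (b.cK hk)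
  have hkx : Commute k x := mem_centralizer_singleton_iff.1 (hK hk)
  have hkd' : Commute k d' := by
    rcases b.cases x hx with h | h | h | h
    · exact absurd h hx1
    · exact absurd h hne
    · exact h ▸ hkx
    · have : d' = d * x := by rw [h, ← mul_assoc, b.z_sq b.mem, one_mul]
      exact this ▸ hkd.mul_right hkx
  rcases b.f_cases hfW hfZ hf1 with h | h
  · exact h ▸ hkd'.eq
  · exact h ▸ (hkd.mul_right hkd').eq

/-- Centralizers of elements of `L` fixing `f`. -/
theorem single {K0 : Subgroup G} (hK0 : Cfsg.IsJComponent T K0) (hK0L : K0 ≤ L) : K0 = K := by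
  by_contra hne
  have hj := Vertex.jover b.hyp b.v
  have hT1 := Vertex.t_ne_bot b.v
  have h1 := JPlanes.centralizes_wOf b.hyp.char2 b.hyp.solv b.hyp.cz hT1 hj b.v.comp b.v.le hK0 hK0L (Ne.symm hne)
  have h2 := JPlanes.centralizes_wOf b.hyp.char2 b.hyp.solv b.hyp.cz hT1 hj hK0 hK0L b.v.comp b.v.le hne
  obtain ⟨f, hfW, hfZ, hf1, -⟩ := Vertex.exists_f b.v
  have hf : K0 ≤ centralizer ({f} : Set G) := fun k hk =>
    mem_centralizer_singleton_iff.2 (mem_centralizer_iff.1 (h1 hk) f hfW).symm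
  rcases b.f_cases hfW hfZ hf1 with rfl | rfl
  · have hK0L' : K0 ≤ L' := hf.trans b.symm.c_le
    have hW4 : Nat.card ↥(Cfsg.wOf K0) = 4 := hK0.2.2.2.2.1
    have hne' : K0 ≠ K' := by
      intro e
      rw [e] at hK0L
      exact not_common b.v b.v' b.ne b.v.max.1 b.v.le hK0L (Vertex.j_le b.v)
    have h3 := JPlanes.centralizes_wOf b.hyp.char2 b.hyp.solv b.hyp.cz hT1 (Vertex.jover b.hyp b.v') hK0 hK0L'
      b.v'.comp b.v'.le hne'
    refine not_common b.v b.v' b.ne ⟨_, IsPGroup.of_card (n := 2) (by rw [hW4]; norm_num),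
      fun e => by rw [e, card_bot] at hW4; omega, rfl⟩ (h2.trans (centralizer_le_normalizer _))
      (h3.trans (centralizer_le_normalizer _)) ?_
    refine le_trans ?_ (JAmbient.conjK_le_normalizer_wOf K0)
    have := Commutators.normalizer_commutator_right K0 (Cfsg.thompsonSubgroupOf 2 T)
    rwa [hK0.2.1] at this
  · refine comp_not_le b.v.syl.2.1 hK0 ?_
    rw [b.fz hfW]
    exact (hf.trans b.hz).trans (Fusion.Thompson.normalizer_le_normalizer_thompsonOf _)

theorem le_normalizer_k : L ≤ normalizer (K : Set G) := by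
  haveI : Fact (Nat.Prime 2) := ⟨Nat.prime_two⟩
  have hj := Vertex.jover b.hyp b.v
  have hT1 := Vertex.t_ne_bot b.v
  have hTn := Vertex.t_le_normalizer b.hyp b.v b.cen
  have hP : Cfsg.thompsonSubgroupOf 2 L ≤ normalizer (K : Set G) :=
    JPlanes.thompson_le_of b.hyp.char2 b.hyp.solv b.hyp.cz hT1 hj ((Fusion.Thompson.thompsonSubgroupOf_le T).trans hTn)
      (JPlanes.pCoreOf_le_normalizer b.hyp.char2 b.hyp.solv b.hyp.cz b.v.syl.2.1 hT1 hj b.v.comp b.v.le)
      fun K0 hK0 hK0L => (b.single hK0 hK0L) ▸ Subgroup.le_normalizer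
  set P := Cfsg.thompsonSubgroupOf 2 L with hPdef
  set J := Cfsg.thompsonSubgroupOf 2 T with hJ
  have hJP : J ≤ P := JComponent.thompson_le fun A hA => JComponent.maxIn_le
    ⟨hA.1.trans b.v.syl.1, hA.2.1, fun B hB hBe => JPlanes.card_le_of_sylow b.v.syl hA hB hBe⟩
  obtain ⟨T1, hT1s, hJT1⟩ := SylowIn.exists_isSylowIn (p := 2) P hJP
    (b.v.syl.2.1.to_le (Fusion.Thompson.thompsonSubgroupOf_le T))
  have hJeq : Cfsg.thompsonSubgroupOf 2 T1 = J :=
    Straddle.thompson_eq b.v.syl (hT1s.1.trans (Fusion.Thompson.thompsonSubgroupOf_le L)) hT1s.2.1 hJT1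
  intro g hg
  obtain ⟨l, hl, n, hn, rfl⟩ := SylowIn.frattini_argument hT1s
    (Subgroup.le_normalizer.trans (Fusion.Thompson.normalizer_le_normalizer_thompsonOf L))
    (Fusion.Thompson.thompsonSubgroupOf_le L) hg
  refine mul_mem (hP hl) (SylowIn.map_conj_eq_iff.1 (b.single ?_ ?_))
  · refine JPlanes.isJComponent_congr ?_ (JPlanes.isJComponent_conj b.v.comp n)
    rw [Fusion.Thompson.thompsonSubgroupOf_map_conj]
    have := Fusion.Thompson.normalizer_le_normalizer_thompsonOf (p := 2) T1 hn.2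
    rw [hJeq] at this
    exact (SylowIn.map_conj_eq_iff.2 this).symm
  · exact (map_mono b.v.le).trans (SylowIn.map_conj_eq_iff.2 (Subgroup.le_normalizer hn.1)).le

theorem normalizer_w : normalizer (Cfsg.wOf K : Set G) = L := by
  refine le_antisymm (b.v.uniq _ ?_ (Subgroup.le_normalizer.trans (JAmbient.conjK_le_normalizer_wOf K)) ?_)
    (b.le_normalizer_k.trans (JAmbient.conjK_le_normalizer_wOf K))
  · have hW4 : Nat.card ↥(Cfsg.wOf K) = 4 := b.v.comp.2.2.2.2.1
    exact ⟨_, IsPGroup.of_card (n := 2) (by rw [hW4]; norm_num), fun e => by rw [e, card_bot] at hW4; omega, rfl⟩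
  · exact (Fusion.Thompson.thompsonSubgroupOf_le T).trans (Vertex.t_le_normalizer_w b.hyp b.v b.cen)

/-- The kernel of `L` on `W_K` normalizes `T` and fixes `d` and `d'`. -/
theorem kernel {c : G} (hc : c ∈ L) (hcW : c ∈ centralizer (Cfsg.wOf K : Set G)) :
    c ∈ normalizer (T : Set G) ∧ c * d = d * c ∧ c * d' = d' * c := by
  classical
  haveI : Fact (Nat.Prime 2) := ⟨Nat.prime_two⟩
  obtain ⟨f, hfW, hfZ, hf1, -⟩ := Vertex.exists_f b.v
  have hNS : centralizer ({d * d'} : Set G) ⊓ L ≤ normalizer (T : Set G) := by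
    intro y hy
    have hTeq : (S : Subgroup G) ⊓ L = T := (Straddle.isSylowTwoIn_iff.1 b.v.syl).2.2 _ inf_le_right
      (S.isPGroup'.to_le inf_le_left) (le_inf b.hTS b.v.syl.1)
    rw [← hTeq]
    exact inf_normalizer_le_normalizer_inf ⟨b.hz hy.1, Subgroup.le_normalizer hy.2⟩
  -- `c` fixes `d`
  have hd : c * d = d * c := by
    rcases b.f_cases hfW hfZ hf1 with h | h
    · have hcd' : c * d' = d' * c := h ▸ (mem_centralizer_iff.1 hcW f hfW).symm
      obtain ⟨f', hfW', hfZ', hf1', -⟩ := Vertex.exists_f b.v'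
      have hcL' : c ∈ L' := b.symm.c_le (mem_centralizer_singleton_iff.2 hcd')
      rcases b.symm.f_cases hfW' hfZ' hf1' with h' | h'
      · -- `d = f'`: otherwise `L' ≤ L`
        by_contra hmove
        obtain ⟨e, heT, heW, heW'⟩ := exists_diff b.hyp b.v b.v' b.ne b.cen
        obtain ⟨w, hw, hw1, hwf⟩ := Vertex.exists_w b.v' hfW' hf1'
        have hW4 : Nat.card ↥(Cfsg.wOf K') = 4 := b.v'.comp.2.2.2.2.1
        have hsq : ∀ v ∈ Cfsg.wOf K', v * v = 1 := b.v'.comp.2.2.2.2.2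
        have hN : ∀ y ∈ L', y ∈ normalizer (Cfsg.wOf K' : Set G) := fun y hy =>
          (b.symm.normalizer_w).symm ▸ hy
        have hew : e * w * e⁻¹ = w * f' := by
          rcases four_perm hW4 hsq hfW' hf1' hw hwf hw1 (Vertex.t_le_normalizer_w b.hyp b.v' b.cen heT)
            (Vertex.t_fix b.hyp b.v' b.cen hfZ' heT) with e' | e'
          · exact absurd (centralizes_four hW4 hsq hfW' hf1' hw hwf hw1 (Vertex.t_fix b.hyp b.v' b.cen hfZ' heT)
              (mul_inv_eq_iff_eq_mul.1 e')) heW'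
          · exact e'
        have hef : e * f' * e⁻¹ = f' := by rw [Vertex.t_fix b.hyp b.v' b.cen hfZ' heT, mul_inv_cancel_right]
        set C := L ⊓ centralizer (Cfsg.wOf K : Set G) with hC
        have heC : e ∈ C := ⟨b.v.syl.1 heT, heW⟩
        have hcC : c ∈ C := ⟨hc, hcW⟩
        have horb : ∀ x ∈ Cfsg.wOf K', x ≠ 1 → ∃ y ∈ C, y * f' * y⁻¹ = x := by
          have hwf' : e * (w * f') * e⁻¹ = w := by
            rw [show e * (w * f') * e⁻¹ = (e * w * e⁻¹) * (e * f' * e⁻¹) by group, hew, hef, mul_assoc,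
              hsq f' hfW', mul_one]
          have hcf := (mem_normalizer_iff.1 (hN c hcL') f').1 hfW'
          have hne : c * f' * c⁻¹ ≠ f' := fun e' => hmove (h' ▸ mul_inv_eq_iff_eq_mul.1 e')
          have hne1 : c * f' * c⁻¹ ≠ 1 := fun e' => hf1' (conj_eq_one_iff.1 e')
          intro x hx hx1
          rcases JComponent.four_cases hW4 hfW' hf1' hw hwf hw1 (hsq f' hfW') hx with ex | ex | ex | ex
          · exact absurd ex hx1
          · exact ⟨1, one_mem _, by rw [ex]; group⟩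
          all_goals
            rcases JComponent.four_cases hW4 hfW' hf1' hw hwf hw1 (hsq f' hfW') hcf with ec | ec | ec | ec
          · exact absurd ec hne1
          · exact absurd ec hne
          · exact ⟨c, hcC, by rw [ex, ec]⟩
          · exact ⟨e * c, mul_mem heC hcC, by
              rw [show e * c * f' * (e * c)⁻¹ = e * (c * f' * c⁻¹) * e⁻¹ by group, ec, ex, hwf']⟩
          · exact absurd ec hne1
          · exact absurd ec hne
          · exact ⟨e * c, mul_mem heC hcC, by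
              rw [show e * c * f' * (e * c)⁻¹ = e * (c * f' * c⁻¹) * e⁻¹ by group, ec, ex, hew]⟩
          · exact ⟨c, hcC, by rw [ex, ec]⟩
        refine b.ne (b.v'.max.2 L b.v.max.1 fun l hl => ?_)
        obtain ⟨y, hyC, hy⟩ := horb _ ((mem_normalizer_iff.1 (hN l hl) f').1 hfW') (fun e' => hf1' (conj_eq_one_iff.1 e'))
        have hfix : (y⁻¹ * l) * f' = f' * (y⁻¹ * l) := by
          calc (y⁻¹ * l) * f' = y⁻¹ * (l * f' * l⁻¹) * l := by group
            _ = y⁻¹ * (y * f' * y⁻¹) * l := by rw [hy]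
            _ = _ := by group
        have hyl : y⁻¹ * l ∈ L := by
          refine b.c_le (mem_centralizer_singleton_iff.2 ?_)
          rw [← h']; exact hfix
        have := mul_mem hyC.1 hyl
        rwa [mul_inv_cancel_left] at this
      · have hTS' := b.symm.fz (h' ▸ hfW')
        have hn := inf_normalizer_le_normalizer_inf (H := (S : Subgroup G)) (K := L)
        -- here `T = S` is a Sylow subgroup and `c` permutes `Z₀`
        have hcn : c ∈ normalizer (Cfsg.wOf K' : Set G) := (b.symm.normalizer_w).symm ▸ hcL'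
        have hKc : c ∈ normalizer (K' : Set G) := b.symm.le_normalizer_k hcL'
        obtain ⟨e, heT, heW, heW'⟩ := exists_diff b.hyp b.v b.v' b.ne b.cen
        have hcd := b.le_normalizer_k hc
        have hcT1 : ∀ y : G, y ∈ T → c * y * c⁻¹ ∈ L := fun y hy => mul_mem (mul_mem hc (b.v.syl.1 hy)) (inv_mem hc)
        -- `c d c⁻¹` is centralized by `K`
        by_contra hmove
        obtain ⟨w, hw, hw1, hwf⟩ := Vertex.exists_w b.v' hfW' hf1'
        have hW4 : Nat.card ↥(Cfsg.wOf K') = 4 := b.v'.comp.2.2.2.2.1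
        have hsq : ∀ v ∈ Cfsg.wOf K', v * v = 1 := b.v'.comp.2.2.2.2.2
        by_cases hcf : c * f' = f' * c
        · refine hmove ?_
          have : d = d' * f' := by rw [h', ← mul_assoc, b.z_sq b.mem', one_mul]
          rw [this]
          exact ((show Commute c d' from hcd').mul_right (show Commute c f' from hcf)).eq
        · have hew : e * w * e⁻¹ = w * f' := by
            rcases four_perm hW4 hsq hfW' hf1' hw hwf hw1 (Vertex.t_le_normalizer_w b.hyp b.v' b.cen heT)
              (Vertex.t_fix b.hyp b.v' b.cen hfZ' heT) with e' | e'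
            · exact absurd (centralizes_four hW4 hsq hfW' hf1' hw hwf hw1 (Vertex.t_fix b.hyp b.v' b.cen hfZ' heT)
                (mul_inv_eq_iff_eq_mul.1 e')) heW'
            · exact e'
          have hef : e * f' * e⁻¹ = f' := by rw [Vertex.t_fix b.hyp b.v' b.cen hfZ' heT, mul_inv_cancel_right]
          set C := L ⊓ centralizer (Cfsg.wOf K : Set G) with hC
          have heC : e ∈ C := ⟨b.v.syl.1 heT, heW⟩
          have hcC : c ∈ C := ⟨hc, hcW⟩
          have hwf' : e * (w * f') * e⁻¹ = w := by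
            rw [show e * (w * f') * e⁻¹ = (e * w * e⁻¹) * (e * f' * e⁻¹) by group, hew, hef, mul_assoc,
              hsq f' hfW', mul_one]
          have hcfm := (mem_normalizer_iff.1 hcn f').1 hfW'
          have horb : ∀ x ∈ Cfsg.wOf K', x ≠ 1 → ∃ y ∈ C, y * f' * y⁻¹ = x := by
            intro x hx hx1
            have hne : c * f' * c⁻¹ ≠ f' := fun e' => hcf (mul_inv_eq_iff_eq_mul.1 e')
            have hne1 : c * f' * c⁻¹ ≠ 1 := fun e' => hf1' (conj_eq_one_iff.1 e')
            rcases JComponent.four_cases hW4 hfW' hf1' hw hwf hw1 (hsq f' hfW') hx with ex | ex | ex | ex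
            · exact absurd ex hx1
            · exact ⟨1, one_mem _, by rw [ex]; group⟩
            all_goals
              rcases JComponent.four_cases hW4 hfW' hf1' hw hwf hw1 (hsq f' hfW') hcfm with ec | ec | ec | ec
            · exact absurd ec hne1
            · exact absurd ec hne
            · exact ⟨c, hcC, by rw [ex, ec]⟩
            · exact ⟨e * c, mul_mem heC hcC, by
                rw [show e * c * f' * (e * c)⁻¹ = e * (c * f' * c⁻¹) * e⁻¹ by group, ec, ex, hwf']⟩
            · exact absurd ec hne1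
            · exact absurd ec hne
            · exact ⟨e * c, mul_mem heC hcC, by
                rw [show e * c * f' * (e * c)⁻¹ = e * (c * f' * c⁻¹) * e⁻¹ by group, ec, ex, hew]⟩
            · exact ⟨c, hcC, by rw [ex, ec]⟩
          refine b.ne (b.v'.max.2 L b.v.max.1 fun l hl => ?_)
          have hlN : l ∈ normalizer (Cfsg.wOf K' : Set G) := (b.symm.normalizer_w).symm ▸ hl
          obtain ⟨y, hyC, hy⟩ := horb _ ((mem_normalizer_iff.1 hlN f').1 hfW') (fun e' => hf1' (conj_eq_one_iff.1 e'))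
          have hyL' : y ∈ L' := b.symm.c_le (mem_centralizer_singleton_iff.2 (h ▸ (mem_centralizer_iff.1 hyC.2 f hfW).symm))
          have hfix : (y⁻¹ * l) * f' = f' * (y⁻¹ * l) := by
            calc (y⁻¹ * l) * f' = y⁻¹ * (l * f' * l⁻¹) * l := by group
              _ = y⁻¹ * (y * f' * y⁻¹) * l := by rw [hy]
              _ = _ := by group
          -- `y⁻¹ l` normalizes `T`
          set p := y⁻¹ * l with hp
          have hpL' : p ∈ L' := mul_mem (inv_mem hyL') hl
          have hpT : p ∈ normalizer (T : Set G) := by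
            rw [hTS']
            refine b.hz (mem_centralizer_singleton_iff.2 ?_)
            rw [← b.comm_dd, ← h']; exact hfix
          have hpZ : p ∈ normalizer (Cfsg.omegaCenterOf (Cfsg.thompsonSubgroupOf 2 T) : Set G) :=
            JComponent.normalizer_le_omegaCenterOf _ (Fusion.Thompson.normalizer_le_normalizer_thompsonOf T hpT)
          have hpd : p * d * p⁻¹ = d := by
            -- `K'` centralizes `p d' p⁻¹`, so `p` fixes `d'`
            have hd'm := (mem_normalizer_iff.1 hpZ d').1 b.mem'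
            have hcK'p : K' ≤ centralizer ({p * d' * p⁻¹} : Set G) := by
              intro x hx
              have hx' := mem_centralizer_singleton_iff.1
                (b.cK' ((mem_normalizer_iff''.1 (b.symm.le_normalizer_k hpL') x).1 hx))
              refine mem_centralizer_singleton_iff.2 ?_
              calc x * (p * d' * p⁻¹) = p * ((p⁻¹ * x * p) * d') * p⁻¹ := by group
                _ = p * (d' * (p⁻¹ * x * p)) * p⁻¹ := by rw [hx']
                _ = p * d' * p⁻¹ * x := by group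
            have hpd' := b.symm.only_d hd'm hcK'p (fun e' => b.d1' (conj_eq_one_iff.1 e'))
            have : d = d' * f' := by rw [h', ← mul_assoc, b.z_sq b.mem', one_mul]
            rw [this, show p * (d' * f') * p⁻¹ = (p * d' * p⁻¹) * (p * f' * p⁻¹) by group, hpd', hfix,
              mul_inv_cancel_right]
          have := mul_mem hyC.1 (b.c_le (mem_centralizer_singleton_iff.2 (mul_inv_eq_iff_eq_mul.1 hpd)))
          rwa [hp, mul_inv_cancel_left] at this
    · have hcz : c * (d * d') = d * d' * c := h ▸ (mem_centralizer_iff.1 hcW f hfW).symm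
      have hcT : c ∈ normalizer (T : Set G) := hNS ⟨mem_centralizer_singleton_iff.2 hcz, hc⟩
      have hcZ : c ∈ normalizer (Cfsg.omegaCenterOf (Cfsg.thompsonSubgroupOf 2 T) : Set G) :=
        JComponent.normalizer_le_omegaCenterOf _ (Fusion.Thompson.normalizer_le_normalizer_thompsonOf T hcT)
      have hm := (mem_normalizer_iff.1 hcZ d).1 b.mem
      refine mul_inv_eq_iff_eq_mul.1 (b.only_d hm ?_ (fun e => b.d1 (conj_eq_one_iff.1 e)))
      intro x hx
      have hx' := mem_centralizer_singleton_iff.1 (b.cK ((mem_normalizer_iff''.1 (b.le_normalizer_k hc) x).1 hx))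
      refine mem_centralizer_singleton_iff.2 ?_
      calc x * (c * d * c⁻¹) = c * ((c⁻¹ * x * c) * d) * c⁻¹ := by group
        _ = c * (d * (c⁻¹ * x * c)) * c⁻¹ := by rw [hx']
        _ = c * d * c⁻¹ * x := by group
  have hd' : c * d' = d' * c := by
    rcases b.f_cases hfW hfZ hf1 with h | h
    · exact h ▸ (mem_centralizer_iff.1 hcW f hfW).symm
    · have hcz : Commute c (d * d') := h ▸ (mem_centralizer_iff.1 hcW f hfW).symm
      have : d' = d * (d * d') := by rw [← mul_assoc, b.z_sq b.mem, one_mul]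
      rw [this]
      exact ((show Commute c d from hd).mul_right hcz).eq
  exact ⟨hNS ⟨mem_centralizer_singleton_iff.2 ((show Commute c d from hd).mul_right hd').eq, hc⟩, hd, hd'⟩

/-- Every element of `L` is a product from `K`, `T` and the kernel. -/
theorem decompose {l : G} (hl : l ∈ L) :
    ∃ g ∈ K, ∃ t ∈ T, ∃ c ∈ L ⊓ centralizer (Cfsg.wOf K : Set G), l = g * t * c := by
  obtain ⟨f, hfW, hfZ, hf1, -⟩ := Vertex.exists_f b.v
  obtain ⟨w, hw, hw1, hwf⟩ := Vertex.exists_w b.v hfW hf1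
  obtain ⟨k, hk, hk3, hkn, hkfix⟩ := Vertex.exists_k b.hyp b.v
  have hW4 : Nat.card ↥(Cfsg.wOf K) = 4 := b.v.comp.2.2.2.2.1
  have hsq : ∀ v ∈ Cfsg.wOf K, v * v = 1 := b.v.comp.2.2.2.2.2
  have hlN : l ∈ normalizer (Cfsg.wOf K : Set G) := b.normalizer_w.symm ▸ hl
  obtain ⟨g, hg, hgf⟩ : ∃ g ∈ K, g * f * g⁻¹ = l * f * l⁻¹ := by
    have hm : ∀ x ∈ Cfsg.wOf K, k * x * k⁻¹ ∈ Cfsg.wOf K := fun x hx => (mem_normalizer_iff.1 hkn x).1 hx
    have h1 := hm f hfW
    have h2 := hm _ h1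
    have hn1 : k * f * k⁻¹ ≠ f := fun e => hf1 (hkfix f hfW e)
    have hn2 : k * (k * f * k⁻¹) * k⁻¹ ≠ k * f * k⁻¹ := fun e => hf1 (conj_eq_one_iff.1 (hkfix _ h1 e))
    have hn3 : k * (k * f * k⁻¹) * k⁻¹ ≠ f := fun e => hn1 (by
      calc k * f * k⁻¹ = k * (k * (k * f * k⁻¹) * k⁻¹) * k⁻¹ := by rw [e]
        _ = k ^ 3 * f * (k ^ 3)⁻¹ := by rw [pow_succ, pow_two]; group
        _ = f := by rw [hk3, one_mul, inv_one, mul_one])
    have hn4 : k * f * k⁻¹ ≠ 1 := fun e => hf1 (conj_eq_one_iff.1 e)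
    have hn5 : k * (k * f * k⁻¹) * k⁻¹ ≠ 1 := fun e => hn4 (conj_eq_one_iff.1 e)
    rcases JComponent.four_cases hW4 hfW hf1 h1 hn1 hn4 (hsq f hfW) ((mem_normalizer_iff.1 hlN f).1 hfW) with e | e | e | e
    · exact absurd (conj_eq_one_iff.1 e) hf1
    · exact ⟨1, one_mem _, by rw [e]; group⟩
    · exact ⟨k, hk, e.symm⟩
    · refine ⟨k * k, mul_mem hk hk, ?_⟩
      rw [e, show k * k * f * (k * k)⁻¹ = k * (k * f * k⁻¹) * k⁻¹ by group]
      rcases JComponent.four_cases hW4 hfW hf1 h1 hn1 hn4 (hsq f hfW) h2 with e' | e' | e' | e'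
      · exact absurd e' hn5
      · exact absurd e' hn3
      · exact absurd e' hn2
      · exact e'
  set m := g⁻¹ * l with hm
  have hmN : m ∈ normalizer (Cfsg.wOf K : Set G) :=
    mul_mem (inv_mem (JAmbient.conjK_le_normalizer_wOf K (Subgroup.le_normalizer hg))) hlN
  have hmL : m ∈ L := mul_mem (inv_mem (b.v.le hg)) hl
  have hmf : m * f = f * m := by
    calc m * f = g⁻¹ * (l * f * l⁻¹) * l := by rw [hm]; group
      _ = g⁻¹ * (g * f * g⁻¹) * l := by rw [hgf]
      _ = f * m := by rw [hm]; group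
  rcases four_perm hW4 hsq hfW hf1 hw hwf hw1 hmN hmf with e | e
  · exact ⟨g, hg, 1, one_mem _, m, ⟨hmL, centralizes_four hW4 hsq hfW hf1 hw hwf hw1 hmf (mul_inv_eq_iff_eq_mul.1 e)⟩,
      by rw [hm]; group⟩
  · obtain ⟨j, hj, hjc⟩ := Vertex.exists_moving b.v
    have hjT := Fusion.Thompson.thompsonSubgroupOf_le T hj
    have hjf := Vertex.t_fix b.hyp b.v b.cen hfZ hjT
    have hjw : j * w * j⁻¹ = w * f := by
      rcases four_perm hW4 hsq hfW hf1 hw hwf hw1 (Vertex.t_le_normalizer_w b.hyp b.v b.cen hjT) hjf with e' | e'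
      · exact absurd (centralizes_four hW4 hsq hfW hf1 hw hwf hw1 hjf (mul_inv_eq_iff_eq_mul.1 e')) hjc
      · exact e'
    refine ⟨g, hg, j, hjT, j⁻¹ * m, ⟨(show j⁻¹ * m ∈ L from mul_mem (inv_mem (b.v.syl.1 hjT : j ∈ L)) hmL),
      centralizes_four hW4 hsq hfW hf1 hw hwf hw1 ?_ (mul_inv_eq_iff_eq_mul.1 ?_)⟩, by rw [hm]; group⟩
    · exact ((show Commute j f from hjf).inv_left.mul_left (show Commute m f from hmf)).eq
    · calc j⁻¹ * m * w * (j⁻¹ * m)⁻¹ = j⁻¹ * (m * w * m⁻¹) * j := by group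
        _ = j⁻¹ * (j * w * j⁻¹) * j := by rw [e, hjw]
        _ = w := by group

/-- `L` normalizes `T ∩ C(W_K)`, which is `O₂(L)`. -/
theorem core_eq : Cfsg.pCoreOf 2 L = T ⊓ centralizer (Cfsg.wOf K : Set G) := by
  haveI : Fact (Nat.Prime 2) := ⟨Nat.prime_two⟩
  set Q := T ⊓ centralizer (Cfsg.wOf K : Set G) with hQ
  have hPn := (Vertex.q_facts b.hyp b.v b.cen).1
  refine le_antisymm ?_ (SylowIn.le_pCoreOf (inf_le_left.trans b.v.syl.1) ?_ ((b.v.syl.2.1).to_le inf_le_left))
  · have h1 : Cfsg.pCoreOf 2 L ≤ T := SylowIn.pCoreOf_le_sylowIn (Straddle.isSylowTwoIn_iff.1 b.v.syl)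
    have h2 := SylowIn.le_pCoreOf (h1.trans le_sup_right : Cfsg.pCoreOf 2 L ≤ K ⊔ T)
      ((Vertex.sup_le_overgroup b.v).trans (SylowIn.normalizer_pCoreOf L)) ((b.v.syl.2.1).to_le h1)
    rwa [(Vertex.q_facts b.hyp b.v b.cen).2.1] at h2
  · intro l hl
    obtain ⟨g, hg, t, ht, c, hc, rfl⟩ := b.decompose hl
    refine mul_mem (mul_mem (hPn (mem_sup_left hg)) (hPn (mem_sup_right ht))) ?_
    exact inf_normalizer_le_normalizer_inf ⟨(b.kernel hc.1 hc.2).1, Subgroup.le_normalizer hc.2⟩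

/-- The planes of the neighbours of `K` commute. -/
theorem neighbours_commute {l l' : G} (hl : l ∈ L) (hl' : l' ∈ L) :
    cj l (Cfsg.wOf K') ≤ centralizer (cj l' (Cfsg.wOf K') : Set G) := by
  set W' := Cfsg.wOf K' with hW'
  have hred : ∀ l ∈ L, ∃ g ∈ K, cj l W' = cj g W' := by
    intro l hl
    obtain ⟨g, hg, t, ht, c, hc, rfl⟩ := b.decompose hl
    refine ⟨g, hg, ?_⟩
    have hcW : cj c W' = W' := SylowIn.map_conj_eq_iff.2 (b.symm.normalizer_w.symm ▸
      b.symm.c_le (mem_centralizer_singleton_iff.2 (b.kernel hc.1 hc.2).2.2))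
    rw [← cj_cj, hcW, ← cj_cj, show cj t W' = W' from
      SylowIn.map_conj_eq_iff.2 (Vertex.t_le_normalizer_w b.hyp b.v' b.cen ht)]
  obtain ⟨g, hg, e⟩ := hred l hl
  obtain ⟨g', hg', e'⟩ := hred l' hl'
  rw [e, e']
  have h := cj_centralizes g' (b.orb (g'⁻¹ * g) (mul_mem (inv_mem hg') hg))
  rwa [cj_cj, mul_inv_cancel_left] at h

/-- An element of `N(T)` carrying `K'` to `K` carries `K` to `K'`. -/
theorem swap {s : G} (hsT : cj s T = T) (hsK : cj s K' = K) : cj s K = K' := by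
  have hsJ : cj s (Cfsg.thompsonSubgroupOf 2 T) = Cfsg.thompsonSubgroupOf 2 T := by
    rw [cj, ← Fusion.Thompson.thompsonSubgroupOf_map_conj]; exact congrArg _ hsT
  have hZ : ∀ {x : G}, x ∈ Z₀ → s * x * s⁻¹ ∈ Z₀ := fun {x} hx =>
    (mem_normalizer_iff.1 (JComponent.normalizer_le_omegaCenterOf _ (SylowIn.map_conj_eq_iff.1 hsJ)) x).1 hx
  have hconj : ∀ {X : Subgroup G} {x : G}, X ≤ centralizer ({x} : Set G) →
      cj s X ≤ centralizer ({s * x * s⁻¹} : Set G) := by
    rintro X x hX _ ⟨y, hy, rfl⟩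
    refine mem_centralizer_singleton_iff.2 ?_
    show s * y * s⁻¹ * (s * x * s⁻¹) = s * x * s⁻¹ * (s * y * s⁻¹)
    calc s * y * s⁻¹ * (s * x * s⁻¹) = s * (y * x) * s⁻¹ := by group
      _ = s * (x * y) * s⁻¹ := by rw [mem_centralizer_singleton_iff.1 (hX hy)]
      _ = _ := by group
  have hne : ∀ {x : G}, x ≠ 1 → s * x * s⁻¹ ≠ 1 := fun h e => h (conj_eq_one_iff.1 e)
  have hd' : s * d' * s⁻¹ = d := b.only_d (hZ b.mem') (hsK ▸ hconj b.cK') (hne b.d1')
  have hd : s * d * s⁻¹ = d' := by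
    rcases b.cases _ (hZ b.mem) with e | e | e | e
    · exact absurd e (hne b.d1)
    · exact absurd (mul_left_cancel (mul_right_cancel (e.trans hd'.symm))) b.dd
    · exact e
    · exact absurd e (not_conj b.v b.cK (b.j_cen b.mem) S b.hz)
  have hle : cj s K ≤ L' := (hconj b.cK).trans (hd ▸ b.symm.c_le)
  refine b.symm.single (JPlanes.isJComponent_congr ?_ (JPlanes.isJComponent_conj b.v.comp s)) hle
  exact congrArg _ hsT.symm

/-- The neighbours of `K`. -/
theorem neighbour {g : G} {x : Subgroup G}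
    (h : (cj g K = K ∧ x = cj g K') ∨ (cj g K' = K ∧ x = cj g K)) : ∃ l ∈ L, x = cj l K' := by
  haveI : Fact (Nat.Prime 2) := ⟨Nat.prime_two⟩
  rcases h with ⟨e, rfl⟩ | ⟨e, rfl⟩
  · refine ⟨g, ?_, rfl⟩
    rw [← b.normalizer_w]
    exact JAmbient.conjK_le_normalizer_wOf K (SylowIn.map_conj_eq_iff.1 e)
  · have hL : cj g L' = L := by
      rw [← b.symm.normalizer_w, ← b.normalizer_w, cj, ← SylowIn.normalizer_map_conj]
      show normalizer (cj g (Cfsg.wOf K') : Set G) = _
      rw [← wOf_cj, e]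
    have hT1 := (Straddle.isSylowTwoIn_iff.1 b.v'.syl).map_conj g
    rw [show L'.map (MulAut.conj g).toMonoidHom = L from hL] at hT1
    obtain ⟨l, hl, he⟩ := (Straddle.isSylowTwoIn_iff.1 b.v.syl).conjugate hT1
    refine ⟨l, hl, ?_⟩
    have hsT : cj (l⁻¹ * g) T = T := by
      rw [← cj_cj, show cj g T = cj l T from he, cj_cj, inv_mul_cancel, cj_one]
    have hsK : cj (l⁻¹ * g) K' = K := by
      rw [← cj_cj, e]
      exact SylowIn.map_conj_eq_iff.2 (b.le_normalizer_k (inv_mem hl))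
    rw [← b.swap hsT hsK, cj_cj, mul_inv_cancel_left]

end Bad

/-- Adjacent vertices. -/
def Adj (K K' x y : Subgroup G) : Prop :=
  ∃ g : G, (x = cj g K ∧ y = cj g K') ∨ (x = cj g K' ∧ y = cj g K)

/-- `O₂` of the overgroup of a conjugate vertex. -/
def qv (x : Subgroup G) : Subgroup G := Cfsg.pCoreOf 2 (normalizer (Cfsg.wOf x : Set G))

theorem qv_cj (x : Subgroup G) (g : G) : qv (cj g x) = cj g (qv x) := by
  haveI : Fact (Nat.Prime 2) := ⟨Nat.prime_two⟩
  rw [qv, qv, wOf_cj, cj, SylowIn.normalizer_map_conj, ← SylowIn.pCoreOf_map_conj]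

variable {T K L K' L' : Subgroup G} {d d' : G} {S : Sylow 2 G}

theorem qv_eq (b : Bad T K L K' L' d d' S) : qv K = T ⊓ centralizer (Cfsg.wOf K : Set G) := by
  rw [qv, b.normalizer_w, b.core_eq]

/-- Facts about an edge, seen from the side of `x`. -/
theorem edge (b : Bad T K L K' L' d d' S) {x y : Subgroup G} (h : Adj K K' x y) :
    ∃ (A A' M M' : Subgroup G) (e e' g : G), Bad T A M A' M' e e' S ∧
      (A = K ∧ A' = K' ∨ A = K' ∧ A' = K) ∧ x = cj g A ∧ y = cj g A' := by
  obtain ⟨g, ⟨rfl, rfl⟩ | ⟨rfl, rfl⟩⟩ := h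
  · exact ⟨K, K', L, L', d, d', g, b, Or.inl ⟨rfl, rfl⟩, rfl, rfl⟩
  · exact ⟨K', K, L', L, d', d, g, b.symm, Or.inr ⟨rfl, rfl⟩, rfl, rfl⟩

/-- Walks. -/
def Walk (K K' : Subgroup G) (n : ℕ) (p : ℕ → Subgroup G) : Prop :=
  ∀ i < n, Adj K K' (p i) (p (i + 1))

theorem commute_two (b : Bad T K L K' L' d d' S) {x γ y : Subgroup G} (h1 : Adj K K' x γ) (h2 : Adj K K' γ y) :
    Cfsg.wOf x ≤ centralizer (Cfsg.wOf y : Set G) := by
  obtain ⟨A, A', M, M', e, e', g, bA, hA, rfl, hγ⟩ := edge b h2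
  obtain ⟨g1, hg1⟩ := h1
  have hA1 : (cj g⁻¹ x = cj (g⁻¹ * g1) A' ∧ cj (g⁻¹ * g1) A = A) ∨ (cj g⁻¹ x = cj (g⁻¹ * g1) A ∧ cj (g⁻¹ * g1) A' = A) := by
    have hfix : ∀ X : Subgroup G, cj g A = cj g1 X → cj (g⁻¹ * g1) X = A := fun X e => by
      rw [← cj_cj, ← e, cj_cj, inv_mul_cancel, cj_one]
    rcases hA with ⟨rfl, rfl⟩ | ⟨rfl, rfl⟩ <;> rcases hg1 with ⟨e1, e2⟩ | ⟨e1, e2⟩
    · exact Or.inr ⟨by rw [e1, cj_cj], hfix _ e2⟩
    · exact Or.inl ⟨by rw [e1, cj_cj], hfix _ e2⟩
    · exact Or.inl ⟨by rw [e1, cj_cj], hfix _ e2⟩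
    · exact Or.inr ⟨by rw [e1, cj_cj], hfix _ e2⟩
  obtain ⟨l, hl, hx⟩ := bA.neighbour (g := g⁻¹ * g1) (x := cj g⁻¹ x) (by
    rcases hA1 with ⟨p, q⟩ | ⟨p, q⟩
    exacts [Or.inl ⟨q, p⟩, Or.inr ⟨q, p⟩])
  have h := bA.neighbours_commute hl (one_mem M)
  rw [cj_one] at h
  have hx' : x = cj g (cj l A') := by rw [← hx, cj_cj, mul_inv_cancel, cj_one]
  rw [hx', hγ, wOf_cj, wOf_cj, wOf_cj]
  exact cj_centralizes g h

theorem walk_le (b : Bad T K L K' L' d d' S) : ∀ (n : ℕ) (p : ℕ → Subgroup G), Walk K K' (n + 1) p →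
    Cfsg.wOf (p 0) ≤ qv (p (n + 1)) := by
  haveI : Fact (Nat.Prime 2) := ⟨Nat.prime_two⟩
  intro n
  induction n using Nat.strong_induction_on with
  | _ n ih =>
    intro p hp
    rcases n with _ | m
    · obtain ⟨A, A', M, M', e, e', g, bA, -, hx, hy⟩ := edge b (hp 0 (by omega))
      rw [hx, hy, wOf_cj, qv_cj, qv_eq bA.symm]
      exact map_mono (le_inf ((w_le_q bA.hyp bA.v bA.cen).trans inf_le_left) bA.ww)
    obtain ⟨A, A', M, M', e, e', g, bA, hA, hu, hy⟩ := edge b (hp (m + 1) (by omega))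
    have hxu : Cfsg.wOf (p 0) ≤ qv (p (m + 1)) := ih m (by omega) p (fun i hi => hp i (by omega))
    rw [hu, qv_cj, qv_eq bA] at hxu
    -- `W_x` lies in the last edge
    suffices hc : Cfsg.wOf (p 0) ≤ centralizer (Cfsg.wOf (p (m + 2)) : Set G) by
      rw [hy, qv_cj, qv_eq bA.symm]
      rw [hy, wOf_cj] at hc
      intro z hz
      obtain ⟨z0, hz0, rfl⟩ := hxu hz
      refine mem_map_of_mem _ ⟨hz0.1, ?_⟩
      have := hc hz
      rw [cj, SylowIn.centralizer_map_conj] at this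
      exact (mem_map_iff_mem (MulAut.conj g).injective).1 this
    by_cases hm : m = 0
    · subst hm
      exact commute_two b (hp 0 (by omega)) (hp 1 (by omega))
    obtain ⟨B, B', N, N', δ, δ', h, bB, hB, hx, hx1⟩ := edge b (hp 0 (by omega))
    have hyx : Cfsg.wOf (p (m + 2)) ≤ qv (p 1) := by
      have hwalk : Walk K K' (m + 1) fun i => p (m + 2 - i) := by
        intro i hi
        obtain ⟨r, hr⟩ := hp (m + 1 - i) (by omega)
        rw [show m + 1 - i + 1 = m + 2 - i by omega] at hr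
        show Adj K K' (p (m + 2 - i)) (p (m + 2 - (i + 1)))
        rw [show m + 2 - (i + 1) = m + 1 - i by omega]
        rcases hr with ⟨r1, r2⟩ | ⟨r1, r2⟩
        exacts [⟨r, Or.inr ⟨r2, r1⟩⟩, ⟨r, Or.inl ⟨r2, r1⟩⟩]
      have := ih m (by omega) _ hwalk
      simp only [Nat.sub_zero] at this
      rwa [show m + 2 - (m + 1) = 1 by omega] at this
    rw [hx1, qv_cj, qv_eq bB.symm] at hyx
    rw [hy] at hyx ⊢
    rw [hx] at hxu ⊢
    rw [wOf_cj] at hyx hxu ⊢
    rw [wOf_cj]
    -- a nontrivial commutator is the distinguished involution of both ends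
    intro u hu'
    by_contra huc
    obtain ⟨fx, hfxW, hfxZ, hfx1, -⟩ := Vertex.exists_f bB.v
    obtain ⟨fy, hfyW, hfyZ, hfy1, -⟩ := Vertex.exists_f bA.v'
    obtain ⟨u0, hu0, rfl⟩ := hu'
    obtain ⟨v0, hv0, hne⟩ : ∃ v0 ∈ Cfsg.wOf A', (h * u0 * h⁻¹) * (g * v0 * g⁻¹) ≠ (g * v0 * g⁻¹) * (h * u0 * h⁻¹) := by
      by_contra hcon
      push Not at hcon
      refine huc (mem_centralizer_iff.2 ?_)
      rintro _ ⟨v0, hv0, rfl⟩
      exact (hcon v0 hv0).symm
    have hperm : ∀ {g : G} {A : Subgroup G} {V : Subgroup G} (hv : Vertex T A V) {f : G} (hfW : f ∈ Cfsg.wOf A)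
        (hfZ : f ∈ Cfsg.omegaCenterOf (Cfsg.thompsonSubgroupOf 2 T)) (hf1 : f ≠ 1) {w : G} (hw : w ∈ Cfsg.wOf A)
        {t : G} (ht : t ∈ cj g T),
        t * (g * w * g⁻¹) * t⁻¹ = g * w * g⁻¹ ∨ t * (g * w * g⁻¹) * t⁻¹ = g * w * g⁻¹ * (g * f * g⁻¹) := by
      intro g A V hv f hfW hfZ hf1 w hw t ht
      obtain ⟨t0, ht0, rfl⟩ := ht
      show (g * t0 * g⁻¹) * (g * w * g⁻¹) * (g * t0 * g⁻¹)⁻¹ = g * w * g⁻¹ ∨
        (g * t0 * g⁻¹) * (g * w * g⁻¹) * (g * t0 * g⁻¹)⁻¹ = g * w * g⁻¹ * (g * f * g⁻¹)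
      rw [show (g * t0 * g⁻¹) * (g * w * g⁻¹) * (g * t0 * g⁻¹)⁻¹ = g * (t0 * w * t0⁻¹) * g⁻¹ by group]
      have hft := Vertex.t_fix b.hyp hv b.cen hfZ ht0
      by_cases hw1 : w = 1
      · subst hw1; left; simp
      by_cases hwf : w = f
      · subst hwf; left; rw [hft, mul_inv_cancel_right]
      rcases four_perm hv.comp.2.2.2.2.1 hv.comp.2.2.2.2.2 hfW hf1 hw hwf hw1
        (Vertex.t_le_normalizer_w b.hyp hv b.cen ht0) hft with e | e
      · exact Or.inl (by rw [e])
      · exact Or.inr (by rw [e]; group)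
    set U := h * u0 * h⁻¹ with hU
    set V := g * v0 * g⁻¹ with hV
    set r := h * fx * h⁻¹ with hr
    have hUT : U ∈ cj g T := by
      obtain ⟨z, hz, hze⟩ := hxu (mem_map_of_mem _ hu0)
      exact ⟨z, hz.1, hze⟩
    have hVT : V ∈ cj h T := by
      obtain ⟨z, hz, hze⟩ := hyx (mem_map_of_mem _ hv0)
      exact ⟨z, hz.1, hze⟩
    have hUs : U * U = 1 := by
      rw [hU, show h * u0 * h⁻¹ * (h * u0 * h⁻¹) = h * (u0 * u0) * h⁻¹ by group, bB.v.comp.2.2.2.2.2 u0 hu0]; group
    have hVs : V * V = 1 := by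
      rw [hV, show g * v0 * g⁻¹ * (g * v0 * g⁻¹) = g * (v0 * v0) * g⁻¹ by group, bA.v'.comp.2.2.2.2.2 v0 hv0]; group
    have hre : r = g * fy * g⁻¹ := by
      have e1 : V * U * V⁻¹ = U * r := (hperm bB.v hfxW hfxZ hfx1 hu0 hVT).resolve_left
        fun e => hne (mul_inv_eq_iff_eq_mul.1 e).symm
      have e2 : U * V * U⁻¹ = V * (g * fy * g⁻¹) := (hperm bA.v' hfyW hfyZ hfy1 hv0 hUT).resolve_left
        fun e => hne (mul_inv_eq_iff_eq_mul.1 e)
      have hUr : U * r = r * U := by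
        have hfu : fx * u0 = u0 * fx :=
          mem_centralizer_iff.1 (JComponent.omegaCenterOf_le _ (JAmbient.wOf_le _ hu0)).2 fx
            (JComponent.omegaCenterOf_le _ (JAmbient.wOf_le _ hfxW)).1
        rw [hU, hr, show h * u0 * h⁻¹ * (h * fx * h⁻¹) = h * (u0 * fx) * h⁻¹ by group, ← hfu]; group
      have hUi : U⁻¹ = U := inv_eq_of_mul_eq_one_right hUs
      have hVi : V⁻¹ = V := inv_eq_of_mul_eq_one_right hVs
      rw [hVi] at e1
      rw [hUi] at e2
      calc r = (U * r) * U := by rw [hUr, mul_assoc, hUs, mul_one]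
        _ = (V * U * V) * U := by rw [e1]
        _ = V * (U * V * U) := by group
        _ = g * fy * g⁻¹ := by rw [e2, ← mul_assoc, hVs, one_mul]
    -- the centralizer of a conjugate of `δ'` and a conjugate of `e`
    have hcj : ∀ {X : Subgroup G} {x k : G}, X ≤ centralizer ({x} : Set G) →
        cj k X ≤ centralizer ({k * x * k⁻¹} : Set G) := by
      rintro X x k hX _ ⟨y, hy, rfl⟩
      refine mem_centralizer_singleton_iff.2 ?_
      show k * y * k⁻¹ * (k * x * k⁻¹) = k * x * k⁻¹ * (k * y * k⁻¹)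
      calc k * y * k⁻¹ * (k * x * k⁻¹) = k * (y * x) * k⁻¹ := by group
        _ = k * (x * y) * k⁻¹ := by rw [mem_centralizer_singleton_iff.1 (hX hy)]
        _ = _ := by group
    rcases bB.f_cases hfxW hfxZ hfx1 with ex | ex <;> rcases bA.symm.f_cases hfyW hfyZ hfy1 with ey | ey
    · -- both are centres: the two middle vertices coincide
      have hxe : (h⁻¹ * g) * e * (h⁻¹ * g)⁻¹ = δ' := by
        rw [← ex, ← ey, show h⁻¹ * g * fy * (h⁻¹ * g)⁻¹ = h⁻¹ * (g * fy * g⁻¹) * h by group, ← hre, hr]; group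
      have hAN : cj (h⁻¹ * g) A ≤ N' := (hcj bA.cK).trans (hxe.symm ▸ bB.symm.c_le)
      -- move the Sylow subgroup back
      set k := h⁻¹ * g with hk
      have hJN : cj k (Cfsg.thompsonSubgroupOf 2 T) ≤ N' := (hcj (bA.j_cen bA.mem)).trans (hxe.symm ▸ bB.symm.c_le)
      have hN'M : cj k M = N' := by
        have h1 : cj k⁻¹ N' ≤ M := by
          refine bA.v.uniq _ (isTwoLocal_cj bB.v'.max.1 k⁻¹) ?_ ?_
          · have h2 : cj k⁻¹ (cj k A) ≤ cj k⁻¹ N' := map_mono hAN
            rwa [cj_cj, inv_mul_cancel, cj_one] at h2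
          · have h2 : cj k⁻¹ (cj k (Cfsg.thompsonSubgroupOf 2 T)) ≤ cj k⁻¹ N' := map_mono hJN
            rwa [cj_cj, inv_mul_cancel, cj_one] at h2
        have h2 : cj k (cj k⁻¹ N') ≤ cj k M := map_mono h1
        rw [cj_cj, mul_inv_cancel, cj_one] at h2
        exact bB.v'.max.2 (cj k M) (isTwoLocal_cj bA.v.max.1 k) h2
      have hT1 := (Straddle.isSylowTwoIn_iff.1 bA.v.syl).map_conj k
      rw [show M.map (MulAut.conj k).toMonoidHom = N' from hN'M] at hT1
      obtain ⟨l, hl, he⟩ := (Straddle.isSylowTwoIn_iff.1 bB.v'.syl).conjugate hT1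
      have hKk : cj (l⁻¹ * k) A = B' := by
        refine bB.symm.single (JPlanes.isJComponent_congr ?_ (JPlanes.isJComponent_conj bA.v.comp _)) ?_
        · have hcT : cj (l⁻¹ * k) T = T := by
            rw [← cj_cj, show cj k T = cj l T from he, cj_cj, inv_mul_cancel, cj_one]
          exact congrArg _ hcT.symm
        · rw [← cj_cj]
          exact (map_mono hAN).trans (SylowIn.map_conj_eq_iff.2 (Subgroup.le_normalizer (inv_mem hl))).le
      have heq : cj g A = cj h B' := by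
        calc cj g A = cj h (cj l (cj (l⁻¹ * k) A)) := by
              rw [cj_cj, cj_cj, hk]; congr 1; group
          _ = cj h (cj l B') := by rw [hKk]
          _ = cj h B' := by rw [show cj l B' = B' from SylowIn.map_conj_eq_iff.2 (bB.symm.le_normalizer_k hl)]
      have hγ : p 1 = p (m + 1) := by rw [hx1, hu, heq]
      have h2 : Adj K K' (p 1) (p (m + 2)) := hγ ▸ hp (m + 1) (by omega)
      have hc := commute_two b (hp 0 (by omega)) h2
      rw [hx, hy, wOf_cj, wOf_cj] at hc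
      exact hne (mem_centralizer_iff.1 (hc (mem_map_of_mem _ hu0)) _ (mem_map_of_mem _ hv0)).symm
    · refine not_conj (g := g⁻¹ * h) bB.v' bB.cK' (bB.j_cen bB.mem') S bA.hz ?_
      rw [← ex, ← bA.comm_dd, ← ey, show g⁻¹ * h * fx * (g⁻¹ * h)⁻¹ = g⁻¹ * (h * fx * h⁻¹) * g by group, ← hr, hre]
      group
    · refine not_conj (g := h⁻¹ * g) bA.v bA.cK (bA.j_cen bA.mem) S bB.hz ?_
      rw [← ey, ← ex, show h⁻¹ * g * fy * (h⁻¹ * g)⁻¹ = h⁻¹ * (g * fy * g⁻¹) * h by group, ← hre, hr]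
      group
    · -- both are `z`: same Sylow subgroup
      set z := d * d' with hz
      have hzB : δ * δ' = z := by
        rcases bB.cases _ (mul_mem b.mem b.mem') with e0 | e0 | e0 | e0
        · exfalso
          refine b.dd ?_
          calc d = d * (d' * d') := by rw [b.z_sq b.mem', mul_one]
            _ = d' := by rw [← mul_assoc, e0, one_mul]
        · exact absurd (by rw [e0]; group : (1 : G) * δ * (1 : G)⁻¹ = d * d') (not_conj bB.v bB.cK (bB.j_cen bB.mem) S b.hz)
        · exact absurd (by rw [e0]; group : (1 : G) * δ' * (1 : G)⁻¹ = d * d') (not_conj bB.v' bB.cK' (bB.j_cen bB.mem') S b.hz)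
        · exact e0.symm
      have hzA : e * e' = z := by
        rcases bA.cases _ (mul_mem b.mem b.mem') with e0 | e0 | e0 | e0
        · exfalso
          refine b.dd ?_
          calc d = d * (d' * d') := by rw [b.z_sq b.mem', mul_one]
            _ = d' := by rw [← mul_assoc, e0, one_mul]
        · exact absurd (by rw [e0]; group : (1 : G) * e * (1 : G)⁻¹ = d * d') (not_conj bA.v bA.cK (bA.j_cen bA.mem) S b.hz)
        · exact absurd (by rw [e0]; group : (1 : G) * e' * (1 : G)⁻¹ = d * d') (not_conj bA.v' bA.cK' (bA.j_cen bA.mem') S b.hz)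
        · exact e0.symm
      have hTS := bB.fz (ex ▸ hfxW)
      rw [bA.comm_dd, hzA] at ey
      rw [hzB] at ex
      set k := h⁻¹ * g with hk
      have hkz : k * z = z * k := by
        refine mul_inv_eq_iff_eq_mul.1 ?_
        rw [hk]
        calc h⁻¹ * g * z * (h⁻¹ * g)⁻¹ = h⁻¹ * (g * z * g⁻¹) * h := by group
          _ = h⁻¹ * (h * z * h⁻¹) * h := by rw [← ey, ← hre, hr, ey, ex]
          _ = z := by group
      have hkn : k ∈ normalizer (T : Set G) := hTS ▸ b.hz (mem_centralizer_singleton_iff.2 hkz)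
      have hkZ := JComponent.normalizer_le_omegaCenterOf _ (Fusion.Thompson.normalizer_le_normalizer_thompsonOf (p := 2) T hkn)
      have hkd : ∀ {x x' : G}, x ∈ Cfsg.omegaCenterOf (Cfsg.thompsonSubgroupOf 2 T) →
          x' ∈ Cfsg.omegaCenterOf (Cfsg.thompsonSubgroupOf 2 T) → x ≠ 1 → x ≠ z →
          (∀ y ∈ Cfsg.omegaCenterOf (Cfsg.thompsonSubgroupOf 2 T), y = 1 ∨ y = x ∨ y = x' ∨ y = z) →
          k * x * k⁻¹ = x := by
        intro x x' hx0 hx0' hx1' hxz hcases
        -- an odd power of `k` swapping would lie in `T`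
        by_contra hne'
        have hkzc : k * z * k⁻¹ = z := by rw [hkz, mul_inv_cancel_right]
        have hm := (mem_normalizer_iff.1 hkZ x).1 hx0
        have hkx : k * x * k⁻¹ = x' := by
          rcases hcases _ hm with e0 | e0 | e0 | e0
          · exact absurd (conj_eq_one_iff.1 e0) hx1'
          · exact absurd e0 hne'
          · exact e0
          · rw [← hkzc] at e0; exact absurd (mul_left_cancel (mul_right_cancel e0)) hxz
        have hm' := (mem_normalizer_iff.1 hkZ x').1 hx0'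
        have hkx' : k * x' * k⁻¹ = x := by
          rcases hcases _ hm' with e0 | e0 | e0 | e0
          · have h1 := conj_eq_one_iff.1 e0
            rw [h1] at hkx; exact absurd (conj_eq_one_iff.1 hkx) hx1'
          · exact e0
          · nth_rewrite 2 [← hkx] at e0
            rw [mul_left_cancel (mul_right_cancel e0)] at hkx
            exact absurd hkx hne'
          · rw [← hkzc] at e0
            rw [mul_left_cancel (mul_right_cancel e0), ← hkzc] at hkx
            exact absurd (mul_left_cancel (mul_right_cancel hkx)) hxz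
        obtain ⟨a, o, ho, hao⟩ := Nat.exists_eq_two_pow_mul_odd (orderOf_pos k).ne'
        have hpow : ∀ i : ℕ, k ^ (2 * i) * x * (k ^ (2 * i))⁻¹ = x := by
          intro i
          induction i with
          | zero => simp
          | succ i ih =>
            calc k ^ (2 * (i + 1)) * x * (k ^ (2 * (i + 1)))⁻¹ = k * (k * (k ^ (2 * i) * x * (k ^ (2 * i))⁻¹) * k⁻¹) * k⁻¹ := by
                  rw [Nat.mul_succ, pow_add, (Commute.refl k).pow_pow (2 * i) 2 |>.eq, pow_two]; group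
              _ = x := by rw [ih, hkx, hkx']
        obtain ⟨j, rfl⟩ := ho
        set q := k ^ (2 * j + 1) with hq
        have hqp : q ^ 2 ^ a = 1 := by rw [hq, ← pow_mul, mul_comm, ← hao, pow_orderOf_eq_one]
        have hqT : q ∈ T := by
          have hzp : IsPGroup 2 (zpowers q) := by
            obtain ⟨n, -, hn⟩ := (Nat.dvd_prime_pow Nat.prime_two).1 (orderOf_dvd_of_pow_eq_one hqp)
            exact IsPGroup.of_card (n := n) (by rw [Nat.card_zpowers, hn])
          have hqn : q ∈ normalizer ((S : Subgroup G) : Set G) := hTS ▸ pow_mem hkn _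
          have := S.is_maximal' (IsPGroup.to_sup_of_normal_left' S.isPGroup' hzp (zpowers_le.2 hqn)) le_sup_left
          exact hTS.symm ▸ (this ▸ mem_sup_right (mem_zpowers q))
        refine hne' ?_
        have hqx : q * x * q⁻¹ = x := by rw [Vertex.t_fix b.hyp b.v b.cen hx0 hqT, mul_inv_cancel_right]
        calc k * x * k⁻¹ = k * (k ^ (2 * j) * x * (k ^ (2 * j))⁻¹) * k⁻¹ := by rw [hpow j]
          _ = q * x * q⁻¹ := by rw [hq, pow_succ']; group
          _ = x := hqx
      have hdz : d ≠ z := fun e0 => b.d1' (mul_eq_left.1 e0.symm)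
      have hdz' : d' ≠ z := fun e0 => b.d1 (mul_eq_right.1 e0.symm)
      have hcd : k * d * k⁻¹ = d := hkd b.mem b.mem' b.d1 hdz b.cases
      have hcd' : k * d' * k⁻¹ = d' := hkd b.mem' b.mem b.d1' hdz' fun y hy' => by
        rcases b.cases y hy' with e0 | e0 | e0 | e0
        exacts [Or.inl e0, Or.inr (Or.inr (Or.inl e0)), Or.inr (Or.inl e0), Or.inr (Or.inr (Or.inr e0))]
      have hsame : ∀ {X M0 Y M1 : Subgroup G} {δ0 δ1 : G}, Bad T X M0 Y M1 δ0 δ1 S → k * δ0 * k⁻¹ = δ0 → cj k X = X :=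
        fun {X M0 Y M1 δ0 δ1} bX hfix => bX.single
          (JPlanes.isJComponent_congr (congrArg _ (SylowIn.map_conj_eq_iff.2 hkn).symm) (JPlanes.isJComponent_conj bX.v.comp k))
          ((hcj bX.cK).trans (hfix.symm ▸ bX.c_le))
      have hA' : cj g A' = cj h A' := by
        rw [show g = h * k by rw [hk]; group, ← cj_cj]
        congr 1
        rcases hA with ⟨-, rfl⟩ | ⟨-, rfl⟩
        exacts [hsame b.symm hcd', hsame b hcd]
      -- so `y` is adjacent or equal to `x`
      have hc : Cfsg.wOf (cj h B) ≤ centralizer (Cfsg.wOf (cj g A') : Set G) := by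
        rw [hA']
        have hself : ∀ X : Subgroup G, Cfsg.IsJComponent T X → Cfsg.wOf X ≤ centralizer (Cfsg.wOf X : Set G) :=
          fun X hX u1 hu1 => mem_centralizer_iff.2 fun u2 hu2 =>
            mem_centralizer_iff.1 (JComponent.omegaCenterOf_le _ (JAmbient.wOf_le X hu1)).2 u2
              (JComponent.omegaCenterOf_le _ (JAmbient.wOf_le X hu2)).1
        rw [wOf_cj, wOf_cj]
        refine cj_centralizes h ?_
        rcases hB with ⟨rfl, -⟩ | ⟨rfl, -⟩ <;> rcases hA with ⟨-, rfl⟩ | ⟨-, rfl⟩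
        exacts [b.ww, hself _ b.v.comp, hself _ b.v'.comp, b.ww']
      rw [wOf_cj, wOf_cj] at hc
      exact hne (mem_centralizer_iff.1 (hc (mem_map_of_mem _ hu0)) _ (mem_map_of_mem _ hv0)).symm

/-- The configuration does not occur. -/
theorem false_of_bad (b : Bad T K L K' L' d d' S) : False := by
  haveI : Fact (Nat.Prime 2) := ⟨Nat.prime_two⟩
  let Reach : Subgroup G → Prop := fun x => ∃ n : ℕ, ∃ p : ℕ → Subgroup G, p 0 = K ∧ p (n + 1) = x ∧ Walk K K' (n + 1) p
  have hstep : ∀ {x y : Subgroup G}, Reach x → Adj K K' x y → Reach y := by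
    rintro x y ⟨n, p, h0, hn, hp⟩ hxy
    refine ⟨n + 1, fun i => if i ≤ n + 1 then p i else y, by simp [h0], by simp, fun i hi => ?_⟩
    by_cases hi' : i < n + 1
    · simp only [show i ≤ n + 1 by omega, show i + 1 ≤ n + 1 by omega, if_true]
      exact hp i hi'
    · obtain rfl : i = n + 1 := by omega
      simp only [le_refl, if_true, show ¬ n + 1 + 1 ≤ n + 1 by omega, if_false]
      exact hn ▸ hxy
  have hK' : Reach K' := ⟨0, fun i => if i = 0 then K else K', by simp, by simp, fun i hi => by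
    obtain rfl : i = 0 := by omega
    exact ⟨1, Or.inl ⟨by simp [cj_one], by simp [cj_one]⟩⟩⟩
  have hKK : Reach K := hstep hK' ⟨1, Or.inr ⟨(cj_one K').symm, (cj_one K).symm⟩⟩
  have hback : ∀ {x : Subgroup G}, Reach x → Cfsg.wOf x ≤ qv K := by
    rintro x ⟨n, p, h0, hn, hp⟩
    have hwalk : Walk K K' (n + 1) fun i => p (n + 1 - i) := by
      intro i hi
      obtain ⟨r, hr⟩ := hp (n - i) (by omega)
      rw [show n - i + 1 = n + 1 - i by omega] at hr
      show Adj K K' (p (n + 1 - i)) (p (n + 1 - (i + 1)))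
      rw [show n + 1 - (i + 1) = n - i by omega]
      rcases hr with ⟨r1, r2⟩ | ⟨r1, r2⟩
      exacts [⟨r, Or.inr ⟨r2, r1⟩⟩, ⟨r, Or.inl ⟨r2, r1⟩⟩]
    have h := walk_le b n _ hwalk
    simp only [Nat.sub_zero, Nat.sub_self] at h
    rwa [hn, h0] at h
  -- translations
  have htrans : ∀ {x : Subgroup G} (l : G), Reach (cj l K) → Reach x → Reach (cj l x) := by
    rintro x l hl ⟨n, p, h0, hn, hp⟩
    have hall : ∀ i ≤ n + 1, Reach (cj l (p i)) := by
      intro i
      induction i with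
      | zero => intro _; rw [h0]; exact hl
      | succ i ih =>
        intro hi
        refine hstep (ih (by omega)) ?_
        obtain ⟨r, hr⟩ := hp i (by omega)
        refine ⟨l * r, ?_⟩
        rcases hr with ⟨r1, r2⟩ | ⟨r1, r2⟩
        · exact Or.inl ⟨by rw [r1, cj_cj], by rw [r2, cj_cj]⟩
        · exact Or.inr ⟨by rw [r1, cj_cj], by rw [r2, cj_cj]⟩
    exact hn ▸ hall (n + 1) le_rfl
  have hLfix : ∀ l ∈ L, cj l K = K := fun l hl => SylowIn.map_conj_eq_iff.2 (b.le_normalizer_k hl)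
  have hL'fix : ∀ l ∈ L', Reach (cj l K) := fun l hl =>
    hstep hK' ⟨l, Or.inr ⟨(SylowIn.map_conj_eq_iff.2 (b.symm.le_normalizer_k hl)).symm, rfl⟩⟩
  set M0 := closure (⋃ x ∈ {x | Reach x}, (Cfsg.wOf x : Set G)) with hM0
  have hnorm : ∀ l : G, Reach (cj l K) → Reach (cj l⁻¹ K) → l ∈ normalizer (M0 : Set G) := by
    intro l hl hl'
    refine SylowIn.map_conj_eq_iff.1 (eq_of_le_of_card_ge ?_ (card_map_of_injective (MulAut.conj l).injective).ge)
    rw [hM0, MonoidHom.map_closure, closure_le]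
    rintro _ ⟨u, hu, rfl⟩
    simp only [Set.mem_iUnion, Set.mem_setOf_eq] at hu
    obtain ⟨x, hx, hux⟩ := hu
    refine subset_closure ?_
    simp only [Set.mem_iUnion, Set.mem_setOf_eq]
    exact ⟨cj l x, htrans l hl hx, by rw [wOf_cj]; exact mem_map_of_mem _ hux⟩
  have hLM : L ≤ normalizer (M0 : Set G) := fun l hl =>
    hnorm l ((hLfix l hl).symm ▸ hKK) ((hLfix _ (inv_mem hl)).symm ▸ hKK)
  have hL'M : L' ≤ normalizer (M0 : Set G) := fun l hl => hnorm l (hL'fix l hl) (hL'fix _ (inv_mem hl))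
  have hM0Q : M0 ≤ qv K := by
    rw [hM0, closure_le]
    intro u hu
    simp only [Set.mem_iUnion, Set.mem_setOf_eq] at hu
    obtain ⟨x, hx, hux⟩ := hu
    exact hback hx hux
  obtain ⟨f, hfW, -, hf1, -⟩ := Vertex.exists_f b.v
  have hfM : f ∈ M0 := subset_closure (by
    simp only [Set.mem_iUnion, Set.mem_setOf_eq]
    exact ⟨K, hKK, hfW⟩)
  exact not_common b.v b.v' b.ne ⟨M0, (SylowIn.isPGroup_pCoreOf _).to_le hM0Q,
    fun e0 => hf1 (mem_bot.1 (e0 ▸ hfM)), rfl⟩ (b.v.le.trans hLM) (b.v'.le.trans hL'M) ((Vertex.j_le b.v).trans hLM)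

end CfsgLib.LocalEvenB.JPath
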