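import Cfsg.Agent.Lib.LocalEvenB.JPlanes
import Cfsg.Agent.Lib.LocalEven.Residual

/-!
A subnormal `J`-component-like subgroup: every elementary abelian subgroup of largest order normalizes
its four-group, since two planes with fixed-point-free elements of order three in a `3`-group are
equal or centralized.
-/

set_option autoImplicit false
set_option linter.style.haveILetI false
set_option linter.unusedSectionVars false

namespace CfsgLib.LocalEvenB.JPlaneOrbit

universe u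

open Subgroup
open CfsgLib.LocalEven

variable {G : Type u} [Group G] [Finite G]

/-- Conjugate subgroup. -/
abbrev cj (g : G) (X : Subgroup G) : Subgroup G := X.map (MulAut.conj g).toMonoidHom

/-- `k` acts on `V` with commutator plane `W`, fixed-point-freely on it. -/
structure Pl (V : Subgroup G) (k : G) (W : Subgroup G) : Prop where
  nV : k ∈ normalizer (V : Set G)
  le : W ≤ V
  card : Nat.card W = 4
  act : ∀ v ∈ V, k * v * k⁻¹ * v⁻¹ ∈ W
  fpf : ∀ w ∈ W, k * w * k⁻¹ = w → w = 1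
  cube : ∀ v ∈ V, k ^ 3 * v * (k ^ 3)⁻¹ = v

variable {V : Subgroup G}

theorem mul_of_sup {A B : Subgroup G} (hVc : ∀ x ∈ V, ∀ y ∈ V, x * y = y * x) (hA : A ≤ V) (hB : B ≤ V)
    {w : G} (hw : w ∈ A ⊔ B) : ∃ x ∈ A, ∃ y ∈ B, x * y = w := by
  rw [← SetLike.mem_coe, coe_mul_of_right_le_normalizer_left A B
    (le_trans (fun y hy => mem_centralizer_iff.2 fun x hx => hVc x (hA hx) y (hB hy))
      (centralizer_le_normalizer _))] at hw
  exact hw

theorem card_sup {A B : Subgroup G} (hVc : ∀ x ∈ V, ∀ y ∈ V, x * y = y * x) (hA : A ≤ V) (hB : B ≤ V) :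
    Nat.card ↥(A ⊔ B) * Nat.card ↥(A ⊓ B) = Nat.card A * Nat.card B :=
  Fusion.Thompson.card_sup_mul_card_inf (le_trans (fun y hy => mem_centralizer_iff.2 fun x hx =>
    hVc x (hA hx) y (hB hy)) (centralizer_le_normalizer _))

theorem Pl.maps {k : G} {W : Subgroup G} (h : Pl V k W) {w : G} (hw : w ∈ W) : k * w * k⁻¹ ∈ W := by
  have := mul_mem (h.act w (h.le hw)) hw
  rwa [inv_mul_cancel_right] at this

theorem Pl.normalizes {k : G} {W : Subgroup G} (h : Pl V k W) : k ∈ normalizer (W : Set G) := by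
  refine SylowIn.map_conj_eq_iff.1 (eq_of_le_of_card_ge ?_ (le_of_eq ?_))
  · rintro _ ⟨w, hw, rfl⟩; exact h.maps hw
  · rw [card_map_of_injective (MulAut.conj k).injective]

theorem Pl.conj {k : G} {W : Subgroup G} (h : Pl V k W) {g : G} (hg : g ∈ normalizer (V : Set G)) :
    Pl V (g * k * g⁻¹) (cj g W) := by
  have hback : ∀ v ∈ V, g⁻¹ * v * g ∈ V := fun v hv => by
    simpa using (mem_normalizer_iff.1 (inv_mem hg) v).1 hv
  refine ⟨mul_mem (mul_mem hg h.nV) (inv_mem hg), ?_, ?_, ?_, ?_, ?_⟩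
  · rintro _ ⟨w, hw, rfl⟩
    exact (mem_normalizer_iff.1 hg w).1 (h.le hw)
  · rw [card_map_of_injective (MulAut.conj g).injective, h.card]
  · intro v hv
    refine ⟨_, h.act _ (hback v hv), ?_⟩
    simp only [MulEquiv.coe_toMonoidHom, MulAut.conj_apply]
    group
  · rintro _ ⟨w, hw, rfl⟩ he
    simp only [MulEquiv.coe_toMonoidHom, MulAut.conj_apply] at he ⊢
    have : k * w * k⁻¹ = w := by
      calc k * w * k⁻¹ = g⁻¹ * (g * k * g⁻¹ * (g * w * g⁻¹) * (g * k * g⁻¹)⁻¹) * g := by group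
        _ = w := by rw [he]; group
    rw [h.fpf w hw this]; group
  · intro v hv
    rw [conj_pow]
    calc g * k ^ 3 * g⁻¹ * v * (g * k ^ 3 * g⁻¹)⁻¹ = g * (k ^ 3 * (g⁻¹ * v * g) * (k ^ 3)⁻¹) * g⁻¹ := by group
      _ = v := by rw [h.cube _ (hback v hv)]; group

/-- Same action on `V`. -/
theorem Pl.congr {k r : G} {W : Subgroup G} (h : Pl V k W) (hr : r ∈ normalizer (V : Set G))
    (hkr : ∀ v ∈ V, r * v * r⁻¹ = k * v * k⁻¹) : Pl V r W := by
  refine ⟨hr, h.le, h.card, fun v hv => by rw [hkr v hv]; exact h.act v hv,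
    fun w hw he => h.fpf w hw (by rw [← hkr w (h.le hw)]; exact he), fun v hv => ?_⟩
  have h1 := (mem_normalizer_iff.1 hr v).1 hv
  have h2 := (mem_normalizer_iff.1 hr _).1 h1
  calc r ^ 3 * v * (r ^ 3)⁻¹ = r * (r * (r * v * r⁻¹) * r⁻¹) * r⁻¹ := by simp [pow_succ, mul_assoc]
    _ = k * (r * (r * v * r⁻¹) * r⁻¹) * k⁻¹ := hkr _ h2
    _ = k * (k * (k * v * k⁻¹) * k⁻¹) * k⁻¹ := by rw [hkr _ h1, hkr _ hv]
    _ = v := by
      rw [show k * (k * (k * v * k⁻¹) * k⁻¹) * k⁻¹ = k ^ 3 * v * (k ^ 3)⁻¹ by simp [pow_succ, mul_assoc], h.cube v hv]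

theorem preserved {k₁ k₂ : G} {W₁ W₂ : Subgroup G} (h₁ : Pl V k₁ W₁) (h₂ : Pl V k₂ W₂)
    (hn : ∀ x ∈ W₂, k₁ * x * k₁⁻¹ ∈ W₂) : W₁ = W₂ ∨ ∀ x ∈ W₂, k₁ * x * k₁⁻¹ = x := by
  by_contra hcon
  rw [not_or] at hcon
  obtain ⟨hne, hmove⟩ := hcon
  push Not at hmove
  obtain ⟨x, hx, hxm⟩ := hmove
  have hc : k₁ * x * k₁⁻¹ * x⁻¹ ∈ W₁ ⊓ W₂ :=
    mem_inf.2 ⟨h₁.act x (h₂.le hx), mul_mem (hn x hx) (inv_mem hx)⟩
  set c := k₁ * x * k₁⁻¹ * x⁻¹ with hcdef
  have hc1 : c ≠ 1 := fun e => hxm (mul_inv_eq_one.1 e)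
  have hc' : k₁ * c * k₁⁻¹ ∈ W₁ ⊓ W₂ :=
    mem_inf.2 ⟨h₁.maps (mem_inf.1 hc).1, hn c (mem_inf.1 hc).2⟩
  have h3 : 3 ≤ Nat.card ↥(W₁ ⊓ W₂) := by
    have hss : ({1, c, k₁ * c * k₁⁻¹} : Set G) ⊆ ((W₁ ⊓ W₂ : Subgroup G) : Set G) := by
      rintro y (rfl | rfl | rfl)
      exacts [one_mem _, hc, hc']
    have h3' : ({1, c, k₁ * c * k₁⁻¹} : Set G).ncard = 3 := by
      rw [Set.ncard_eq_three]
      exact ⟨1, c, k₁ * c * k₁⁻¹, Ne.symm hc1, fun e => hc1 (conj_eq_one_iff.1 e.symm),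
        fun e => hc1 (h₁.fpf c (mem_inf.1 hc).1 e.symm), rfl⟩
    have := Set.ncard_le_ncard hss (Set.toFinite _)
    rwa [h3', ← Nat.card_coe_set_eq] at this
  have hdvd : Nat.card ↥(W₁ ⊓ W₂) ∣ 4 := h₁.card ▸ card_dvd_of_le inf_le_left
  have h4 : Nat.card ↥(W₁ ⊓ W₂) = 4 := by
    have := Nat.le_of_dvd (by norm_num) hdvd
    rcases (by omega : Nat.card ↥(W₁ ⊓ W₂) = 3 ∨ Nat.card ↥(W₁ ⊓ W₂) = 4) with e | e
    · rw [e] at hdvd; norm_num at hdvd
    · exact e
  exact hne ((eq_of_le_of_card_ge inf_le_left (by rw [h4, h₁.card])).symm.trans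
    (eq_of_le_of_card_ge inf_le_right (by rw [h4, h₂.card])))

variable (hVc : ∀ x ∈ V, ∀ y ∈ V, x * y = y * x) {R : Subgroup G} (hR : IsPGroup 3 R)
include hVc hR

/-- Two planes in a `3`-group are equal or centralized. -/
theorem planes : ∀ (N : ℕ) {k₁ k₂ : G} {W₁ W₂ : Subgroup G}, Nat.card ↥(closure {k₁, k₂}) ≤ N →
    k₁ ∈ R → k₂ ∈ R → Pl V k₁ W₁ → Pl V k₂ W₂ → W₁ = W₂ ∨ ∀ x ∈ W₂, k₁ * x * k₁⁻¹ = x := by
  intro N
  induction N with
  | zero => intro k₁ k₂ _ _ h _ _ _ _; exact absurd h (Nat.not_le.2 Nat.card_pos)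
  | succ N ih =>
    intro k₁ k₂ W₁ W₂ hN hk₁ hk₂ h₁ h₂
    haveI : Fact (Nat.Prime 3) := ⟨Nat.prime_three⟩
    by_cases hz : k₁ ∈ zpowers k₂
    · exact preserved h₁ h₂ fun x hx =>
        (mem_normalizer_iff.1 (zpowers_le.2 h₂.normalizes hz) x).1 hx
    set H := closure ({k₁, k₂} : Set G) with hH
    have hk₁H : k₁ ∈ H := subset_closure (Set.mem_insert _ _)
    have hk₂H : k₂ ∈ H := subset_closure (Set.mem_insert_of_mem _ rfl)
    have hHR : H ≤ R := by
      rw [hH, closure_le]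
      rintro y (rfl | rfl)
      exacts [hk₁, hk₂]
    have hHp : IsPGroup 3 H := hR.to_le hHR
    obtain ⟨M, hM, hzM⟩ : ∃ M : Subgroup ↥H, IsCoatom M ∧ zpowers (⟨k₂, hk₂H⟩ : ↥H) ≤ M := by
      rcases eq_top_or_exists_le_coatom (zpowers (⟨k₂, hk₂H⟩ : ↥H)) with e | e
      · exfalso
        refine hz ?_
        obtain ⟨i, hi⟩ := mem_zpowers_iff.1 (e ▸ mem_top (⟨k₁, hk₁H⟩ : ↥H))
        exact mem_zpowers_iff.2 ⟨i, by simpa using congrArg Subtype.val hi⟩
      · exact e
    haveI := hHp.isNilpotent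
    have hMn : M.Normal := NormalizerCondition.normal_of_coatom M Group.normalizerCondition_of_isNilpotent hM
    set M' := M.map H.subtype
    have hk₂M : k₂ ∈ M' := ⟨⟨k₂, hk₂H⟩, hzM (mem_zpowers _), rfl⟩
    have hlt : Nat.card M' < Nat.card H := by
      refine lt_of_le_of_ne (card_le_of_le (map_subtype_le M)) fun e => ?_
      exact hM.1 (map_injective H.subtype_injective (by
        rw [← MonoidHom.range_eq_map, range_subtype]
        exact eq_of_le_of_card_ge (map_subtype_le M) e.ge))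
    have hconj : ∀ y ∈ M', k₁ * y * k₁⁻¹ ∈ M' := by
      rintro _ ⟨y, hy, rfl⟩
      exact ⟨⟨k₁, hk₁H⟩ * y * ⟨k₁, hk₁H⟩⁻¹, hMn.conj_mem y hy _, rfl⟩
    set k' := k₁ * k₂ * k₁⁻¹
    set k'' := k₁ * k' * k₁⁻¹
    have hk'M : k' ∈ M' := hconj _ hk₂M
    have hk''M : k'' ∈ M' := hconj _ hk'M
    have hsmall : ∀ a ∈ M', ∀ b ∈ M', Nat.card ↥(closure ({a, b} : Set G)) ≤ N := fun a ha b hb => by
      have hle : closure ({a, b} : Set G) ≤ M' := by
        rw [closure_le]
        rintro y (rfl | rfl)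
        exacts [ha, hb]
      have := card_le_of_le hle
      omega
    have hMR : ∀ {a : G}, a ∈ M' → a ∈ R := fun {a} ha => hHR (map_subtype_le M ha)
    have h' : Pl V k' (cj k₁ W₂) := h₂.conj h₁.nV
    set W' := cj k₁ W₂ with hW'
    have h'' : Pl V k'' (cj k₁ W') := h'.conj h₁.nV
    set W'' := cj k₁ W' with hW''
    by_cases he : W' = W₂
    · exact preserved h₁ h₂ fun x hx => he ▸ mem_map_of_mem _ hx
    exfalso
    have hcube : cj k₁ W'' = W₂ := by
      have h3 : cj k₁ W'' = cj (k₁ ^ 3) W₂ := by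
        simp only [hW'', hW', cj, SylowIn.map_conj_conj, pow_three]
      rw [h3]
      refine le_antisymm ?_ fun x hx => ⟨x, hx, h₁.cube x (h₂.le hx)⟩
      rintro _ ⟨x, hx, rfl⟩
      show k₁ ^ 3 * x * (k₁ ^ 3)⁻¹ ∈ W₂
      rw [h₁.cube x (h₂.le hx)]; exact hx
    have hinj : Function.Injective (cj k₁) := map_injective (MulAut.conj k₁).injective
    have he2 : W'' ≠ W' := fun e => he (hinj e)
    have he3 : W'' ≠ W₂ := fun e => he (by
      have := congrArg (cj k₁) e
      rw [hcube] at this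
      exact this.symm)
    have c1 := (ih (hsmall _ hk₂M _ hk'M) hk₂ (hMR hk'M) h₂ h').resolve_left (Ne.symm he)
    have c2 := (ih (hsmall _ hk''M _ hk₂M) (hMR hk''M) hk₂ h'' h₂).resolve_left he3
    have c3 := (ih (hsmall _ hk''M _ hk'M) (hMR hk''M) (hMR hk'M) h'' h').resolve_left he2
    set E := W₁ ⊔ W₂
    have hEV : E ≤ V := sup_le h₁.le h₂.le
    have hE : ∀ x ∈ E, k₁ * x * k₁⁻¹ ∈ E := fun x hx => by
      have := mul_mem (mem_sup_left (T := W₂) (h₁.act x (hEV hx))) hx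
      rwa [inv_mul_cancel_right] at this
    have hW'E : W' ≤ E := by
      rintro _ ⟨x, hx, rfl⟩
      exact hE x (mem_sup_right hx)
    have hW''E : W'' ≤ E := by
      rintro _ ⟨x, hx, rfl⟩
      exact hE x (hW'E hx)
    have hd1 : W₂ ⊓ W' = ⊥ := by
      rw [eq_bot_iff]
      exact fun x hx => mem_bot.2 (h₂.fpf x hx.1 (c1 x hx.2))
    have hd2 : (W₂ ⊔ W') ⊓ W'' = ⊥ := by
      rw [eq_bot_iff]
      intro x hx
      refine mem_bot.2 (h''.fpf x hx.2 ?_)
      obtain ⟨y, hy, z, hz', rfl⟩ := mul_of_sup hVc h₂.le h'.le hx.1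
      rw [show k'' * (y * z) * k''⁻¹ = k'' * y * k''⁻¹ * (k'' * z * k''⁻¹) by group, c2 y hy, c3 z hz']
    have e1 := card_sup hVc h₂.le h'.le
    rw [hd1, card_bot, mul_one, h₂.card, h'.card] at e1
    have e2 := card_sup hVc (sup_le h₂.le h'.le) h''.le
    rw [hd2, card_bot, mul_one, e1, h''.card] at e2
    have e3 := card_le_of_le (sup_le (sup_le (le_sup_right : W₂ ≤ E) hW'E) hW''E)
    have e4 := card_sup hVc h₁.le h₂.le
    rw [h₁.card, h₂.card] at e4
    have : 1 ≤ Nat.card ↥(W₁ ⊓ W₂) := Nat.card_pos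
    nlinarith

omit hR in
/-- Independence of mutually centralized planes. -/
theorem sup_facts : ∀ s : Finset (Subgroup G),
    (∀ W ∈ s, ∃ k, Pl V k W ∧ ∀ W' ∈ s, W' ≠ W → ∀ x ∈ W', k * x * k⁻¹ = x) →
    (s.sup id ≤ V ∧ Nat.card ↥(s.sup id) = 4 ^ s.card ∧
      ∀ u ∈ s.sup id, (∀ W ∈ s, ∀ k, Pl V k W → (∀ W' ∈ s, W' ≠ W → ∀ x ∈ W', k * x * k⁻¹ = x) →
        k * u * k⁻¹ = u) → u = 1) := by
  classical
  intro s
  induction s using Finset.induction_on with
  | empty => intro _; simp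
  | insert W s hWs ih =>
    intro hs
    obtain ⟨k, hk, hkc⟩ := hs W (Finset.mem_insert_self _ _)
    obtain ⟨ihV, ihc, ihf⟩ := ih fun W' hW' => by
      obtain ⟨k', hk', hk'c⟩ := hs W' (Finset.mem_insert_of_mem hW')
      exact ⟨k', hk', fun W'' hW'' => hk'c W'' (Finset.mem_insert_of_mem hW'')⟩
    have hfix : ∀ x ∈ s.sup id, k * x * k⁻¹ = x := by
      have : s.sup id ≤ centralizer ({k} : Set G) := Finset.sup_le fun W' hW' x hx =>
        mem_centralizer_singleton_iff.2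
          (mul_inv_eq_iff_eq_mul.1 (hkc W' (Finset.mem_insert_of_mem hW') (fun e => hWs (e ▸ hW')) x hx)).symm
      intro x hx
      rw [← mem_centralizer_singleton_iff.1 (this hx), mul_inv_cancel_right]
    have hd : W ⊓ s.sup id = ⊥ := by
      rw [eq_bot_iff]
      exact fun x hx => mem_bot.2 (hk.fpf x hx.1 (hfix x hx.2))
    rw [Finset.sup_insert, id]
    refine ⟨sup_le hk.le ihV, ?_, ?_⟩
    · have h := card_sup hVc hk.le ihV
      rw [hd, card_bot, mul_one, hk.card, ihc] at h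
      rw [h, Finset.card_insert_of_notMem hWs, pow_succ']
    · intro u hu hall
      obtain ⟨x, hx, y, hy, rfl⟩ := mul_of_sup hVc hk.le ihV hu
      have h1 := hall W (Finset.mem_insert_self _ _) k hk hkc
      rw [show k * (x * y) * k⁻¹ = k * x * k⁻¹ * (k * y * k⁻¹) by group, hfix y hy] at h1
      have hx1 := hk.fpf x hx (mul_right_cancel h1)
      subst hx1
      rw [one_mul] at hall ⊢
      refine ihf y hy fun W' hW' k' hk' hk'c => ?_
      obtain ⟨k'', hk'', hk''c⟩ := hs W' (Finset.mem_insert_of_mem hW')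
      have hy' : k'' * y * k''⁻¹ = y := hall W' (Finset.mem_insert_of_mem hW') k'' hk'' hk''c
      -- both elements fix the other planes and move `W'` freely
      obtain ⟨p, hp, q, hq, rfl⟩ : ∃ p ∈ W', ∃ q ∈ (s.erase W').sup id, p * q = y := by
        refine mul_of_sup hVc hk'.le ?_ ?_
        · exact (Finset.sup_mono (Finset.erase_subset _ _)).trans ihV
        · rw [← Finset.insert_erase hW', Finset.sup_insert] at hy
          exact hy
      have hq' : ∀ (j : G), (∀ W'' ∈ s, W'' ≠ W' → ∀ z ∈ W'', j * z * j⁻¹ = z) → j * q * j⁻¹ = q := by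
        intro j hj
        have : (s.erase W').sup id ≤ centralizer ({j} : Set G) := Finset.sup_le fun W'' hW'' z hz =>
          mem_centralizer_singleton_iff.2 (mul_inv_eq_iff_eq_mul.1
            (hj W'' (Finset.mem_of_mem_erase hW'') (Finset.ne_of_mem_erase hW'') z hz)).symm
        rw [← mem_centralizer_singleton_iff.1 (this hq), mul_inv_cancel_right]
      rw [show k'' * (p * q) * k''⁻¹ = k'' * p * k''⁻¹ * (k'' * q * k''⁻¹) by group,
        hq' k'' fun W'' hW'' hne => hk''c W'' (Finset.mem_insert_of_mem hW'') hne] at hy'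
      have hp1 := hk''.fpf p hp (mul_right_cancel hy')
      subst hp1
      rw [one_mul]
      exact hq' k' hk'c

/-- An elementary abelian offender permuting the conjugates of a plane normalizes it. -/
theorem normalizes {A W : Subgroup G} (hA : Cfsg.IsElementaryAbelian 2 A) (hAV : A ≤ normalizer (V : Set G))
    (hV2 : ∀ v ∈ V, v * v = 1)
    (hoff : ∀ B ≤ A, Nat.card B * Nat.card ↥(V ⊓ centralizer (B : Set G))
      ≤ Nat.card A * Nat.card ↥(V ⊓ centralizer (A : Set G)))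
    {k : G} (hk : Pl V k W) (hlift : ∀ a ∈ A, ∃ r ∈ R, r ∈ normalizer (V : Set G) ∧
      ∀ v ∈ V, r * v * r⁻¹ = a * k * a⁻¹ * v * (a * k * a⁻¹)⁻¹) :
    A ≤ normalizer (W : Set G) := by
  classical
  haveI := Fintype.ofFinite G
  have hAc : ∀ {a b : G}, a ∈ A → b ∈ A → a * b = b * a := fun ha hb =>
    Fusion.Thompson.mul_comm_of_isEA hA ha hb
  let f : ↥A → Subgroup G := fun a => cj (a : G) W
  set A1 := A ⊓ normalizer (W : Set G)
  let s : Finset (Subgroup G) := Finset.univ.image f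
  have hW : W ∈ s := Finset.mem_image.2 ⟨1, Finset.mem_univ _, SylowIn.map_conj_one W⟩
  have hrep : ∀ W' ∈ s, ∃ r ∈ R, ∃ a ∈ A, cj a W = W' ∧ Pl V r W' ∧
      ∀ v ∈ V, r * v * r⁻¹ = a * k * a⁻¹ * v * (a * k * a⁻¹)⁻¹ := fun W' hW' => by
    obtain ⟨a, -, rfl⟩ := Finset.mem_image.1 hW'
    obtain ⟨r, hr, hrn, hrv⟩ := hlift a a.2
    exact ⟨r, hr, a, a.2, rfl, (hk.conj (hAV a.2)).congr hrn hrv, hrv⟩
  have hs : ∀ W' ∈ s, ∃ r, Pl V r W' ∧ ∀ W'' ∈ s, W'' ≠ W' → ∀ x ∈ W'', r * x * r⁻¹ = x := fun W' hW' => by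
    obtain ⟨r, hr, -, -, -, hpl, -⟩ := hrep W' hW'
    refine ⟨r, hpl, fun W'' hW'' hne => ?_⟩
    obtain ⟨r', hr', -, -, -, hpl', -⟩ := hrep W'' hW''
    exact (planes hVc hR _ le_rfl hr hr' hpl hpl').resolve_left (Ne.symm hne)
  obtain ⟨hUV, hUc, hUf⟩ := sup_facts hVc s hs
  set U := s.sup id
  set rest := (s.erase W).sup id
  have hWU : W ≤ U := Finset.le_sup (f := id) hW
  have hrU : rest ≤ U := Finset.sup_mono (Finset.erase_subset _ _)
  -- the element `k` fixes the other planes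
  have hkrest : ∀ y ∈ rest, k * y * k⁻¹ = y := by
    obtain ⟨r, hr, hrn, hrv⟩ := hlift 1 (one_mem _)
    have hplr : Pl V r W := hk.congr hrn fun v hv => by simpa using hrv v hv
    have hle : rest ≤ centralizer ({r} : Set G) := Finset.sup_le fun W'' hW'' x hx => by
      obtain ⟨r', hr', -, -, -, hpl', -⟩ := hrep W'' (Finset.mem_of_mem_erase hW'')
      exact mem_centralizer_singleton_iff.2 (mul_inv_eq_iff_eq_mul.1
        ((planes hVc hR _ le_rfl hr hr' hplr hpl').resolve_left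
          (Ne.symm (Finset.ne_of_mem_erase hW'')) x hx)).symm
    intro y hy
    have h1 : r * y * r⁻¹ = k * y * k⁻¹ := by simpa using hrv y (hUV (hrU hy))
    rw [← h1, ← mem_centralizer_singleton_iff.1 (hle hy), mul_inv_cancel_right]
  have hdis : ∀ {x}, x ∈ W → x ∈ rest → x = 1 := fun hx hx' => hk.fpf _ hx (hkrest _ hx')
  -- orbit length
  have hfib : ∀ a b : ↥A, f a = f b ↔ a⁻¹ * b ∈ A1.subgroupOf A := fun a b => by
    show cj (a : G) W = cj (b : G) W ↔ _
    rw [mem_subgroupOf, mem_inf, ← SylowIn.map_conj_eq_iff]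
    simp only [Subgroup.coe_mul, Subgroup.coe_inv]
    constructor
    · intro e
      refine ⟨mul_mem (inv_mem a.2) b.2, ?_⟩
      rw [← SylowIn.map_conj_conj]
      show cj (a : G)⁻¹ (cj (b : G) W) = W
      rw [← e]
      show Subgroup.map _ (Subgroup.map _ W) = W
      rw [SylowIn.map_conj_conj, inv_mul_cancel, SylowIn.map_conj_one]
    · rintro ⟨-, e⟩
      show Subgroup.map _ W = Subgroup.map _ W
      conv_lhs => rw [← e]
      rw [SylowIn.map_conj_conj, mul_inv_cancel_left]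
  have hm : Nat.card A = s.card * Nat.card A1 := by
    have hcard : Nat.card (↥A ⧸ A1.subgroupOf A) = s.card := by
      rw [← Nat.card_eq_finsetCard]
      refine Nat.card_eq_of_bijective (Quotient.lift (fun a => (⟨f a, Finset.mem_image.2
        ⟨a, Finset.mem_univ _, rfl⟩⟩ : ↥s)) fun a b h => Subtype.ext ((hfib a b).2 (by
          exact QuotientGroup.leftRel_apply.1 h))) ⟨?_, ?_⟩
      · intro x y h
        induction x using Quotient.inductionOn with
        | h a =>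
        induction y using Quotient.inductionOn with
        | h b =>
          exact Quotient.sound (QuotientGroup.leftRel_apply.2 ((hfib a b).1 (congrArg Subtype.val h)))
      · rintro ⟨W', hW'⟩
        obtain ⟨a, -, rfl⟩ := Finset.mem_image.1 hW'
        exact ⟨Quotient.mk _ a, rfl⟩
    rw [Subgroup.card_eq_card_quotient_mul_card_subgroup (A1.subgroupOf A), hcard,
      Nat.card_congr (subgroupOfEquivOfLe (inf_le_left : A1 ≤ A)).toEquiv]
  set B := A ⊓ centralizer (W : Set G)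
  -- `|A₁ : B| |C_W(A₁)| ≤ 4`
  have h4 : Nat.card A1 * Nat.card ↥(W ⊓ centralizer (A1 : Set G)) ≤ 4 * Nat.card B := by
    have hWW : Nat.card ↥(W ⊓ centralizer (A1 : Set G)) ∣ 4 := hk.card ▸ card_dvd_of_le inf_le_left
    by_cases hA1 : A1 ≤ centralizer (W : Set G)
    · have h1 := card_le_of_le (le_inf (inf_le_left : A1 ≤ A) hA1 : A1 ≤ B)
      have h2 := Nat.le_of_dvd (by norm_num) hWW
      calc Nat.card A1 * _ ≤ Nat.card B * 4 := Nat.mul_le_mul h1 h2
        _ = _ := mul_comm _ _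
    obtain ⟨a0, ha0, ha0c⟩ := SetLike.not_le_iff_exists.1 hA1
    obtain ⟨w, hw, hwm⟩ : ∃ w ∈ W, a0 * w * a0⁻¹ ≠ w := by
      by_contra h
      push Not at h
      exact ha0c (mem_centralizer_iff.2 fun w hw => (mul_inv_eq_iff_eq_mul.1 (h w hw)).symm)
    have hsq : ∀ x ∈ W, x * x = 1 := fun x hx => hV2 x (hk.le hx)
    have hconjW : ∀ {a}, a ∈ A1 → ∀ {x}, x ∈ W → a * x * a⁻¹ ∈ W := fun {a} ha {x} hx =>
      (mem_normalizer_iff.1 (mem_inf.1 ha).2 x).1 hx
    have hainv : ∀ {a}, a ∈ A → a * a = 1 := fun ha => JComponent.mul_self_of_isEA hA ha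
    have hww : a0 * (a0 * w * a0⁻¹) * a0⁻¹ = w := by
      calc a0 * (a0 * w * a0⁻¹) * a0⁻¹ = (a0 * a0) * w * (a0 * a0)⁻¹ := by group
        _ = w := by rw [hainv (mem_inf.1 ha0).1]; group
    set f0 := w * (a0 * w * a0⁻¹) with hf0
    have hw' := hconjW ha0 hw
    have hf0W : f0 ∈ W := mul_mem hw hw'
    have hf0fix : a0 * f0 * a0⁻¹ = f0 := by
      rw [hf0, show a0 * (w * (a0 * w * a0⁻¹)) * a0⁻¹ = a0 * w * a0⁻¹ * (a0 * (a0 * w * a0⁻¹) * a0⁻¹) by group,
        hww]
      exact hVc _ (hk.le hw') _ (hk.le hw)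
    have hw1 : w ≠ 1 := fun e => hwm (by rw [e]; group)
    have hf01 : f0 ≠ 1 := fun e => hwm ((eq_inv_of_mul_eq_one_right e).trans (inv_eq_of_mul_eq_one_right (hsq w hw)))
    have hwf : w ≠ f0 := fun e => hw1 (conj_eq_one_iff.1 (mul_left_cancel ((mul_one w).trans e)).symm)
    have hcases : ∀ x ∈ W, x = 1 ∨ x = f0 ∨ x = w ∨ x = w * f0 := fun x hx =>
      JComponent.four_cases hk.card hf0W hf01 hw hwf hw1 (hsq f0 hf0W) hx
    have hfix2 : ∀ x ∈ W, a0 * x * a0⁻¹ = x → x = 1 ∨ x = f0 := fun x hx he => by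
      rcases hcases x hx with e | e | e | e
      · exact Or.inl e
      · exact Or.inr e
      · exact absurd (e ▸ he) hwm
      · exfalso
        apply hwm
        rw [e, show a0 * (w * f0) * a0⁻¹ = a0 * w * a0⁻¹ * (a0 * f0 * a0⁻¹) by group, hf0fix] at he
        exact mul_right_cancel he
    have hf2 : Nat.card ↥(W ⊓ centralizer (A1 : Set G)) ≤ 2 := by
      have hsub : ((W ⊓ centralizer (A1 : Set G) : Subgroup G) : Set G) ⊆ {1, f0} := fun x hx =>
        hfix2 x hx.1 (by rw [mem_centralizer_iff.1 hx.2 a0 ha0, mul_inv_cancel_right])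
      have := Set.ncard_le_ncard hsub (Set.toFinite _)
      rw [← Nat.card_coe_set_eq, Set.ncard_pair (Ne.symm hf01)] at this
      exact this
    -- every element of `A₁` fixes `f₀`
    have hf0A : ∀ a ∈ A1, a * f0 * a⁻¹ = f0 := fun a ha => by
      refine (hfix2 _ (hconjW ha hf0W) ?_).resolve_left fun e => hf01 (conj_eq_one_iff.1 e)
      have hcom := hAc (mem_inf.1 ha0).1 (mem_inf.1 ha).1
      calc a0 * (a * f0 * a⁻¹) * a0⁻¹ = (a0 * a) * f0 * (a0 * a)⁻¹ := by group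
        _ = (a * a0) * f0 * (a * a0)⁻¹ := by rw [hcom]
        _ = a * (a0 * f0 * a0⁻¹) * a⁻¹ := by group
        _ = a * f0 * a⁻¹ := by rw [hf0fix]
    have hfixall : ∀ a ∈ A1, a * w * a⁻¹ = w → a ∈ B := fun a ha hc => by
      refine ⟨(mem_inf.1 ha).1, mem_centralizer_iff.2 fun x hx => ?_⟩
      refine (mul_inv_eq_iff_eq_mul.1 ?_).symm
      rcases hcases x hx with e | e | e | e <;> rw [e]
      · group
      · exact hf0A a ha
      · exact hc
      · rw [show a * (w * f0) * a⁻¹ = a * w * a⁻¹ * (a * f0 * a⁻¹) by group, hc, hf0A a ha]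
    have hpos : ∀ a ∈ A1, a * w * a⁻¹ = w ∨ a * w * a⁻¹ = w * f0 := fun a ha => by
      rcases hcases _ (hconjW ha hw) with e | e | e | e
      · exact absurd (conj_eq_one_iff.1 e) hw1
      · exfalso
        apply hwf
        have := hf0A a ha
        rw [← e] at this
        exact (mul_left_cancel (mul_right_cancel this)).symm.trans e
      · exact Or.inl e
      · exact Or.inr e
    have hcover : ∀ a ∈ A1, a ∈ B ∨ a0 * a ∈ B := fun a ha => by
      rcases hpos a ha with e | e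
      · exact Or.inl (hfixall a ha e)
      · refine Or.inr (hfixall _ (mul_mem ha0 ha) ?_)
        have e0 : a0 * w * a0⁻¹ = w * f0 := (hpos a0 ha0).resolve_left hwm
        rw [show a0 * a * w * (a0 * a)⁻¹ = a0 * (a * w * a⁻¹) * a0⁻¹ by group, e,
          show a0 * (w * f0) * a0⁻¹ = a0 * w * a0⁻¹ * (a0 * f0 * a0⁻¹) by group, e0, hf0fix, mul_assoc,
          hsq f0 hf0W, mul_one]
    have hA1B : Nat.card A1 ≤ 2 * Nat.card B := by
      have hsub : (A1 : Set G) ⊆ (B : Set G) ∪ (fun b => a0 * b) '' (B : Set G) := fun a ha => by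
        rcases hcover a ha with h | h
        · exact Or.inl h
        · exact Or.inr ⟨a0 * a, h, by
            show a0 * (a0 * a) = a
            rw [← mul_assoc, hainv (mem_inf.1 ha0).1, one_mul]⟩
      have := (Set.ncard_le_ncard hsub (Set.toFinite _)).trans (Set.ncard_union_le _ _)
      rw [Set.ncard_image_of_injective _ (mul_right_injective a0)] at this
      simp only [← Nat.card_coe_set_eq, SetLike.coe_sort_coe] at this
      omega
    calc Nat.card A1 * _ ≤ 2 * Nat.card B * 2 := Nat.mul_le_mul hA1B hf2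
      _ = _ := by ring
  set CA := V ⊓ centralizer (A : Set G)
  set CB := V ⊓ centralizer (B : Set G)
  have hUB : U ⊔ CA ≤ CB := by
    refine sup_le (le_inf hUV (Finset.sup_le fun W' hW' x hx => ?_)) (inf_le_inf le_rfl (centralizer_le inf_le_left))
    obtain ⟨a, -, rfl⟩ := Finset.mem_image.1 hW'
    obtain ⟨y, hy, rfl⟩ := hx
    refine mem_centralizer_iff.2 fun b hb => ?_
    show b * ((a : G) * y * (a : G)⁻¹) = (a : G) * y * (a : G)⁻¹ * b
    have hbA := (mem_inf.1 hb).1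
    have hby : b * y = y * b := (mem_centralizer_iff.1 (mem_inf.1 hb).2 y hy).symm
    have c1 : Commute b (a : G) := hAc hbA a.2
    exact ((c1.mul_right hby).mul_right c1.inv_right).eq
  -- `|C_U(A)| ≤ |C_W(A₁)|`
  have hsplit : ∀ u : ↥(U ⊓ CA), ∃ x : ↥(W ⊓ centralizer (A1 : Set G)), ∃ y ∈ rest, (x : G) * y = u := by
    rintro ⟨u, huU, huV, huA⟩
    obtain ⟨x, hx, y, hy, hxy⟩ : ∃ x ∈ W, ∃ y ∈ rest, x * y = u := by
      refine mul_of_sup hVc hk.le (hrU.trans hUV) ?_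
      have : U = W ⊔ rest := by
        show s.sup id = W ⊔ (s.erase W).sup id
        conv_lhs => rw [← Finset.insert_erase hW, Finset.sup_insert]
        rfl
      rw [this] at huU; exact huU
    refine ⟨⟨x, hx, mem_centralizer_iff.2 fun a ha => ?_⟩, y, hy, hxy⟩
    have hay : a * y * a⁻¹ ∈ rest := by
      have hle : rest.map (MulAut.conj a).toMonoidHom ≤ rest := by
        rw [Subgroup.map_le_iff_le_comap]
        refine Finset.sup_le fun W' hW' => ?_
        rw [← Subgroup.map_le_iff_le_comap]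
        obtain ⟨b, -, hb⟩ := Finset.mem_image.1 (Finset.mem_of_mem_erase hW')
        refine Finset.le_sup (f := id) (Finset.mem_erase.2 ⟨fun e => Finset.ne_of_mem_erase hW' ?_, ?_⟩)
        · exact map_injective (MulAut.conj a).injective (e.trans (SylowIn.map_conj_eq_iff.2 (mem_inf.1 ha).2).symm)
        · refine Finset.mem_image.2 ⟨⟨a, (mem_inf.1 ha).1⟩ * b, Finset.mem_univ _, ?_⟩
          rw [← hb]; exact (SylowIn.map_conj_conj W a b).symm
      exact hle ⟨y, hy, rfl⟩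
    have hax : a * x * a⁻¹ ∈ W := (mem_normalizer_iff.1 (mem_inf.1 ha).2 x).1 hx
    have hu : a * u * a⁻¹ = u := by rw [mem_centralizer_iff.1 huA a (mem_inf.1 ha).1, mul_inv_cancel_right]
    rw [← hxy, show a * (x * y) * a⁻¹ = a * x * a⁻¹ * (a * y * a⁻¹) by group] at hu
    have h1 : x⁻¹ * (a * x * a⁻¹) = y * (a * y * a⁻¹)⁻¹ := by
      rw [eq_mul_inv_iff_mul_eq, mul_assoc, hu, inv_mul_cancel_left]
    have h2 : x⁻¹ * (a * x * a⁻¹) = 1 :=
      hdis (mul_mem (inv_mem hx) hax) (h1 ▸ mul_mem hy (inv_mem hay))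
    exact mul_inv_eq_iff_eq_mul.1 ((inv_mul_eq_one.1 h2).symm)
  choose g y hy hg using hsplit
  have hginj : Function.Injective g := by
    intro u v he
    set d := (u : G)⁻¹ * v with hd
    have hdr : d ∈ rest := by
      rw [hd, ← hg u, ← hg v, he, mul_inv_rev, mul_assoc, inv_mul_cancel_left]
      exact mul_mem (inv_mem (hy u)) (hy v)
    have hdA : d ∈ centralizer (A : Set G) := mul_mem (inv_mem (mem_inf.1 (mem_inf.1 u.2).2).2) (mem_inf.1 (mem_inf.1 v.2).2).2
    refine Subtype.ext (inv_mul_eq_one.1 (hUf d (hrU hdr) fun W' hW' r hr hrc => ?_))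
    obtain ⟨r', hr'R, a, ha, hae, hpl', hrv⟩ := hrep W' hW'
    -- the representative moving `W'` fixes `d`
    have hd' : r' * d * r'⁻¹ = d := by
      have c : d * a = a * d := (mem_centralizer_iff.1 hdA a ha).symm
      rw [hrv d (hUV (hrU hdr)), show a * k * a⁻¹ * d * (a * k * a⁻¹)⁻¹ = a * (k * (a⁻¹ * (d * a)) * k⁻¹) * a⁻¹
        by group, c, inv_mul_cancel_left, hkrest d hdr, ← c, mul_inv_cancel_right]
    obtain ⟨p, hp, q, hq, hpq⟩ : ∃ p ∈ W', ∃ q ∈ (s.erase W').sup id, p * q = d := by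
      refine mul_of_sup hVc hr.le ((Finset.sup_mono (Finset.erase_subset _ _)).trans hUV) ?_
      have hdU := hrU hdr
      have : U = W' ⊔ (s.erase W').sup id := by
        show s.sup id = _
        conv_lhs => rw [← Finset.insert_erase hW', Finset.sup_insert]
        rfl
      rw [this] at hdU; exact hdU
    have hq' : ∀ j : G, (∀ W'' ∈ s, W'' ≠ W' → ∀ z ∈ W'', j * z * j⁻¹ = z) → j * q * j⁻¹ = q := by
      intro j hj
      have : (s.erase W').sup id ≤ centralizer ({j} : Set G) := Finset.sup_le fun W'' hW'' z hz =>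
        mem_centralizer_singleton_iff.2 (mul_inv_eq_iff_eq_mul.1
          (hj W'' (Finset.mem_of_mem_erase hW'') (Finset.ne_of_mem_erase hW'') z hz)).symm
      rw [← mem_centralizer_singleton_iff.1 (this hq), mul_inv_cancel_right]
    have hr'c : ∀ W'' ∈ s, W'' ≠ W' → ∀ z ∈ W'', r' * z * r'⁻¹ = z := by
      intro W'' hW'' hne z hz
      obtain ⟨r3, hr3, -, -, -, hpl3, -⟩ := hrep W'' hW''
      exact (planes hVc hR _ le_rfl hr'R hr3 hpl' hpl3).resolve_left (Ne.symm hne) z hz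
    rw [← hpq, show r' * (p * q) * r'⁻¹ = r' * p * r'⁻¹ * (r' * q * r'⁻¹) by group, hq' r' hr'c] at hd'
    have hp1 := hpl'.fpf p hp (mul_right_cancel hd')
    rw [← hpq, hp1, one_mul]
    exact hq' r hrc
  have hUA : Nat.card ↥(U ⊓ CA) ≤ Nat.card ↥(W ⊓ centralizer (A1 : Set G)) := Nat.card_le_card_of_injective g hginj
  have e1 := card_sup hVc hUV (inf_le_left : CA ≤ V)
  rw [hUc] at e1
  have e2 := card_le_of_le hUB
  have e3 := hoff B inf_le_left
  rw [hm] at e3
  have key : 4 ^ s.card ≤ 4 * s.card := by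
    refine Nat.le_of_mul_le_mul_right (c := Nat.card CA * Nat.card B) ?_
      (Nat.mul_pos Nat.card_pos Nat.card_pos)
    calc 4 ^ s.card * (Nat.card CA * Nat.card B) = Nat.card ↥(U ⊔ CA) * Nat.card ↥(U ⊓ CA) * Nat.card B := by
          rw [e1]; ring
      _ ≤ Nat.card CB * Nat.card ↥(W ⊓ centralizer (A1 : Set G)) * Nat.card B :=
          Nat.mul_le_mul_right _ (Nat.mul_le_mul e2 hUA)
      _ = Nat.card B * Nat.card CB * Nat.card ↥(W ⊓ centralizer (A1 : Set G)) := by ring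
      _ ≤ s.card * Nat.card A1 * Nat.card CA * Nat.card ↥(W ⊓ centralizer (A1 : Set G)) :=
          Nat.mul_le_mul_right _ e3
      _ = s.card * Nat.card CA * (Nat.card A1 * Nat.card ↥(W ⊓ centralizer (A1 : Set G))) := by ring
      _ ≤ s.card * Nat.card CA * (4 * Nat.card B) := Nat.mul_le_mul_left _ h4
      _ = _ := by ring
  have hone : s.card ≤ 1 := by
    by_contra h
    obtain ⟨m, hm'⟩ : ∃ m, s.card = m + 2 := ⟨s.card - 2, by omega⟩
    rw [hm', pow_add] at key
    have := Nat.lt_pow_self (n := m) (show 1 < 4 by norm_num)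
    omega
  intro a ha
  refine SylowIn.map_conj_eq_iff.1 (Finset.card_le_one.1 hone _ ?_ _ hW)
  exact Finset.mem_image.2 ⟨⟨a, ha⟩, Finset.mem_univ _, rfl⟩

end CfsgLib.LocalEvenB.JPlaneOrbit
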