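import Cfsg.Agent.Lib.LocalEvenB.Straddle

/-!
Distinct `J(T)`-components of an overgroup centralize each other's four-groups, and the maximal
`2`-local overgroup of a component outside `M` is unique.
-/

set_option autoImplicit false
set_option linter.style.haveILetI false
set_option linter.unusedSectionVars false

open scoped Pointwise commutatorElement

namespace CfsgLib.LocalEvenB.JPlanes

open CfsgLib.LocalEven

universe u

attribute [local instance] Fusion.OmegaCenter.normal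

section Abstract

open CfsgLib.Fusion CfsgLib.Fusion.OffenderTv CfsgLib.Fusion.OffenderAction

variable {L : Type u} [Group L] [Finite L]

local notation "VV" => OmegaCenter.closureOmega 2 L
local notation "CC" => Subgroup.centralizer (VV : Set L)
local notation "qq" => QuotientGroup.mk' CC
local notation "RR" => Cfsg.pCore 2 L

variable (h : JLocal.Setting L) {K J : Subgroup L} (hK : JLocal.Comp K J (Cfsg.wOf K))
include h hK

/-- The four-group meets `V`. -/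
theorem meets (hR : RR ≤ Subgroup.normalizer (K : Set L)) :
    ∃ z ∈ Cfsg.wOf K, z ∈ VV ∧ z ≠ 1 := by
  haveI : Fact (Nat.Prime 2) := ⟨Nat.prime_two⟩
  obtain ⟨g, hg, ho, v, hv, hgv⟩ : ∃ g ∈ K, Odd (orderOf g) ∧ ∃ v ∈ VV, g * v ≠ v * g := by
    by_contra hcon
    push Not at hcon
    refine JLocal.not_le_cc h hK ?_
    conv_lhs => rw [← hK.gen]
    rw [Subgroup.closure_le]
    exact fun g hg => Subgroup.mem_centralizer_iff.2 fun v hv => (hcon g hg.1 hg.2 v hv).symm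
  have hV := OmegaCenter.omega_le h.sep h.core
  have hEA := OmegaCenter.isEA h.sep h.core
  set c := v * g * v⁻¹ * g⁻¹ with hc
  have hcV : c ∈ VV := by
    have h1 := (inferInstance : (VV).Normal).conj_mem v⁻¹ (inv_mem hv) g
    rw [show c = v * (g * v⁻¹ * g⁻¹) by rw [hc]; group]
    exact mul_mem hv h1
  have hcK : c ∈ K := mul_mem ((Subgroup.mem_normalizer_iff.1 (hR (hV hv).1) g).1 hg) (inv_mem hg)
  have hcQ : c ∈ Cfsg.pCoreOf 2 K := by
    refine SylowIn.le_pCoreOf (N := K ⊓ RR) inf_le_left ?_ ((SylowIn.isPGroup_pCore L 2).to_le inf_le_right)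
      ⟨hcK, (hV hcV).1⟩
    refine le_trans (le_inf Subgroup.le_normalizer ?_) Subgroup.inf_normalizer_le_normalizer_inf
    rw [Subgroup.normalizer_eq_top_iff.2 (SylowIn.pCore_normal L 2)]; exact le_top
  have hcU : c ∈ Cfsg.omegaCenterOf (Cfsg.pCoreOf 2 K) := Subgroup.subset_closure
    ⟨⟨hcQ, Subgroup.mem_centralizer_iff.2 fun q hq =>
      Subgroup.mem_centralizer_iff.1 (hV hcV).2 q (JLocal.q_le_rr h hK hq)⟩, hEA.2 c hcV⟩
  have hdW : ⁅c, g⁆ ∈ Cfsg.wOf K := Subgroup.commutator_mem_commutator hcU hg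
  have hdV : ⁅c, g⁆ ∈ VV := by
    have h1 := (inferInstance : (VV).Normal).conj_mem c⁻¹ (inv_mem hcV) g
    rw [commutatorElement_def, show c * g * c⁻¹ * g⁻¹ = c * (g * c⁻¹ * g⁻¹) by group]
    exact mul_mem hcV h1
  refine ⟨_, hdW, hdV, fun e => hgv ?_⟩
  -- if `g` fixes `c` then `c = 1`
  have hcg : Commute c g := by
    rw [commutatorElement_def, mul_inv_eq_one, mul_inv_eq_iff_eq_mul] at e
    exact e
  have hvg : v * g * v⁻¹ = c * g := by rw [hc]; group
  have hpow : c ^ orderOf g = 1 := by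
    have h1 : (v * g * v⁻¹) ^ orderOf g = 1 := by rw [conj_pow, pow_orderOf_eq_one]; group
    rwa [hvg, hcg.mul_pow, pow_orderOf_eq_one, mul_one] at h1
  obtain ⟨n, hn⟩ := ho
  rw [hn, pow_succ, pow_mul, hEA.2 c hcV, one_pow, one_mul] at hpow
  rw [hpow, one_mul] at hvg
  exact (mul_inv_eq_iff_eq_mul.1 hvg).symm

/-- A different component centralizes the four-group. -/
theorem centralizes {K' J' W' : Subgroup L} (hK' : JLocal.Comp K' J' W')
    (hR : RR ≤ Subgroup.normalizer (K : Set L)) (hR' : RR ≤ Subgroup.normalizer (K' : Set L))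
    (hne : K ≠ K') : K' ≤ Subgroup.centralizer (Cfsg.wOf K : Set L) := by
  obtain ⟨z, hzW, hzV, hz1⟩ := meets h hK hR
  obtain ⟨a, ha, -, k, hk, hke, hk3, hk1, hgen⟩ := JLocal.exists_tv h hK
  obtain ⟨c, hc, -, k', hk', hke', hk3', hk1', hgen'⟩ := JLocal.exists_tv h hK'
  have hW := JLocal.plane_eq h hK hzV hzW hz1 hk hke ha hk1
  have hne' : egroup a ≠ egroup c := by
    intro heq
    have e1 : K'.map qq ≤ K.map qq := by
      rw [hgen', hgen, Subgroup.zpowers_le]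
      exact JLocal.generator h ha hke hk3 hk1 (heq ▸ hke') hk3'
    have e2 : K.map qq ≤ K'.map qq := by
      rw [hgen', hgen, Subgroup.zpowers_le]
      exact JLocal.generator h hc hke' hk3' hk1' (heq ▸ hke) hk3
    exact hne (le_antisymm (JLocal.le_of_map_le h hK' hK e2 hR') (JLocal.le_of_map_le h hK hK' e1 hR))
  intro g hg
  refine Subgroup.mem_centralizer_iff.2 fun w hw => ?_
  have hge : qq g ∈ egroup c := by
    obtain ⟨i, hi⟩ : qq g ∈ Subgroup.zpowers (qq k') := hgen' ▸ Subgroup.mem_map_of_mem qq hg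
    exact hi ▸ zpow_mem hke' i
  exact (OffenderFixed.plane_le_fixed h.sep h.core hc ha hne' (hW ▸ hw) hge).symm

end Abstract

open Subgroup

variable {G : Type u} [Group G] [Finite G]

theorem omegaCenterOf_map {H : Type u} [Group H] [Finite H] (f : H →* G) (hf : Function.Injective f)
    (X : Subgroup H) : (Cfsg.omegaCenterOf X).map f = Cfsg.omegaCenterOf (X.map f) := by
  rw [Cfsg.omegaCenterOf, Cfsg.omegaCenterOf, Cfsg.omegaOne, Cfsg.omegaOne, MonoidHom.map_closure]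
  congr 1
  ext x
  constructor
  · rintro ⟨y, ⟨⟨hy, hyc⟩, hy2⟩, rfl⟩
    refine ⟨⟨mem_map_of_mem _ hy, ?_⟩, by rw [← map_pow, hy2, map_one]⟩
    rintro _ ⟨z, hz, rfl⟩
    rw [← map_mul, ← map_mul, hyc z hz]
  · rintro ⟨⟨⟨y, hy, rfl⟩, hyc⟩, hy2⟩
    exact ⟨y, ⟨⟨hy, fun z hz => hf (by rw [map_mul, map_mul]; exact hyc _ (mem_map_of_mem _ hz))⟩,
      hf (by rw [map_pow, map_one]; exact hy2)⟩, rfl⟩

theorem wOf_map {H : Type u} [Group H] [Finite H] (f : H →* G) (hf : Function.Injective f)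
    (X : Subgroup H) : (Cfsg.wOf X).map f = Cfsg.wOf (X.map f) := by
  rw [Cfsg.wOf, Cfsg.wOf, map_commutator, omegaCenterOf_map f hf, JAmbient.map_pCoreOf f hf]

/-- Being a component depends only on `J(T)`. -/
theorem isJComponent_congr {T T' K : Subgroup G}
    (h : Cfsg.thompsonSubgroupOf 2 T' = Cfsg.thompsonSubgroupOf 2 T) (hK : Cfsg.IsJComponent T K) :
    Cfsg.IsJComponent T' K := by
  unfold Cfsg.IsJComponent at hK ⊢
  rwa [h]

theorem isJComponent_conj {T K : Subgroup G} (hK : Cfsg.IsJComponent T K) (g : G) :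
    Cfsg.IsJComponent (T.map (MulAut.conj g).toMonoidHom) (K.map (MulAut.conj g).toMonoidHom) := by
  haveI : Fact (Nat.Prime 2) := ⟨Nat.prime_two⟩
  set f := (MulAut.conj g).toMonoidHom with hf
  have hinj : Function.Injective f := (MulAut.conj g).injective
  obtain ⟨h1, h2, h3, h4, h5, h6⟩ := hK
  have hW : Cfsg.wOf (K.map f) = (Cfsg.wOf K).map f := (wOf_map f hinj K).symm
  refine ⟨?_, ?_, ?_, fun V hV hJV => ?_, ?_, ?_⟩
  · conv_rhs => rw [← h1, MonoidHom.map_closure]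
    congr 1
    ext x
    constructor
    · rintro ⟨⟨y, hy, rfl⟩, ho⟩
      exact ⟨y, ⟨hy, by rwa [orderOf_injective f hinj] at ho⟩, rfl⟩
    · rintro ⟨y, ⟨hy, ho⟩, rfl⟩
      exact ⟨⟨y, hy, rfl⟩, by rwa [orderOf_injective f hinj]⟩
  · rw [hf, Fusion.Thompson.thompsonSubgroupOf_map_conj, ← map_commutator, h2]
  · rw [← JAmbient.map_pCoreOf f hinj, relIndex_map_map_of_injective _ _ hinj, h3]
  · rw [hf, Fusion.Thompson.thompsonSubgroupOf_map_conj] at hV hJV ⊢
    have hback : ∀ X : Subgroup G, (X.map (MulAut.conj g⁻¹).toMonoidHom).map f = X := fun X => by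
      rw [hf, SylowIn.map_conj_conj, mul_inv_cancel, SylowIn.map_conj_one]
    have hforth : ∀ X : Subgroup G, (X.map f).map (MulAut.conj g⁻¹).toMonoidHom = X := fun X => by
      rw [hf, SylowIn.map_conj_conj, inv_mul_cancel, SylowIn.map_conj_one]
    rw [← hf, ← Subgroup.map_sup] at hV
    have h := h4 (V.map (MulAut.conj g⁻¹).toMonoidHom) ⟨(map_mono hV.1).trans (le_of_eq (hforth _)),
      hV.2.1.map _, by
        rw [← hforth (K ⊔ Cfsg.thompsonSubgroupOf 2 T),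
          relIndex_map_map_of_injective _ _ (MulAut.conj g⁻¹).injective]
        exact hV.2.2⟩ ((le_of_eq (hforth _).symm).trans (map_mono hJV))
    rw [← hback V, hf, Fusion.Thompson.thompsonSubgroupOf_map_conj, h]
  · rw [hW, card_map_of_injective hinj, h5]
  · rw [hW]
    rintro _ ⟨w, hw, rfl⟩
    rw [← map_mul, h6 w hw, map_one]

/-- Elementary abelian subgroups of `L` are no larger than those of a Sylow subgroup. -/
theorem card_le_of_sylow {T L A B : Subgroup G} (hT : Cfsg.IsSylowTwoIn T L) (hA : JComponent.MaxIn T A)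
    (hBL : B ≤ L) (hB : Cfsg.IsElementaryAbelian 2 B) : Nat.card B ≤ Nat.card A := by
  obtain ⟨g, -, hle⟩ := Straddle.le_map_of_sylow hT hBL (Fusion.Thompson.isPGroup_isEA hB)
  have h := hA.2.2 (B.map (MulAut.conj g⁻¹).toMonoidHom) ?_ (Fusion.Thompson.isEA_map _ hB)
  · rwa [card_map_of_injective (MulAut.conj g⁻¹).injective] at h
  · refine (map_mono hle).trans (le_of_eq ?_)
    rw [SylowIn.map_conj_conj, inv_mul_cancel, SylowIn.map_conj_one]

/-- Thompson subgroups of groups with a common `J(T)`. -/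
theorem thompsonOf_le {T T' L L' : Subgroup G} (hT : Cfsg.IsSylowTwoIn T L) (hT' : Cfsg.IsSylowTwoIn T' L')
    (hJ : Cfsg.thompsonSubgroupOf 2 T' = Cfsg.thompsonSubgroupOf 2 T)
    (hle : Cfsg.thompsonSubgroupOf 2 L ≤ L') :
    Cfsg.thompsonSubgroupOf 2 L ≤ Cfsg.thompsonSubgroupOf 2 L' := by
  refine JComponent.thompson_le fun A hA => JComponent.maxIn_le
    ⟨(JComponent.maxIn_le hA).trans hle, hA.2.1, fun B hB hBe => ?_⟩
  obtain ⟨A', hA'⟩ := JComponent.exists_maxIn T'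
  refine (card_le_of_sylow hT' hA' hB hBe).trans (hA.2.2 A' ?_ hA'.2.1)
  exact (JComponent.maxIn_le hA').trans (hJ.le.trans ((Fusion.Thompson.thompsonSubgroupOf_le T).trans hT.1))

section Overgroup

variable (hL : Cfsg.IsCharacteristicTwoType G)
  (hN : ∀ N : Subgroup G, Cfsg.IsTwoLocal N → Group.IsSolvable ↥N)
  (hZ : ∀ S : Sylow 2 G, centralizer (Cfsg.omegaCenterOf (S : Subgroup G) : Set G) ≤
    normalizer ((S : Subgroup G) : Set G))
include hL hN hZ

/-- Distinct components of an overgroup centralize each other's four-groups. -/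
theorem centralizes_wOf {T L K K' : Subgroup G} (hT1 : T ≠ ⊥) (hLT : L ∈ Cfsg.jOvergroups T)
    (hK : Cfsg.IsJComponent T K) (hKL : K ≤ L) (hK' : Cfsg.IsJComponent T K') (hK'L : K' ≤ L)
    (hne : K ≠ K') : K' ≤ centralizer (Cfsg.wOf K : Set G) := by
  haveI : Fact (Nat.Prime 2) := ⟨Nat.prime_two⟩
  have hT : IsPGroup 2 T := hLT.1.2.1
  obtain ⟨S, hS⟩ := JAmbient.exists_sylow hLT.1
  have hJ : Cfsg.thompsonSubgroupOf 2 ((S : Subgroup ↥L).map L.subtype) = Cfsg.thompsonSubgroupOf 2 T := by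
    rw [hS]
  have hWL : (Cfsg.wOf K).subgroupOf L = Cfsg.wOf (K.subgroupOf L) := by
    refine map_injective L.subtype_injective ?_
    rw [map_subgroupOf_eq_of_le ((JAmbient.wOf_le_K K).trans hKL), wOf_map L.subtype L.subtype_injective,
      map_subgroupOf_eq_of_le hKL]
  have hc := JAmbient.comp_of hK hKL S hJ
  rw [hWL] at hc
  have h := centralizes (JAmbient.setting_of hN hZ L hLT.2.2 (Straddle.pCoreOf_ne_bot hT1 hLT)) hc
    (JAmbient.comp_of hK' hK'L S hJ) (JAmbient.pCore_le_normalizer hL hN hZ hT hT1 hK hKL S hJ)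
    (JAmbient.pCore_le_normalizer hL hN hZ hT hT1 hK' hK'L S hJ)
    (fun e => hne (by rw [← map_subgroupOf_eq_of_le hKL, e, map_subgroupOf_eq_of_le hK'L]))
  intro g hg
  refine mem_centralizer_iff.2 fun w hw => ?_
  have := mem_centralizer_iff.1 (h (show (⟨g, hK'L hg⟩ : ↥L) ∈ K'.subgroupOf L from hg))
    (⟨w, (JAmbient.wOf_le_K K).trans hKL hw⟩ : ↥L) (hWL ▸ hw)
  exact congrArg Subtype.val this

/-- All components of an overgroup normalize the four-group. -/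
theorem le_normalizer_wOf {T L K K' : Subgroup G} (hT1 : T ≠ ⊥) (hLT : L ∈ Cfsg.jOvergroups T)
    (hK : Cfsg.IsJComponent T K) (hKL : K ≤ L) (hK' : Cfsg.IsJComponent T K') (hK'L : K' ≤ L) :
    K' ≤ normalizer (Cfsg.wOf K : Set G) := by
  by_cases hne : K = K'
  · subst hne
    exact Subgroup.le_normalizer.trans (JAmbient.conjK_le_normalizer_wOf K)
  · exact (centralizes_wOf hL hN hZ hT1 hLT hK hKL hK' hK'L hne).trans (centralizer_le_normalizer _)

/-- `J(L)` lies in a subgroup containing `J(T)`, `O₂(L)` and the components. -/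
theorem thompson_le_of {T L H : Subgroup G} (hT1 : T ≠ ⊥) (hLT : L ∈ Cfsg.jOvergroups T)
    (hJ : Cfsg.thompsonSubgroupOf 2 T ≤ H) (hR : Cfsg.pCoreOf 2 L ≤ H)
    (hcomp : ∀ K : Subgroup G, Cfsg.IsJComponent T K → K ≤ L → K ≤ H) :
    Cfsg.thompsonSubgroupOf 2 L ≤ H := by
  haveI : Fact (Nat.Prime 2) := ⟨Nat.prime_two⟩
  obtain ⟨S, hS⟩ := JAmbient.exists_sylow hLT.1
  rw [Cfsg.thompsonSubgroupOf, map_le_iff_le_comap]
  refine JGenerate.thompson_le (JAmbient.setting_of hN hZ L hLT.2.2 (Straddle.pCoreOf_ne_bot hT1 hLT)) S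
    (map_le_iff_le_comap.1 ?_) (map_le_iff_le_comap.1 hR) fun K hK => map_le_iff_le_comap.1
      (hcomp _ (Straddle.isJComponent_map hLT.1 S hS hK) (map_subtype_le K))
  rwa [JAmbient.map_thompsonOf L.subtype L.subtype_injective, hS]

theorem pCoreOf_le_normalizer {T L K : Subgroup G} (hT : IsPGroup 2 T) (hT1 : T ≠ ⊥)
    (hLT : L ∈ Cfsg.jOvergroups T) (hK : Cfsg.IsJComponent T K) (hKL : K ≤ L) :
    Cfsg.pCoreOf 2 L ≤ normalizer (K : Set G) := by
  haveI : Fact (Nat.Prime 2) := ⟨Nat.prime_two⟩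
  refine Cfsg.Agent.S2941.result hL hN hZ T hT hT1 K hK _ ((sup_le hKL
    ((Fusion.Thompson.thompsonSubgroupOf_le T).trans hLT.1.1)).trans (SylowIn.normalizer_pCoreOf L)) ?_
  exact ((SylowIn.pCoreOf_le_sylowIn (Straddle.isSylowTwoIn_iff.1 hLT.1)).trans Subgroup.le_normalizer).trans
    (Fusion.Thompson.normalizer_le_normalizer_thompsonOf T)

section Unique

variable {M T : Subgroup G} (hT : T ∈ Cfsg.maxStraddlingTwoSubgroups M) {S : Sylow 2 G}
  (hMJ : normalizer (Cfsg.thompsonSubgroupOf 2 (S : Subgroup G) : Set G) ≤ M)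
include hT hMJ

/-- A `2`-local subgroup outside `M` containing `J(T)` is an overgroup for some `T₀` with the same `J`. -/
theorem exists_sylow {L : Subgroup G} (hL2 : Cfsg.IsTwoLocal L) (hLM : ¬ L ≤ M)
    (hJL : Cfsg.thompsonSubgroupOf 2 T ≤ L) :
    ∃ T₀, L ∈ Cfsg.jOvergroups T₀ ∧ T₀ ≠ ⊥ ∧
      Cfsg.thompsonSubgroupOf 2 T₀ = Cfsg.thompsonSubgroupOf 2 T := by
  obtain ⟨T₀, hT₀, hJT₀⟩ := SylowIn.exists_isSylowIn (p := 2) L hJL
    (hT.1.1.to_le (Fusion.Thompson.thompsonSubgroupOf_le T))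
  have hT₀' := Straddle.isSylowTwoIn_iff.2 hT₀
  obtain ⟨hs, hJ⟩ := Straddle.sylow_facts hT hMJ hL2 hLM hT₀' hJT₀
  exact ⟨T₀, Straddle.overgroup hT hMJ hL hL2 hLM hT₀' hJT₀, hs.2.1, hJ⟩

theorem normalizer_wOf_facts {K : Subgroup G} (hK : Cfsg.IsJComponent T K) (hKM : ¬ K ≤ M) :
    Cfsg.IsTwoLocal (normalizer (Cfsg.wOf K : Set G)) ∧ ¬ normalizer (Cfsg.wOf K : Set G) ≤ M ∧
      K ≤ normalizer (Cfsg.wOf K : Set G) ∧
      Cfsg.thompsonSubgroupOf 2 T ≤ normalizer (Cfsg.wOf K : Set G) := by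
  have hW4 : Nat.card ↥(Cfsg.wOf K) = 4 := hK.2.2.2.2.1
  have h2 : Cfsg.IsTwoLocal (normalizer (Cfsg.wOf K : Set G)) :=
    ⟨_, IsPGroup.of_card (n := 2) (by rw [hW4]; norm_num), fun e => by rw [e, card_bot] at hW4; omega, rfl⟩
  have hKN : K ≤ normalizer (Cfsg.wOf K : Set G) :=
    Subgroup.le_normalizer.trans (JAmbient.conjK_le_normalizer_wOf K)
  refine ⟨h2, fun h => hKM (hKN.trans h), hKN, le_trans ?_ (JAmbient.conjK_le_normalizer_wOf K)⟩
  have := Commutators.normalizer_commutator_right K (Cfsg.thompsonSubgroupOf 2 T)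
  rwa [hK.2.1] at this

/-- The Thompson subgroup of an overgroup lies in that of `N(W_K)`. -/
theorem thompson_le_normalizer {L K : Subgroup G} (hL2 : Cfsg.IsTwoLocal L) (hLM : ¬ L ≤ M)
    (hJL : Cfsg.thompsonSubgroupOf 2 T ≤ L) (hK : Cfsg.IsJComponent T K) (hKM : ¬ K ≤ M) (hKL : K ≤ L) :
    Cfsg.thompsonSubgroupOf 2 L ≤ Cfsg.thompsonSubgroupOf 2 (normalizer (Cfsg.wOf K : Set G)) := by
  obtain ⟨h2, hNM, hKN, hJN⟩ := normalizer_wOf_facts hL hN hZ hT hMJ hK hKM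
  obtain ⟨T₀, hLT, hT₀1, hJ₀⟩ := exists_sylow hL hN hZ hT hMJ hL2 hLM hJL
  obtain ⟨T₁, hNT, -, hJ₁⟩ := exists_sylow hL hN hZ hT hMJ h2 hNM hJN
  refine thompsonOf_le hLT.1 hNT.1 (hJ₁.trans hJ₀.symm) ?_
  have hK₀ := isJComponent_congr hJ₀ hK
  refine thompson_le_of hL hN hZ hT₀1 hLT (hJ₀.le.trans hJN) ?_ fun K' hK' hK'L =>
    le_normalizer_wOf hL hN hZ hT₀1 hLT hK₀ hKL hK' hK'L
  exact (pCoreOf_le_normalizer hL hN hZ hLT.1.2.1 hT₀1 hLT hK₀ hKL).trans
    (JAmbient.conjK_le_normalizer_wOf K)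

/-- Components outside `M` that lie in each other's normalizers give the same Thompson subgroup. -/
theorem thompson_eq {K K' : Subgroup G} (hK : Cfsg.IsJComponent T K) (hKM : ¬ K ≤ M)
    (hK' : Cfsg.IsJComponent T K') (hK'M : ¬ K' ≤ M)
    (hle : K' ≤ normalizer (Cfsg.wOf K : Set G)) :
    Cfsg.thompsonSubgroupOf 2 (normalizer (Cfsg.wOf K : Set G)) =
      Cfsg.thompsonSubgroupOf 2 (normalizer (Cfsg.wOf K' : Set G)) := by
  obtain ⟨h2, hNM, hKN, hJN⟩ := normalizer_wOf_facts hL hN hZ hT hMJ hK hKM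
  obtain ⟨h2', hNM', hKN', hJN'⟩ := normalizer_wOf_facts hL hN hZ hT hMJ hK' hK'M
  obtain ⟨T₁, hNT, hT₁, hJ₁⟩ := exists_sylow hL hN hZ hT hMJ h2 hNM hJN
  refine le_antisymm (thompson_le_normalizer hL hN hZ hT hMJ h2 hNM hJN hK' hK'M hle)
    (thompson_le_normalizer hL hN hZ hT hMJ h2' hNM' hJN' hK hKM ?_)
  exact le_normalizer_wOf hL hN hZ hT₁ hNT (isJComponent_congr hJ₁ hK') hle (isJComponent_congr hJ₁ hK) hKN

/-- Every `2`-local subgroup containing `K` and `J(T)` normalizes `J(N(W_K))`. -/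
theorem le_normalizer_thompson {L K : Subgroup G} (hL2 : Cfsg.IsTwoLocal L)
    (hJL : Cfsg.thompsonSubgroupOf 2 T ≤ L) (hK : Cfsg.IsJComponent T K) (hKM : ¬ K ≤ M) (hKL : K ≤ L) :
    L ≤ normalizer (Cfsg.thompsonSubgroupOf 2 (normalizer (Cfsg.wOf K : Set G)) : Set G) := by
  haveI : Fact (Nat.Prime 2) := ⟨Nat.prime_two⟩
  have hLM : ¬ L ≤ M := fun h => hKM (hKL.trans h)
  obtain ⟨T₀, hLT, hT₀1, hJ₀⟩ := exists_sylow hL hN hZ hT hMJ hL2 hLM hJL
  set J := Cfsg.thompsonSubgroupOf 2 T with hJdef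
  set P := Cfsg.thompsonSubgroupOf 2 L with hP
  have hJP : J ≤ P := by
    rw [← hJ₀]
    exact JComponent.thompson_le fun A hA => JComponent.maxIn_le
      ⟨hA.1.trans hLT.1.1, hA.2.1, fun B hB hBe => card_le_of_sylow hLT.1 hA hB hBe⟩
  have hPL : P ≤ L := Fusion.Thompson.thompsonSubgroupOf_le L
  obtain ⟨T1, hT1, hJT1⟩ := SylowIn.exists_isSylowIn (p := 2) P hJP
    (hT.1.1.to_le (Fusion.Thompson.thompsonSubgroupOf_le T))
  have hJeq : Cfsg.thompsonSubgroupOf 2 T1 = J :=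
    (Straddle.thompson_eq hLT.1 (hT1.1.trans hPL) hT1.2.1 (hJ₀.le.trans hJT1)).trans hJ₀
  intro g hg
  obtain ⟨l, hl, n, hn, rfl⟩ := SylowIn.frattini_argument hT1
    (Subgroup.le_normalizer.trans (Fusion.Thompson.normalizer_le_normalizer_thompsonOf L)) hPL hg
  refine mul_mem (Subgroup.le_normalizer (thompson_le_normalizer hL hN hZ hT hMJ hL2 hLM hJL hK hKM hKL hl)) ?_
  have hnJ : n ∈ normalizer (J : Set G) := by
    have := Fusion.Thompson.normalizer_le_normalizer_thompsonOf (p := 2) T1 hn.2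
    rwa [hJeq] at this
  have hnM : n ∈ M := Straddle.normalizer_thompson_le hT hMJ hnJ
  set K' := K.map (MulAut.conj n).toMonoidHom with hK'def
  have hK' : Cfsg.IsJComponent T K' := by
    refine isJComponent_congr ?_ (isJComponent_conj hK n)
    rw [Fusion.Thompson.thompsonSubgroupOf_map_conj, SylowIn.map_conj_eq_iff.2 hnJ]
  have hK'L : K' ≤ L := (map_mono hKL).trans (SylowIn.map_conj_eq_iff.2 (Subgroup.le_normalizer hn.1)).le
  have hK'M : ¬ K' ≤ M := by
    refine fun h => hKM fun x hx => ?_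
    have := mul_mem (mul_mem (inv_mem hnM) (h (mem_map_of_mem _ hx))) hnM
    simpa [mul_assoc] using this
  have heq := thompson_eq hL hN hZ hT hMJ hK hKM hK' hK'M
    (le_normalizer_wOf hL hN hZ hT₀1 hLT (isJComponent_congr hJ₀ hK) hKL (isJComponent_congr hJ₀ hK') hK'L)
  refine SylowIn.map_conj_eq_iff.1 ?_
  rw [← Fusion.Thompson.thompsonSubgroupOf_map_conj, ← SylowIn.normalizer_map_conj,
    wOf_map _ (MulAut.conj n).injective, ← hK'def, heq]

/-- The unique maximal overgroup. -/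
theorem main {K : Subgroup G} (hK : K ∈ Cfsg.jComponentsOutside M T) :
    ∃ L : Subgroup G, Cfsg.IsMaximalTwoLocal L ∧ K ⊔ Cfsg.thompsonSubgroupOf 2 T ≤ L ∧
      (∀ L' : Subgroup G, Cfsg.IsMaximalTwoLocal L' → K ⊔ Cfsg.thompsonSubgroupOf 2 T ≤ L' → L' = L) ∧
      (K.subgroupOf L).IsSubnormal ∧ Cfsg.IsSylowTwoIn T L := by
  haveI : Fact (Nat.Prime 2) := ⟨Nat.prime_two⟩
  obtain ⟨⟨hKc, -⟩, hKM, hO2⟩ := hK
  obtain ⟨hTp, hT1, -, -⟩ := hT.1
  have hL0 : Cfsg.IsTwoLocal (normalizer (Cfsg.pCoreOf 2 (K ⊔ T) : Set G)) :=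
    ⟨_, SylowIn.isPGroup_pCoreOf _, hO2, rfl⟩
  obtain ⟨L, ⟨hL2, hle⟩, hmax⟩ := Set.exists_max_image
    {L : Subgroup G | Cfsg.IsTwoLocal L ∧ normalizer (Cfsg.pCoreOf 2 (K ⊔ T) : Set G) ≤ L}
    (fun L : Subgroup G => Nat.card L) (Set.toFinite _) ⟨_, hL0, le_rfl⟩
  have hLmax : Cfsg.IsMaximalTwoLocal L := ⟨hL2, fun N hN2 hLN =>
    (eq_of_le_of_card_ge hLN (hmax N ⟨hN2, hle.trans hLN⟩)).symm⟩
  have hKT : K ⊔ T ≤ L := (SylowIn.normalizer_pCoreOf _).trans hle
  have hKL : K ≤ L := le_sup_left.trans hKT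
  have hLM : ¬ L ≤ M := fun h => hKM (hKL.trans h)
  have hTS := Straddle.sylow_of_le hT hMJ hL2 hLM (le_sup_right.trans hKT)
  have hLT := Straddle.overgroup hT hMJ hL hL2 hLM hTS (Fusion.Thompson.thompsonSubgroupOf_le T)
  set P := Cfsg.thompsonSubgroupOf 2 (normalizer (Cfsg.wOf K : Set G)) with hP
  obtain ⟨h2, hNM, hKN, hJN⟩ := normalizer_wOf_facts hL hN hZ hT hMJ hKc hKM
  have hPne : Cfsg.pCoreOf 2 P ≠ ⊥ := by
    obtain ⟨T₁, hNT, -, hJ₁⟩ := exists_sylow hL hN hZ hT hMJ h2 hNM hJN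
    have hJP : Cfsg.thompsonSubgroupOf 2 T ≤ P := by
      rw [← hJ₁]
      exact JComponent.thompson_le fun A hA => JComponent.maxIn_le
        ⟨hA.1.trans hNT.1.1, hA.2.1, fun B hB hBe => card_le_of_sylow hNT.1 hA hB hBe⟩
    set D := Cfsg.omegaCenterOf (Cfsg.thompsonSubgroupOf 2 T) ⊓ Cfsg.wOf K with hD
    have hcard : Nat.card D = 2 := (JComponent.main hTp hKc).1
    have hW4 : Nat.card ↥(Cfsg.wOf K) = 4 := hKc.2.2.2.2.1
    have hDle : D ≤ Cfsg.pCoreOf 2 P := by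
      have h := SylowIn.le_pCoreOf (p := 2) (N := P ⊓ Cfsg.wOf K) (H := P) inf_le_left
        ((le_inf Subgroup.le_normalizer (Fusion.Thompson.thompsonSubgroupOf_le _)).trans
          inf_normalizer_le_normalizer_inf)
        ((IsPGroup.of_card (n := 2) (by rw [hW4]; norm_num) : IsPGroup 2 ↥(Cfsg.wOf K)).to_le inf_le_right)
      exact le_trans (inf_le_inf_right _ (((JComponent.omegaCenterOf_le _).trans inf_le_left).trans hJP)) h
    intro e
    rw [e, le_bot_iff] at hDle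
    rw [hDle, card_bot] at hcard
    omega
  have hPloc : Cfsg.IsTwoLocal (normalizer (Cfsg.pCoreOf 2 P : Set G)) :=
    ⟨_, SylowIn.isPGroup_pCoreOf _, hPne, rfl⟩
  have key : ∀ L' : Subgroup G, Cfsg.IsMaximalTwoLocal L' → K ⊔ Cfsg.thompsonSubgroupOf 2 T ≤ L' →
      L' = normalizer (Cfsg.pCoreOf 2 P : Set G) := fun L' hL' hle' =>
    (hL'.2 _ hPloc ((le_normalizer_thompson hL hN hZ hT hMJ hL'.1 (le_sup_right.trans hle') hKc hKM
      (le_sup_left.trans hle')).trans (JComponent.normalizer_le_pCoreOf P))).symm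
  have hKJ : K ⊔ Cfsg.thompsonSubgroupOf 2 T ≤ L :=
    (sup_le_sup_left (Fusion.Thompson.thompsonSubgroupOf_le T) K).trans hKT
  refine ⟨L, hLmax, hKJ, fun L' hL' hle' => (key L' hL' hle').trans (key L hLmax hKJ).symm, ?_, hTS⟩
  obtain ⟨U, hU⟩ := JAmbient.exists_sylow hTS
  exact JAmbient.isSubnormal hL hN hZ hTp hT1 hKc hKL hLT.2.2 U (by rw [hU])

end Unique

end Overgroup

end CfsgLib.LocalEvenB.JPlanes
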