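import Cfsg.Agent.Lib.LocalEvenB.JPairs
import Cfsg.Agent.S1012

/-!
Two vertices whose four-groups do not commute: both overgroups are `S₄` or both are `S₄ × 2`.
-/

set_option autoImplicit false
set_option linter.style.haveILetI false
set_option linter.unusedSectionVars false

open scoped Pointwise commutatorElement

namespace CfsgLib.LocalEvenB.JShape

open Subgroup CfsgLib.LocalEven JVertex JOffend JSquares JPath JPairs

universe u

variable {G : Type u} [Group G] [Finite G]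

/-- An elementary abelian group from a commuting set of elements of order at most two. -/
theorem isEA_closure {s : Set G} (hc : ∀ x ∈ s, ∀ y ∈ s, x * y = y * x) (h2 : ∀ x ∈ s, x * x = 1) :
    Cfsg.IsElementaryAbelian 2 (closure s) := by
  have hle : closure s ≤ centralizer (closure s : Set G) := by
    rw [closure_le]
    intro x hx
    have hx' : closure s ≤ centralizer ({x} : Set G) :=
      (closure_le _).2 fun y hy => mem_centralizer_singleton_iff.2 (hc y hy x hx)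
    exact mem_centralizer_iff.2 fun y hy => mem_centralizer_singleton_iff.1 (hx' hy)
  refine ⟨IsMulCommutative.of_comm fun a b => Subtype.ext (mem_centralizer_iff.1 (hle b.2) a a.2),
    fun x hx => ?_⟩
  induction hx using closure_induction with
  | mem y hy => rw [pow_two]; exact h2 y hy
  | one => exact one_pow 2
  | mul a b ha hb ia ib =>
    have hab : Commute a b := mem_centralizer_iff.1 (hle hb) a ha
    rw [hab.mul_pow, ia, ib, one_mul]
  | inv a _ ia => rw [inv_pow, ia, inv_one]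

/-- `K` moves the involution of `Z₀ ∩ W_K` to every nonidentity element of `W_K`. -/
theorem conj_f (H : Hyp G) {T K L : Subgroup G} (hv : Vertex T K L) {f v : G} (hfW : f ∈ Cfsg.wOf K)
    (hf1 : f ≠ 1) (hv' : v ∈ Cfsg.wOf K) (hv1 : v ≠ 1) : ∃ g ∈ K, g * f * g⁻¹ = v := by
  obtain ⟨k, hk, hk3, hkn, hkfix⟩ := Vertex.exists_k H hv
  have hm : ∀ x ∈ Cfsg.wOf K, k * x * k⁻¹ ∈ Cfsg.wOf K := fun x hx => (mem_normalizer_iff.1 hkn x).1 hx
  have hsq : ∀ x ∈ Cfsg.wOf K, x * x = 1 := hv.comp.2.2.2.2.2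
  have h1 := hm f hfW
  have h2 := hm _ h1
  have hn1 : k * f * k⁻¹ ≠ f := fun e => hf1 (hkfix f hfW e)
  have hn4 : k * f * k⁻¹ ≠ 1 := fun e => hf1 (conj_eq_one_iff.1 e)
  have hn2 : k * (k * f * k⁻¹) * k⁻¹ ≠ k * f * k⁻¹ := fun e => hn4 (hkfix _ h1 e)
  have hn3 : k * (k * f * k⁻¹) * k⁻¹ ≠ f := fun e => hn1 (by
    calc k * f * k⁻¹ = k * (k * (k * f * k⁻¹) * k⁻¹) * k⁻¹ := by rw [e]
      _ = k ^ 3 * f * (k ^ 3)⁻¹ := by rw [pow_succ, pow_two]; group
      _ = f := by rw [hk3, one_mul, inv_one, mul_one])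
  have hn5 : k * (k * f * k⁻¹) * k⁻¹ ≠ 1 := fun e => hn4 (conj_eq_one_iff.1 e)
  rcases JComponent.four_cases hv.comp.2.2.2.2.1 hfW hf1 h1 hn1 hn4 (hsq f hfW) hv' with e | e | e | e
  · exact absurd e hv1
  · exact ⟨1, one_mem _, by rw [e]; group⟩
  · exact ⟨k, hk, e.symm⟩
  · refine ⟨k * k, mul_mem hk hk, ?_⟩
    rw [e, show k * k * f * (k * k)⁻¹ = k * (k * f * k⁻¹) * k⁻¹ by group]
    rcases JComponent.four_cases hv.comp.2.2.2.2.1 hfW hf1 h1 hn1 hn4 (hsq f hfW) h2 with e' | e' | e' | e'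
    exacts [absurd e' hn5, absurd e' hn3, absurd e' hn2, e']

/-- Two vertices with different overgroups and noncommuting four-groups. -/
structure Edge (T K L K' L' : Subgroup G) : Prop where
  hyp : Hyp G
  v : Vertex T K L
  v' : Vertex T K' L'
  ne : L ≠ L'
  cen : T ≤ centralizer (Cfsg.omegaCenterOf (Cfsg.thompsonSubgroupOf 2 T) : Set G)
  move : ¬ Cfsg.wOf K' ≤ centralizer (Cfsg.wOf K : Set G)

namespace Edge

variable {T K L K' L' : Subgroup G}

theorem symm (b : Edge T K L K' L') : Edge T K' L' K L :=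
  ⟨b.hyp, b.v', b.v, b.ne.symm, b.cen, fun h => b.move (le_centralizer_iff.1 h)⟩

variable (b : Edge T K L K' L')
include b

local notation "Z₀" => Cfsg.omegaCenterOf (Cfsg.thompsonSubgroupOf 2 T)
local notation "Q₁" => T ⊓ centralizer (Cfsg.wOf K : Set G)
local notation "Q₂" => T ⊓ centralizer (Cfsg.wOf K' : Set G)

theorem w_t : Cfsg.wOf K ≤ T := (w_le_q b.hyp b.v b.cen).trans inf_le_left

theorem w_sq {x : G} (hx : x ∈ Cfsg.wOf K) : x * x = 1 := b.v.comp.2.2.2.2.2 x hx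

theorem w_comm {x y : G} (hx : x ∈ Cfsg.wOf K) (hy : y ∈ Cfsg.wOf K) : x * y = y * x :=
  mem_centralizer_iff.1 (w_le_q b.hyp b.v b.cen hy).2 x hx

/-- Representatives: `w' ∈ W'` moves `w ∈ W` by `f`. -/
theorem frame : ∃ f w w' : G, f ∈ Cfsg.wOf K ∧ f ∈ Cfsg.wOf K' ∧ f ∈ Z₀ ∧ f ≠ 1 ∧ w ∈ Cfsg.wOf K ∧ w ≠ f ∧ w ≠ 1 ∧
    w' ∈ Cfsg.wOf K' ∧ w' ∉ centralizer (Cfsg.wOf K : Set G) ∧ w ∉ centralizer (Cfsg.wOf K' : Set G) ∧
    w' * w * w'⁻¹ = w * f := by
  obtain ⟨w', hw', hw'c⟩ := SetLike.not_le_iff_exists.1 b.move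
  obtain ⟨f, hfW, hfZ, hf1, -⟩ := Vertex.exists_f b.v
  obtain ⟨f', hfW', hfZ', hf1', -⟩ := Vertex.exists_f b.v'
  obtain ⟨w, hw, hw1, hwf⟩ := Vertex.exists_w b.v hfW hf1
  have hw'T := b.symm.w_t hw'
  have hwT := b.w_t hw
  have e1 : w' * w * w'⁻¹ = w * f := (four_perm b.v.comp.2.2.2.2.1 b.v.comp.2.2.2.2.2 hfW hf1 hw hwf hw1
    (Vertex.t_le_normalizer_w b.hyp b.v b.cen hw'T) (Vertex.t_fix b.hyp b.v b.cen hfZ hw'T)).resolve_left
    fun e => hw'c (centralizes_four b.v.comp.2.2.2.2.1 b.v.comp.2.2.2.2.2 hfW hf1 hw hwf hw1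
      (Vertex.t_fix b.hyp b.v b.cen hfZ hw'T) (mul_inv_eq_iff_eq_mul.1 e))
  have hwc : w ∉ centralizer (Cfsg.wOf K' : Set G) := fun h => hf1 (by
    have h1 : w' * w = w * w' := mem_centralizer_iff.1 h w' hw'
    rw [h1, mul_inv_cancel_right] at e1
    exact left_eq_mul.1 e1)
  have hw1' : w' ≠ 1 := fun e => hw'c (e ▸ one_mem _)
  have hwf' : w' ≠ f' := fun e => hw'c (e ▸ mem_centralizer_iff.2 fun x hx =>
    (Vertex.t_fix b.hyp b.v b.cen hfZ' (b.w_t hx)))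
  have e2 : w * w' * w⁻¹ = w' * f' := (four_perm b.v'.comp.2.2.2.2.1 b.v'.comp.2.2.2.2.2 hfW' hf1' hw' hwf' hw1'
    (Vertex.t_le_normalizer_w b.hyp b.v' b.cen hwT) (Vertex.t_fix b.hyp b.v' b.cen hfZ' hwT)).resolve_left
    fun e => hw'c (mem_centralizer_iff.2 fun x hx => by
      have hwx : w * w' = w' * w := mul_inv_eq_iff_eq_mul.1 e
      rcases JComponent.four_cases b.v.comp.2.2.2.2.1 hfW hf1 hw hwf hw1 (b.w_sq hfW) hx with h | h | h | h <;>
        subst h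
      · simp
      · exact (Vertex.t_fix b.hyp b.v b.cen hfZ hw'T).symm
      · exact hwx
      · rw [mul_assoc, ← Vertex.t_fix b.hyp b.v b.cen hfZ hw'T, ← mul_assoc, hwx, mul_assoc])
  have hff : f = f' := by
    have hws := b.w_sq hw
    have hws' := b.symm.w_sq hw'
    rw [inv_eq_of_mul_eq_one_right hws'] at e1
    rw [inv_eq_of_mul_eq_one_right hws] at e2
    calc f = w * (w' * w * w') := by rw [e1, ← mul_assoc, hws, one_mul]
      _ = (w * w' * w) * w' := by group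
      _ = w' * (f' * w') := by rw [e2, mul_assoc]
      _ = f' := by rw [← Vertex.t_fix b.hyp b.v' b.cen hfZ' hw'T, ← mul_assoc, hws', one_mul]
  exact ⟨f, w, w', hfW, hff ▸ hfW', hfZ, hf1, hw, hwf, hw1, hw', hw'c, hwc, e1⟩

theorem q_sq {x : G} (hx : x ∈ Q₁) : x * x = 1 := by
  have key : ∀ {T K L K' L' : Subgroup G}, Edge T K L K' L' →
      sq (T ⊓ centralizer (Cfsg.wOf K : Set G)) ≤
        sq ((T ⊓ centralizer (Cfsg.wOf K : Set G)) ⊓ (T ⊓ centralizer (Cfsg.wOf K' : Set G))) := by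
    intro T K L K' L' b
    obtain ⟨f, w, w', -, -, -, -, hw, -, -, -, -, hwc, -⟩ := b.frame
    refine (closure_le _).2 ?_
    rintro _ ⟨x, hx, rfl⟩
    by_cases hxc : x ∈ centralizer (Cfsg.wOf K' : Set G)
    · exact mem_sq ⟨hx, hx.1, hxc⟩
    · have hwQ := w_le_q b.hyp b.v b.cen hw
      have hm : x * w ∈ (T ⊓ centralizer (Cfsg.wOf K : Set G)) ⊓ (T ⊓ centralizer (Cfsg.wOf K' : Set G)) :=
        ⟨mul_mem hx hwQ, mul_mem hx.1 hwQ.1, Vertex.mul_mem_q b.hyp b.v' b.cen hx.1 hxc hwQ.1 hwc⟩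
      have hxw : x * w = w * x := (mem_centralizer_iff.1 hx.2 w hw).symm
      have h := mem_sq hm
      rwa [show x * w * (x * w) = x * (w * x) * w by group, ← hxw,
        show x * (x * w) * w = x * x * (w * w) by group, b.w_sq hw, mul_one] at h
  set E := Q₁ ⊓ Q₂ with hE
  have h1 : sq Q₁ = sq E := le_antisymm (key b) (sq_mono inf_le_left)
  have h2 : sq Q₂ = sq E := le_antisymm (by have h := key b.symm; rwa [inf_comm (T ⊓ centralizer (Cfsg.wOf K' : Set G))] at h) (sq_mono inf_le_right)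
  have hbot : sq E = ⊥ := by
    by_contra hne1
    have hn := (Vertex.q_facts b.hyp b.v b.cen).1.trans (normalizer_le_sq Q₁)
    have hn' := (Vertex.q_facts b.hyp b.v' b.cen).1.trans (normalizer_le_sq Q₂)
    rw [h1] at hn
    rw [h2] at hn'
    exact not_common b.v b.v' b.ne
      ⟨_, (Vertex.t_pgroup b.v).to_le ((sq_le E).trans (inf_le_left.trans inf_le_left)), hne1, rfl⟩
      (le_sup_left.trans hn) (le_sup_left.trans hn')
      (((Fusion.Thompson.thompsonSubgroupOf_le T).trans le_sup_right).trans hn)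
  exact mem_bot.1 ((h1.trans hbot) ▸ mem_sq hx)

theorem q_comm {x y : G} (hx : x ∈ Q₁) (hy : y ∈ Q₁) : x * y = y * x := by
  have h := b.q_sq (mul_mem hx hy)
  calc x * y = x * (x * y * (x * y)) * y := by rw [h, mul_one]
    _ = (x * x) * y * x * (y * y) := by group
    _ = y * x := by rw [b.q_sq hx, b.q_sq hy, one_mul, mul_one]

theorem core_le_q : Cfsg.pCoreOf 2 K ≤ Q₁ :=
  le_inf (pCoreOf_le_t b.hyp b.v b.cen) fun q hq => mem_centralizer_iff.2 fun x hx => (JAmbient.q_fix K q hq x hx).symm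

theorem card_dd : Nat.card ↥(dd T K) ≤ 2 ∧ Nat.card ↥(Z₀) ≤ 4 := by
  have h := card_le_four (Vertex.t_pgroup b.v) b.v.comp b.v'.comp fun X hX h1 h2 h3 =>
    not_common b.v b.v' b.ne hX h1 h2 h3
  exact ⟨h.2, h.1⟩

theorem dd_le_q : dd T K ≤ Q₁ := fun c hc =>
  ⟨Fusion.Thompson.thompsonSubgroupOf_le T (JComponent.omegaCenterOf_le _ (mem_dd.1 hc).1).1,
    mem_centralizer_iff.2 fun x hx => mem_centralizer_singleton_iff.1 ((mem_dd.1 hc).2 (JAmbient.wOf_le_K K hx))⟩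

theorem z_le_q : Z₀ ≤ Q₁ := fun x hx => by
  obtain ⟨f, hfW, hfZ, hf1, -⟩ := Vertex.exists_f b.v
  obtain ⟨c, hc, rfl | rfl⟩ := z_split (Vertex.t_pgroup b.v) b.v.comp hfW hfZ hf1 hx
  · exact b.dd_le_q hc
  · exact mul_mem (b.dd_le_q hc) (w_le_q b.hyp b.v b.cen hfW)

theorem q_split {y : G} (hy : y ∈ Q₁) : ∃ c ∈ dd T K, ∃ v ∈ Cfsg.wOf K, y = c * v := by
  haveI : Fact (Nat.Prime 2) := ⟨Nat.prime_two⟩
  obtain ⟨k, hk, hk3, hkn, hkfix⟩ := Vertex.exists_k b.hyp b.v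
  obtain ⟨f, w, w', hfW, hfW', hfZ, hf1, hw, hwf, hw1, hw', hw'c, hwc, e1⟩ := b.frame
  have hkQ : k ∈ normalizer (Q₁ : Set G) := (Vertex.q_facts b.hyp b.v b.cen).1 (mem_sup_left hk)
  set y1 := k * y * k⁻¹ with hy1
  set y2 := k * y1 * k⁻¹ with hy2
  have h1 : y1 ∈ Q₁ := (mem_normalizer_iff.1 hkQ y).1 hy
  have h2 : y2 ∈ Q₁ := (mem_normalizer_iff.1 hkQ y1).1 h1
  have h3 : k * y2 * k⁻¹ = y := by
    rw [hy2, hy1]
    calc k * (k * (k * y * k⁻¹) * k⁻¹) * k⁻¹ = k ^ 3 * y * (k ^ 3)⁻¹ := by rw [pow_succ, pow_two]; group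
      _ = y := by rw [hk3, one_mul, inv_one, mul_one]
  have hyT : y ∈ normalizer (K : Set G) := Vertex.t_le_normalizer b.hyp b.v b.cen hy.1
  -- `a = y y₁` is in `Ω₁(Z(O₂(K)))`
  have haU : y * y1 ∈ Cfsg.omegaCenterOf (Cfsg.pCoreOf 2 K) := by
    have haK : y * y1 ∈ K := by
      rw [hy1, show y * (k * y * k⁻¹) = (y * k * y⁻¹) * (y * y) * k⁻¹ by group, b.q_sq hy, mul_one]
      exact mul_mem ((mem_normalizer_iff.1 hyT k).1 hk) (inv_mem hk)
    have haQ : y * y1 ∈ Q₁ := mul_mem hy h1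
    have hcore : y * y1 ∈ Cfsg.pCoreOf 2 K :=
      SylowIn.le_pCoreOf (N := K ⊓ Q₁) inf_le_left
        ((le_inf Subgroup.le_normalizer ((le_sup_left : K ≤ K ⊔ T).trans (Vertex.q_facts b.hyp b.v b.cen).1)).trans
          inf_normalizer_le_normalizer_inf)
        ((Vertex.t_pgroup b.v).to_le (inf_le_right.trans inf_le_left)) ⟨haK, haQ⟩
    refine subset_closure ⟨⟨hcore, mem_centralizer_iff.2 fun q hq => b.q_comm (b.core_le_q hq) haQ⟩, ?_⟩
    rw [pow_two]; exact b.q_sq haQ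
  have hyy2 : y * y2 ∈ Cfsg.wOf K := by
    have h : ⁅y * y1, k⁆ ∈ Cfsg.wOf K := commutator_mem_commutator haU hk
    rw [commutatorElement_def, inv_eq_of_mul_eq_one_right (b.q_sq (mul_mem hy h1)),
      show y * y1 * k * (y * y1) * k⁻¹ = y * y1 * (k * y * k⁻¹) * (k * y1 * k⁻¹) by group, ← hy1, ← hy2,
      mul_assoc y y1 y1, b.q_sq h1, mul_one] at h
    exact h
  have hy1y2 : y1 * y2 ∈ Cfsg.wOf K := by
    have ha : y1 * y ∈ Cfsg.wOf K := by
      have := (mem_normalizer_iff.1 hkn _).1 hyy2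
      rwa [show k * (y * y2) * k⁻¹ = (k * y * k⁻¹) * (k * y2 * k⁻¹) by group, ← hy1, h3] at this
    have := (mem_normalizer_iff.1 hkn _).1 ha
    rw [show k * (y1 * y) * k⁻¹ = (k * y1 * k⁻¹) * (k * y * k⁻¹) by group, ← hy1, ← hy2] at this
    rwa [b.q_comm h1 h2]
  set c := y * (y1 * y2) with hc
  have hcQ : c ∈ Q₁ := mul_mem hy (mul_mem h1 h2)
  have hck : k * c * k⁻¹ = c := by
    rw [hc, show k * (y * (y1 * y2)) * k⁻¹ = (k * y * k⁻¹) * ((k * y1 * k⁻¹) * (k * y2 * k⁻¹)) by group,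
      ← hy1, ← hy2, h3, b.q_comm h1 (mul_mem h2 hy), b.q_comm h2 hy, mul_assoc y y2 y1, b.q_comm h2 h1]
  have hcK : K ≤ centralizer ({c} : Set G) := le_of_k b.v hk hkfix
    (fun q hq => mem_centralizer_singleton_iff.2 (b.q_comm (b.core_le_q hq) hcQ))
    (mem_centralizer_singleton_iff.2 (mul_inv_eq_iff_eq_mul.1 hck))
  -- `c` is central in `T`
  have hw'T := b.symm.w_t hw'
  have hcw' : w' * c = c * w' := by
    have hTn : w' ∈ normalizer (K : Set G) := Vertex.t_le_normalizer b.hyp b.v b.cen hw'T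
    set c' := w' * c * w'⁻¹ with hc'
    have hc'K : K ≤ centralizer ({c'} : Set G) := by
      have h := cj_singleton hcK w'
      rwa [show cj w' K = K from SylowIn.map_conj_eq_iff.2 hTn] at h
    have hw1' : w' ≠ 1 := fun e => hw'c (e ▸ one_mem _)
    have hwf' : w' ≠ f := fun e => hw'c (e ▸ (w_le_q b.hyp b.v b.cen hfW).2)
    rcases four_perm b.v'.comp.2.2.2.2.1 b.v'.comp.2.2.2.2.2 hfW' hf1 hw' hwf' hw1'
      (Vertex.t_le_normalizer_w b.hyp b.v' b.cen hcQ.1) (Vertex.t_fix b.hyp b.v' b.cen hfZ hcQ.1) with e | e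
    · exact (mul_inv_eq_iff_eq_mul.1 e).symm
    · exfalso
      refine hf1 (JAmbient.wfix b.v.comp f hfW fun g hg => ?_)
      have hfc : c' * c = f := by
        have hws' := b.symm.w_sq hw'
        rw [inv_eq_of_mul_eq_one_right (b.q_sq hcQ)] at e
        rw [hc', inv_eq_of_mul_eq_one_right hws']
        calc w' * c * w' * c = w' * (c * w' * c) := by group
          _ = f := by rw [e, ← mul_assoc, hws', one_mul]
      rw [← hfc]
      exact ((show Commute g c' from mem_centralizer_singleton_iff.1 (hc'K hg)).mul_right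
        (show Commute g c from mem_centralizer_singleton_iff.1 (hcK hg))).eq
  have hcT : ∀ t ∈ T, t * c = c * t := by
    intro t ht
    by_cases htc : t ∈ centralizer (Cfsg.wOf K : Set G)
    · exact b.q_comm ⟨ht, htc⟩ hcQ
    · have h := b.q_comm (⟨mul_mem ht hw'T, Vertex.mul_mem_q b.hyp b.v b.cen ht htc hw'T hw'c⟩ : t * w' ∈ Q₁) hcQ
      have h' : Commute (t * w') c := h
      have h'' := h'.mul_left (show Commute w' c from hcw')
      rwa [mul_assoc t w' w', b.symm.w_sq hw', mul_one] at h''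
  refine ⟨c, mem_dd.2 ⟨mem_z hcQ.1 (b.q_sq hcQ) hcT, hcK⟩, y1 * y2, hy1y2, ?_⟩
  rw [hc, mul_assoc, b.q_sq (mul_mem h1 h2), mul_one]

theorem card_q : Nat.card ↥(Q₁) = 4 * Nat.card ↥(dd T K) := by
  have hinf : dd T K ⊓ Cfsg.wOf K = ⊥ := (eq_bot_iff_forall _).2 fun x hx =>
    JAmbient.wfix b.v.comp x hx.2 fun k hk => mem_centralizer_singleton_iff.1 ((mem_dd.1 hx.1).2 hk)
  have hn : Cfsg.wOf K ≤ normalizer (dd T K : Set G) := fun x hx => centralizer_le_normalizer _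
    (mem_centralizer_iff.2 fun c hc => b.q_comm (b.dd_le_q hc) (w_le_q b.hyp b.v b.cen hx))
  have hsup : dd T K ⊔ Cfsg.wOf K = Q₁ := by
    refine le_antisymm (sup_le b.dd_le_q (w_le_q b.hyp b.v b.cen)) fun y hy => ?_
    obtain ⟨c, hc, v, hv, rfl⟩ := b.q_split hy
    exact mul_mem (mem_sup_left hc) (mem_sup_right hv)
  have h := Fusion.Thompson.card_sup_mul_card_inf hn
  rw [hinf, hsup, card_bot, mul_one, b.v.comp.2.2.2.2.1] at h
  rw [h, mul_comm]

theorem card_t : Nat.card T = 8 * Nat.card ↥(dd T K) := by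
  rw [Vertex.card_t b.hyp b.v b.cen, b.card_q]; ring

theorem core_eq : Cfsg.pCoreOf 2 L = Q₁ := by
  haveI : Fact (Nat.Prime 2) := ⟨Nat.prime_two⟩
  have h1 : Cfsg.pCoreOf 2 L ≤ T := SylowIn.pCoreOf_le_sylowIn (Straddle.isSylowTwoIn_iff.1 b.v.syl)
  have h2 := SylowIn.le_pCoreOf (h1.trans le_sup_right : Cfsg.pCoreOf 2 L ≤ K ⊔ T)
    ((Vertex.sup_le_overgroup b.v).trans (SylowIn.normalizer_pCoreOf L)) ((b.v.syl.2.1).to_le h1)
  rw [(Vertex.q_facts b.hyp b.v b.cen).2.1] at h2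
  refine le_antisymm h2 fun x hx => (Vertex.jover b.hyp b.v).2.2 (mem_centralizer_iff.2 fun r hr => ?_)
  exact b.q_comm (h2 hr) hx

theorem le_normalizer_q : L ≤ normalizer ((Q₁ : Subgroup G) : Set G) := by
  rw [← b.core_eq]; exact SylowIn.normalizer_pCoreOf L

theorem cen_q {x : G} (hx : ∀ q ∈ Q₁, q * x = x * q) : x ∈ Q₁ := by
  rw [← b.core_eq]
  refine (Vertex.jover b.hyp b.v).2.2 (mem_centralizer_iff.2 fun r hr => hx r ?_)
  rw [← b.core_eq]; exact hr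

theorem le_z {x : G} (hx : x ∈ Q₁) (hx1 : x ≠ 1) : ∃ h ∈ K, h * x * h⁻¹ ∈ Z₀ := by
  obtain ⟨f, hfW, hfZ, hf1, -⟩ := Vertex.exists_f b.v
  obtain ⟨c, hc, v, hv, rfl⟩ := b.q_split hx
  by_cases hv1 : v = 1
  · exact ⟨1, one_mem _, by rw [hv1]; simpa using (mem_dd.1 hc).1⟩
  obtain ⟨g, hg, hgv⟩ := conj_f b.hyp b.v hfW hf1 hv hv1
  refine ⟨g⁻¹, inv_mem hg, ?_⟩
  have hgc : g⁻¹ * c = c * g⁻¹ := mem_centralizer_singleton_iff.1 ((mem_dd.1 hc).2 (inv_mem hg))
  rw [← hgv, show g⁻¹ * (c * (g * f * g⁻¹)) * g⁻¹⁻¹ = (g⁻¹ * c) * g * f by group, hgc,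
    show c * g⁻¹ * g * f = c * f by group]
  exact mul_mem (mem_dd.1 hc).1 hfZ

/-- The squares in `T`. -/
theorem sq_cases {f : G} (hfW : f ∈ Cfsg.wOf K) (hfZ : f ∈ Z₀) (hf1 : f ≠ 1) {t : G} (ht : t ∈ T) :
    t * t = 1 ∨ t * t = f := by
  obtain ⟨f0, w, w', hfW0, -, hfZ0, hf01, hw, hwf, hw1, hw', hw'c, hwc, e1⟩ := b.frame
  have hff : f0 = f := by
    obtain ⟨f1, -, -, -, huniq⟩ := Vertex.exists_f b.v
    rw [(huniq f0 hfW0 hfZ0).resolve_left hf01, (huniq f hfW hfZ).resolve_left hf1]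
  by_cases htc : t ∈ centralizer (Cfsg.wOf K : Set G)
  · exact Or.inl (b.q_sq ⟨ht, htc⟩)
  have hw'T := b.symm.w_t hw'
  have hws' := b.symm.w_sq hw'
  set q := t * w' with hq
  have hqQ : q ∈ Q₁ := ⟨mul_mem ht hw'T, Vertex.mul_mem_q b.hyp b.v b.cen ht htc hw'T hw'c⟩
  have htq : t = q * w' := by rw [hq, mul_assoc, hws', mul_one]
  obtain ⟨c, hc, v, hv, hqcv⟩ := b.q_split hqQ
  have hcw' : w' * c = c * w' := Vertex.t_fix b.hyp b.v b.cen (mem_dd.1 hc).1 hw'T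
  have hv' : w' * v * w'⁻¹ = v ∨ w' * v * w'⁻¹ = v * f := by
    rcases JComponent.four_cases b.v.comp.2.2.2.2.1 hfW0 hf01 hw hwf hw1 (b.w_sq hfW0) hv with h | h | h | h <;>
      subst h
    · left; simp
    · left; rw [Vertex.t_fix b.hyp b.v b.cen hfZ0 hw'T, mul_inv_cancel_right]
    · right; rw [e1, hff]
    · right
      rw [show w' * (w * f0) * w'⁻¹ = (w' * w * w'⁻¹) * (w' * f0 * w'⁻¹) by group, e1,
        Vertex.t_fix b.hyp b.v b.cen hfZ0 hw'T, mul_inv_cancel_right, hff]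
  rw [inv_eq_of_mul_eq_one_right hws'] at hv'
  have hcs : c * c = 1 := z_sq (mem_dd.1 hc).1
  have hcv : v * c = c * v := b.q_comm (w_le_q b.hyp b.v b.cen hv) (b.dd_le_q hc)
  have htt : t * t = c * c * (v * (w' * v * w')) := by
    rw [htq, hqcv, show c * v * w' * (c * v * w') = c * v * (w' * c) * v * w' by group, hcw',
      show c * v * (c * w') * v * w' = c * (v * c) * (w' * v * w') by group, hcv]
    group
  rcases hv' with e | e <;> rw [e, hcs, one_mul] at htt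
  · exact Or.inl (htt.trans (b.w_sq hv))
  · exact Or.inr (by rw [htt, ← mul_assoc, b.w_sq hv, one_mul])

/-- `L` controls nothing inside `Z₀`. -/
theorem no_fusion {x y g : G} (hx : x ∈ Z₀) (hy : y ∈ Z₀) (hg : g ∈ L) (hgx : g * x * g⁻¹ = y) : x = y := by
  haveI : Fact (Nat.Prime 2) := ⟨Nat.prime_two⟩
  set C0 := L ⊓ centralizer ({x} : Set G) with hC0
  have hTC : T ≤ C0 := le_inf b.v.syl.1 fun t ht =>
    mem_centralizer_singleton_iff.2 (Vertex.t_fix b.hyp b.v b.cen hx ht)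
  have hgT : cj g⁻¹ T ≤ C0 := le_inf ((map_mono b.v.syl.1).trans
    (SylowIn.map_conj_eq_iff.2 (Subgroup.le_normalizer (inv_mem hg))).le) (by
      have h := cj_singleton (x := y)
        (fun t ht => mem_centralizer_singleton_iff.2 (Vertex.t_fix b.hyp b.v b.cen hy ht) : T ≤ _) g⁻¹
      rwa [show g⁻¹ * y * g⁻¹⁻¹ = x by rw [← hgx]; group] at h)
  have hS0 := Straddle.isSylowTwoIn_iff.1 b.v.syl
  have h1 : SylowIn.IsSylowIn 2 T C0 := ⟨hTC, Vertex.t_pgroup b.v, fun U hU => hS0.2.2 U (hU.trans inf_le_left)⟩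
  have hmapT := hS0.map_conj g⁻¹
  rw [show L.map (MulAut.conj g⁻¹).toMonoidHom = L from
    SylowIn.map_conj_eq_iff.2 (Subgroup.le_normalizer (inv_mem hg))] at hmapT
  have h2 : SylowIn.IsSylowIn 2 (cj g⁻¹ T) C0 := ⟨hgT, (Vertex.t_pgroup b.v).map _,
    fun U hU => hmapT.2.2 U (hU.trans inf_le_left)⟩
  obtain ⟨c, hc, he⟩ := h1.conjugate h2
  set n := g * c with hn
  have hnT : n ∈ normalizer (T : Set G) := by
    refine SylowIn.map_conj_eq_iff.1 ?_
    show cj n T = T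
    rw [hn, ← cj_cj, show cj c T = cj g⁻¹ T from he.symm, cj_cj, mul_inv_cancel, cj_one]
  have hnx : n * x * n⁻¹ = y := by
    rw [hn, show g * c * x * (g * c)⁻¹ = g * (c * x * c⁻¹) * g⁻¹ by group,
      mem_centralizer_singleton_iff.1 hc.2, mul_inv_cancel_right, hgx]
  have hnL : n ∈ L := mul_mem hg hc.1
  suffices h : ∀ m : G, m ∈ L → m ∈ normalizer (T : Set G) → ∀ z ∈ Z₀, m * z * m⁻¹ = z from (h n hnL hnT x hx) ▸ hnx
  obtain ⟨f, w, w', hfW, -, hfZ, hf1, hw, hwf, hw1, hw', hw'c, hwc, e1⟩ := b.frame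
  have hfix : ∀ m : G, m ∈ normalizer (T : Set G) → m * f * m⁻¹ = f := by
    intro m hm
    have hww : (w * w') * (w * w') = f := by
      rw [inv_eq_of_mul_eq_one_right (b.symm.w_sq hw')] at e1
      calc w * w' * (w * w') = w * (w' * w * w') := by group
        _ = f := by rw [e1, ← mul_assoc, b.w_sq hw, one_mul]
    have hmt := (mem_normalizer_iff.1 hm _).1 (mul_mem (b.w_t hw) (b.symm.w_t hw'))
    have e : m * f * m⁻¹ = (m * (w * w') * m⁻¹) * (m * (w * w') * m⁻¹) := by rw [← hww]; group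
    rcases b.sq_cases hfW hfZ hf1 hmt with h | h
    · rw [h] at e; exact absurd (conj_eq_one_iff.1 e) hf1
    · rw [e, h]
  intro m hmL hmT z hz
  obtain ⟨c0, hc0, hz'⟩ := z_split (Vertex.t_pgroup b.v) b.v.comp hfW hfZ hf1 hz
  suffices hm0 : m * c0 * m⁻¹ = c0 by
    rcases hz' with rfl | rfl
    · exact hm0
    · rw [show m * (c0 * f) * m⁻¹ = (m * c0 * m⁻¹) * (m * f * m⁻¹) by group, hm0, hfix m hmT]
  have hmZ : m ∈ normalizer (Z₀ : Set G) :=
    JComponent.normalizer_le_omegaCenterOf _ (Fusion.Thompson.normalizer_le_normalizer_thompsonOf T hmT)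
  have hc0Z := (mem_dd.1 hc0).1
  by_cases hc01 : c0 = 1
  · rw [hc01]; group
  have hstep : m * c0 * m⁻¹ = c0 ∨ m * c0 * m⁻¹ = c0 * f := by
    obtain ⟨c1, hc1, e⟩ := z_split (Vertex.t_pgroup b.v) b.v.comp hfW hfZ hf1 ((mem_normalizer_iff.1 hmZ c0).1 hc0Z)
    have hc11 : c1 ≠ 1 := by
      intro h
      rcases e with e | e <;> rw [h] at e
      · exact hc01 (conj_eq_one_iff.1 e)
      · rw [one_mul, ← hfix m hmT] at e
        exact hf1 (JAmbient.wfix b.v.comp f hfW fun k hk => by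
          rw [← mul_left_cancel (mul_right_cancel e)]
          exact mem_centralizer_singleton_iff.1 ((mem_dd.1 hc0).2 hk))
    have hcc : c1 = c0 := only (Vertex.t_pgroup b.v) b.v.comp b.card_dd.2 (mem_dd.1 hc1).1 (mem_dd.1 hc1).2 hc11
      hc0Z (mem_dd.1 hc0).2 hc01
    rw [hcc] at e
    exact e
  refine hstep.resolve_right fun hmove => ?_
  -- an odd power of `m` would lie in `T`
  have hpow : ∀ i : ℕ, m ^ (2 * i) * c0 * (m ^ (2 * i))⁻¹ = c0 := by
    intro i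
    induction i with
    | zero => simp
    | succ i ih =>
      calc m ^ (2 * (i + 1)) * c0 * (m ^ (2 * (i + 1)))⁻¹
          = m * (m * (m ^ (2 * i) * c0 * (m ^ (2 * i))⁻¹) * m⁻¹) * m⁻¹ := by
            rw [Nat.mul_succ, pow_add, (Commute.refl m).pow_pow (2 * i) 2 |>.eq, pow_two]; group
        _ = (m * c0 * m⁻¹) * (m * f * m⁻¹) := by rw [ih]; nth_rewrite 1 [hmove]; group
        _ = c0 := by rw [hmove, hfix m hmT, mul_assoc, b.w_sq hfW, mul_one]
  obtain ⟨a, o, ho, hao⟩ := Nat.exists_eq_two_pow_mul_odd (orderOf_pos m).ne'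
  obtain ⟨j, rfl⟩ := ho
  set q := m ^ (2 * j + 1) with hq
  have hqp : q ^ 2 ^ a = 1 := by rw [hq, ← pow_mul, mul_comm, ← hao, pow_orderOf_eq_one]
  have hzp : IsPGroup 2 (zpowers q) := by
    obtain ⟨i, -, hi⟩ := (Nat.dvd_prime_pow Nat.prime_two).1 (orderOf_dvd_of_pow_eq_one hqp)
    exact IsPGroup.of_card (n := i) (by rw [Nat.card_zpowers, hi])
  have hqT : q ∈ T := by
    have h := hS0.2.2 (T ⊔ zpowers q) (sup_le b.v.syl.1 (zpowers_le.2 (pow_mem hmL _)))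
      (IsPGroup.to_sup_of_normal_left' (Vertex.t_pgroup b.v) hzp (zpowers_le.2 (pow_mem hmT _))) le_sup_left
    exact h ▸ mem_sup_right (mem_zpowers q)
  have h := Vertex.t_fix b.hyp b.v b.cen hc0Z hqT
  rw [hq, pow_succ', mul_assoc m] at h
  refine hf1 (left_eq_mul.1 (show c0 = c0 * f from ?_))
  calc c0 = (m * m ^ (2 * j)) * c0 * (m * m ^ (2 * j))⁻¹ := by
        rw [mul_assoc m, h, ← mul_assoc]; group
    _ = m * (m ^ (2 * j) * c0 * (m ^ (2 * j))⁻¹) * m⁻¹ := by group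
    _ = c0 * f := by rw [hpow j, hmove]

theorem le_cen_dd {c g : G} (hc : c ∈ dd T K) (hg : g ∈ L) : g * c = c * g := by
  by_cases hc1 : c = 1
  · rw [hc1, one_mul, mul_one]
  have hm := (mem_normalizer_iff.1 (b.le_normalizer_q hg) c).1 (b.dd_le_q hc)
  obtain ⟨h, hh, hz⟩ := b.le_z hm fun e => hc1 (conj_eq_one_iff.1 e)
  have e := b.no_fusion (mem_dd.1 hc).1 hz (mul_mem (b.v.le hh) hg) (by group)
  refine mul_inv_eq_iff_eq_mul.1 ?_
  calc g * c * g⁻¹ = h⁻¹ * (h * (g * c * g⁻¹) * h⁻¹) * h := by group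
    _ = h⁻¹ * c * h := by rw [← e]
    _ = c := by rw [mem_centralizer_singleton_iff.1 ((mem_dd.1 hc).2 (inv_mem hh)), inv_mul_cancel_right]

theorem conj_w {g v : G} (hg : g ∈ L) (hv : v ∈ Cfsg.wOf K) : g * v * g⁻¹ ∈ Cfsg.wOf K := by
  by_cases hv1 : v = 1
  · subst hv1; simp
  obtain ⟨f, hfW, hfZ, hf1, -⟩ := Vertex.exists_f b.v
  obtain ⟨h1, hh1, rfl⟩ := conj_f b.hyp b.v hfW hf1 hv hv1
  set g' := g * h1 with hg'
  have hg'L : g' ∈ L := mul_mem hg (b.v.le hh1)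
  rw [show g * (h1 * f * h1⁻¹) * g⁻¹ = g' * f * g'⁻¹ by rw [hg']; group]
  have hm := (mem_normalizer_iff.1 (b.le_normalizer_q hg'L) f).1 (w_le_q b.hyp b.v b.cen hfW)
  obtain ⟨h, hh, hz⟩ := b.le_z hm fun e => hf1 (conj_eq_one_iff.1 e)
  have e := b.no_fusion hfZ hz (mul_mem (b.v.le hh) hg'L) (by group)
  rw [show g' * f * g'⁻¹ = h⁻¹ * (h * (g' * f * g'⁻¹) * h⁻¹) * h⁻¹⁻¹ by group, ← e]
  exact (mem_normalizer_iff.1 (JAmbient.conjK_le_normalizer_wOf K (Subgroup.le_normalizer (inv_mem hh))) f).1 hfW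

theorem l_cen_w {x : G} (hx : x ∈ L) (hxW : x ∈ centralizer (Cfsg.wOf K : Set G)) : x ∈ Q₁ := b.cen_q fun q hq => by
  obtain ⟨c, hc, v, hv, rfl⟩ := b.q_split hq
  exact ((show Commute x c from b.le_cen_dd hc hx).symm.mul_left
    (show Commute x v from (mem_centralizer_iff.1 hxW v hv).symm).symm).eq

theorem l_eq : L = K ⊔ T := by
  refine le_antisymm (fun g hg => ?_) (Vertex.sup_le_overgroup b.v)
  obtain ⟨f, w, w', hfW, -, hfZ, hf1, hw, hwf, hw1, hw', hw'c, hwc, e1⟩ := b.frame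
  obtain ⟨h, hh, hgf⟩ := conj_f b.hyp b.v hfW hf1 (b.conj_w hg hfW) fun e => hf1 (conj_eq_one_iff.1 e)
  set g' := h⁻¹ * g with hg'
  have hg'L : g' ∈ L := mul_mem (inv_mem (b.v.le hh)) hg
  have hgf' : g' * f = f * g' := by
    refine mul_inv_eq_iff_eq_mul.1 ?_
    rw [hg', show h⁻¹ * g * f * (h⁻¹ * g)⁻¹ = h⁻¹ * (g * f * g⁻¹) * h by group, ← hgf]; group
  rw [show g = h * g' by rw [hg']; group]
  refine mul_mem (mem_sup_left hh) ?_
  have hn : g' ∈ normalizer (Cfsg.wOf K : Set G) := mem_normalizer_iff.2 fun x => ⟨fun hx => b.conj_w hg'L hx,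
    fun hx => by simpa [mul_assoc] using b.conj_w (inv_mem hg'L) hx⟩
  have hw'T := b.symm.w_t hw'
  have hfw' : w' * f * w'⁻¹ = f := by rw [Vertex.t_fix b.hyp b.v b.cen hfZ hw'T, mul_inv_cancel_right]
  rcases four_perm b.v.comp.2.2.2.2.1 b.v.comp.2.2.2.2.2 hfW hf1 hw hwf hw1 hn hgf' with e | e
  · exact mem_sup_right (b.l_cen_w hg'L (centralizes_four b.v.comp.2.2.2.2.1 b.v.comp.2.2.2.2.2 hfW hf1 hw hwf
      hw1 hgf' (mul_inv_eq_iff_eq_mul.1 e))).1
  · have h2 := b.l_cen_w (mul_mem (b.v.syl.1 hw'T) hg'L) (centralizes_four b.v.comp.2.2.2.2.1 b.v.comp.2.2.2.2.2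
      hfW hf1 hw hwf hw1 ((show Commute w' f from Vertex.t_fix b.hyp b.v b.cen hfZ hw'T).mul_left hgf').eq
      (mul_inv_eq_iff_eq_mul.1 (by
        rw [show w' * g' * w * (w' * g')⁻¹ = w' * (g' * w * g'⁻¹) * w'⁻¹ by group, e,
          show w' * (w * f) * w'⁻¹ = (w' * w * w'⁻¹) * (w' * f * w'⁻¹) by group, e1, hfw', mul_assoc,
          b.w_sq hfW, mul_one])))
    rw [show g' = w' * (w' * g') by rw [← mul_assoc, b.symm.w_sq hw', one_mul]]
    exact mem_sup_right (mul_mem hw'T h2.1)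

theorem card_l : Nat.card L = 24 * Nat.card ↥(dd T K) := by
  rw [b.l_eq, (Vertex.q_facts b.hyp b.v b.cen).2.2, b.card_t]; ring

theorem normalizer_q : normalizer ((Q₁ : Subgroup G) : Set G) = L := by
  refine b.v.max.2 _ ⟨Q₁, (Vertex.t_pgroup b.v).to_le inf_le_left, fun e => ?_, rfl⟩ b.le_normalizer_q
  obtain ⟨f, hfW, -, hf1, -⟩ := Vertex.exists_f b.v
  exact hf1 (mem_bot.1 (e ▸ w_le_q b.hyp b.v b.cen hfW))

/-- Every involution of `T` lies in one of the two cores. -/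
theorem invol {x : G} (hx : x ∈ T) (hxx : x * x = 1) : x ∈ Q₁ ∨ x ∈ Q₂ := by
  rw [or_iff_not_imp_left]
  intro hxQ
  by_contra hxQ'
  obtain ⟨f, w, w', hfW, -, hfZ, hf1, hw, hwf, hw1, hw', hw'c, hwc, e1⟩ := b.frame
  have hxc : x ∉ centralizer (Cfsg.wOf K : Set G) := fun h => hxQ ⟨hx, h⟩
  have hxc' : x ∉ centralizer (Cfsg.wOf K' : Set G) := fun h => hxQ' ⟨hx, h⟩
  have hw'Q := w_le_q b.hyp b.v' b.cen hw'
  set e := x * w' with he
  have heQ : e ∈ Q₁ := ⟨mul_mem hx hw'Q.1, Vertex.mul_mem_q b.hyp b.v b.cen hx hxc hw'Q.1 hw'c⟩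
  have hec : e ∉ centralizer (Cfsg.wOf K' : Set G) := fun h => hxc' (by
    have := mul_mem h hw'Q.2
    rwa [he, mul_assoc, b.symm.w_sq hw', mul_one] at this)
  set e2 := e * w with he2
  have he2Q : e2 ∈ Q₁ := mul_mem heQ (w_le_q b.hyp b.v b.cen hw)
  have he2c : e2 ∈ centralizer (Cfsg.wOf K' : Set G) := Vertex.mul_mem_q b.hyp b.v' b.cen heQ.1 hec (b.w_t hw) hwc
  have hxe : x = e2 * (w * w') := by
    rw [he2, he, show x * w' * w * (w * w') = x * w' * (w * w) * w' by group, b.w_sq hw, mul_one, mul_assoc,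
      b.symm.w_sq hw', mul_one]
  have hc : e2 * (w * w') = w * w' * e2 :=
    ((show Commute e2 w from b.q_comm he2Q (w_le_q b.hyp b.v b.cen hw)).mul_right
      (show Commute e2 w' from (mem_centralizer_iff.1 he2c w' hw').symm)).eq
  have hww : (w * w') * (w * w') = f := by
    rw [inv_eq_of_mul_eq_one_right (b.symm.w_sq hw')] at e1
    calc w * w' * (w * w') = w * (w' * w * w') := by group
      _ = f := by rw [e1, ← mul_assoc, b.w_sq hw, one_mul]
  refine hf1 ?_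
  rw [← hxx, hxe, show e2 * (w * w') * (e2 * (w * w')) = e2 * (w * w' * e2) * (w * w') by group, ← hc,
    show e2 * (e2 * (w * w')) * (w * w') = e2 * e2 * (w * w' * (w * w')) by group, b.q_sq he2Q, one_mul, hww]

/-- Elementary abelian subgroups of `L` have order at most eight. -/
theorem ea_le {B : Subgroup G} (hB : B ≤ L) (hBe : Cfsg.IsElementaryAbelian 2 B) : Nat.card B ≤ 8 := by
  obtain ⟨g, -, hle⟩ := Straddle.le_map_of_sylow b.v.syl hB (Fusion.Thompson.isPGroup_isEA hBe)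
  set B' := cj g⁻¹ B with hB'
  have hB'T : B' ≤ T := (map_mono hle).trans (le_of_eq (by rw [← cj, ← cj, cj_cj, inv_mul_cancel, cj_one]))
  have hBe' : Cfsg.IsElementaryAbelian 2 B' := Fusion.Thompson.isEA_map _ hBe
  have hcard : Nat.card B' = Nat.card B := card_map_of_injective (MulAut.conj g⁻¹).injective
  rw [← hcard]
  obtain ⟨m, hm⟩ := card_dvd_of_le hB'T
  have h8 := b.card_t
  have h2 := b.card_dd.1
  have hm0 : m ≠ 0 := by
    rintro rfl
    have : 0 < Nat.card T := Nat.card_pos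
    omega
  have hm1 : m ≠ 1 := by
    rintro rfl
    obtain ⟨f, w, w', hfW, -, hfZ, hf1, hw, hwf, hw1, hw', hw'c, hwc, e1⟩ := b.frame
    have heq : B' = T := eq_of_le_of_card_ge hB'T (by omega)
    rw [heq] at hBe'
    rw [Fusion.Thompson.mul_comm_of_isEA hBe' (b.symm.w_t hw') (b.w_t hw), mul_inv_cancel_right] at e1
    exact hf1 (left_eq_mul.1 e1)
  have hle2 : 2 * Nat.card B' ≤ Nat.card T := by
    rw [hm, mul_comm]; exact Nat.mul_le_mul_left _ (by omega)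
  omega

/-- `L` is the direct product of a copy of `S₄` and `D`. -/
theorem exists_complement : ∃ N : Subgroup G, N ≤ L ∧ N ⊔ dd T K = L ∧ N ⊓ dd T K = ⊥ ∧ Nat.card N = 24 ∧
    ∀ x ∈ N, orderOf x ≠ 6 := by
  haveI : Fact (Nat.Prime 2) := ⟨Nat.prime_two⟩
  obtain ⟨f, w, w', hfW, -, hfZ, hf1, hw, hwf, hw1, hw', hw'c, hwc, e1⟩ := b.frame
  obtain ⟨k, hk, hk3, hkn, hkfix⟩ := Vertex.exists_k b.hyp b.v
  set W := Cfsg.wOf K with hW
  have hw'T := b.symm.w_t hw'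
  have hw'L : w' ∈ L := b.v.syl.1 hw'T
  have hws' := b.symm.w_sq hw'
  set Y := W ⊔ zpowers k with hY
  set N := Y ⊔ zpowers w' with hN
  have hYL : Y ≤ L := sup_le (b.w_t.trans b.v.syl.1) (zpowers_le.2 (b.v.le hk))
  have hNL : N ≤ L := sup_le hYL (zpowers_le.2 hw'L)
  have hnorm3 : ∀ v ∈ W, (v * k⁻¹) ^ 3 = 1 := by
    intro v hv
    set v1 := k⁻¹ * v * k with hv1
    set v2 := k⁻¹ * v1 * k with hv2
    have hm : ∀ x ∈ W, k⁻¹ * x * k ∈ W := fun x hx => (mem_normalizer_iff''.1 hkn x).1 hx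
    have h1 := hm v hv
    have h2 := hm v1 h1
    have h3 : k⁻¹ * v2 * k = v := by
      rw [hv2, hv1]
      calc k⁻¹ * (k⁻¹ * (k⁻¹ * v * k) * k) * k = (k ^ 3)⁻¹ * v * k ^ 3 := by rw [pow_succ, pow_two]; group
        _ = v := by rw [hk3, inv_one, one_mul, mul_one]
    have hfix : k * (v * v1 * v2) * k⁻¹ = v * v1 * v2 := by
      have e : k⁻¹ * (v * v1 * v2) * k = v * v1 * v2 := by
        rw [show k⁻¹ * (v * v1 * v2) * k = (k⁻¹ * v * k) * (k⁻¹ * v1 * k) * (k⁻¹ * v2 * k) by group, ← hv1, ← hv2,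
          h3, b.w_comm (mul_mem h1 h2) hv, ← mul_assoc]
      conv_lhs => rw [← e]
      group
    have hp := hkfix _ (mul_mem (mul_mem hv h1) h2) hfix
    calc (v * k⁻¹) ^ 3 = v * (k⁻¹ * v * k) * (k⁻¹ * (k⁻¹ * v * k) * k) * (k ^ 3)⁻¹ := by
          rw [pow_succ, pow_two, pow_succ, pow_two]; group
      _ = 1 := by rw [← hv1, ← hv2, hp, hk3, inv_one, mul_one]
  -- `w'` inverts `k` modulo `W`
  have hinv := Vertex.invert b.hyp b.v b.cen hk hk3 hkfix hw'T hw'c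
  obtain ⟨c, hc, v, hv, hcv⟩ := b.q_split hinv
  have hkc : Commute c (v * k⁻¹) :=
    (show Commute c v from b.q_comm (b.dd_le_q hc) (w_le_q b.hyp b.v b.cen hv)).mul_right
      (show Commute k⁻¹ c from mem_centralizer_singleton_iff.1 ((mem_dd.1 hc).2 (inv_mem hk))).symm
  have hA : w' * k * w'⁻¹ = c * (v * k⁻¹) := by
    rw [← mul_assoc, ← hcv, mul_inv_cancel_right]
  have hc1 : c = 1 := by
    have h : (w' * k * w'⁻¹) ^ 3 = 1 := by rw [conj_pow, hk3, mul_one, mul_inv_cancel]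
    rw [hA, hkc.mul_pow, hnorm3 v hv, mul_one, pow_succ, pow_two, z_sq (mem_dd.1 hc).1, one_mul] at h
    exact h
  rw [hc1, one_mul] at hA
  have hw'W : w' ∈ normalizer (W : Set G) := Vertex.t_le_normalizer_w b.hyp b.v b.cen hw'T
  have hw'Y : w' ∈ normalizer (Y : Set G) := by
    refine SylowIn.map_conj_eq_iff.1 (eq_of_le_of_card_ge ?_ (card_map_of_injective (MulAut.conj w').injective).ge)
    rw [hY, Subgroup.map_sup, MonoidHom.map_zpowers]
    refine sup_le ((SylowIn.map_conj_eq_iff.2 hw'W).le.trans le_sup_left) (zpowers_le.2 ?_)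
    show w' * k * w'⁻¹ ∈ _
    rw [hA]
    exact mul_mem (mem_sup_left hv) (inv_mem (mem_sup_right (mem_zpowers k)))
  have hkord : Nat.card ↥(zpowers k) = 3 := by
    haveI : Fact (Nat.Prime 3) := ⟨Nat.prime_three⟩
    rw [Nat.card_zpowers]
    exact orderOf_eq_prime hk3 fun e => k_not_centralizes b.v hkfix (e ▸ one_mem _)
  have hYcard : Nat.card Y ≤ 12 := by
    have h := Fusion.Thompson.card_sup_mul_card_inf (zpowers_le.2 hkn : zpowers k ≤ normalizer (W : Set G))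
    rw [← hY, b.v.comp.2.2.2.2.1, hkord] at h
    calc Nat.card Y = Nat.card Y * 1 := (mul_one _).symm
      _ ≤ Nat.card Y * Nat.card ↥(W ⊓ zpowers k) := Nat.mul_le_mul_left _ Nat.card_pos
      _ = 12 := by rw [h]
  have hNcard : Nat.card N ≤ 24 := by
    have h := Fusion.Thompson.card_sup_mul_card_inf (zpowers_le.2 hw'Y : zpowers w' ≤ normalizer (Y : Set G))
    have hw2 : Nat.card ↥(zpowers w') ≤ 2 := by
      rw [Nat.card_zpowers]
      exact Nat.le_of_dvd (by norm_num) (orderOf_dvd_of_pow_eq_one (by rw [pow_two, hws']))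
    rw [← hN] at h
    calc Nat.card N = Nat.card N * 1 := (mul_one _).symm
      _ ≤ Nat.card N * Nat.card ↥(Y ⊓ zpowers w') := Nat.mul_le_mul_left _ Nat.card_pos
      _ = Nat.card Y * Nat.card ↥(zpowers w') := h
      _ ≤ 12 * 2 := Nat.mul_le_mul hYcard hw2
      _ = 24 := by norm_num
  have hDL : dd T K ≤ L := b.dd_le_q.trans (inf_le_left.trans b.v.syl.1)
  have hkN : k ∈ N := mem_sup_left (mem_sup_right (mem_zpowers k))
  have hWN : W ≤ N := le_sup_left.trans le_sup_left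
  have hQN : Q₁ ≤ N ⊔ dd T K := fun q hq => by
    obtain ⟨c, hc, v, hv, rfl⟩ := b.q_split hq
    exact mul_mem (mem_sup_right hc) (mem_sup_left (hWN hv))
  have hTN : T ≤ N ⊔ dd T K := fun t ht => by
    by_cases htc : t ∈ centralizer (W : Set G)
    · exact hQN ⟨ht, htc⟩
    · have hw'N : w' ∈ N ⊔ dd T K := mem_sup_left (mem_sup_right (mem_zpowers w'))
      have h := mul_mem (hQN ⟨mul_mem ht hw'T, Vertex.mul_mem_q b.hyp b.v b.cen ht htc hw'T hw'c⟩) hw'N
      rwa [mul_assoc, hws', mul_one] at h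
  have hsup : N ⊔ dd T K = L := by
    refine le_antisymm (sup_le hNL hDL) ?_
    rw [b.l_eq]
    exact sup_le (le_of_k b.v hk hkfix (b.core_le_q.trans hQN) (mem_sup_left hkN)) hTN
  have hn : dd T K ≤ normalizer (N : Set G) := fun c hc => centralizer_le_normalizer _
    (mem_centralizer_iff.2 fun x hx => b.le_cen_dd hc (hNL hx))
  have h := Fusion.Thompson.card_sup_mul_card_inf hn
  rw [hsup, b.card_l] at h
  have hpos : 0 < Nat.card ↥(dd T K) := Nat.card_pos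
  have hpos' : 0 < Nat.card ↥(N ⊓ dd T K) := Nat.card_pos
  have h1 : Nat.card ↥(N ⊓ dd T K) = 1 := by
    by_contra hne1
    nlinarith [Nat.mul_le_mul_left (24 * Nat.card ↥(dd T K)) (show 2 ≤ Nat.card ↥(N ⊓ dd T K) by omega),
      Nat.mul_le_mul_right (Nat.card ↥(dd T K)) hNcard]
  rw [h1, mul_one] at h
  have hN24 : Nat.card N = 24 := Nat.eq_of_mul_eq_mul_right hpos h.symm
  have hinf : N ⊓ dd T K = ⊥ := eq_bot_of_card_eq _ h1
  refine ⟨N, hNL, hsup, hinf, hN24, fun x hxN hx6 => ?_⟩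
  have hNW : ∀ g ∈ N, g ∈ centralizer (W : Set G) → g ∈ W := fun g hg hgW => by
    obtain ⟨c, hc, v, hv, rfl⟩ := b.q_split (b.l_cen_w (hNL hg) hgW)
    have : c ∈ N ⊓ dd T K := ⟨by simpa using mul_mem hg (inv_mem (hWN hv)), hc⟩
    rw [hinf, mem_bot] at this
    rw [this, one_mul]; exact hv
  have hy1 : x ^ 3 ≠ 1 := fun e => by have := orderOf_dvd_of_pow_eq_one e; rw [hx6] at this; omega
  have hy2 : x ^ 3 * x ^ 3 = 1 := by rw [← pow_add, show 3 + 3 = orderOf x by omega, pow_orderOf_eq_one]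
  set y := x ^ 3 with hy
  set z := x ^ 2 with hz
  have hz3 : z ^ 3 = 1 := by rw [hz, ← pow_mul, show 2 * 3 = orderOf x by omega, pow_orderOf_eq_one]
  have hz1 : z ≠ 1 := fun e => by have := orderOf_dvd_of_pow_eq_one e; rw [hx6] at this; omega
  have hzy : z * y = y * z := ((Commute.refl x).pow_pow 2 3).eq
  have hzN : z ∈ N := pow_mem hxN 2
  have hzc : z ∉ centralizer (W : Set G) := fun h => hz1 (by
    have hW2 := b.w_sq (hNW z hzN h)
    rw [pow_succ, pow_two, hW2, one_mul] at hz3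
    exact hz3)
  have hzn : z ∈ normalizer (W : Set G) := mem_normalizer_iff.2 fun v => ⟨fun hv => b.conj_w (hNL hzN) hv,
    fun hv => by simpa [mul_assoc] using b.conj_w (inv_mem (hNL hzN)) hv⟩
  -- `z` fixes no nonidentity element of `W`
  have hzfix : ∀ p ∈ W, z * p = p * z → p = 1 := by
    intro p hp hzp
    by_contra hp1
    obtain ⟨r, hr, hr1, hrp⟩ := Vertex.exists_w b.v hp hp1
    have h2 : (z * z) * r * (z * z)⁻¹ = r := by
      rw [show z * z * r * (z * z)⁻¹ = z * (z * r * z⁻¹) * z⁻¹ by group]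
      rcases four_perm b.v.comp.2.2.2.2.1 b.v.comp.2.2.2.2.2 hp hp1 hr hrp hr1 hzn hzp with e | e
      · rw [e, e]
      · rw [e, show z * (r * p) * z⁻¹ = (z * r * z⁻¹) * (z * p * z⁻¹) by group, e, hzp, mul_inv_cancel_right,
          mul_assoc, b.w_sq hp, mul_one]
    refine hzc (centralizes_four b.v.comp.2.2.2.2.1 b.v.comp.2.2.2.2.2 hp hp1 hr hrp hr1 hzp ?_)
    have hcm : Commute (z * z) r := mul_inv_eq_iff_eq_mul.1 h2
    have := hcm.mul_left hcm
    rwa [show z * z * (z * z) = z ^ 3 * z by rw [pow_succ, pow_two]; group, hz3, one_mul] at this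
  by_cases hyc : y ∈ centralizer (W : Set G)
  · exact hy1 (hzfix y (hNW y (pow_mem hxN 3) hyc) hzy)
  have hyN : y ∈ N := pow_mem hxN 3
  have hyn : y ∈ normalizer (W : Set G) := mem_normalizer_iff.2 fun v => ⟨fun hv => b.conj_w (hNL hyN) hv,
    fun hv => by simpa [mul_assoc] using b.conj_w (inv_mem (hNL hyN)) hv⟩
  obtain ⟨v0, hv0, hv0y⟩ : ∃ v0 ∈ W, v0 * y ≠ y * v0 := by
    by_contra hcon
    push Not at hcon
    exact hyc (mem_centralizer_iff.2 hcon)
  set p := v0 * (y * v0 * y⁻¹) with hp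
  have hpW : p ∈ W := mul_mem hv0 ((mem_normalizer_iff.1 hyn v0).1 hv0)
  have hp1 : p ≠ 1 := fun e => hv0y (by
    refine (mul_inv_eq_iff_eq_mul.1 ?_).symm
    calc y * v0 * y⁻¹ = v0 * v0 * (y * v0 * y⁻¹) := by rw [b.w_sq hv0, one_mul]
      _ = v0 := by rw [mul_assoc, ← hp, e, mul_one])
  have hyp : y * p = p * y := by
    refine mul_inv_eq_iff_eq_mul.1 ?_
    have hyi : y⁻¹ = y := inv_eq_of_mul_eq_one_right hy2
    calc y * p * y⁻¹ = (y * v0 * y⁻¹) * ((y * y) * v0 * (y * y)⁻¹) := by rw [hp]; group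
      _ = p := by rw [hy2, one_mul, inv_one, mul_one, hp, b.w_comm hv0 ((mem_normalizer_iff.1 hyn v0).1 hv0)]
  set p1 := z * p * z⁻¹ with hp1'
  have hp1W : p1 ∈ W := (mem_normalizer_iff.1 hzn p).1 hpW
  have hp11 : p1 ≠ 1 := fun e => hp1 (conj_eq_one_iff.1 e)
  have hp1p : p1 ≠ p := fun e => hp1 (hzfix p hpW (mul_inv_eq_iff_eq_mul.1 e))
  have hyp1 : y * p1 = p1 * y := by
    rw [hp1']
    exact ((show Commute y z from hzy.symm).mul_right (show Commute y p from hyp)).mul_right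
      (show Commute y z from hzy.symm).inv_right |>.eq
  exact hyc (centralizes_four b.v.comp.2.2.2.2.1 b.v.comp.2.2.2.2.2 hpW hp1 hp1W hp1p hp11 hyp hyp1)

/-- The isomorphism type of `L`. -/
theorem iso : (Nat.card ↥(dd T K) = 1 → Nonempty (↥L ≃* Equiv.Perm (Fin 4))) ∧
    (Nat.card ↥(dd T K) = 2 → Nonempty (↥L ≃* Equiv.Perm (Fin 4) × Multiplicative (ZMod 2))) := by
  haveI : Fact (Nat.Prime 2) := ⟨Nat.prime_two⟩
  obtain ⟨N, hNL, hsup, hinf, hN, h6⟩ := b.exists_complement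
  obtain ⟨φ⟩ := Cfsg.Agent.S1012.result hN fun g => by rw [← Subgroup.orderOf_coe]; exact h6 g g.2
  refine ⟨fun h1 => ?_, fun h2 => ?_⟩
  · rw [eq_bot_of_card_eq _ h1, sup_bot_eq] at hsup
    exact ⟨(MulEquiv.subgroupCongr hsup.symm).trans φ⟩
  · let ψ : ↥(dd T K) ≃* Multiplicative (ZMod 2) := mulEquivOfPrimeCardEq (p := 2) h2 (by simp)
    have hc : ∀ (m : N) (n : dd T K), Commute (N.subtype m) ((dd T K).subtype n) := fun m n =>
      b.le_cen_dd n.2 (hNL m.2)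
    let θ := (N.subtype).noncommCoprod (dd T K).subtype hc
    have hinj : Function.Injective θ := (MonoidHom.noncommCoprod_injective _ _ hc).2
      ⟨N.subtype_injective, (dd T K).subtype_injective, by
        rw [Subgroup.range_subtype, Subgroup.range_subtype, disjoint_iff, hinf]⟩
    have hr : θ.range = L := by
      rw [MonoidHom.noncommCoprod_range, Subgroup.range_subtype, Subgroup.range_subtype, hsup]
    exact ⟨((MulEquiv.subgroupCongr hr.symm).trans (MonoidHom.ofInjective hinj).symm).trans (φ.prodCongr ψ)⟩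

end Edge

end CfsgLib.LocalEvenB.JShape
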