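import Cfsg.Agent.Lib.LocalEvenB.JOffend

/-!
Two vertices where the four-group of one is not centralized by its conjugates under the other.
-/

set_option autoImplicit false
set_option linter.style.haveILetI false
set_option linter.unusedSectionVars false

open scoped Pointwise commutatorElement

namespace CfsgLib.LocalEvenB.JSquares

open Subgroup CfsgLib.LocalEven JVertex JOffend

universe u

variable {G : Type u} [Group G] [Finite G]

/-- The subgroup generated by the squares. -/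
def sq (X : Subgroup G) : Subgroup G := closure ((fun x => x * x) '' (X : Set G))

theorem sq_le (X : Subgroup G) : sq X ≤ X :=
  (closure_le _).2 (by rintro _ ⟨x, hx, rfl⟩; exact mul_mem hx hx)

theorem mem_sq {X : Subgroup G} {x : G} (hx : x ∈ X) : x * x ∈ sq X := subset_closure ⟨x, hx, rfl⟩

theorem sq_mono {X Y : Subgroup G} (h : X ≤ Y) : sq X ≤ sq Y :=
  closure_mono (Set.image_mono h)

theorem normalizer_le_sq (X : Subgroup G) : normalizer (X : Set G) ≤ normalizer (sq X : Set G) := by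
  refine SylowIn.le_normalizer_of_map_conj fun g hg => ?_
  rw [sq, MonoidHom.map_closure, Set.image_image]
  congr 1
  ext y
  constructor
  · rintro ⟨x, hx, rfl⟩
    exact ⟨g * x * g⁻¹, (mem_normalizer_iff.1 hg x).1 hx, by simp⟩
  · rintro ⟨x, hx, rfl⟩
    refine ⟨g⁻¹ * x * g, ?_, by simp [mul_assoc]⟩
    simpa using (mem_normalizer_iff.1 (inv_mem hg) x).1 hx

theorem eq_one_of_fix {k x c : G} (hk : k ^ 3 = 1) (hc : c * c = 1) (hkc : k * c = c * k)
    (hx : k * x * k⁻¹ = x * c) : c = 1 := by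
  have hkc' : k * c * k⁻¹ = c := by rw [hkc, mul_inv_cancel_right]
  have h3 : k ^ 3 * x * (k ^ 3)⁻¹ = x * c * c * c := by
    calc k ^ 3 * x * (k ^ 3)⁻¹ = k * (k * (k * x * k⁻¹) * k⁻¹) * k⁻¹ := by rw [pow_succ, pow_two]; group
      _ = k * (k * (x * c) * k⁻¹) * k⁻¹ := by rw [hx]
      _ = k * ((k * x * k⁻¹) * (k * c * k⁻¹)) * k⁻¹ := by group
      _ = k * (x * c * c) * k⁻¹ := by rw [hx, hkc']
      _ = (k * x * k⁻¹) * (k * c * k⁻¹) * (k * c * k⁻¹) := by group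
      _ = _ := by rw [hx, hkc']
  rw [hk, one_mul, inv_one, mul_one, mul_assoc x c c, hc, mul_one] at h3
  exact left_eq_mul.1 h3

variable (H : Hyp G) {T K L : Subgroup G} (hv : Vertex T K L)
  (hcen : T ≤ centralizer (Cfsg.omegaCenterOf (Cfsg.thompsonSubgroupOf 2 T) : Set G))
include H hv hcen

omit H hcen in
/-- `K` is generated by `O₂(K)` and `k`. -/
theorem le_of_k {k : G} (hk : k ∈ K) (hfix : ∀ w ∈ Cfsg.wOf K, k * w * k⁻¹ = w → w = 1)
    {X : Subgroup G} (hQ : Cfsg.pCoreOf 2 K ≤ X) (hkX : k ∈ X) : K ≤ X := by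
  haveI : Fact (Nat.Prime 2) := ⟨Nat.prime_two⟩
  have h3 : (Cfsg.pCoreOf 2 K).relIndex (K ⊓ X) * (K ⊓ X).relIndex K = 3 := by
    rw [relIndex_mul_relIndex _ _ _ (le_inf (SylowIn.pCoreOf_le K) hQ) inf_le_left, hv.comp.2.2.1]
  rcases (Nat.dvd_prime Nat.prime_three).1 (Dvd.intro _ h3) with e | e
  · exfalso
    have hkQ := relIndex_eq_one.1 e ⟨hk, hkX⟩
    exact k_not_centralizes hv hfix (mem_centralizer_iff.2 fun w hw => (JAmbient.q_fix K k hkQ w hw).symm)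
  · rw [e] at h3
    have h1 : K ≤ K ⊓ X := relIndex_eq_one.1 (by omega)
    exact h1.trans inf_le_right

theorem pCoreOf_le_t : Cfsg.pCoreOf 2 K ≤ T := by
  haveI : Fact (Nat.Prime 2) := ⟨Nat.prime_two⟩
  obtain ⟨-, hcore, -⟩ := Vertex.q_facts H hv hcen
  have hn : K ⊔ T ≤ normalizer (Cfsg.pCoreOf 2 K : Set G) :=
    (sup_le Subgroup.le_normalizer (Vertex.t_le_normalizer H hv hcen)).trans (JComponent.normalizer_le_pCoreOf K)
  have := SylowIn.le_pCoreOf ((SylowIn.pCoreOf_le K).trans le_sup_left) hn (SylowIn.isPGroup_pCoreOf (p := 2) K)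
  rw [hcore] at this
  exact this.trans inf_le_left

variable {K' L' : Subgroup G} (hv' : Vertex T K' L') (hWW : Cfsg.wOf K' ≤ centralizer (Cfsg.wOf K : Set G))
include hv' hWW

omit hWW in
theorem perm' {f w : G} (hfW : f ∈ Cfsg.wOf K') (hfZ : f ∈ Cfsg.omegaCenterOf (Cfsg.thompsonSubgroupOf 2 T))
    (hf1 : f ≠ 1) (hw : w ∈ Cfsg.wOf K') (hwf : w ≠ f) (hw1 : w ≠ 1) {t : G} (ht : t ∈ T) :
    t * w * t⁻¹ = w ∨ t * w * t⁻¹ = w * f :=
  four_perm hv'.comp.2.2.2.2.1 hv'.comp.2.2.2.2.2 hfW hf1 hw hwf hw1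
    (Vertex.t_le_normalizer_w H hv' hcen ht) (Vertex.t_fix H hv' hcen hfZ ht)

omit hv' hWW in
/-- Conjugates by `K` of elements of `T ∩ C(W_K)` stay there. -/
theorem conj_mem_q {g q : G} (hg : g ∈ K ⊔ T) (hq : q ∈ T ⊓ centralizer (Cfsg.wOf K : Set G)) :
    g * q * g⁻¹ ∈ T ⊓ centralizer (Cfsg.wOf K : Set G) :=
  (mem_normalizer_iff.1 ((Vertex.q_facts H hv hcen).1 hg) q).1 hq

/-- The consequences of a noncommuting conjugate. -/
theorem deep {k f w : G} (hk : k ∈ K) (hk3 : k ^ 3 = 1) (hfW : f ∈ Cfsg.wOf K')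
    (hfZ : f ∈ Cfsg.omegaCenterOf (Cfsg.thompsonSubgroupOf 2 T)) (hf1 : f ≠ 1) (hKf : K ≤ centralizer ({f} : Set G))
    (hw : w ∈ Cfsg.wOf K') (hwf : w ≠ f) (hw1 : w ≠ 1)
    (hu : k * w * k⁻¹ ∉ centralizer (Cfsg.wOf K' : Set G)) :
    k * w * k⁻¹ ∈ T ⊓ centralizer (Cfsg.wOf K : Set G) ∧
      (∀ q ∈ T ⊓ centralizer (Cfsg.wOf K : Set G),
        q * (k * w * k⁻¹) * q⁻¹ = k * w * k⁻¹ ∨ q * (k * w * k⁻¹) * q⁻¹ = k * w * k⁻¹ * f) ∧
      f ∈ sq ((T ⊓ centralizer (Cfsg.wOf K : Set G)) ⊓ centralizer (Cfsg.wOf K' : Set G)) ∧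
      sq (T ⊓ centralizer (Cfsg.wOf K : Set G)) ≤
        sq ((T ⊓ centralizer (Cfsg.wOf K : Set G)) ⊓ centralizer (Cfsg.wOf K' : Set G)) := by
  set Q := T ⊓ centralizer (Cfsg.wOf K : Set G) with hQ
  have hwQ : w ∈ Q := ⟨((w_le_q H hv' hcen) hw).1, hWW hw⟩
  have hgk : ∀ g ∈ K, g * f * g⁻¹ = f := fun g hg => by
    rw [mem_centralizer_singleton_iff.1 (hKf hg), mul_inv_cancel_right]
  have hperm : ∀ g ∈ K, ∀ q ∈ Q, q * (g * w * g⁻¹) * q⁻¹ = g * w * g⁻¹ ∨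
      q * (g * w * g⁻¹) * q⁻¹ = g * w * g⁻¹ * f := by
    intro g hg q hq
    have hq' : g⁻¹ * q * g ∈ T := by
      simpa using (conj_mem_q H hv hcen (mem_sup_left (inv_mem hg) : g⁻¹ ∈ K ⊔ T) hq).1
    rcases perm' H hv hcen hv' hfW hfZ hf1 hw hwf hw1 hq' with e | e
    · left
      calc q * (g * w * g⁻¹) * q⁻¹ = g * ((g⁻¹ * q * g) * w * (g⁻¹ * q * g)⁻¹) * g⁻¹ := by group
        _ = g * w * g⁻¹ := by rw [e]
    · right
      calc q * (g * w * g⁻¹) * q⁻¹ = g * ((g⁻¹ * q * g) * w * (g⁻¹ * q * g)⁻¹) * g⁻¹ := by group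
        _ = g * w * g⁻¹ * (g * f * g⁻¹) := by rw [e]; group
        _ = _ := by rw [hgk g hg]
  set u := k * w * k⁻¹ with hudef
  set v := k⁻¹ * w * k with hvdef
  have huQ : u ∈ Q := conj_mem_q H hv hcen (mem_sup_left hk) hwQ
  have hvQ : v ∈ Q := by
    have h := conj_mem_q H hv hcen (mem_sup_left (inv_mem hk) : k⁻¹ ∈ K ⊔ T) hwQ
    rwa [inv_inv] at h
  have hW'4 : Nat.card ↥(Cfsg.wOf K') = 4 := hv'.comp.2.2.2.2.1
  have hW'sq : ∀ x ∈ Cfsg.wOf K', x * x = 1 := hv'.comp.2.2.2.2.2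
  have hinw : ∀ {y : G}, y ∈ T → y ∉ centralizer (Cfsg.wOf K' : Set G) → y * w * y⁻¹ ≠ w := fun {y} hy hy' e =>
    hy' (centralizes_four hW'4 hW'sq hfW hf1 hw hwf hw1 (Vertex.t_fix H hv' hcen hfZ hy) (mul_inv_eq_iff_eq_mul.1 e))
  have hmem_c : ∀ {y : G}, y ∈ T → y * w = w * y → y ∈ centralizer (Cfsg.wOf K' : Set G) := fun {y} hy e =>
    centralizes_four hW'4 hW'sq hfW hf1 hw hwf hw1 (Vertex.t_fix H hv' hcen hfZ hy) e
  have hvW : v ∉ centralizer (Cfsg.wOf K' : Set G) := by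
    intro hc
    refine hu (hmem_c huQ.1 ?_)
    have e : w * v = v * w := mem_centralizer_iff.1 hc w hw
    calc u * w = k * (w * v) * k⁻¹ := by rw [hudef, hvdef]; group
      _ = k * (v * w) * k⁻¹ := by rw [e]
      _ = w * u := by rw [hudef, hvdef]; group
  have hws : w * w = 1 := hW'sq w hw
  have hus : u * u = 1 := by rw [hudef, show k * w * k⁻¹ * (k * w * k⁻¹) = k * (w * w) * k⁻¹ by group, hws]; group
  have hvs : v * v = 1 := by rw [hvdef, show k⁻¹ * w * k * (k⁻¹ * w * k) = k⁻¹ * (w * w) * k by group, hws]; group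
  have hui : u⁻¹ = u := inv_eq_of_mul_eq_one_right hus
  have huv : u * v * u⁻¹ = v * f := by
    have h0 := hperm k⁻¹ (inv_mem hk) u huQ
    rw [inv_inv] at h0
    rcases h0 with e | e
    · exfalso
      have e' : u * v = v * u := mul_inv_eq_iff_eq_mul.1 e
      refine hvW (hmem_c hvQ.1 ?_)
      have hk2 : k * u * k⁻¹ = v := by
        have h2 : k * k = k⁻¹ := eq_inv_of_mul_eq_one_left (by rw [← pow_two, ← pow_succ, hk3])
        rw [hudef, hvdef, show k * (k * w * k⁻¹) * k⁻¹ = (k * k) * w * (k * k)⁻¹ by group, h2, inv_inv]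
      have hk1 : k * v * k⁻¹ = w := by rw [hvdef]; group
      calc v * w = (k * u * k⁻¹) * (k * v * k⁻¹) := by rw [hk2, hk1]
        _ = k * (u * v) * k⁻¹ := by group
        _ = k * (v * u) * k⁻¹ := by rw [e']
        _ = (k * v * k⁻¹) * (k * u * k⁻¹) := by group
        _ = w * v := by rw [hk2, hk1]
    · exact e
  have hfmem : f ∈ sq (Q ⊓ centralizer (Cfsg.wOf K' : Set G)) := by
    have he : u * v ∈ Q ⊓ centralizer (Cfsg.wOf K' : Set G) :=
      ⟨mul_mem huQ hvQ, Vertex.mul_mem_q H hv' hcen huQ.1 hu hvQ.1 hvW⟩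
    have hee : (u * v) * (u * v) = f := by
      rw [hui] at huv
      calc (u * v) * (u * v) = (u * v * u) * v := by group
        _ = v * (f * v) := by rw [huv]; group
        _ = f := by rw [← Vertex.t_fix H hv hcen hfZ hvQ.1, ← mul_assoc, hvs, one_mul]
    exact hee ▸ mem_sq he
  refine ⟨huQ, fun q hq => hperm k hk q hq, hfmem, (closure_le _).2 ?_⟩
  rintro _ ⟨x, hx, rfl⟩
  by_cases hxW : x ∈ centralizer (Cfsg.wOf K' : Set G)
  · exact mem_sq ⟨hx, hxW⟩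
  · set y := x * u with hy
    have hyE : y ∈ Q ⊓ centralizer (Cfsg.wOf K' : Set G) :=
      ⟨mul_mem hx huQ, Vertex.mul_mem_q H hv' hcen hx.1 hxW huQ.1 hu⟩
    have hxy : x = y * u := by rw [hy, mul_assoc, hus, mul_one]
    show x * x ∈ sq _
    rcases hperm k hk y hyE.1 with e | e
    · have e' : y * u = u * y := mul_inv_eq_iff_eq_mul.1 e
      rw [hxy, show y * u * (y * u) = y * (u * y) * u by group, ← e', show y * (y * u) * u = y * y * (u * u) by group,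
        hus, mul_one]
      exact mem_sq hyE
    · rw [← hudef] at e
      have e' : u * y = y * u * f := by
        have hfy : y * f = f * y := Vertex.t_fix H hv hcen hfZ hyE.1.1
        have h1 : y * u = u * f * y := mul_inv_eq_iff_eq_mul.1 e
        have hff : f * f = 1 := hW'sq f hfW
        calc u * y = u * y * (f * f) := by rw [hff, mul_one]
          _ = u * (y * f) * f := by group
          _ = u * f * y * f := by rw [hfy]; group
          _ = y * u * f := by rw [h1]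
      rw [hxy, show y * u * (y * u) = y * (u * y) * u by group, e',
        show y * (y * u * f) * u = y * y * (u * (f * u)) by group,
        ← Vertex.t_fix H hv hcen hfZ huQ.1, ← mul_assoc u u f, hus, one_mul]
      exact mul_mem (mem_sq hyE) hfmem

/-- Both vertices deep is impossible. -/
theorem not_both (hne : L ≠ L') (hWW' : Cfsg.wOf K ≤ centralizer (Cfsg.wOf K' : Set G))
    {k k' f f' w v : G} (hk : k ∈ K) (hk3 : k ^ 3 = 1) (hk' : k' ∈ K') (hk3' : k' ^ 3 = 1)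
    (hfW : f ∈ Cfsg.wOf K) (hfZ : f ∈ Cfsg.omegaCenterOf (Cfsg.thompsonSubgroupOf 2 T)) (hf1 : f ≠ 1)
    (hKf : K' ≤ centralizer ({f} : Set G)) (hvW : v ∈ Cfsg.wOf K) (hvf : v ≠ f) (hv1 : v ≠ 1)
    (hu' : k' * v * k'⁻¹ ∉ centralizer (Cfsg.wOf K : Set G))
    (hfW' : f' ∈ Cfsg.wOf K') (hfZ' : f' ∈ Cfsg.omegaCenterOf (Cfsg.thompsonSubgroupOf 2 T)) (hf1' : f' ≠ 1)
    (hKf' : K ≤ centralizer ({f'} : Set G)) (hw : w ∈ Cfsg.wOf K') (hwf : w ≠ f') (hw1 : w ≠ 1)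
    (hu : k * w * k⁻¹ ∉ centralizer (Cfsg.wOf K' : Set G)) : False := by
  obtain ⟨-, -, hf'E, hle⟩ := deep H hv hcen hv' hWW hk hk3 hfW' hfZ' hf1' hKf' hw hwf hw1 hu
  obtain ⟨-, -, -, hle'⟩ := deep H hv' hcen hv hWW' hk' hk3' hfW hfZ hf1 hKf hvW hvf hv1 hu'
  set Q := T ⊓ centralizer (Cfsg.wOf K : Set G) with hQ
  set Q' := T ⊓ centralizer (Cfsg.wOf K' : Set G) with hQ'
  set E := Q ⊓ centralizer (Cfsg.wOf K' : Set G) with hE
  have hEeq : Q' ⊓ centralizer (Cfsg.wOf K : Set G) = E := by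
    rw [hE, hQ, hQ', inf_right_comm]
  rw [hEeq] at hle'
  have h1 : sq Q = sq E := le_antisymm hle (sq_mono inf_le_left)
  have h2 : sq Q' = sq E := le_antisymm hle' (sq_mono (fun x hx => ⟨hx.1.1, hx.2⟩))
  have hne1 : sq E ≠ ⊥ := fun e => hf1' (mem_bot.1 (e ▸ hf'E))
  have hn := (Vertex.q_facts H hv hcen).1.trans (normalizer_le_sq Q)
  have hn' := (Vertex.q_facts H hv' hcen).1.trans (normalizer_le_sq Q')
  rw [h1] at hn
  rw [h2] at hn'
  exact not_common hv hv' hne ⟨_, (Vertex.t_pgroup hv).to_le ((sq_le E).trans (inf_le_left.trans inf_le_left)), hne1, rfl⟩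
    (le_sup_left.trans hn) (le_sup_left.trans hn') (((Fusion.Thompson.thompsonSubgroupOf_le T).trans le_sup_right).trans hn)

/-- Deep at one vertex and not at the other is impossible. -/
theorem lopsided (hne : L ≠ L') (hWW' : Cfsg.wOf K ≤ centralizer (Cfsg.wOf K' : Set G))
    {k k' f f' w v : G} (hk : k ∈ K) (hk3 : k ^ 3 = 1) (hkfix : ∀ y ∈ Cfsg.wOf K, k * y * k⁻¹ = y → y = 1)
    (hk' : k' ∈ K') (hk3' : k' ^ 3 = 1) (hkfix' : ∀ y ∈ Cfsg.wOf K', k' * y * k'⁻¹ = y → y = 1)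
    (hfW : f ∈ Cfsg.wOf K) (hfZ : f ∈ Cfsg.omegaCenterOf (Cfsg.thompsonSubgroupOf 2 T)) (hf1 : f ≠ 1)
    (hvW : v ∈ Cfsg.wOf K) (hvf : v ≠ f) (hv1 : v ≠ 1) (hI : k' * v * k'⁻¹ ∈ centralizer (Cfsg.wOf K : Set G))
    (hfW' : f' ∈ Cfsg.wOf K') (hfZ' : f' ∈ Cfsg.omegaCenterOf (Cfsg.thompsonSubgroupOf 2 T)) (hf1' : f' ≠ 1)
    (hKf' : K ≤ centralizer ({f'} : Set G)) (hw : w ∈ Cfsg.wOf K') (hwf : w ≠ f') (hw1 : w ≠ 1)
    (hu : k * w * k⁻¹ ∉ centralizer (Cfsg.wOf K' : Set G)) (S0 : Sylow 2 G)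
    (hz : k' * f = f * k' → centralizer ({f * f'} : Set G) ≤ normalizer ((S0 : Subgroup G) : Set G)) :
    False := by
  classical
  haveI : Fact (Nat.Prime 2) := ⟨Nat.prime_two⟩
  obtain ⟨huQ, hperm, -, -⟩ := deep H hv hcen hv' hWW hk hk3 hfW' hfZ' hf1' hKf' hw hwf hw1 hu
  set u := k * w * k⁻¹ with hudef
  have hus : u * u = 1 := by
    rw [hudef, show k * w * k⁻¹ * (k * w * k⁻¹) = k * (w * w) * k⁻¹ by group, hv'.comp.2.2.2.2.2 w hw]; group
  have hui : u⁻¹ = u := inv_eq_of_mul_eq_one_right hus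
  set W := Cfsg.wOf K with hW
  set W' := Cfsg.wOf K' with hW'
  set Q' := T ⊓ centralizer (W' : Set G) with hQ'
  have hk'Q : ∀ {q : G}, q ∈ Q' → k' * q * k'⁻¹ ∈ Q' := fun hq => conj_mem_q H hv' hcen (mem_sup_left hk') hq
  have hk'Qi : ∀ {q : G}, q ∈ Q' → k'⁻¹ * q * k' ∈ Q' := fun {q} hq => by
    have h := conj_mem_q H hv' hcen (mem_sup_left (inv_mem hk') : k'⁻¹ ∈ K' ⊔ T) hq
    rwa [inv_inv] at h
  have hTf : ∀ t ∈ T, t * f * t⁻¹ = f := fun t ht => by rw [Vertex.t_fix H hv hcen hfZ ht, mul_inv_cancel_right]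
  have hTf' : ∀ t ∈ T, t * f' * t⁻¹ = f' := fun t ht => by rw [Vertex.t_fix H hv hcen hfZ' ht, mul_inv_cancel_right]
  have hfv : ∀ t ∈ T, t * v * t⁻¹ = v ∨ t * v * t⁻¹ = v * f := fun t ht =>
    four_perm hv.comp.2.2.2.2.1 hv.comp.2.2.2.2.2 hfW hf1 hvW hvf hv1
      (Vertex.t_le_normalizer_w H hv hcen ht) (Vertex.t_fix H hv hcen hfZ ht)
  have hvQ' : v ∈ Q' := ⟨(w_le_q H hv hcen hvW).1, hWW' hvW⟩
  have hfQ' : f ∈ Q' := ⟨(w_le_q H hv hcen hfW).1, hWW' hfW⟩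
  have hvs : v * v = 1 := hv.comp.2.2.2.2.2 v hvW
  have hfs : f * f = 1 := hv.comp.2.2.2.2.2 f hfW
  have hfs' : f' * f' = 1 := hv'.comp.2.2.2.2.2 f' hfW'
  set v1 := k' * v * k'⁻¹ with hv1def
  have hv1Q : v1 ∈ T ⊓ centralizer (W : Set G) := ⟨(hk'Q hvQ').1, hI⟩
  set f1 := k' * f * k'⁻¹ with hf1def
  -- `u v₁ u = v₁` or `v₁ f'`
  have hv2 : u * v1 * u⁻¹ = v1 ∨ u * v1 * u⁻¹ = v1 * f' := by
    rcases hperm v1 hv1Q with e | e
    · left
      have : v1 * u = u * v1 := mul_inv_eq_iff_eq_mul.1 e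
      rw [← this, mul_inv_cancel_right]
    · right
      have h1 : v1 * u = u * f' * v1 := mul_inv_eq_iff_eq_mul.1 e
      have hfv1 : f' * v1 = v1 * f' := (Vertex.t_fix H hv hcen hfZ' hv1Q.1).symm
      calc u * v1 * u⁻¹ = u * (v1 * u) := by rw [hui, mul_assoc]
        _ = (u * u) * (f' * v1) := by rw [h1]; group
        _ = v1 * f' := by rw [hus, one_mul, hfv1]
  set q := u * k' * u⁻¹ * k' with hqdef
  have hq : q ∈ Q' := Vertex.invert H hv' hcen hk' hk3' hkfix' huQ.1 hu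
  have huk : ∀ x : G, u * (k' * x * k'⁻¹) * u⁻¹ = q * (k'⁻¹ * (u * x * u⁻¹) * k') * q⁻¹ := fun x => by
    rw [hqdef]; group
  have huv : u * v * u⁻¹ = v := by rw [← mem_centralizer_iff.1 huQ.2 v hvW, mul_inv_cancel_right]
  -- `K'` fixes `f`
  have hk'f : k' * f = f * k' := by
    by_contra hne'
    obtain ⟨e0, he0T, he0W', he0W⟩ := exists_diff H hv' hv (Ne.symm hne) hcen
    have hmv : e0 * v * e0⁻¹ = v * f := by
      rcases hfv e0 he0T with e | e
      · exact absurd (centralizes_four hv.comp.2.2.2.2.1 hv.comp.2.2.2.2.2 hfW hf1 hvW hvf hv1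
          (Vertex.t_fix H hv hcen hfZ he0T) (mul_inv_eq_iff_eq_mul.1 e)) he0W
      · exact e
    set e1 := k' * e0 * k'⁻¹ with he1def
    have he1 : e1 ∈ Q' := hk'Q ⟨he0T, he0W'⟩
    have hmv1 : e1 * v1 * e1⁻¹ = v1 * f1 := by
      rw [he1def, hv1def, hf1def, show k' * e0 * k'⁻¹ * (k' * v * k'⁻¹) * (k' * e0 * k'⁻¹)⁻¹ =
        k' * (e0 * v * e0⁻¹) * k'⁻¹ by group, hmv]; group
    set f2 := u * f1 * u⁻¹ with hf2def
    have hf2 : f2 = q * (k'⁻¹ * f * k') * q⁻¹ := by rw [hf2def, hf1def, huk, hTf u huQ.1]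
    have hfix3 : ∀ p ∈ Q', p * (k'⁻¹ * f * k') * p⁻¹ = k'⁻¹ * f * k' := fun p hp => by
      have h1 := hTf _ (hk'Q hp).1
      calc p * (k'⁻¹ * f * k') * p⁻¹ = k'⁻¹ * ((k' * p * k'⁻¹) * f * (k' * p * k'⁻¹)⁻¹) * k' := by group
        _ = _ := by rw [h1]
    rw [hfix3 q hq] at hf2
    -- how `e₁` moves `u v₁ u`
    set v2 := u * v1 * u⁻¹ with hv2def
    have hv2f : e1 * v2 * e1⁻¹ = v2 * f1 := by
      have hef : e1 * f' * e1⁻¹ = f' := hTf' e1 he1.1
      have hff : f' * f1 = f1 * f' := by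
        have h := Vertex.t_fix H hv hcen hfZ' (hk'Q hfQ').1
        exact h.symm
      rcases hv2 with e | e <;> rw [e]
      · exact hmv1
      · rw [show e1 * (v1 * f') * e1⁻¹ = (e1 * v1 * e1⁻¹) * (e1 * f' * e1⁻¹) by group, hmv1, hef, mul_assoc v1 f1 f',
          ← hff, ← mul_assoc]
    have hv2p : e1 * v2 * e1⁻¹ = v2 ∨ e1 * v2 * e1⁻¹ = v2 * f2 := by
      set p := q⁻¹ * e1 * q with hp
      have hpQ : p ∈ Q' := mul_mem (mul_mem (inv_mem hq) he1) hq
      have hv2e : v2 = q * (k'⁻¹ * v * k') * q⁻¹ := by rw [hv2def, hv1def, huk, huv]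
      have h2 := hfv _ (hk'Q hpQ).1
      have e0' : e1 * v2 * e1⁻¹ = q * (k'⁻¹ * ((k' * p * k'⁻¹) * v * (k' * p * k'⁻¹)⁻¹) * k') * q⁻¹ := by
        rw [hv2e, hp]; group
      rcases h2 with e | e
      · exact Or.inl (by rw [e0', e, hv2e])
      · refine Or.inr ?_
        rw [e0', e, hf2, hv2e]
        nth_rewrite 1 [← hfix3 q hq]
        rw [show q * (k'⁻¹ * (v * f) * k') * q⁻¹ = q * (k'⁻¹ * v * k') * q⁻¹ * (q * (k'⁻¹ * f * k') * q⁻¹) by group,
          hfix3 q hq]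
    have hf1ne : f1 ≠ 1 := fun e => hf1 (conj_eq_one_iff.1 e)
    rcases hv2p with e | e
    · rw [hv2f] at e
      exact hf1ne (mul_eq_left.1 e)
    · rw [hv2f] at e
      have e2 := mul_left_cancel e
      rw [hf2, hf1def] at e2
      refine hne' (mul_inv_eq_iff_eq_mul.1 ?_)
      have h3 : k' * (k' * f * k'⁻¹) * k'⁻¹ = f := by rw [e2]; group
      calc k' * f * k'⁻¹ = k' * (k' * (k' * f * k'⁻¹) * k'⁻¹) * k'⁻¹ := by rw [h3]
        _ = k' ^ 3 * f * (k' ^ 3)⁻¹ := by rw [pow_succ, pow_two]; group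
        _ = f := by rw [hk3', one_mul, inv_one, mul_one]
  have hkf' : k' * f * k'⁻¹ = f := by rw [hk'f, mul_inv_cancel_right]
  have hkf'i : k'⁻¹ * f * k' = f := by rw [mul_assoc, ← hk'f, inv_mul_cancel_left]
  -- `k'⁻¹ v k'` differs from `v₁` by `⟨f, f'⟩`
  set v3 := k'⁻¹ * v * k' with hv3def
  have hv3Q : v3 ∈ Q' := hk'Qi hvQ'
  obtain ⟨x, hxW', i, hx⟩ : ∃ x ∈ W', ∃ i : G, (i = 1 ∨ i = f) ∧ v1 = v * x * i := by
    have hA : ∃ x ∈ W', ∃ i : G, (i = 1 ∨ i = f) ∧ v3 = v1 * x * i := by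
      have h1 : q * v3 * q⁻¹ = u * v1 * u⁻¹ := by rw [hv1def, huk, huv, hv3def]
      have hp : q * v3 * q⁻¹ = v3 ∨ q * v3 * q⁻¹ = v3 * f := by
        rcases hfv _ (hk'Q hq).1 with e | e
        · left
          calc q * v3 * q⁻¹ = k'⁻¹ * ((k' * q * k'⁻¹) * v * (k' * q * k'⁻¹)⁻¹) * k' := by rw [hv3def]; group
            _ = v3 := by rw [e]
        · right
          calc q * v3 * q⁻¹ = k'⁻¹ * ((k' * q * k'⁻¹) * v * (k' * q * k'⁻¹)⁻¹) * k' := by rw [hv3def]; group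
            _ = v3 * (k'⁻¹ * f * k') := by rw [e, hv3def]; group
            _ = _ := by rw [hkf'i]
      rw [h1] at hp
      rcases hv2 with e | e <;> rw [e] at hp <;> rcases hp with e' | e'
      · exact ⟨1, one_mem _, 1, Or.inl rfl, by rw [← e']; simp⟩
      · refine ⟨1, one_mem _, f, Or.inr rfl, ?_⟩
        rw [mul_one, e', mul_assoc, hfs, mul_one]
      · exact ⟨f', hfW', 1, Or.inl rfl, by rw [← e']; simp⟩
      · refine ⟨f', hfW', f, Or.inr rfl, ?_⟩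
        rw [e', mul_assoc, hfs, mul_one]
    obtain ⟨x0, hx0, i0, hi0, e0⟩ := hA
    -- conjugate by `k'`: `v = v₃ · x' · i`
    set x' := k' * x0 * k'⁻¹ with hx'
    have hx'W : x' ∈ W' := (mem_normalizer_iff.1 (JAmbient.conjK_le_normalizer_wOf K' (Subgroup.le_normalizer hk')) x0).1 hx0
    have hki : k' * i0 * k'⁻¹ = i0 := by rcases hi0 with rfl | rfl <;> first | exact hkf' | group
    have hkk : k' * v1 * k'⁻¹ = v3 := by
      have h2 : k' * k' = k'⁻¹ := eq_inv_of_mul_eq_one_left (by rw [← pow_two, ← pow_succ, hk3'])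
      rw [hv1def, hv3def, show k' * (k' * v * k'⁻¹) * k'⁻¹ = (k' * k') * v * (k' * k')⁻¹ by group, h2, inv_inv]
    have hveq : v = v3 * x' * i0 := by
      have h : k' * v3 * k'⁻¹ = k' * (v1 * x0 * i0) * k'⁻¹ := by rw [e0]
      rw [show k' * v3 * k'⁻¹ = v by rw [hv3def]; group,
        show k' * (v1 * x0 * i0) * k'⁻¹ = (k' * v1 * k'⁻¹) * (k' * x0 * k'⁻¹) * (k' * i0 * k'⁻¹) by group,
        hkk, hki] at h
      exact h
    have hx0T : x0 ∈ T := (w_le_q H hv' hcen hx0).1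
    have hx'T : x' ∈ T := (w_le_q H hv' hcen hx'W).1
    have hW'c : ∀ a ∈ Q', ∀ b ∈ W', a * b = b * a := fun a ha b hb => (mem_centralizer_iff.1 ha.2 b hb).symm
    refine ⟨x0 * x', mul_mem hx0 hx'W, 1, Or.inl rfl, ?_⟩
    have hi0Q : i0 ∈ Q' := by rcases hi0 with rfl | rfl; exacts [one_mem _, hfQ']
    have hi0s : i0 * i0 = 1 := by rcases hi0 with rfl | rfl; exacts [one_mul 1, hfs]
    have hxs : x0 * x0 = 1 := hv'.comp.2.2.2.2.2 x0 hx0
    have hxs' : x' * x' = 1 := hv'.comp.2.2.2.2.2 x' hx'W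
    have hv1eq : v1 = v3 * i0 * x0 := by
      rw [e0, mul_assoc (v1 * x0) i0 i0, hi0s, mul_one, mul_assoc, hxs, mul_one]
    rw [mul_one, hv1eq, hveq]
    calc v3 * i0 * x0 = v3 * (x' * x') * i0 * x0 := by rw [hxs', mul_one]
      _ = v3 * x' * (x' * i0) * x0 := by group
      _ = v3 * x' * (i0 * x') * x0 := by rw [hW'c i0 hi0Q x' hx'W]
      _ = v3 * x' * i0 * (x' * x0) := by group
      _ = v3 * x' * i0 * (x0 * x') := by
        rw [(mem_centralizer_iff.1 (w_le_q H hv' hcen hx0).2 x' hx'W)]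
  obtain ⟨hi, hv1e⟩ := hx
  -- solve `x = u₀ · k' u₀ k'⁻¹`
  obtain ⟨u0, hu0, hu0x⟩ : ∃ u0 ∈ W', u0 * (k' * u0 * k'⁻¹) = x := by
    have hk'n := JAmbient.conjK_le_normalizer_wOf K' (Subgroup.le_normalizer hk')
    let φ : W' → W' := fun y => ⟨(y : G) * (k' * y * k'⁻¹), mul_mem y.2 ((mem_normalizer_iff.1 hk'n (y : G)).1 y.2)⟩
    have hinj : Function.Injective φ := by
      intro a b hab
      have hab' : (a : G) * (k' * a * k'⁻¹) = b * (k' * b * k'⁻¹) := congrArg Subtype.val hab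
      have hc : ∀ p ∈ W', ∀ r ∈ W', p * r = r * p := fun p hp r hr =>
        mem_centralizer_iff.1 (w_le_q H hv' hcen hr).2 p hp
      have ha : (k' * a * k'⁻¹) ∈ W' := (mem_normalizer_iff.1 hk'n (a : G)).1 a.2
      have hb : (k' * b * k'⁻¹) ∈ W' := (mem_normalizer_iff.1 hk'n (b : G)).1 b.2
      have hd : (a : G) * b = k' * ((a : G) * b) * k'⁻¹ := by
        calc (a : G) * b = a * ((k' * a * k'⁻¹) * (k' * a * k'⁻¹)) * b := by
              rw [hv'.comp.2.2.2.2.2 _ ha, mul_one]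
          _ = (a * (k' * a * k'⁻¹)) * ((k' * a * k'⁻¹) * b) := by group
          _ = (b * (k' * b * k'⁻¹)) * (b * (k' * a * k'⁻¹)) := by rw [hab', hc _ ha b b.2]
          _ = (b * b) * ((k' * b * k'⁻¹) * (k' * a * k'⁻¹)) := by
              rw [← mul_assoc, mul_assoc (b : G) (k' * b * k'⁻¹) b, hc _ hb b b.2]; group
          _ = k' * ((b : G) * a) * k'⁻¹ := by rw [hv'.comp.2.2.2.2.2 _ b.2, one_mul]; group
          _ = _ := by rw [hc _ b.2 a a.2]
      have h1 := hkfix' _ (mul_mem a.2 b.2) hd.symm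
      refine Subtype.ext ?_
      calc (a : G) = a * (b * b) := by rw [hv'.comp.2.2.2.2.2 _ b.2, mul_one]
        _ = b := by rw [← mul_assoc, h1, one_mul]
    obtain ⟨y, hy⟩ := (Finite.injective_iff_surjective.1 hinj) ⟨x, hxW'⟩
    exact ⟨y, y.2, congrArg Subtype.val hy⟩
  set vs := v * u0 with hvs_def
  have hW'c : ∀ a ∈ Q', ∀ b ∈ W', a * b = b * a := fun a ha b hb => (mem_centralizer_iff.1 ha.2 b hb).symm
  have hu0Q : u0 ∈ Q' := ⟨(w_le_q H hv' hcen hu0).1, (w_le_q H hv' hcen hu0).2⟩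
  have hku0 : k' * u0 * k'⁻¹ ∈ W' :=
    (mem_normalizer_iff.1 (JAmbient.conjK_le_normalizer_wOf K' (Subgroup.le_normalizer hk')) u0).1 hu0
  have hiQ : i ∈ Q' := by rcases hi with rfl | rfl; exacts [one_mem _, hfQ']
  have hvsfix : k' * vs * k'⁻¹ = vs := by
    have h1 : k' * vs * k'⁻¹ = vs * i := by
      calc k' * vs * k'⁻¹ = v1 * (k' * u0 * k'⁻¹) := by rw [hvs_def, hv1def]; group
        _ = v * x * (i * (k' * u0 * k'⁻¹)) := by rw [hv1e]; group
        _ = v * x * ((k' * u0 * k'⁻¹) * i) := by rw [hW'c i hiQ _ hku0]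
        _ = v * u0 * ((k' * u0 * k'⁻¹) * (k' * u0 * k'⁻¹)) * i := by rw [← hu0x]; group
        _ = vs * i := by rw [hv'.comp.2.2.2.2.2 _ hku0, mul_one]
    have hi1 : i = 1 := eq_one_of_fix hk3' (by rcases hi with rfl | rfl; exacts [one_mul 1, hfs])
      (by rcases hi with rfl | rfl; exacts [by simp, hk'f]) h1
    rw [h1, hi1, mul_one]
  -- `u` fixes `u₀`
  have huu0 : u * u0 * u⁻¹ = u0 := by
    set y := u0 * (u * u0 * u⁻¹) with hy
    have hu0' : u * u0 * u⁻¹ ∈ W' := (mem_normalizer_iff.1 (Vertex.t_le_normalizer_w H hv' hcen huQ.1) u0).1 hu0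
    have hyW : y ∈ W' := mul_mem hu0 hu0'
    have hvsi : k'⁻¹ * vs * k' = vs := by
      conv_lhs => rw [← hvsfix]
      group
    have hqv : q * vs * q⁻¹ = vs ∨ q * vs * q⁻¹ = vs * f := by
      have hqu : q * u0 * q⁻¹ = u0 := by rw [hW'c q hq u0 hu0, mul_inv_cancel_right]
      rcases hfv q hq.1 with e | e
      · left; rw [hvs_def, show q * (v * u0) * q⁻¹ = (q * v * q⁻¹) * (q * u0 * q⁻¹) by group, e, hqu]
      · right; rw [hvs_def, show q * (v * u0) * q⁻¹ = (q * v * q⁻¹) * (q * u0 * q⁻¹) by group, e, hqu,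
          mul_assoc, hW'c f hfQ' u0 hu0, mul_assoc]
    have hy' : y = vs * (u * vs * u⁻¹) := by
      calc y = (v * v) * u0 * (u * u0 * u⁻¹) := by rw [hvs, one_mul, hy]
        _ = v * (v * u0) * (u * u0 * u⁻¹) := by group
        _ = v * (u0 * v) * (u * u0 * u⁻¹) := by rw [hW'c v hvQ' u0 hu0]
        _ = (v * u0) * (v * (u * u0 * u⁻¹)) := by group
        _ = (v * u0) * ((u * v * u⁻¹) * (u * u0 * u⁻¹)) := by rw [huv]
        _ = vs * (u * vs * u⁻¹) := by rw [hvs_def]; group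
    have hkqi : u⁻¹ * k' * u = q * k'⁻¹ := by
      rw [hqdef, hui]; group
    obtain ⟨c, hc, hyc⟩ : ∃ c : G, (c = 1 ∨ c = f) ∧ k' * y * k'⁻¹ = y * c := by
      have hconj : k' * (u * vs * u⁻¹) * k'⁻¹ = u * (q * vs * q⁻¹) * u⁻¹ := by
        calc k' * (u * vs * u⁻¹) * k'⁻¹ = u * ((u⁻¹ * k' * u) * vs * (u⁻¹ * k' * u)⁻¹) * u⁻¹ := by group
          _ = u * (q * (k'⁻¹ * vs * k') * q⁻¹) * u⁻¹ := by rw [hkqi]; group
          _ = _ := by rw [hvsi]
      rcases hqv with e | e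
      · refine ⟨1, Or.inl rfl, ?_⟩
        rw [hy', show k' * (vs * (u * vs * u⁻¹)) * k'⁻¹ = (k' * vs * k'⁻¹) * (k' * (u * vs * u⁻¹) * k'⁻¹) by group,
          hvsfix, hconj, e, mul_one]
      · refine ⟨f, Or.inr rfl, ?_⟩
        rw [hy', show k' * (vs * (u * vs * u⁻¹)) * k'⁻¹ = (k' * vs * k'⁻¹) * (k' * (u * vs * u⁻¹) * k'⁻¹) by group,
          hvsfix, hconj, e, show u * (vs * f) * u⁻¹ = (u * vs * u⁻¹) * (u * f * u⁻¹) by group, hTf u huQ.1, ← mul_assoc]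
    have hc1 : c = 1 := eq_one_of_fix hk3' (by rcases hc with rfl | rfl; exacts [one_mul 1, hfs])
      (by rcases hc with rfl | rfl; exacts [by simp, hk'f]) hyc
    have := hkfix' y hyW (by rw [hyc, hc1, mul_one])
    rw [hy] at this
    calc u * u0 * u⁻¹ = (u0 * u0) * (u * u0 * u⁻¹) := by rw [hv'.comp.2.2.2.2.2 u0 hu0, one_mul]
      _ = u0 := by rw [mul_assoc, this, mul_one]
  have hu0cases : u0 = 1 ∨ u0 = f' := by
    rcases JComponent.four_cases hv'.comp.2.2.2.2.1 hfW' hf1' hw hwf hw1 hfs' hu0 with e | e | e | e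
    · exact Or.inl e
    · exact Or.inr e
    all_goals exfalso
    · subst e
      exact hu (centralizes_four hv'.comp.2.2.2.2.1 hv'.comp.2.2.2.2.2 hfW' hf1' hw hwf hw1
        (Vertex.t_fix H hv hcen hfZ' huQ.1) (mul_inv_eq_iff_eq_mul.1 huu0))
    · subst e
      refine hu (centralizes_four hv'.comp.2.2.2.2.1 hv'.comp.2.2.2.2.2 hfW' hf1' hw hwf hw1
        (Vertex.t_fix H hv hcen hfZ' huQ.1) (mul_inv_eq_iff_eq_mul.1 ?_))
      rw [show u * (w * f') * u⁻¹ = (u * w * u⁻¹) * (u * f' * u⁻¹) by group, hTf' u huQ.1] at huu0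
      exact mul_right_cancel huu0
  rcases hu0cases with h0 | h0
  · -- `K'` normalizes `W`
    rw [hvs_def, h0, mul_one] at hvsfix
    have hk'W : k' ∈ normalizer (W : Set G) :=
      centralizer_le_normalizer _ (centralizes_four hv.comp.2.2.2.2.1 hv.comp.2.2.2.2.2 hfW hf1 hvW hvf hv1 hk'f
        (mul_inv_eq_iff_eq_mul.1 hvsfix))
    have hK'W : K' ≤ normalizer (W : Set G) := le_of_k hv' hk' hkfix'
      ((pCoreOf_le_t H hv' hcen).trans (Vertex.t_le_normalizer_w H hv hcen)) hk'W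
    have hW1 : W ≠ ⊥ := fun e => hf1 (mem_bot.1 (e ▸ hfW))
    exact not_common hv hv' hne ⟨W, IsPGroup.of_card (n := 2) (by rw [hv.comp.2.2.2.2.1]; norm_num), hW1, rfl⟩
      (Subgroup.le_normalizer.trans (JAmbient.conjK_le_normalizer_wOf K)) hK'W
      ((Fusion.Thompson.thompsonSubgroupOf_le T).trans (Vertex.t_le_normalizer_w H hv hcen))
  · -- `v f'` is conjugate to `f f'`
    have hvs_eq : vs = v * f' := by rw [hvs_def, h0]
    obtain ⟨g, hgK, hgf⟩ : ∃ g ∈ K, g * f * g⁻¹ = v := by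
      have hkn := JAmbient.conjK_le_normalizer_wOf K (Subgroup.le_normalizer hk)
      have hm : ∀ y ∈ W, k * y * k⁻¹ ∈ W := fun y hy => (mem_normalizer_iff.1 hkn y).1 hy
      have hne1 : k * f * k⁻¹ ≠ 1 := fun e => hf1 (conj_eq_one_iff.1 e)
      have hne2 : k * f * k⁻¹ ≠ f := fun e => hf1 (hkfix f hfW e)
      rcases JComponent.four_cases hv.comp.2.2.2.2.1 hfW hf1 hvW hvf hv1 hfs (hm f hfW) with e | e | e | e
      · exact absurd e hne1
      · exact absurd e hne2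
      · exact ⟨k, hk, e⟩
      · refine ⟨k * k, mul_mem hk hk, ?_⟩
        rw [show k * k * f * (k * k)⁻¹ = k * (k * f * k⁻¹) * k⁻¹ by group, e]
        have hm2 := hm _ (mul_mem hvW hfW)
        rcases JComponent.four_cases hv.comp.2.2.2.2.1 hfW hf1 hvW hvf hv1 hfs hm2 with e' | e' | e' | e'
        · exact absurd (conj_eq_one_iff.1 e') (fun h => hvf (by
            calc v = v * f * f := by rw [mul_assoc, hfs, mul_one]
              _ = f := by rw [h, one_mul]))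
        · exfalso
          have h3 : k * (k * (k * f * k⁻¹) * k⁻¹) * k⁻¹ = f := by
            calc k * (k * (k * f * k⁻¹) * k⁻¹) * k⁻¹ = k ^ 3 * f * (k ^ 3)⁻¹ := by rw [pow_succ, pow_two]; group
              _ = f := by rw [hk3, one_mul, inv_one, mul_one]
          rw [e, e'] at h3
          exact hne2 h3
        · exact e'
        · exact absurd (hkfix _ (mul_mem hvW hfW) e') (fun h => hvf (by
            calc v = v * f * f := by rw [mul_assoc, hfs, mul_one]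
              _ = f := by rw [h, one_mul]))
    have hgf' : g * f' * g⁻¹ = f' := by
      rw [mem_centralizer_singleton_iff.1 (hKf' hgK), mul_inv_cancel_right]
    have hzv : g * (f * f') * g⁻¹ = vs := by
      rw [show g * (f * f') * g⁻¹ = (g * f * g⁻¹) * (g * f' * g⁻¹) by group, hgf, hgf', hvs_eq]
    have hcg : ∀ y, y * vs = vs * y → g⁻¹ * y * g ∈ normalizer ((S0 : Subgroup G) : Set G) := fun y hy => hz hk'f (by
      refine mem_centralizer_singleton_iff.2 ?_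
      calc g⁻¹ * y * g * (f * f') = g⁻¹ * (y * vs) * g := by rw [← hzv]; group
        _ = g⁻¹ * (vs * y) * g := by rw [hy]
        _ = f * f' * (g⁻¹ * y * g) := by rw [← hzv]; group)
    have huvs : u * vs = vs * u := mul_inv_eq_iff_eq_mul.1 (by
      rw [hvs_eq, show u * (v * f') * u⁻¹ = (u * v * u⁻¹) * (u * f' * u⁻¹) by group, huv, hTf' u huQ.1])
    have hkvs : k' * vs = vs * k' := mul_inv_eq_iff_eq_mul.1 hvsfix
    have hS0 : ∀ y, y * y = 1 → g⁻¹ * y * g ∈ normalizer ((S0 : Subgroup G) : Set G) → g⁻¹ * y * g ∈ (S0 : Subgroup G) := by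
      intro y hys hyn
      set y' := g⁻¹ * y * g with hy'
      have hy2 : y' * y' = 1 := by
        rw [hy', show g⁻¹ * y * g * (g⁻¹ * y * g) = g⁻¹ * (y * y) * g by group, hys]; group
      have hzp : IsPGroup 2 (zpowers y') := Fusion.Thompson.isPGroup_isEA (JComponent.isEA_zpowers hy2)
      have hp : IsPGroup 2 ↥((S0 : Subgroup G) ⊔ zpowers y') :=
        IsPGroup.to_sup_of_normal_left' S0.isPGroup' hzp (zpowers_le.2 hyn)
      have := S0.is_maximal' hp le_sup_left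
      exact this ▸ mem_sup_right (mem_zpowers y')
    set z := k' * u * k'⁻¹ * u with hzdef
    have h1 := hS0 u hus (hcg u huvs)
    have h2 := hS0 (k' * u * k'⁻¹)
      (by rw [show k' * u * k'⁻¹ * (k' * u * k'⁻¹) = k' * (u * u) * k'⁻¹ by group, hus]; group)
      (hcg _ (by
        have hki : Commute k'⁻¹ vs := (show Commute k' vs from hkvs).inv_left
        exact ((show Commute k' vs from hkvs).mul_left (show Commute u vs from huvs)).mul_left hki))
    obtain ⟨n, hn⟩ := S0.isPGroup' ⟨_, mul_mem h2 h1⟩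
    have hzn : z ^ 2 ^ n = 1 := by
      have h := congrArg Subtype.val hn
      simp only [SubmonoidClass.coe_pow, OneMemClass.coe_one] at h
      rw [show g⁻¹ * (k' * u * k'⁻¹) * g * (g⁻¹ * u * g) = g⁻¹ * z * g⁻¹⁻¹ by rw [hzdef]; group, conj_pow] at h
      exact conj_eq_one_iff.1 h
    have hzq : z = k' * k' * q⁻¹ := by
      calc z = k' * u * k'⁻¹ * u⁻¹ := by rw [hzdef, hui]
        _ = k' * k' * q⁻¹ := by rw [hqdef]; group
    have hact : ∀ m : ℕ, ∀ y ∈ W', z ^ m * y * (z ^ m)⁻¹ = (k' * k') ^ m * y * ((k' * k') ^ m)⁻¹ := by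
      intro m
      induction m with
      | zero => intro y _; simp
      | succ m ih =>
        intro y hy
        have hqy : q⁻¹ * y * q⁻¹⁻¹ = y := by
          rw [hW'c q⁻¹ (inv_mem hq) y hy, mul_inv_cancel_right]
        have hk'n := JAmbient.conjK_le_normalizer_wOf K' (Subgroup.le_normalizer hk')
        have hzy : z * y * z⁻¹ = (k' * k') * y * (k' * k')⁻¹ := by
          rw [hzq, show k' * k' * q⁻¹ * y * (k' * k' * q⁻¹)⁻¹ = k' * k' * (q⁻¹ * y * q⁻¹⁻¹) * (k' * k')⁻¹ by group, hqy]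
        calc z ^ (m + 1) * y * (z ^ (m + 1))⁻¹ = z ^ m * (z * y * z⁻¹) * (z ^ m)⁻¹ := by rw [pow_succ]; group
          _ = z ^ m * ((k' * k') * y * (k' * k')⁻¹) * (z ^ m)⁻¹ := by rw [hzy]
          _ = _ := by
            rw [ih _ ((mem_normalizer_iff.1 (mul_mem hk'n hk'n) y).1 hy), pow_succ]; group
    have hb := hact (2 ^ n) f' hfW'
    rw [hzn, one_mul, inv_one, mul_one] at hb
    have hc : Commute ((k' * k') ^ 2 ^ n) f' := mul_inv_eq_iff_eq_mul.1 hb.symm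
    have hcop : Nat.Coprime (2 ^ (n + 1)) (orderOf k') :=
      (Nat.Coprime.pow_left _ (by norm_num : Nat.Coprime 2 3)).coprime_dvd_right (orderOf_dvd_of_pow_eq_one hk3')
    obtain ⟨t, ht⟩ := exists_pow_eq_self_of_coprime hcop
    rw [show (k' * k') ^ 2 ^ n = k' ^ 2 ^ (n + 1) by rw [← pow_two, ← pow_mul, ← pow_succ']] at hc
    have hck := hc.pow_left t
    rw [ht] at hck
    exact hf1' (hkfix' f' hfW' (by rw [hck.eq, mul_inv_cancel_right]))

end CfsgLib.LocalEvenB.JSquares
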