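import Cfsg.Agent.Lib.LocalEvenB.JPlanes

/-!
A vertex: a `J(T)`-component `K` with its maximal `2`-local overgroup `L`, in which `T` is a Sylow
subgroup. Basic facts when `T` centralizes `Ω₁(Z(J(T)))`.
-/

set_option autoImplicit false
set_option linter.style.haveILetI false
set_option linter.unusedSectionVars false

open scoped Pointwise commutatorElement

namespace CfsgLib.LocalEvenB.JVertex

open Subgroup CfsgLib.LocalEven

universe u

variable {G : Type u} [Group G] [Finite G]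

/-- The global hypotheses. -/
structure Hyp (G : Type u) [Group G] : Prop where
  char2 : Cfsg.IsCharacteristicTwoType G
  solv : ∀ N : Subgroup G, Cfsg.IsTwoLocal N → Group.IsSolvable ↥N
  cz : ∀ S : Sylow 2 G, centralizer (Cfsg.omegaCenterOf (S : Subgroup G) : Set G) ≤
    normalizer ((S : Subgroup G) : Set G)

/-- A component with its maximal overgroup. -/
structure Vertex (T K L : Subgroup G) : Prop where
  comp : Cfsg.IsJComponent T K
  max : Cfsg.IsMaximalTwoLocal L
  le : K ≤ L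
  syl : Cfsg.IsSylowTwoIn T L
  uniq : ∀ X : Subgroup G, Cfsg.IsTwoLocal X → K ≤ X → Cfsg.thompsonSubgroupOf 2 T ≤ X → X ≤ L

/-- Moving a four-group: the possible images of an element. -/
theorem four_perm {W : Subgroup G} (hW : Nat.card W = 4) (hsq : ∀ w ∈ W, w * w = 1) {f w : G} (hf : f ∈ W)
    (hf1 : f ≠ 1) (hw : w ∈ W) (hwf : w ≠ f) (hw1 : w ≠ 1) {g : G} (hg : g ∈ normalizer (W : Set G))
    (hgf : g * f = f * g) : g * w * g⁻¹ = w ∨ g * w * g⁻¹ = w * f := by
  have hgf' : g * f * g⁻¹ = f := by rw [hgf, mul_inv_cancel_right]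
  have hm := (mem_normalizer_iff.1 hg w).1 hw
  rcases JComponent.four_cases hW hf hf1 hw hwf hw1 (hsq f hf) hm with e | e | e | e
  · exact absurd (conj_eq_one_iff.1 e) hw1
  · rw [← hgf'] at e
    exact absurd (mul_left_cancel (mul_right_cancel e)) hwf
  · exact Or.inl e
  · exact Or.inr e

/-- An element centralizing two independent elements centralizes the four-group. -/
theorem centralizes_four {W : Subgroup G} (hW : Nat.card W = 4) (hsq : ∀ w ∈ W, w * w = 1) {f w : G} (hf : f ∈ W)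
    (hf1 : f ≠ 1) (hw : w ∈ W) (hwf : w ≠ f) (hw1 : w ≠ 1) {g : G} (hgf : g * f = f * g)
    (hgw : g * w = w * g) : g ∈ centralizer (W : Set G) := by
  refine mem_centralizer_iff.2 fun x hx => ?_
  rcases JComponent.four_cases hW hf hf1 hw hwf hw1 (hsq f hf) hx with e | e | e | e <;> subst e
  · simp
  · exact hgf.symm
  · exact hgw.symm
  · rw [mul_assoc, ← hgf, ← mul_assoc, ← hgw, mul_assoc]

namespace Vertex

variable (H : Hyp G) {T K L : Subgroup G} (hv : Vertex T K L)
  (hcen : T ≤ centralizer (Cfsg.omegaCenterOf (Cfsg.thompsonSubgroupOf 2 T) : Set G))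
include H hv

omit H in
theorem t_pgroup : IsPGroup 2 T := hv.syl.2.1

omit H in
theorem not_le_normalizer_j : ¬ K ≤ normalizer (Cfsg.thompsonSubgroupOf 2 T : Set G) := by
  haveI : Fact (Nat.Prime 2) := ⟨Nat.prime_two⟩
  intro h
  obtain ⟨hgen, hcomm, hidx, -⟩ := hv.comp
  have hKJ : K ≤ Cfsg.thompsonSubgroupOf 2 T := by
    rw [← hcomm]
    refine commutator_le.2 fun k hk j hj => ?_
    rw [commutatorElement_def]
    exact mul_mem ((mem_normalizer_iff.1 (h hk) j).1 hj) (inv_mem hj)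
  have hp : IsPGroup 2 K := (hv.t_pgroup.to_le (Fusion.Thompson.thompsonSubgroupOf_le T)).to_le hKJ
  have hK1 : K ≤ Cfsg.pCoreOf 2 K := SylowIn.le_pCoreOf le_rfl Subgroup.le_normalizer hp
  rw [relIndex_eq_one.2 hK1] at hidx
  omega

omit H in
theorem not_two {X : Subgroup G} (hKX : K ≤ X) : ¬ IsPGroup 2 X := by
  haveI : Fact (Nat.Prime 2) := ⟨Nat.prime_two⟩
  intro hp
  have hidx := hv.comp.2.2.1
  rw [relIndex_eq_one.2 (SylowIn.le_pCoreOf le_rfl Subgroup.le_normalizer (hp.to_le hKX))] at hidx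
  omega

omit H in
theorem t_ne_bot : T ≠ ⊥ := by
  intro e
  refine not_le_normalizer_j hv ?_
  have : Cfsg.thompsonSubgroupOf 2 T = ⊥ :=
    le_bot_iff.1 ((Fusion.Thompson.thompsonSubgroupOf_le T).trans e.le)
  rw [this]
  intro x _
  exact mem_normalizer_iff.2 fun y => by simp [mem_bot]

theorem jover : L ∈ Cfsg.jOvergroups T := by
  haveI : Fact (Nat.Prime 2) := ⟨Nat.prime_two⟩
  obtain ⟨W, hWp, hW1, rfl⟩ := hv.max.1
  refine ⟨hv.syl, fun hle => ?_, ?_⟩
  · obtain ⟨-, hcomm, -⟩ := hv.comp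
    refine not_two hv (X := Cfsg.pCoreOf 2 (normalizer (W : Set G))) ?_ (SylowIn.isPGroup_pCoreOf _)
    rw [← hcomm]
    refine commutator_le.2 fun k hk j hj => ?_
    rw [commutatorElement_def]
    exact mul_mem ((mem_normalizer_iff.1 (SylowIn.normalizer_pCoreOf _ (hv.le hk)) j).1 (hle hj))
      (inv_mem (hle hj))
  · have h1 := H.char2.2 W hWp hW1
    have hWR : W ≤ Cfsg.pCoreOf 2 (normalizer (W : Set G)) :=
      SylowIn.le_pCoreOf Subgroup.le_normalizer le_rfl hWp
    intro c hc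
    have hcN : c ∈ normalizer (W : Set G) := centralizer_le_normalizer _ (centralizer_le hWR hc)
    refine ⟨⟨c, hcN⟩, h1 (mem_centralizer_iff.2 fun y hy => Subtype.ext ?_), rfl⟩
    exact mem_centralizer_iff.1 hc _ (mem_map_of_mem _ hy)

omit H in
theorem j_le : Cfsg.thompsonSubgroupOf 2 T ≤ L := (Fusion.Thompson.thompsonSubgroupOf_le T).trans hv.syl.1

omit H in
/-- The involution shared by `Ω₁(Z(J(T)))` and `W_K`. -/
theorem exists_f : ∃ f ∈ Cfsg.wOf K, f ∈ Cfsg.omegaCenterOf (Cfsg.thompsonSubgroupOf 2 T) ∧ f ≠ 1 ∧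
    ∀ y ∈ Cfsg.wOf K, y ∈ Cfsg.omegaCenterOf (Cfsg.thompsonSubgroupOf 2 T) → y = 1 ∨ y = f := by
  have h2 := (JComponent.main hv.t_pgroup hv.comp).1
  set X := Cfsg.omegaCenterOf (Cfsg.thompsonSubgroupOf 2 T) ⊓ Cfsg.wOf K with hX
  obtain ⟨y, hy1, huniq⟩ := (Nat.card_eq_two_iff' (1 : X)).1 h2
  refine ⟨y, y.2.2, y.2.1, fun e => hy1 (Subtype.ext e), fun x hx hx' => ?_⟩
  by_cases hx1 : x = 1
  · exact Or.inl hx1
  · exact Or.inr (congrArg Subtype.val (huniq ⟨x, hx', hx⟩ fun e => hx1 (congrArg Subtype.val e)))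

theorem le_normalizer_wOf : T ⊓ centralizer (T : Set G) ⊓ Cfsg.wOf K ≠ ⊥ → T ≤ normalizer (K : Set G) :=
  fun h => JAmbient.le_normalizer H.char2 H.solv H.cz hv.t_pgroup hv.t_ne_bot (jover H hv) hv.comp hv.le h

include hcen

theorem t_le_normalizer : T ≤ normalizer (K : Set G) := by
  obtain ⟨f, hfW, hfZ, hf1, -⟩ := exists_f hv
  refine le_normalizer_wOf H hv fun e => hf1 ?_
  have hfT : f ∈ T := Fusion.Thompson.thompsonSubgroupOf_le T (JComponent.omegaCenterOf_le _ hfZ).1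
  exact mem_bot.1 (e ▸ ⟨⟨hfT, mem_centralizer_iff.2 fun t ht => (mem_centralizer_iff.1 (hcen ht) f hfZ).symm⟩, hfW⟩)

theorem t_le_normalizer_w : T ≤ normalizer (Cfsg.wOf K : Set G) :=
  (t_le_normalizer H hv hcen).trans (JAmbient.conjK_le_normalizer_wOf K)

omit H hcen in
theorem sup_le_overgroup : K ⊔ T ≤ L := sup_le hv.le hv.syl.1

omit hcen in
theorem exists_k : ∃ k ∈ K, k ^ 3 = 1 ∧ k ∈ normalizer (Cfsg.wOf K : Set G) ∧
    ∀ w ∈ Cfsg.wOf K, k * w * k⁻¹ = w → w = 1 := by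
  haveI : Fact (Nat.Prime 2) := ⟨Nat.prime_two⟩
  haveI : Fact (Nat.Prime 3) := ⟨Nat.prime_three⟩
  have hidx := hv.comp.2.2.1
  have h3 : 3 ∣ Nat.card K := hidx ▸ relIndex_dvd_card (H := Cfsg.pCoreOf 2 K) (K := K)
  obtain ⟨⟨k, hk⟩, hord⟩ := exists_prime_orderOf_dvd_card' 3 h3
  rw [orderOf_mk] at hord
  refine ⟨k, hk, by rw [← hord, pow_orderOf_eq_one], JAmbient.conjK_le_normalizer_wOf K (Subgroup.le_normalizer hk),
    fun w hw e => JAmbient.wfix hv.comp w hw ?_⟩
  set C := K ⊓ centralizer ({w} : Set G) with hC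
  have hQC : Cfsg.pCoreOf 2 K ≤ C := le_inf (SylowIn.pCoreOf_le K) fun q hq =>
    mem_centralizer_singleton_iff.2 (JAmbient.q_fix K q hq w hw)
  have hkC : k ∈ C := ⟨hk, mem_centralizer_singleton_iff.2 (mul_inv_eq_iff_eq_mul.1 e)⟩
  have h3' : (Cfsg.pCoreOf 2 K).relIndex C * C.relIndex K = 3 := by
    rw [relIndex_mul_relIndex _ _ _ hQC inf_le_left, hidx]
  rcases (Nat.dvd_prime Nat.prime_three).1 (Dvd.intro _ h3') with e' | e'
  · exfalso
    have hkQ := relIndex_eq_one.1 e' hkC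
    obtain ⟨n, hn⟩ := IsPGroup.iff_orderOf.1 (SylowIn.isPGroup_pCoreOf K) ⟨k, hkQ⟩
    rw [orderOf_mk, hord] at hn
    rcases n with _ | n
    · simp at hn
    · rw [pow_succ] at hn; omega
  · rw [e'] at h3'
    have h1 : K ≤ C := relIndex_eq_one.1 (by omega)
    exact fun k' hk' => mem_centralizer_singleton_iff.1 (h1 hk').2

omit H hcen in
/-- `J(T)` moves `W_K`. -/
theorem exists_moving : ∃ j ∈ Cfsg.thompsonSubgroupOf 2 T, j ∉ centralizer (Cfsg.wOf K : Set G) := by
  by_contra hcon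
  push Not at hcon
  set W := Cfsg.wOf K with hW
  have hKn : K ≤ normalizer (centralizer (W : Set G) : Set G) := by
    refine SylowIn.le_normalizer_of_map_conj fun g hg => ?_
    rw [← SylowIn.centralizer_map_conj, SylowIn.map_conj_eq_iff.2
      (JAmbient.conjK_le_normalizer_wOf K (Subgroup.le_normalizer hg))]
  have hle : K ≤ centralizer (W : Set G) := by
    obtain ⟨-, hcomm, -⟩ := hv.comp
    conv_lhs => rw [← hcomm]
    refine commutator_le.2 fun k hk j hj => ?_
    rw [commutatorElement_def]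
    exact mul_mem ((mem_normalizer_iff.1 (hKn hk) j).1 (hcon j hj)) (inv_mem (hcon j hj))
  have h4 : Nat.card W = 4 := hv.comp.2.2.2.2.1
  have hW1 : W = ⊥ := (eq_bot_iff_forall _).2 fun w hw =>
    JAmbient.wfix hv.comp w hw fun k hk => (mem_centralizer_iff.1 (hle hk) w hw).symm
  rw [hW1, card_bot] at h4
  omega

omit H hcen in
theorem exists_w {f : G} (hfW : f ∈ Cfsg.wOf K) (hf1 : f ≠ 1) : ∃ w ∈ Cfsg.wOf K, w ≠ 1 ∧ w ≠ f := by
  by_contra hcon
  push Not at hcon
  have h4 : Nat.card ↥(Cfsg.wOf K) = 4 := hv.comp.2.2.2.2.1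
  have hle : Cfsg.wOf K ≤ zpowers f := fun x hx => by
    by_cases hx1 : x = 1
    · rw [hx1]; exact one_mem _
    · rw [hcon x hx hx1]; exact mem_zpowers f
  have hff : f * f = 1 := hv.comp.2.2.2.2.2 f hfW
  have hord : orderOf f ∣ 2 := orderOf_dvd_of_pow_eq_one (by rw [pow_two, hff])
  have h := Nat.le_of_dvd Nat.card_pos (card_dvd_of_le hle)
  rw [h4, Nat.card_zpowers] at h
  have := Nat.le_of_dvd (by norm_num) hord
  omega

/-- The elements of `T` fix `f` and permute the other two involutions. -/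
theorem t_fix {f : G} (hfZ : f ∈ Cfsg.omegaCenterOf (Cfsg.thompsonSubgroupOf 2 T)) {t : G} (ht : t ∈ T) :
    t * f = f * t := (mem_centralizer_iff.1 (hcen ht) f hfZ).symm

/-- `T ∩ C(W_K)` has index two in `T`. -/
theorem mul_mem_q {x y : G} (hx : x ∈ T) (hx' : x ∉ centralizer (Cfsg.wOf K : Set G)) (hy : y ∈ T)
    (hy' : y ∉ centralizer (Cfsg.wOf K : Set G)) : x * y ∈ centralizer (Cfsg.wOf K : Set G) := by
  obtain ⟨f, hfW, hfZ, hf1, -⟩ := exists_f hv
  obtain ⟨w, hw, hw1, hwf⟩ := exists_w hv hfW hf1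
  have hW4 : Nat.card ↥(Cfsg.wOf K) = 4 := hv.comp.2.2.2.2.1
  have hsq : ∀ v ∈ Cfsg.wOf K, v * v = 1 := hv.comp.2.2.2.2.2
  have hmove : ∀ g ∈ T, g ∉ centralizer (Cfsg.wOf K : Set G) → g * w * g⁻¹ = w * f := fun g hg hg' => by
    rcases four_perm hW4 hsq hfW hf1 hw hwf hw1 (t_le_normalizer_w H hv hcen hg) (t_fix H hv hcen hfZ hg) with e | e
    · exact absurd (centralizes_four hW4 hsq hfW hf1 hw hwf hw1 (t_fix H hv hcen hfZ hg)
        (mul_inv_eq_iff_eq_mul.1 e)) hg'
    · exact e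
  refine centralizes_four hW4 hsq hfW hf1 hw hwf hw1 (t_fix H hv hcen hfZ (mul_mem hx hy)) (mul_inv_eq_iff_eq_mul.1 ?_)
  calc x * y * w * (x * y)⁻¹ = x * (y * w * y⁻¹) * x⁻¹ := by group
    _ = (x * w * x⁻¹) * (x * f * x⁻¹) := by rw [hmove y hy hy']; group
    _ = w := by
      rw [hmove x hx hx', t_fix H hv hcen hfZ hx, mul_inv_cancel_right, mul_assoc, hsq f hfW, mul_one]

theorem card_t : Nat.card T = 2 * Nat.card ↥(T ⊓ centralizer (Cfsg.wOf K : Set G)) := by
  obtain ⟨j, hj, hjc⟩ := exists_moving hv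
  have hjT : j ∈ T := Fusion.Thompson.thompsonSubgroupOf_le T hj
  set Q := T ⊓ centralizer (Cfsg.wOf K : Set G) with hQ
  have hi : (Q.subgroupOf T).index = 2 := by
    rw [index_eq_two_iff]
    refine ⟨⟨j, hjT⟩, fun b => ?_⟩
    simp only [mem_subgroupOf, hQ, mem_inf, SetLike.coe_mem, true_and, Subgroup.coe_mul]
    by_cases hb : (b : G) ∈ centralizer (Cfsg.wOf K : Set G)
    · exact Or.inr ⟨hb, fun h => hjc (by simpa using mul_mem (inv_mem hb) h.2)⟩
    · exact Or.inl ⟨⟨mul_mem b.2 hjT, mul_mem_q H hv hcen b.2 hb hjT hjc⟩, hb⟩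
  have := (Q.subgroupOf T).card_mul_index
  rw [hi, Nat.card_congr (subgroupOfEquivOfLe (inf_le_left : Q ≤ T)).toEquiv] at this
  rw [← this, mul_comm]

/-- `⟨K, T⟩` normalizes `T ∩ C(W_K)`. -/
theorem q_facts : K ⊔ T ≤ normalizer ((T ⊓ centralizer (Cfsg.wOf K : Set G) : Subgroup G) : Set G) ∧
    Cfsg.pCoreOf 2 (K ⊔ T) = T ⊓ centralizer (Cfsg.wOf K : Set G) ∧
    Nat.card ↥(K ⊔ T) = 3 * Nat.card T := by
  haveI : Fact (Nat.Prime 2) := ⟨Nat.prime_two⟩
  set W := Cfsg.wOf K with hW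
  set P := K ⊔ T with hP
  have hTn := t_le_normalizer H hv hcen
  have hPn : P ≤ normalizer (K : Set G) := sup_le Subgroup.le_normalizer hTn
  have hPW : P ≤ normalizer (W : Set G) := hPn.trans (JAmbient.conjK_le_normalizer_wOf K)
  -- `O₂(K) ≤ T`
  have hQKT : Cfsg.pCoreOf 2 K ≤ T := by
    have hTP : SylowIn.IsSylowIn 2 T P := ⟨le_sup_right, hv.t_pgroup, fun U hU hUp hTU =>
      (Straddle.isSylowTwoIn_iff.1 hv.syl).2.2 U (hU.trans (sup_le_overgroup hv)) hUp hTU⟩
    exact (SylowIn.le_pCoreOf ((SylowIn.pCoreOf_le K).trans le_sup_left)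
      (hPn.trans (JComponent.normalizer_le_pCoreOf K)) (SylowIn.isPGroup_pCoreOf K)).trans
      (SylowIn.pCoreOf_le_sylowIn hTP)
  have hinf : K ⊓ T = Cfsg.pCoreOf 2 K := by
    refine le_antisymm ?_ (le_inf (SylowIn.pCoreOf_le K) hQKT)
    have h3 : (Cfsg.pCoreOf 2 K).relIndex (K ⊓ T) * (K ⊓ T).relIndex K = 3 := by
      rw [relIndex_mul_relIndex _ _ _ (le_inf (SylowIn.pCoreOf_le K) hQKT) inf_le_left, hv.comp.2.2.1]
    rcases (Nat.dvd_prime Nat.prime_three).1 (Dvd.intro _ h3) with e | e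
    · exact relIndex_eq_one.1 e
    · exfalso
      have hdvd := (relIndex_dvd_card (H := Cfsg.pCoreOf 2 K) (K := K ⊓ T))
      rw [e] at hdvd
      obtain ⟨n, hn⟩ := IsPGroup.iff_card.1 ((hv.t_pgroup).to_le (inf_le_right : K ⊓ T ≤ T))
      rw [hn] at hdvd
      have := (Nat.Prime.dvd_of_dvd_pow Nat.prime_three hdvd)
      omega
  have hcard : Nat.card P = 3 * Nat.card T := by
    have h1 := Fusion.Thompson.card_sup_mul_card_inf hTn
    rw [hinf] at h1
    have h2 := ((Cfsg.pCoreOf 2 K).subgroupOf K).card_mul_index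
    rw [Nat.card_congr (subgroupOfEquivOfLe (SylowIn.pCoreOf_le K)).toEquiv,
      show ((Cfsg.pCoreOf 2 K).subgroupOf K).index = 3 from hv.comp.2.2.1] at h2
    rw [← h2] at h1
    have hpos : 0 < Nat.card ↥(Cfsg.pCoreOf 2 K) := Nat.card_pos
    exact Nat.eq_of_mul_eq_mul_right hpos (by rw [h1]; ring)
  obtain ⟨k, hk, hk3, hkn, hkfix⟩ := exists_k H hv
  -- the kernel of the action of `P` on `W` is a `2`-group
  have hN2 : IsPGroup 2 ↥(P ⊓ centralizer (W : Set G)) := by
    haveI : Fact (Nat.Prime 3) := ⟨Nat.prime_three⟩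
    obtain ⟨n, hn⟩ := IsPGroup.iff_card.1 hv.t_pgroup
    have hdvd : Nat.card ↥(P ⊓ centralizer (W : Set G)) ∣ 3 * 2 ^ n := by
      rw [← hn, ← hcard]; exact card_dvd_of_le inf_le_left
    by_cases h3 : 3 ∣ Nat.card ↥(P ⊓ centralizer (W : Set G))
    · exfalso
      -- then the kernel is everything of order `3`
      obtain ⟨x, hx⟩ := exists_prime_orderOf_dvd_card' 3 h3
      have hxP : (x : G) ∈ P := x.2.1
      have hxC : (x : G) ∈ centralizer (W : Set G) := x.2.2
      have hx3 : orderOf (x : G) = 3 := by rw [orderOf_coe, hx]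
      have hkW : k ∉ centralizer (W : Set G) := fun hkc => by
        obtain ⟨f, hfW, -, hf1, -⟩ := exists_f hv
        exact hf1 (hkfix f hfW (by rw [← mem_centralizer_iff.1 hkc f hfW, mul_inv_cancel_right]))
      -- Sylow `3`-subgroups of `P` have order three
      have hS : ∀ y : G, y ∈ P → orderOf y = 3 → ∀ (S3 : Subgroup P), IsPGroup 3 S3 →
          (zpowers y).subgroupOf P ≤ S3 → (zpowers y).subgroupOf P = S3 := by
        intro y hy hy3 S3 hS3 hle
        refine eq_of_le_of_card_ge hle ?_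
        obtain ⟨m, hm⟩ := IsPGroup.iff_card.1 hS3
        have hd := card_subgroup_dvd_card S3
        rw [hm, hcard, hn] at hd
        have : m ≤ 1 := by
          by_contra hm2
          have h9 : 3 ^ 2 ∣ 3 * 2 ^ n := (Nat.pow_dvd_pow 3 (by omega)).trans hd
          rw [pow_two] at h9
          have := (Nat.Prime.dvd_of_dvd_pow Nat.prime_three (Nat.dvd_of_mul_dvd_mul_left (by norm_num) h9))
          omega
        rw [hm, Nat.card_congr (subgroupOfEquivOfLe (zpowers_le.2 hy)).toEquiv, Nat.card_zpowers, hy3]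
        exact Nat.pow_le_pow_right (by norm_num) this |>.trans (by norm_num)
      have hp3 : ∀ y : G, y ∈ P → orderOf y = 3 → IsPGroup 3 ((zpowers y).subgroupOf P) := fun y hy hy3 =>
        IsPGroup.of_card (n := 1) (by
          rw [Nat.card_congr (subgroupOfEquivOfLe (zpowers_le.2 hy)).toEquiv, Nat.card_zpowers, hy3, pow_one])
      have hk3' : orderOf k = 3 := orderOf_eq_prime hk3 fun e => hkW (e ▸ one_mem _)
      have hkP : k ∈ P := le_sup_left (a := K) hk
      obtain ⟨S1, hS1⟩ := (hp3 _ hxP hx3).exists_le_sylow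
      obtain ⟨S2, hS2⟩ := (hp3 _ hkP hk3').exists_le_sylow
      obtain ⟨g, hg⟩ := MulAction.exists_smul_eq P S1 S2
      have hkS2 : (⟨k, hkP⟩ : P) ∈ (S2 : Subgroup P) := hS2 (mem_zpowers k)
      rw [← hg, Sylow.smul_def, Sylow.pointwise_smul_def, ← hS _ hxP hx3 _ S1.isPGroup' hS1] at hkS2
      obtain ⟨y, hy, hyk⟩ := mem_pointwise_smul_iff_inv_smul_mem.1 hkS2 |> fun h => (⟨_, h, rfl⟩ :
        ∃ y, y ∈ (zpowers (x : G)).subgroupOf P ∧ y = (MulAut.conj g)⁻¹ • (⟨k, hkP⟩ : P))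
      have hyC : (y : G) ∈ centralizer (W : Set G) := zpowers_le.2 hxC hy
      rw [hyk] at hyC
      simp only [← map_inv, MulAut.smul_def, MulAut.conj_apply, inv_inv, Subgroup.coe_mul,
        Subgroup.coe_inv] at hyC
      have hgn : (g : G) ∈ normalizer (centralizer (W : Set G) : Set G) := by
        refine SylowIn.map_conj_eq_iff.1 ?_
        rw [← SylowIn.centralizer_map_conj, SylowIn.map_conj_eq_iff.2 (hPW g.2)]
      refine hkW ?_
      have := (mem_normalizer_iff.1 hgn _).1 hyC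
      simpa [mul_assoc] using this
    · refine IsPGroup.of_card (n := (Nat.card ↥(P ⊓ centralizer (W : Set G))).factorization 2) ?_
      have hd2 : Nat.card ↥(P ⊓ centralizer (W : Set G)) ∣ 2 ^ n :=
        (Nat.prime_three.coprime_iff_not_dvd.2 h3).symm.dvd_of_dvd_mul_left hdvd
      obtain ⟨m, -, hm⟩ := (Nat.dvd_prime_pow Nat.prime_two).1 hd2
      rw [hm, Nat.factorization_pow_self Nat.prime_two]
  have hNnorm : P ≤ normalizer ((P ⊓ centralizer (W : Set G) : Subgroup G) : Set G) := by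
    refine le_trans (le_inf Subgroup.le_normalizer ?_) inf_normalizer_le_normalizer_inf
    refine SylowIn.le_normalizer_of_map_conj fun g hg => ?_
    rw [← SylowIn.centralizer_map_conj, SylowIn.map_conj_eq_iff.2 (hPW hg)]
  have hTP : SylowIn.IsSylowIn 2 T P := ⟨le_sup_right, hv.t_pgroup, fun U hU hUp hTU =>
    (Straddle.isSylowTwoIn_iff.1 hv.syl).2.2 U (hU.trans (sup_le_overgroup hv)) hUp hTU⟩
  have hNeq : P ⊓ centralizer (W : Set G) = T ⊓ centralizer (W : Set G) := by
    refine le_antisymm (le_inf ?_ inf_le_right) (inf_le_inf_right _ le_sup_right)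
    exact (SylowIn.le_pCoreOf inf_le_left hNnorm hN2).trans (SylowIn.pCoreOf_le_sylowIn hTP)
  refine ⟨hNeq ▸ hNnorm, le_antisymm ?_ ?_, hcard⟩
  · have hOT : Cfsg.pCoreOf 2 P ≤ T := SylowIn.pCoreOf_le_sylowIn hTP
    intro x hx
    refine ⟨hOT hx, by_contra fun hxc => ?_⟩
    obtain ⟨j, hj, hjc⟩ := exists_moving hv
    have hjT := Fusion.Thompson.thompsonSubgroupOf_le T hj
    have hle : T ⊓ centralizer (W : Set G) ≤ Cfsg.pCoreOf 2 P :=
      hNeq ▸ SylowIn.le_pCoreOf inf_le_left hNnorm hN2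
    have hTO : T ≤ Cfsg.pCoreOf 2 P := fun t ht => by
      by_cases htc : t ∈ centralizer (W : Set G)
      · exact hle ⟨ht, htc⟩
      · have := mul_mem (hle ⟨mul_mem (hOT hx) ht, mul_mem_q H hv hcen (hOT hx) hxc ht htc⟩) (one_mem _)
        have h2 := mul_mem (inv_mem hx) this
        simpa [mul_assoc] using h2
    have hTeq : Cfsg.pCoreOf 2 P = T := le_antisymm hOT hTO
    have hPT := SylowIn.normalizer_pCoreOf (p := 2) P
    rw [hTeq] at hPT
    exact not_le_normalizer_j hv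
      (((le_sup_left : K ≤ P).trans hPT).trans (Fusion.Thompson.normalizer_le_normalizer_thompsonOf T))
  · rw [← hNeq]; exact SylowIn.le_pCoreOf inf_le_left hNnorm hN2

/-- Elements of `T` outside the kernel invert `k` modulo it. -/
theorem invert {k : G} (hk : k ∈ K) (hk3 : k ^ 3 = 1) (hfix : ∀ w ∈ Cfsg.wOf K, k * w * k⁻¹ = w → w = 1)
    {a : G} (ha : a ∈ T) (ha' : a ∉ centralizer (Cfsg.wOf K : Set G)) :
    a * k * a⁻¹ * k ∈ T ⊓ centralizer (Cfsg.wOf K : Set G) := by
  obtain ⟨-, hcore, -⟩ := q_facts H hv hcen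
  obtain ⟨f, hfW, hfZ, hf1, -⟩ := exists_f hv
  set W := Cfsg.wOf K with hW
  have hW4 : Nat.card W = 4 := hv.comp.2.2.2.2.1
  have hsq : ∀ v ∈ W, v * v = 1 := hv.comp.2.2.2.2.2
  have hkn : k ∈ normalizer (W : Set G) := JAmbient.conjK_le_normalizer_wOf K (Subgroup.le_normalizer hk)
  have hP : a * k * a⁻¹ * k ∈ K ⊔ T :=
    mul_mem (mul_mem (mul_mem (mem_sup_right ha) (mem_sup_left hk)) (inv_mem (mem_sup_right ha))) (mem_sup_left hk)
  suffices hc : a * k * a⁻¹ * k ∈ centralizer (W : Set G) by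
    have h : a * k * a⁻¹ * k ∈ Cfsg.pCoreOf 2 (K ⊔ T) := by
      haveI : Fact (Nat.Prime 2) := ⟨Nat.prime_two⟩
      have hn : K ⊔ T ≤ normalizer (((K ⊔ T) ⊓ centralizer (W : Set G) : Subgroup G) : Set G) := by
        refine le_trans (le_inf Subgroup.le_normalizer ?_) inf_normalizer_le_normalizer_inf
        refine SylowIn.le_normalizer_of_map_conj fun g hg => ?_
        rw [← SylowIn.centralizer_map_conj, SylowIn.map_conj_eq_iff.2
          (((sup_le Subgroup.le_normalizer (t_le_normalizer H hv hcen)).trans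
            (JAmbient.conjK_le_normalizer_wOf K)) hg)]
      obtain ⟨-, -, hcard⟩ := q_facts H hv hcen
      have heq : ((K ⊔ T) ⊓ centralizer (W : Set G)) ≤ T := fun x hx => by
        haveI : Fact (Nat.Prime 2) := ⟨Nat.prime_two⟩
        by_contra hxT
        -- the index of `T ∩ C(W)` in `⟨K, T⟩ ∩ C(W)` divides three
        set N := (K ⊔ T) ⊓ centralizer (W : Set G) with hN
        set Q := T ⊓ centralizer (W : Set G) with hQdef
        have hQN : Q ≤ N := le_inf (inf_le_left.trans le_sup_right) inf_le_right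
        have hQn := (q_facts H hv hcen).1
        have hlt : Q ≠ N := fun e => hxT (by have := hx; rw [← e] at this; exact this.1)
        have hc2 := card_t H hv hcen
        obtain ⟨m, hm⟩ := card_dvd_of_le hQN
        have hNP : Nat.card N ∣ 6 * Nat.card Q := by
          rw [show 6 * Nat.card Q = 3 * Nat.card T by rw [hc2]; ring, ← hcard]
          exact card_dvd_of_le inf_le_left
        rw [hm, mul_comm 6] at hNP
        have hm6 : m ∣ 6 := (Nat.mul_dvd_mul_iff_left Nat.card_pos).1 hNP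
        have hm1 : m ≠ 1 := fun e => hlt (eq_of_le_of_card_ge hQN (by rw [hm, e, mul_one]))
        -- such a subgroup meets `K` outside `O₂(K)`
        by_cases hk' : k ∈ N
        · exact hf1 (hfix f hfW (by rw [← mem_centralizer_iff.1 hk'.2 f hfW, mul_inv_cancel_right]))
        have hNT : N ⊔ T ≤ K ⊔ T := sup_le inf_le_left le_sup_right
        have hinf : N ⊓ T = Q := le_antisymm (fun y hy => ⟨hy.2, hy.1.2⟩) (le_inf hQN inf_le_left)
        have hs := Fusion.Thompson.card_sup_mul_card_inf (le_sup_right.trans hn : T ≤ normalizer (N : Set G))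
        rw [hinf, hm, show Nat.card Q * m * Nat.card T = (m * Nat.card T) * Nat.card Q by ring] at hs
        have hs' := Nat.eq_of_mul_eq_mul_right Nat.card_pos hs
        have hdv : Nat.card ↥(N ⊔ T) ∣ 3 * Nat.card T := hcard ▸ card_dvd_of_le hNT
        rw [hs', Nat.mul_dvd_mul_iff_right Nat.card_pos] at hdv
        rcases (Nat.dvd_prime Nat.prime_three).1 hdv with e | e
        · exact hm1 e
        · -- then `N T` is everything, so `T` normalizes `W` fixing `f`, and so does `K`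
          have hall : N ⊔ T = K ⊔ T := eq_of_le_of_card_ge hNT (by rw [hs', e, hcard])
          have hkm : k ∈ N ⊔ T := hall ▸ mem_sup_left hk
          have hcent : N ⊔ T ≤ centralizer ({f} : Set G) := sup_le
            (fun y hy => mem_centralizer_singleton_iff.2 (mem_centralizer_iff.1 hy.2 f hfW).symm)
            (fun y hy => mem_centralizer_singleton_iff.2 (t_fix H hv hcen hfZ hy))
          exact hf1 (hfix f hfW (by rw [mem_centralizer_singleton_iff.1 (hcent hkm), mul_inv_cancel_right]))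
      exact SylowIn.le_pCoreOf inf_le_left hn (hv.t_pgroup.to_le heq) ⟨hP, hc⟩
    rwa [hcore] at h
  -- the two elements act alike
  obtain ⟨w, hw, hw1, hwf⟩ := exists_w hv hfW hf1
  have haw : a * w * a⁻¹ = w * f := by
    rcases four_perm hW4 hsq hfW hf1 hw hwf hw1 (t_le_normalizer_w H hv hcen ha) (t_fix H hv hcen hfZ ha) with e | e
    · exact absurd (centralizes_four hW4 hsq hfW hf1 hw hwf hw1 (t_fix H hv hcen hfZ ha)
        (mul_inv_eq_iff_eq_mul.1 e)) ha'
    · exact e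
  have hcomm : f * w = w * f :=
    mem_centralizer_iff.1 (JComponent.omegaCenterOf_le _ (JAmbient.wOf_le K hw)).2 f
      (JComponent.omegaCenterOf_le _ (JAmbient.wOf_le K hfW)).1
  have haf : a * f * a⁻¹ = f := by rw [t_fix H hv hcen hfZ ha, mul_inv_cancel_right]
  have hai : a⁻¹ * w * a = w * f := by
    have h : a * (w * f) * a⁻¹ = w := by
      rw [show a * (w * f) * a⁻¹ = (a * w * a⁻¹) * (a * f * a⁻¹) by group, haw, haf, mul_assoc w f f, hsq f hfW, mul_one]
    calc a⁻¹ * w * a = a⁻¹ * (a * (w * f) * a⁻¹) * a := by rw [h]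
      _ = w * f := by group
  have haif : a⁻¹ * f * a = f := by
    calc a⁻¹ * f * a = a⁻¹ * (a * f * a⁻¹) * a := by rw [haf]
      _ = f := by group
  set c := fun x => k * x * k⁻¹ with hcdef
  have hcmul : ∀ x y, c (x * y) = c x * c y := fun x y => by simp only [hcdef]; group
  have hc3 : ∀ x, c (c (c x)) = x := fun x => by
    simp only [hcdef]
    calc k * (k * (k * x * k⁻¹) * k⁻¹) * k⁻¹ = k ^ 3 * x * (k ^ 3)⁻¹ := by rw [pow_succ, pow_two]; group
      _ = x := by rw [hk3, one_mul, inv_one, mul_one]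
  have hcm : ∀ x ∈ W, c x ∈ W := fun x hx => (mem_normalizer_iff.1 hkn x).1 hx
  have hc1 : ∀ x ∈ W, x ≠ 1 → c x ≠ x ∧ c x ≠ 1 := fun x hx hx1 =>
    ⟨fun e => hx1 (hfix x hx e), fun e => hx1 (conj_eq_one_iff.1 e)⟩
  have cases : ∀ x ∈ W, x = 1 ∨ x = f ∨ x = w ∨ x = w * f := fun x hx =>
    JComponent.four_cases hW4 hfW hf1 hw hwf hw1 (hsq f hfW) hx
  have hwf1 : w * f ≠ 1 := fun e => hwf (by
    calc w = w * f * f := by rw [mul_assoc, hsq f hfW, mul_one]
      _ = f := by rw [e, one_mul])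
  have hwfw : w * f ≠ w := fun e => hf1 (mul_eq_left.1 e)
  have hwff : w * f ≠ f := fun e => hw1 (mul_eq_right.1 e)
  -- `k` is a three-cycle
  have hcyc : (c f = w ∧ c w = w * f ∧ c (w * f) = f) ∨ (c f = w * f ∧ c (w * f) = w ∧ c w = f) := by
    obtain ⟨hf', hf''⟩ := hc1 f hfW hf1
    obtain ⟨hw', hw''⟩ := hc1 w hw hw1
    rcases cases _ (hcm f hfW) with e | e | e | e
    · exact absurd e hf''
    · exact absurd e hf'
    · left
      have hcw : c w = w * f := by
        rcases cases _ (hcm w hw) with e' | e' | e' | e'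
        · exact absurd e' hw''
        · exfalso
          have := hc3 f
          rw [e, e'] at this
          exact hf' (this.symm ▸ rfl : c f = f)
        · exact absurd e' hw'
        · exact e'
      refine ⟨e, hcw, ?_⟩
      rw [hcmul, hcw, e, mul_assoc, hcomm, ← mul_assoc, hsq w hw, one_mul]
    · right
      have hcw : c (w * f) = w := by
        obtain ⟨hu', hu''⟩ := hc1 (w * f) (mul_mem hw hfW) hwf1
        rcases cases _ (hcm _ (mul_mem hw hfW)) with e' | e' | e' | e'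
        · exact absurd e' hu''
        · exfalso
          have := hc3 f
          rw [e, e'] at this
          exact hf' (this.symm ▸ rfl : c f = f)
        · exact e'
        · exact absurd e' hu'
      refine ⟨e, hcw, ?_⟩
      have h := hcmul (w * f) f
      rw [mul_assoc, hsq f hfW, mul_one, hcw, e, ← mul_assoc, hsq w hw, one_mul] at h
      exact h
  have key : ∀ x, (a * k * a⁻¹ * k) * x * (a * k * a⁻¹ * k)⁻¹ = a * c (a⁻¹ * c x * a) * a⁻¹ := fun x => by
    simp only [hcdef]; group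
  refine centralizes_four hW4 hsq hfW hf1 hw hwf hw1 (mul_inv_eq_iff_eq_mul.1 ?_) (mul_inv_eq_iff_eq_mul.1 ?_)
  · rw [key]
    rcases hcyc with ⟨e1, e2, e3⟩ | ⟨e1, e2, e3⟩
    · rw [e1, hai, e3, haf]
    · rw [e1, show a⁻¹ * (w * f) * a = (a⁻¹ * w * a) * (a⁻¹ * f * a) by group, hai, haif, mul_assoc w f f, hsq f hfW,
        mul_one, e3, haf]
  · rw [key]
    rcases hcyc with ⟨e1, e2, e3⟩ | ⟨e1, e2, e3⟩
    · rw [e2, show a⁻¹ * (w * f) * a = (a⁻¹ * w * a) * (a⁻¹ * f * a) by group, hai, haif, mul_assoc w f f, hsq f hfW,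
        mul_one, e2, show a * (w * f) * a⁻¹ = (a * w * a⁻¹) * (a * f * a⁻¹) by group, haw, haf, mul_assoc w f f,
        hsq f hfW, mul_one]
    · rw [e3, haif, e1, show a * (w * f) * a⁻¹ = (a * w * a⁻¹) * (a * f * a⁻¹) by group, haw, haf, mul_assoc w f f,
        hsq f hfW, mul_one]

end Vertex

end CfsgLib.LocalEvenB.JVertex
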