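import Cfsg.Agent.S3224
import Cfsg.Agent.Lib.FusionSystem.SimpleViaSylowImage
import Cfsg.Prelude.Def_CaseTheorems

/-!
# A group with a maximal 2-local subgroup isomorphic to `S₄`
-/

set_option autoImplicit false

namespace CfsgLib.LocalEvenB.LocalS4

open Subgroup

local notation "S4" => Equiv.Perm (Fin 4)

/-- The normal four-group of `S₄`. -/
def four : Subgroup S4 where
  carrier := {s | s * s = 1 ∧ (s = 1 ∨ ∀ i, s i ≠ i)}
  one_mem' := ⟨one_mul 1, Or.inl rfl⟩
  mul_mem' := by
    have key : ∀ a b : S4, (a * a = 1 ∧ (a = 1 ∨ ∀ i, a i ≠ i)) → (b * b = 1 ∧ (b = 1 ∨ ∀ i, b i ≠ i)) →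
        (a * b * (a * b) = 1 ∧ (a * b = 1 ∨ ∀ i, (a * b) i ≠ i)) := by decide +kernel
    exact fun {a b} => key a b
  inv_mem' := by
    intro a ha
    have h : a⁻¹ = a := inv_eq_of_mul_eq_one_right ha.1
    rw [h]
    exact ha

theorem four_facts :
    (∀ g v : S4, (v * v = 1 ∧ (v = 1 ∨ ∀ i, v i ≠ i)) →
      (g * v * g⁻¹ * (g * v * g⁻¹) = 1 ∧ (g * v * g⁻¹ = 1 ∨ ∀ i, (g * v * g⁻¹) i ≠ i))) ∧
    (∀ g : S4, (∀ v : S4, (v * v = 1 ∧ (v = 1 ∨ ∀ i, v i ≠ i)) → g * v = v * g) →
      (g * g = 1 ∧ (g = 1 ∨ ∀ i, g i ≠ i))) := by decide +kernel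

theorem four_normal : four.Normal := ⟨fun v hv g => four_facts.1 g v hv⟩

theorem four_self {g : S4} (hg : ∀ v ∈ four, g * v = v * g) : g ∈ four := four_facts.2 g hg

theorem card_four : Nat.card ↥four = 4 := by
  classical
  have h : Nat.card ↥four = Nat.card {s : S4 // s * s = 1 ∧ (s = 1 ∨ ∀ i, s i ≠ i)} := rfl
  rw [h, Nat.card_eq_fintype_card]
  decide +kernel

variable {H : Type*} [Group H] [Finite H]

theorem exists_small_centralizer (M : Subgroup H) (hM : Cfsg.IsMaximalTwoLocal M)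
    (hM4 : Nonempty (↥M ≃* S4)) :
    ∃ (P : Sylow 2 H) (x : ↥(P : Subgroup H)), orderOf x = 2 ∧
      Nat.card ↥(centralizer ({x} : Set ↥(P : Subgroup H))) = 4 ∧ 8 ≤ Nat.card ↥(P : Subgroup H) := by
  have : Fact (Nat.Prime 2) := ⟨Nat.prime_two⟩
  obtain ⟨e⟩ := hM4
  let f : S4 →* H := M.subtype.comp e.symm.toMonoidHom
  have hf : Function.Injective f := Subtype.val_injective.comp e.symm.injective
  have hfM : ∀ s, f s ∈ M := fun s => (e.symm s).2
  have hMf : ∀ m ∈ M, ∃ s, f s = m := fun m hm => ⟨e ⟨m, hm⟩, by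
    show ((e.symm (e ⟨m, hm⟩) : ↥M) : H) = m
    rw [MulEquiv.symm_apply_apply]⟩
  have hfour := four_normal
  have hp4 : IsPGroup 2 ↥four := IsPGroup.of_card (n := 2) (by rw [card_four]; norm_num)
  -- the normaliser of the four-group is `M`
  have hle : M ≤ normalizer ((four.map f : Subgroup H) : Set H) := by
    intro m hm
    obtain ⟨s, rfl⟩ := hMf m hm
    refine Subgroup.mem_normalizer_fintype fun v hv => ?_
    obtain ⟨v, hv', rfl⟩ := hv
    exact ⟨s * v * s⁻¹, hfour.conj_mem v hv' s, by simp⟩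
  have hne : four.map f ≠ ⊥ := by
    rw [Ne, map_eq_bot_iff_of_injective _ hf]
    intro h
    have := card_four
    rw [h, card_bot] at this
    omega
  have hN : normalizer ((four.map f : Subgroup H) : Set H) = M :=
    hM.2 _ ⟨_, hp4.map f, hne, rfl⟩ hle
  -- a Sylow subgroup of `M` and one of `H` above it
  obtain ⟨T⟩ : Nonempty (Sylow 2 S4) := inferInstance
  obtain ⟨P, hP⟩ := (T.isPGroup'.map f).exists_le_sylow
  have hT : (P : Subgroup H).comap f = (T : Subgroup S4) :=
    T.is_maximal' (P.isPGroup'.comap_of_injective f hf) fun s hs => hP ⟨s, hs, rfl⟩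
  have hfT : four ≤ (T : Subgroup S4) := by
    have h1 : IsPGroup 2 ↥(four ⊔ (T : Subgroup S4) : Subgroup S4) :=
      hp4.to_sup_of_normal_left T.isPGroup'
    rw [← T.is_maximal' h1 le_sup_right]
    exact le_sup_left
  have hcT : Nat.card ↥(T : Subgroup S4) = 8 := by
    rw [T.card_eq_multiplicity, Nat.card_eq_fintype_card, Fintype.card_perm, Fintype.card_fin]
    have h24 : Nat.factorial 4 = 2 ^ 3 * 3 := by decide
    rw [h24, Nat.factorization_mul (by norm_num) (by norm_num), Nat.Prime.factorization_pow Nat.prime_two,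
      Nat.Prime.factorization (by norm_num : Nat.Prime 3)]
    simp [Finsupp.single_apply]
  obtain ⟨v, hv, d, hd, hvd⟩ : ∃ v ∈ four, ∃ d ∈ (T : Subgroup S4), d * v ≠ v * d := by
    by_contra hcon
    push Not at hcon
    have : (T : Subgroup S4) ≤ four := fun d hd => four_self fun v hv => hcon v hv d hd
    have := card_le_of_le this
    rw [hcT, card_four] at this
    omega
  have hv1 : v ≠ 1 := fun h => hvd (by rw [h, mul_one, one_mul])
  have hx2 : f v ^ 2 = 1 := by rw [← map_pow, pow_two, hv.1, map_one]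
  let x : ↥(P : Subgroup H) := ⟨f v, hP ⟨v, hfT hv, rfl⟩⟩
  refine ⟨P, x, ?_, ?_, ?_⟩
  · rw [← Subgroup.orderOf_coe]
    exact orderOf_eq_prime hx2 fun h => hv1 (hf (h.trans (map_one f).symm))
  swap
  · rw [← hcT, ← card_map_of_injective (K := (T : Subgroup S4)) hf]
    exact card_le_of_le hP
  -- the centraliser in `P`
  set C := (P : Subgroup H) ⊓ centralizer ({f v} : Set H) with hC
  have hVC : four.map f ≤ C := by
    rintro _ ⟨w, hw, rfl⟩
    refine ⟨hP ⟨w, hfT hw, rfl⟩, mem_centralizer_singleton_iff.2 ?_⟩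
    rw [← map_mul, ← map_mul]
    congr 1
    have key : ∀ a b : S4, (a * a = 1 ∧ (a = 1 ∨ ∀ i, a i ≠ i)) →
        (b * b = 1 ∧ (b = 1 ∨ ∀ i, b i ≠ i)) → a * b = b * a := by decide +kernel
    exact key w v hw hv
  have hCV : C = four.map f := by
    by_contra hne'
    have hlt : (four.map f).subgroupOf C < ⊤ := by
      rw [lt_top_iff_ne_top, Ne, subgroupOf_eq_top]
      exact fun h => hne' (le_antisymm h hVC)
    have : Group.IsNilpotent ↥C := (P.isPGroup'.to_le inf_le_left).isNilpotent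
    obtain ⟨n, hn, hnV⟩ := SetLike.exists_of_lt (normalizerCondition_of_isNilpotent _ hlt)
    have hnM : (n : H) ∈ M := by
      rw [← hN]
      refine Subgroup.mem_normalizer_fintype fun w hw => ?_
      have := (mem_normalizer_iff.1 hn ⟨w, hVC hw⟩).1 hw
      exact this
    obtain ⟨s, hs⟩ := hMf _ hnM
    have hsT : s ∈ (T : Subgroup S4) := hT ▸ (show f s ∈ (P : Subgroup H) from hs ▸ n.2.1)
    have hsv : s * v = v * s := hf (by
      rw [map_mul, map_mul, hs]; exact mem_centralizer_singleton_iff.1 n.2.2)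
    -- the centraliser of `v` in `T` is the four-group
    have hD : (T : Subgroup S4) ⊓ centralizer ({v} : Set S4) = four := by
      have h1 : four ≤ (T : Subgroup S4) ⊓ centralizer ({v} : Set S4) := fun w hw =>
        ⟨hfT hw, mem_centralizer_singleton_iff.2 (hf (by
          rw [map_mul, map_mul]; exact mem_centralizer_singleton_iff.1 (hVC ⟨w, hw, rfl⟩).2))⟩
      have h2 := card_dvd_of_le (inf_le_left : (T : Subgroup S4) ⊓ centralizer ({v} : Set S4) ≤ T)
      rw [hcT] at h2
      refine (eq_of_le_of_card_ge h1 ?_).symm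
      rw [card_four]
      have h3 : Nat.card ↥((T : Subgroup S4) ⊓ centralizer ({v} : Set S4)) ≠ 8 := fun h8 => by
        have := eq_of_le_of_card_ge
          (inf_le_left : (T : Subgroup S4) ⊓ centralizer ({v} : Set S4) ≤ T) (by rw [hcT, h8])
        exact hvd (mem_centralizer_singleton_iff.1 ((this.symm ▸ hd :
          d ∈ (T : Subgroup S4) ⊓ centralizer ({v} : Set S4))).2)
      have h4 := Nat.le_of_dvd (by norm_num) h2
      interval_cases Nat.card ↥((T : Subgroup S4) ⊓ centralizer ({v} : Set S4)) <;> omega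
    exact hnV (show (n : H) ∈ four.map f from
      hs ▸ ⟨s, hD ▸ ⟨hsT, mem_centralizer_singleton_iff.2 hsv⟩, rfl⟩)
  calc Nat.card ↥(centralizer ({x} : Set ↥(P : Subgroup H)))
      = Nat.card ↥((centralizer ({x} : Set ↥(P : Subgroup H))).map (P : Subgroup H).subtype) :=
        (card_map_of_injective Subtype.val_injective).symm
    _ = Nat.card ↥C := by
        congr 2
        ext h
        rw [hC, mem_inf, mem_map]
        constructor
        · rintro ⟨y, hy, rfl⟩
          exact ⟨y.2, mem_centralizer_singleton_iff.2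
            (congrArg Subtype.val (mem_centralizer_singleton_iff.1 hy))⟩
        · rintro ⟨h1, h2⟩
          exact ⟨⟨h, h1⟩, mem_centralizer_singleton_iff.2
            (Subtype.ext (mem_centralizer_singleton_iff.1 h2)), rfl⟩
    _ = 4 := by rw [hCV, card_map_of_injective hf, card_four]

/-- The Sylow 2-subgroups are dihedral or semidihedral. -/
theorem sylow_shape (M : Subgroup H) (hM : Cfsg.IsMaximalTwoLocal M) (hM4 : Nonempty (↥M ≃* S4))
    (Q : Sylow 2 H) :
    (∃ n : ℕ, 2 ≤ n ∧ Nonempty (↥(Q : Subgroup H) ≃* DihedralGroup n)) ∨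
      Cfsg.IsQuasiDihedral ↥(Q : Subgroup H) := by
  obtain ⟨P, x, hx, hC, hP⟩ := exists_small_centralizer M hM hM4
  obtain ⟨e⟩ : Nonempty (↥(P : Subgroup H) ≃* ↥(Q : Subgroup H)) := ⟨P.equiv Q⟩
  rcases Cfsg.Agent.S3224.result P.isPGroup' x hx hC with ⟨n, ⟨d⟩⟩ | h | h
  · refine Or.inl ⟨n, ?_, ⟨e.symm.trans d⟩⟩
    have := Nat.card_congr d.toEquiv
    rw [DihedralGroup.nat_card] at this
    omega
  · exact Or.inr (CfsgLib.Fsys.SylowImage.quasiDihedral_congr e h)
  · omega

end CfsgLib.LocalEvenB.LocalS4
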