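import Cfsg.Prelude.Def_Transfer
import Cfsg.Agent.Lib.Coprime.Generation
import Cfsg.Agent.Lib.Coprime.SymplecticTypeTools
import Cfsg.Agent.Lib.Fusion.AutCoprime
import Cfsg.Agent.Lib.Fusion.QuaternionSL23
import Cfsg.Agent.Lib.FrobRealize.Quaternion
import Cfsg.Agent.Lib.OddOrder.FixedPointFree
import Cfsg.Agent.Lib.Solvable.FrattiniFitting
import Cfsg.Agent.Lib.Solvable.Basic

/-!
Noncyclic abelian odd `p`-groups acting on a 2-group with one involution in each fixed subgroup.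
-/

set_option autoImplicit false
set_option linter.style.haveILetI false
set_option linter.unusedSectionVars false

namespace CfsgLib.LocalEvenB.OneInvolutionFixed

open scoped commutatorElement

variable {W : Type*} [Group W] [Finite W] {p : ℕ} [Fact p.Prime]

/-- The fixed subgroup of an automorphism. -/
def fix (e : MulAut W) : Subgroup W where
  carrier := {x | e x = x}
  one_mem' := map_one e
  mul_mem' := fun {a b} ha hb => by
    show e (a * b) = a * b
    rw [map_mul, show e a = a from ha, show e b = b from hb]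
  inv_mem' := fun {a} ha => by
    show e a⁻¹ = a⁻¹
    rw [map_inv, show e a = a from ha]

theorem mem_fix {e : MulAut W} {x : W} : x ∈ fix e ↔ e x = x := Iff.rfl

theorem eq_one_of_pows (hp : p ≠ 2) (hW : IsPGroup 2 W) {n : W} {k : ℕ} (h : n ^ p ^ k = 1) :
    n = 1 := by
  obtain ⟨j, hj⟩ := hW n
  have hco : Nat.Coprime (p ^ k) (2 ^ j) :=
    Nat.Coprime.pow _ _ ((Nat.coprime_primes (Fact.out : p.Prime) Nat.prime_two).mpr hp)
  exact orderOf_eq_one_iff.mp (Nat.eq_one_of_dvd_coprimes hco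
    (orderOf_dvd_iff_pow_eq_one.mpr h) (orderOf_dvd_iff_pow_eq_one.mpr hj))

/-- Stability: an odd `p`-automorphism fixing `x⁻¹ e(x)` fixes `x`. -/
theorem stab (hp : p ≠ 2) (hW : IsPGroup 2 W) {e : MulAut W} (he : ∃ k : ℕ, e ^ p ^ k = 1) {x : W}
    (hn : e (x⁻¹ * e x) = x⁻¹ * e x) : e x = x := by
  obtain ⟨k, hk⟩ := he
  generalize hnd : x⁻¹ * e x = n at hn
  have hex : e x = x * n := by rw [← hnd]; group
  have key : ∀ i : ℕ, (e ^ i) x = x * n ^ i := by
    intro i
    induction i with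
    | zero => simp
    | succ i ih =>
      rw [pow_succ', MulAut.mul_apply, ih, map_mul, map_pow, hn, hex, mul_assoc, ← pow_succ']
  have h1 := key (p ^ k)
  rw [hk, MulAut.one_apply, left_eq_mul] at h1
  rw [hex, eq_one_of_pows hp hW h1, mul_one]

theorem fix_of_index_two (hp : p ≠ 2) (hW : IsPGroup 2 W) {e : MulAut W}
    (he : ∃ k : ℕ, e ^ p ^ k = 1) {V X : Subgroup W} (hinv : ∀ x ∈ X, e x ∈ X)
    (hidx : (V.subgroupOf X).index = 2) (hV : ∀ v ∈ V, e v = v) : ∀ x ∈ X, e x = x := by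
  intro x hx
  by_cases hxV : x ∈ V
  · exact hV x hxV
  have hexV : e x ∉ V := fun h => hxV (by
    have h1 := e.injective (hV _ h)
    rwa [h1] at h)
  refine stab hp hW he (hV _ ?_)
  have h2 := (Subgroup.mul_mem_iff_of_index_two hidx (a := (⟨x, hx⟩ : X)⁻¹) (b := ⟨e x, hinv x hx⟩))
  rw [inv_mem_iff] at h2
  exact h2.mpr ⟨fun h => absurd h hxV, fun h => absurd h hexV⟩

theorem fix_of_mem_zpowers (hp : p ≠ 2) (hW : IsPGroup 2 W) {e : MulAut W}
    (he : ∃ k : ℕ, e ^ p ^ k = 1) : ∀ u : W, e u ∈ Subgroup.zpowers u → e u = u := by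
  intro u
  induction hn : orderOf u using Nat.strong_induction_on generalizing u with
  | _ n ih =>
    subst hn
    intro hu
    by_cases hu1 : u = 1
    · rw [hu1, map_one]
    obtain ⟨r, hr⟩ := hu
    replace hr : u ^ r = e u := hr
    have hlt : orderOf (u ^ 2) < orderOf u := by
      obtain ⟨j, hj⟩ := IsPGroup.iff_orderOf.mp hW u
      have hj0 : j ≠ 0 := fun h => hu1 (orderOf_eq_one_iff.mp (by rw [hj, h, pow_zero]))
      rw [orderOf_pow' _ two_ne_zero, Nat.gcd_eq_right (hj ▸ dvd_pow_self 2 hj0)]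
      exact Nat.div_lt_self (orderOf_pos u) one_lt_two
    have h2 : e (u ^ 2) = u ^ 2 := ih _ hlt (u ^ 2) rfl
      ⟨r, show (u ^ 2) ^ r = _ by
        rw [map_pow, ← hr, ← zpow_natCast, ← zpow_natCast, ← zpow_mul, ← zpow_mul, mul_comm]⟩
    have hfixpow : ∀ m : ℤ, e (u ^ (2 * m)) = u ^ (2 * m) := fun m => by
      rw [zpow_mul, map_zpow, show (u ^ (2 : ℤ)) = u ^ (2 : ℕ) from zpow_natCast u 2, h2]
    rcases Int.even_or_odd r with ⟨m, rfl⟩ | ⟨m, rfl⟩
    · rw [← two_mul] at hr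
      exact e.injective (by rw [← hr]; exact hfixpow m)
    · refine stab hp hW he ?_
      rw [← hr, show u⁻¹ * u ^ (2 * m + 1) = u ^ (2 * m) by group]
      exact hfixpow m

/-- An invariant subgroup with one involution is centralised or is quaternion of order 8. -/
theorem fixed_or_quaternion (hp : p ≠ 2) (hW : IsPGroup 2 W) (E : Subgroup (MulAut W))
    (hE : IsPGroup p E) {K : Subgroup W} (hinv : ∀ e ∈ E, ∀ x ∈ K, e x ∈ K)
    (hone : ∀ x ∈ K, ∀ y ∈ K, orderOf x = 2 → orderOf y = 2 → x = y) :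
    (∀ e ∈ E, ∀ x ∈ K, e x = x) ∨ Nonempty (K ≃* QuaternionGroup 2) := by
  have hpe : ∀ e ∈ E, ∃ k : ℕ, e ^ p ^ k = 1 := fun e he => by
    obtain ⟨k, hk⟩ := hE ⟨e, he⟩
    exact ⟨k, by simpa using congrArg Subtype.val hk⟩
  have hcyc : IsCyclic K → ∀ e ∈ E, ∀ x ∈ K, e x = x := by
    intro _ e he x hx
    obtain ⟨⟨u, hu⟩, hgen⟩ := IsCyclic.exists_zpow_surjective (G := K)
    have hmem : ∀ y ∈ K, y ∈ Subgroup.zpowers u := fun y hy => by
      obtain ⟨j, hj⟩ := hgen ⟨y, hy⟩
      exact ⟨j, by simpa using congrArg Subtype.val hj⟩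
    have hu' := fix_of_mem_zpowers hp hW (hpe e he) u (hmem _ (hinv e he u hu))
    obtain ⟨j, rfl⟩ := hmem x hx
    rw [map_zpow, hu']
  have hfew : Nat.card {x : K // x ^ 2 = 1} ≤ 2 := by
    classical
    refine le_trans (Nat.card_le_card_of_injective
      (fun x : {x : K // x ^ 2 = 1} => decide ((x : K) = 1)) ?_) (by simp)
    rintro ⟨x, hx⟩ ⟨y, hy⟩ hxy
    simp only [decide_eq_decide] at hxy
    by_cases hx1 : x = 1
    · exact Subtype.ext (hx1.trans (hxy.mp hx1).symm)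
    · have hy1 : y ≠ 1 := fun h => hx1 (hxy.mpr h)
      refine Subtype.ext (Subtype.ext (hone _ x.2 _ y.2 ?_ ?_))
      · rw [Subgroup.orderOf_coe]; exact orderOf_eq_prime hx hx1
      · rw [Subgroup.orderOf_coe]; exact orderOf_eq_prime hy hy1
  rcases FrobRealize.Quaternion.cyclic_or_quaternion (p := 2) (hW.to_subgroup K) hfew with
    hc | ⟨-, n, ⟨φ⟩⟩
  · exact Or.inl (hcyc hc)
  rcases Nat.lt_or_ge n 2 with hn | hn
  · interval_cases n
    · haveI : IsCyclic K := by
        refine (MulEquiv.isCyclic φ).mpr (isCyclic_of_orderOf_eq_card (.xa 0) ?_)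
        rw [QuaternionGroup.orderOf_xa, Nat.card_eq_fintype_card, QuaternionGroup.card]
        rfl
      exact Or.inl (hcyc this)
    · exact Or.inr ⟨φ⟩
  left
  intro e he
  haveI : NeZero (2 ^ n) := ⟨by positivity⟩
  set u : K := φ.symm (.a 1)
  set v : K := φ.symm (.xa 0)
  let g : K → K := fun x => ⟨e x, hinv e he x x.2⟩
  have hgmul : ∀ x y : K, g (x * y) = g x * g y := fun x y => Subtype.ext (map_mul e _ _)
  have horder : ∀ x : K, orderOf (g x) = orderOf x := fun x => by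
    rw [← Subgroup.orderOf_coe, ← Subgroup.orderOf_coe x]
    exact MulEquiv.orderOf_eq e (x : W)
  have hpowu : ∀ i : ZMod (2 * 2 ^ n), φ.symm (.a i) = u ^ i.val := fun i => by
    rw [← map_pow, QuaternionGroup.a_one_pow, ZMod.natCast_val, ZMod.cast_id]
  have hu : e (u : W) ∈ Subgroup.zpowers (u : W) := by
    rcases hh : φ (g u) with i | i
    · have h1 : g u = u ^ i.val := by rw [← hpowu, ← hh, MulEquiv.symm_apply_apply]
      exact ⟨(i.val : ℤ), by
        show (u : W) ^ (i.val : ℤ) = _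
        rw [zpow_natCast, ← Subgroup.coe_pow]
        exact (congrArg Subtype.val h1).symm⟩
    · exfalso
      have h1 : orderOf (φ (g u)) = 2 * 2 ^ n := by
        rw [MulEquiv.orderOf_eq, horder, MulEquiv.orderOf_eq, QuaternionGroup.orderOf_a_one]
      rw [hh, QuaternionGroup.orderOf_xa] at h1
      have : 2 ^ 2 ≤ 2 ^ n := Nat.pow_le_pow_right two_pos hn
      omega
  have hu' : e (u : W) = u := fix_of_mem_zpowers hp hW (hpe e he) _ hu
  have ha : ∀ i : ZMod (2 * 2 ^ n), e (φ.symm (.a i) : W) = φ.symm (.a i) := fun i => by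
    rw [hpowu, Subgroup.coe_pow, map_pow, hu']
  have hv : e (v : W) = v := by
    rcases hh : φ (g v) with i | i
    · have h1 : g v = φ.symm (.a i) := by rw [← hh, MulEquiv.symm_apply_apply]
      have h2 : e (v : W) = φ.symm (.a i) := congrArg Subtype.val h1
      exact e.injective (by rw [h2]; exact ha i)
    · refine stab hp hW (hpe e he) ?_
      have h1 : v⁻¹ * g v = φ.symm ((QuaternionGroup.xa 0)⁻¹ * .xa i) := by
        rw [map_mul, map_inv, ← hh, MulEquiv.symm_apply_apply]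
      have h2 : ∃ j, (QuaternionGroup.xa 0 : QuaternionGroup (2 ^ n))⁻¹ * .xa i = .a j := by
        exact ⟨_, rfl⟩
      obtain ⟨j, hj⟩ := h2
      rw [hj] at h1
      have h3 : (v : W)⁻¹ * e (v : W) = φ.symm (.a j) := congrArg Subtype.val h1
      rw [h3]; exact ha j
  intro x hx
  rcases hh : φ ⟨x, hx⟩ with i | i
  · have : (⟨x, hx⟩ : K) = φ.symm (.a i) := by rw [← hh, MulEquiv.symm_apply_apply]
    rw [show x = ((φ.symm (.a i) : K) : W) from congrArg Subtype.val this]
    exact ha i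
  · have : (⟨x, hx⟩ : K) = v * φ.symm (.a i) := by
      rw [← map_mul, QuaternionGroup.xa_mul_a, zero_add, ← hh, MulEquiv.symm_apply_apply]
    rw [show x = ((v * φ.symm (.a i) : K) : W) from congrArg Subtype.val this, Subgroup.coe_mul,
      map_mul, hv, ha]

theorem quat_facts : (∀ q r : QuaternionGroup 2, q ^ 2 = 1 → q * r = r * q) ∧
    (∀ q : QuaternionGroup 2, q ^ 4 = 1) ∧ (∃ q r : QuaternionGroup 2, q * r ≠ r * q) ∧
    (∃ q : QuaternionGroup 2, q ^ 2 = 1 ∧ q ≠ 1) := by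
  decide

/-- Generation of an invariant subgroup by fixed points. -/
theorem le_of_fix_le (E : Subgroup (MulAut W)) (hab : IsMulCommutative E) (hnc : ¬ IsCyclic E)
    (hcop : (Nat.card E).Coprime (Nat.card W)) {K D : Subgroup W}
    (hinv : ∀ e ∈ E, ∀ x ∈ K, e x ∈ K) (h : ∀ e ∈ E, e ≠ 1 → K ⊓ fix e ≤ D) : K ≤ D := by
  haveI : IsMulCommutative (Fusion.AutCoprime.acting E) := ⟨⟨by
    rintro ⟨_, a, rfl⟩ ⟨_, b, rfl⟩
    exact Subtype.ext (by
      show SemidirectProduct.inr a * SemidirectProduct.inr b = SemidirectProduct.inr b * SemidirectProduct.inr a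
      rw [← map_mul, ← map_mul, hab.is_comm.comm a b])⟩⟩
  have hncA : ¬ IsCyclic (Fusion.AutCoprime.acting E) := fun hc => hnc
    ((MulEquiv.isCyclic (MonoidHom.ofInjective (f := (SemidirectProduct.inr : E →* Fusion.AutCoprime.Ext E))
      SemidirectProduct.inr_injective)).mpr hc)
  have key := Coprime.iSup_centralizer_singleton (A := Fusion.AutCoprime.acting E)
    (K := Fusion.AutCoprime.up E K) hncA (Fusion.AutCoprime.acting_le_normalizer_up E hinv)
    (by rw [Fusion.AutCoprime.card_acting, Fusion.AutCoprime.card_up]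
        exact hcop.coprime_dvd_right (Subgroup.card_subgroup_dvd_card K))
  have hle : Fusion.AutCoprime.up E K ≤ Fusion.AutCoprime.up E D := by
    conv_lhs => rw [← key]
    refine iSup₂_le fun a ha => ?_
    obtain ⟨⟨b, rfl⟩, hb1⟩ := ha
    rintro _ ⟨⟨g, hg, rfl⟩, hgc⟩
    refine Subgroup.mem_map_of_mem _ (h b b.2 (fun hb => hb1 ?_) ⟨hg, mem_fix.mpr ?_⟩)
    · rw [show b = 1 from Subtype.ext hb, map_one]
    · apply SemidirectProduct.inl_injective (φ := E.subtype)
      rw [← Fusion.AutCoprime.conj_inl,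
        ← Subgroup.mem_centralizer_singleton_iff.mp hgc, mul_inv_cancel_right]
  intro x hx
  obtain ⟨y, hy, he⟩ := hle (Subgroup.mem_map_of_mem _ hx)
  rwa [← SemidirectProduct.inl_injective he]

/-- The structure of `W`. -/
theorem main (hW : IsPGroup 2 W) (hp : p ≠ 2) (E : Subgroup (MulAut W)) (hE : IsPGroup p E)
    (hab : IsMulCommutative E) (hnc : ¬ IsCyclic E)
    (hfix : ∀ e ∈ E, e ≠ 1 → ∀ x y : W, orderOf x = 2 → orderOf y = 2 → e x = x → e y = y → x = y) :
    Nat.card E = 9 ∧ Cfsg.IsExtraspecial 2 W ∧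
      (Nat.card W = 2 ^ 5 ∨ Nat.card W = 2 ^ 7 ∨ Nat.card W = 2 ^ 9) ∧
      {x : W | ∀ e ∈ E, e x = x} = (Subgroup.center W : Set W) := by
  classical
  have hpe : ∀ e ∈ E, ∃ k : ℕ, e ^ p ^ k = 1 := fun e he => by
    obtain ⟨k, hk⟩ := hE ⟨e, he⟩
    exact ⟨k, by simpa using congrArg Subtype.val hk⟩
  have hcomm : ∀ e ∈ E, ∀ f ∈ E, e * f = f * e := fun e he f hf =>
    congrArg Subtype.val (hab.is_comm.comm (⟨e, he⟩ : E) ⟨f, hf⟩)
  have hcop : (Nat.card E).Coprime (Nat.card W) := by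
    obtain ⟨a, ha⟩ := IsPGroup.iff_card.mp hE
    obtain ⟨b, hb⟩ := IsPGroup.iff_card.mp hW
    rw [ha, hb]
    exact Nat.Coprime.pow _ _ ((Nat.coprime_primes (Fact.out : p.Prime) Nat.prime_two).mpr hp)
  have hgen := fun {K D : Subgroup W} => le_of_fix_le E hab hnc hcop (K := K) (D := D)
  let C0 : Subgroup W := ⨅ e ∈ E, fix e
  have hC0 : ∀ {x : W}, x ∈ C0 ↔ ∀ e ∈ E, e x = x := by
    intro x
    simp only [C0, Subgroup.mem_iInf, mem_fix]
  have hfinv : ∀ e ∈ E, ∀ f ∈ E, ∀ x ∈ fix e, f x ∈ fix e := fun e he f hf x hx => by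
    rw [mem_fix] at hx ⊢
    rw [← MulAut.mul_apply, hcomm e he f hf, MulAut.mul_apply, hx]
  have hone : ∀ e ∈ E, e ≠ 1 → ∀ x ∈ fix e, ∀ y ∈ fix e, orderOf x = 2 → orderOf y = 2 → x = y :=
    fun e he he1 x hx y hy hxo hyo => hfix e he he1 x y hxo hyo hx hy
  have hC0le : ∀ e ∈ E, C0 ≤ fix e := fun e he => iInf₂_le e he
  let S : Set (Subgroup W) := {Q | (∃ e ∈ E, e ≠ 1 ∧ Q = fix e) ∧ ¬ Q ≤ C0}
  have hQiso : ∀ Q ∈ S, Nonempty (Q ≃* QuaternionGroup 2) := by
    rintro Q ⟨⟨e, he, he1, rfl⟩, hQ⟩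
    exact (fixed_or_quaternion hp hW E hE (hfinv e he) (hone e he he1)).resolve_left
      fun h => hQ fun x hx => hC0.mpr fun f hf => h f hf x hx
  have hQinv : ∀ Q ∈ S, ∀ f ∈ E, ∀ x ∈ Q, f x ∈ Q := by
    rintro Q ⟨⟨e, he, -, rfl⟩, -⟩
    exact hfinv e he
  have hS : S.Nonempty := by
    by_contra hno
    apply hnc
    have htop : (⊤ : Subgroup W) ≤ C0 := hgen (fun _ _ _ _ => Subgroup.mem_top _) fun e he he1 => by
      refine inf_le_right.trans ?_
      by_contra hle
      exact hno ⟨fix e, ⟨e, he, he1, rfl⟩, hle⟩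
    rw [Fusion.AutCoprime.eq_bot_of_fix_all E fun a ha g => hC0.mp (htop (Subgroup.mem_top g)) a ha]
    infer_instance
  have hQcard : ∀ Q ∈ S, Nat.card Q = 8 := fun Q hQ => by
    obtain ⟨φ⟩ := hQiso Q hQ
    rw [Nat.card_congr φ.toEquiv, Nat.card_eq_fintype_card, QuaternionGroup.card]
  have hQfour : ∀ Q ∈ S, ∀ u ∈ Q, u ^ 4 = 1 := fun Q hQ u hu => by
    obtain ⟨φ⟩ := hQiso Q hQ
    exact congrArg Subtype.val (φ.injective (by rw [map_pow, map_one]; exact quat_facts.2.1 _) :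
      (⟨u, hu⟩ : Q) ^ 4 = 1)
  have hQz : ∀ Q ∈ S, ∀ u ∈ Q, u ^ 2 = 1 → ∀ v ∈ Q, u * v = v * u := fun Q hQ u hu hu2 v hv => by
    obtain ⟨φ⟩ := hQiso Q hQ
    have h2 : φ ⟨u, hu⟩ ^ 2 = 1 := by
      rw [← map_pow, show (⟨u, hu⟩ : Q) ^ 2 = 1 from Subtype.ext hu2, map_one]
    exact congrArg Subtype.val (φ.injective (by rw [map_mul, map_mul]; exact quat_facts.1 _ _ h2) :
      (⟨u, hu⟩ : Q) * ⟨v, hv⟩ = ⟨v, hv⟩ * ⟨u, hu⟩)
  have hgood : ∀ Q ∈ S, ∀ f ∈ E, ∀ u ∈ Q, u ^ 2 ≠ 1 → f u = u → ∀ x ∈ Q, f x = x := by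
    intro Q hQ f hf u hu hu2 hfu
    refine fix_of_index_two hp hW (hpe f hf) (hQinv Q hQ f hf) (V := Subgroup.zpowers u) ?_ ?_
    · have h1 : orderOf u = 2 ^ 2 := orderOf_eq_prime_pow (n := 1) (by simpa using hu2)
        (by simpa using hQfour Q hQ u hu)
      have h2 := ((Subgroup.zpowers u).subgroupOf Q).card_mul_index
      rw [Nat.card_congr (Subgroup.subgroupOfEquivOfLe (Subgroup.zpowers_le.mpr hu)).toEquiv,
        Nat.card_zpowers, h1, hQcard Q hQ] at h2
      omega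
    · rintro v ⟨j, rfl⟩
      show f (u ^ j) = u ^ j
      rw [map_zpow, hfu]
  have hinvsub : ∀ Q ∈ S, ∀ V : Subgroup W, (∀ f ∈ E, ∀ x ∈ V, f x ∈ V) → V ≤ Q →
      ∀ u ∈ V, u ^ 2 ≠ 1 → V = Q := by
    intro Q hQ V hV hVQ u hu hu2
    by_contra hne
    apply hQ.2
    have h1 : orderOf u = 2 ^ 2 := orderOf_eq_prime_pow (n := 1) (by simpa using hu2)
      (by simpa using hQfour Q hQ u (hVQ hu))
    have hle : Subgroup.zpowers u ≤ V := Subgroup.zpowers_le.mpr hu
    have hlt : Nat.card V < 8 := by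
      rw [← hQcard Q hQ]
      by_contra hge
      exact hne (Subgroup.eq_of_le_of_card_ge hVQ (not_lt.mp hge))
    have hd : Nat.card V ∣ 8 := hQcard Q hQ ▸ Subgroup.card_dvd_of_le hVQ
    have hd4 : 4 ∣ Nat.card V := by
      have := Subgroup.card_dvd_of_le hle
      rwa [Nat.card_zpowers, h1] at this
    have hV4 : Nat.card V = 4 := by
      obtain ⟨c, hc⟩ := hd4
      have : 0 < Nat.card V := Nat.card_pos
      rcases c with _ | _ | c <;> omega
    have heq : Subgroup.zpowers u = V :=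
      Subgroup.eq_of_le_of_card_ge hle (by rw [Nat.card_zpowers, h1, hV4]; norm_num)
    intro x hx
    refine hC0.mpr fun f hf => hgood Q hQ f hf u (hVQ hu) hu2 ?_ x hx
    exact fix_of_mem_zpowers hp hW (hpe f hf) u (by rw [heq]; exact hV f hf u hu)
  obtain ⟨Q0, hQ0⟩ := hS
  obtain ⟨φ0⟩ := hQiso Q0 hQ0
  obtain ⟨q, hq2, hq1⟩ := quat_facts.2.2.2
  set z : W := ((φ0.symm q : Q0) : W) with hzdef
  have hz2 : z ^ 2 = 1 := by rw [hzdef, ← Subgroup.coe_pow, ← map_pow, hq2, map_one]; rfl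
  have hz1 : z ≠ 1 := fun h => hq1 (φ0.symm.injective (by rw [map_one]; exact Subtype.ext h))
  have hzQ0 : z ∈ Q0 := (φ0.symm q).2
  have hzord : orderOf z = 2 := orderOf_eq_prime hz2 hz1
  obtain ⟨e0, he0, he01, hQ0e⟩ := hQ0.1
  have hzfix : z ∈ C0 := hC0.mpr fun f hf => by
    refine hone e0 he0 he01 _ ?_ z (hQ0e ▸ hzQ0) (by rw [MulEquiv.orderOf_eq]; exact hzord) hzord
    exact hfinv e0 he0 f hf z (hQ0e ▸ hzQ0)
  set Z0 := Subgroup.zpowers z with hZ0
  have hzmem : z ∈ Z0 := Subgroup.mem_zpowers z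
  have hZ0card : Nat.card Z0 = 2 := by rw [hZ0, Nat.card_zpowers, hzord]
  have hinv2 : ∀ e ∈ E, e ≠ 1 → ∀ x ∈ fix e, x ^ 2 = 1 → x ∈ Z0 := fun e he he1 x hx hx2 => by
    by_cases hx1 : x = 1
    · rw [hx1]; exact one_mem _
    · rw [hone e he he1 x hx z (hC0le e he hzfix) (orderOf_eq_prime hx2 hx1) hzord]
      exact hzmem
  have hQsq : ∀ Q ∈ S, ∀ x ∈ Q, x ∉ Z0 → x ^ 2 ≠ 1 := by
    rintro Q ⟨⟨e, he, he1, rfl⟩, -⟩ x hx hxz h2
    exact hxz (hinv2 e he he1 x hx h2)
  have hC0Z : C0 = Z0 := by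
    refine le_antisymm (fun x hx => ?_) (Subgroup.zpowers_le.mpr hzfix)
    by_contra hxz
    have hxQ : x ∈ Q0 := hQ0e ▸ hC0le e0 he0 hx
    exact hQ0.2 fun y hy => hC0.mpr fun f hf =>
      hgood Q0 hQ0 f hf x hxQ (hQsq Q0 hQ0 x hxQ hxz) (hC0.mp hx f hf) y hy
  have hdic : ∀ e ∈ E, e ≠ 1 → fix e ≤ Z0 ∨ fix e ∈ S := fun e he he1 => by
    by_cases h : fix e ≤ C0
    · exact Or.inl (hC0Z ▸ h)
    · exact Or.inr ⟨⟨e, he, he1, rfl⟩, h⟩
  have hzQ : ∀ Q ∈ S, z ∈ Q := by
    rintro Q ⟨⟨e, he, -, rfl⟩, -⟩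
    exact hC0le e he hzfix
  have hZQ : ∀ Q ∈ S, Z0 ≤ Q := fun Q hQ => Subgroup.zpowers_le.mpr (hzQ Q hQ)
  have hQne : ∀ Q ∈ S, ¬ Q ≤ Z0 := fun Q hQ h => hQ.2 (hC0Z ▸ h)
  have hzc : z ∈ Subgroup.center W := by
    have : (⊤ : Subgroup W) ≤ Subgroup.centralizer ({z} : Set W) :=
      hgen (fun _ _ _ _ => Subgroup.mem_top _) fun e he he1 => by
        refine inf_le_right.trans ?_
        intro x hx
        rw [Subgroup.mem_centralizer_singleton_iff]
        rcases hdic e he he1 with h | h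
        · obtain ⟨j, rfl⟩ := h hx
          exact (Commute.zpow_self z j).eq
        · exact (hQz _ h z (hzQ _ h) hz2 x hx).symm
    exact Subgroup.mem_center_iff.mpr fun g =>
      Subgroup.mem_centralizer_singleton_iff.mp (this (Subgroup.mem_top g))
  have hZc : ∀ x ∈ Z0, ∀ y : W, x * y = y * x := fun x hx y =>
    (Subgroup.mem_center_iff.mp (Subgroup.zpowers_le.mpr hzc hx) y).symm
  haveI hZn : Z0.Normal := ⟨fun a ha g => by rw [← hZc a ha g, mul_inv_cancel_right]; exact ha⟩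
  have hZinv : ∀ f ∈ E, ∀ x ∈ Z0, f x = x := fun f hf x hx => hC0.mp (hC0Z ▸ hx) f hf
  -- pairwise intersections
  have hpair : ∀ Q ∈ S, ∀ Q' ∈ S, Q ≠ Q' → Q ⊓ Q' ≤ Z0 := by
    intro Q hQ Q' hQ' hne x hx
    by_contra hxz
    have hinvI : ∀ f ∈ E, ∀ y ∈ Q ⊓ Q', f y ∈ Q ⊓ Q' := fun f hf y hy =>
      ⟨hQinv Q hQ f hf y hy.1, hQinv Q' hQ' f hf y hy.2⟩
    have h2 := hQsq Q hQ x hx.1 hxz
    exact hne ((hinvsub Q hQ _ hinvI inf_le_left x hx h2).symm.trans
      (hinvsub Q' hQ' _ hinvI inf_le_right x hx h2))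
  -- the second centre
  let T : Subgroup W := (Subgroup.center (W ⧸ Z0)).comap (QuotientGroup.mk' Z0)
  have hT : ∀ x : W, x ∈ T ↔ ∀ y : W, ⁅x, y⁆ ∈ Z0 := fun x => by
    simp only [T, Subgroup.mem_comap, Subgroup.mem_center_iff]
    constructor
    · intro h y
      rw [← QuotientGroup.eq_one_iff]
      show (QuotientGroup.mk' Z0) ⁅x, y⁆ = 1
      rw [map_commutatorElement, commutatorElement_eq_one_iff_mul_comm]
      exact (h _).symm
    · intro h q
      obtain ⟨y, rfl⟩ := QuotientGroup.mk'_surjective Z0 q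
      refine Eq.symm ?_
      rw [← commutatorElement_eq_one_iff_mul_comm, ← map_commutatorElement]
      exact (QuotientGroup.eq_one_iff _).mpr (h y)
  have hTinv : ∀ f ∈ E, ∀ x ∈ T, f x ∈ T := fun f hf x hx => (hT _).mpr fun y => by
    have h1 := (hT x).mp hx (f.symm y)
    have h2 : ⁅f x, y⁆ = f ⁅x, f.symm y⁆ := by
      rw [map_commutatorElement, MulEquiv.apply_symm_apply]
    rw [h2, hZinv f hf _ h1]
    exact h1
  have hTcomm : ∀ Q ∈ S, Q ≤ T → ∀ Q' ∈ S, Q ≠ Q' → ∀ a ∈ Q, ∀ b ∈ Q', a * b = b * a := by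
    intro Q hQ hQT Q' hQ' hne
    obtain ⟨e, he, he1, hQe⟩ := hQ.1
    let C : Subgroup W := Q' ⊓ Subgroup.centralizer (Q : Set W)
    have hCinv : ∀ f ∈ E, ∀ y ∈ C, f y ∈ C := fun f hf y hy => by
      refine ⟨hQinv Q' hQ' f hf y hy.1, fun a ha => ?_⟩
      obtain ⟨b, hb, rfl⟩ : ∃ b ∈ Q, f b = a := by
        refine ⟨f.symm a, hQinv Q hQ f⁻¹ (inv_mem hf) a ha, f.apply_symm_apply a⟩
      rw [← map_mul, ← map_mul, hy.2 b hb]
    obtain ⟨y, hy, hyz⟩ := SetLike.not_le_iff_exists.mp (hQne Q' hQ')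
    have hyC : y⁻¹ * e y ∈ C := by
      refine Subgroup.mem_inf.mpr ⟨mul_mem (inv_mem hy) (hQinv Q' hQ' e he y hy), fun a ha => ?_⟩
      have hea : e a = a := by rw [hQe] at ha; exact ha
      have h1 := (hT a).mp (hQT ha) y
      have h2 : ⁅a, e y⁆ = ⁅a, y⁆ := by
        have := hZinv e he _ h1
        rwa [map_commutatorElement, hea] at this
      have h3 : ⁅a, y⁻¹ * e y⁆ = 1 := by
        have h4 : ⁅a, y * (y⁻¹ * e y)⁆ = ⁅a, y⁆ * (y * ⁅a, y⁻¹ * e y⁆ * y⁻¹) := by
          simp only [commutatorElement_def]; group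
        rw [mul_inv_cancel_left, h2, left_eq_mul, mul_inv_eq_one, mul_eq_left] at h4
        exact h4
      exact (commutatorElement_eq_one_iff_mul_comm.mp h3)
    have hnz : y⁻¹ * e y ∉ Z0 := fun h => hyz (by
      have hey : e y = y := stab hp hW (hpe e he) (hZinv e he _ h)
      have : y ∈ Q ⊓ Q' := ⟨hQe ▸ hey, hy⟩
      exact hpair Q hQ Q' hQ' hne this)
    have hCQ : C = Q' := hinvsub Q' hQ' C hCinv inf_le_left _ hyC (hQsq Q' hQ' _ hyC.1 hnz)
    intro a ha b hb
    exact (hCQ ▸ hb : b ∈ C).2 a ha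
  have hTtop : ∀ Q ∈ S, Q ≤ T := by
    intro Q1 hQ1
    by_contra hQ1T
    let U : Subgroup W := sSup {Q | Q ∈ S ∧ ¬ Q ≤ T}
    have hQ1U : Q1 ≤ U := le_sSup ⟨hQ1, hQ1T⟩
    have hUinv : ∀ f ∈ E, ∀ x ∈ U, f x ∈ U := by
      intro f hf
      have : U ≤ U.comap f.toMonoidHom := sSup_le fun Q hQ x hx =>
        show f x ∈ U from le_sSup (show Q ∈ {Q | Q ∈ S ∧ ¬ Q ≤ T} from hQ) (hQinv Q hQ.1 f hf x hx)
      exact fun x hx => this hx
    have hUc : ∀ Q ∈ S, Q ≤ T → U ≤ Subgroup.centralizer (Q : Set W) := fun Q hQ hQT =>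
      sSup_le fun Q' hQ' b hb a ha =>
        hTcomm Q hQ hQT Q' hQ'.1 (fun h => hQ'.2 (h ▸ hQT)) a ha b hb
    let Ub := U.map (QuotientGroup.mk' Z0)
    haveI : Group.IsNilpotent Ub := ((hW.to_quotient Z0).to_subgroup Ub).isNilpotent
    haveI : Nontrivial Ub := by
      refine (Subgroup.nontrivial_iff_ne_bot _).mpr fun h => hQne Q1 hQ1 fun x hx => ?_
      have h1 : QuotientGroup.mk' Z0 x ∈ Ub := Subgroup.mem_map_of_mem _ (hQ1U hx)
      rw [h, Subgroup.mem_bot] at h1
      exact (QuotientGroup.eq_one_iff x).mp h1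
    have hcb : Subgroup.center Ub ≠ ⊥ :=
      (Subgroup.nontrivial_iff_ne_bot _).mp ((hW.to_quotient Z0).to_subgroup Ub).center_nontrivial
    obtain ⟨⟨_, x, hxU, rfl⟩, hxc, hxne⟩ := (Subgroup.bot_or_exists_ne_one _).resolve_left hcb
    have hxz : x ∉ Z0 := fun h => hxne (Subtype.ext ((QuotientGroup.eq_one_iff x).mpr h))
    have hxT : x ∈ T := by
      let D : Subgroup W :=
        (Subgroup.centralizer ({QuotientGroup.mk' Z0 x} : Set (W ⧸ Z0))).comap (QuotientGroup.mk' Z0)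
      have hD : (⊤ : Subgroup W) ≤ D := hgen (fun _ _ _ _ => Subgroup.mem_top _) fun e he he1 => by
        refine inf_le_right.trans fun y hy => ?_
        show QuotientGroup.mk' Z0 y ∈ Subgroup.centralizer ({QuotientGroup.mk' Z0 x} : Set (W ⧸ Z0))
        rw [Subgroup.mem_centralizer_singleton_iff]
        rcases hdic e he he1 with h | h
        · rw [show QuotientGroup.mk' Z0 y = 1 from (QuotientGroup.eq_one_iff y).mpr (h hy), one_mul,
            mul_one]
        · by_cases hQT : fix e ≤ T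
          · rw [← map_mul, ← map_mul, hUc _ h hQT hxU y hy]
          · have hyU : y ∈ U := le_sSup (show fix e ∈ {Q | Q ∈ S ∧ ¬ Q ≤ T} from ⟨h, hQT⟩) hy
            exact congrArg Subtype.val
              (Subgroup.mem_center_iff.mp hxc ⟨_, Subgroup.mem_map_of_mem _ hyU⟩)
      refine (hT x).mpr fun y => ?_
      have h1 := Subgroup.mem_centralizer_singleton_iff.mp (show QuotientGroup.mk' Z0 y ∈ Subgroup.centralizer ({QuotientGroup.mk' Z0 x} : Set (W ⧸ Z0)) from hD (Subgroup.mem_top y))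
      rw [← QuotientGroup.eq_one_iff]
      show QuotientGroup.mk' Z0 ⁅x, y⁆ = 1
      rw [map_commutatorElement, commutatorElement_eq_one_iff_mul_comm]
      exact h1.symm
    have hle : U ⊓ T ≤ Z0 := hgen (fun f hf y hy => ⟨hUinv f hf y hy.1, hTinv f hf y hy.2⟩)
      fun e he he1 y hy => by
        obtain ⟨⟨hyU, hyT⟩, hye⟩ := hy
        by_contra hyz
        have hQ : fix e ∈ S := (hdic e he he1).resolve_left fun h => hyz (h hye)
        have hsub := hinvsub _ hQ (fix e ⊓ T)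
          (fun f hf w hw => ⟨hQinv _ hQ f hf w hw.1, hTinv f hf w hw.2⟩) inf_le_left y ⟨hye, hyT⟩
          (hQsq _ hQ y hye hyz)
        have hQT : fix e ≤ T := inf_eq_left.mp hsub
        refine hQ.2 fun b hb => hC0.mpr fun f hf => ?_
        have hcC := hinvsub _ hQ (fix e ⊓ Subgroup.centralizer (fix e : Set W))
          (fun g hg w hw => ⟨hQinv _ hQ g hg w hw.1, fun a ha => by
            have h1 := hw.2 _ (hQinv _ hQ g⁻¹ (inv_mem hg) a ha)
            have h2 := congrArg g h1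
            simpa [map_mul] using h2⟩) inf_le_left y ⟨hye, hUc _ hQ hQT hyU⟩ (hQsq _ hQ y hye hyz)
        exfalso
        obtain ⟨ψ⟩ := hQiso _ hQ
        obtain ⟨r, r', hrr⟩ := quat_facts.2.2.1
        have h3 : ((ψ.symm r : fix e) : W) ∈ fix e ⊓ Subgroup.centralizer (fix e : Set W) :=
          hcC.symm ▸ (ψ.symm r).2
        exact hrr (ψ.symm.injective (by
          rw [map_mul, map_mul]
          exact Subtype.ext (h3.2 _ (ψ.symm r').2).symm))
    exact hxz (hle ⟨hxU, hxT⟩)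
  have hQQ : ∀ Q ∈ S, ∀ Q' ∈ S, Q ≠ Q' → ∀ a ∈ Q, ∀ b ∈ Q', a * b = b * a :=
    fun Q hQ => hTcomm Q hQ (hTtop Q hQ)
  have hgenS : ∀ D : Subgroup W, Z0 ≤ D → (∀ Q ∈ S, Q ≤ D) → ∀ x : W, x ∈ D := fun D hD hDS x =>
    hgen (fun _ _ _ _ => Subgroup.mem_top _) (fun e he he1 => inf_le_right.trans
      ((hdic e he he1).elim (fun h => h.trans hD) (fun h => hDS _ h))) (Subgroup.mem_top x)
  have hallcomm : ∀ x y : W, ⁅x, y⁆ ∈ Z0 := fun x =>
    (hT x).mp (hgenS T (fun a ha => (hT a).mpr fun y => by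
      rw [commutatorElement_eq_one_iff_mul_comm.mpr (hZc a ha y)]; exact one_mem _) hTtop x)
  have hcenter : Subgroup.center W = Z0 := by
    refine le_antisymm ?_ (Subgroup.zpowers_le.mpr hzc)
    refine hgen (fun f _ x hx => Subgroup.mem_center_iff.mpr fun g => ?_) fun e he he1 x hx => ?_
    · rw [← f.apply_symm_apply g, ← map_mul, ← map_mul, Subgroup.mem_center_iff.mp hx]
    · by_contra hxz
      have hQ : fix e ∈ S := (hdic e he he1).resolve_left fun h => hxz (h hx.2)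
      have hcC := hinvsub _ hQ (fix e ⊓ Subgroup.center W)
        (fun g hg w hw => ⟨hQinv _ hQ g hg w hw.1, Subgroup.mem_center_iff.mpr fun a => by
          rw [← g.apply_symm_apply a, ← map_mul, ← map_mul, Subgroup.mem_center_iff.mp hw.2]⟩)
        inf_le_left x ⟨hx.2, hx.1⟩ (hQsq _ hQ x hx.2 hxz)
      obtain ⟨ψ⟩ := hQiso _ hQ
      obtain ⟨r, r', hrr⟩ := quat_facts.2.2.1
      exact hrr (ψ.symm.injective (by
        rw [map_mul, map_mul]
        exact Subtype.ext (Subgroup.mem_center_iff.mp (inf_eq_left.mp hcC (ψ.symm r').2) _)))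
  -- the exponent and order of `E`
  have hp3 : p = 3 ∧ ∀ f ∈ E, f ^ 3 = 1 := by
    have h12 : ∀ Q ∈ S, ∀ f ∈ E, ∀ x ∈ Q, (f ^ 12) x = x := by
      intro Q hQ f hf x hx
      obtain ⟨φ⟩ := hQiso Q hQ
      let h : QuaternionGroup 2 →* QuaternionGroup 2 :=
        φ.toMonoidHom.comp ((({ toFun := fun w => ⟨f w, hQinv Q hQ f hf w w.2⟩
                                map_one' := Subtype.ext (map_one f)
                                map_mul' := fun a b => Subtype.ext (map_mul f _ _) } : Q →* Q)).comp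
          φ.symm.toMonoidHom)
      have hh := Fusion.QuaternionSL23.eq_genMap h
      have hit : ∀ (i : ℕ) (w : Q), ((φ.symm ((⇑h)^[i] (φ w)) : Q) : W) = (f ^ i) w := by
        intro i
        induction i with
        | zero => intro w; simp
        | succ i ih =>
          intro w
          rw [Function.iterate_succ_apply', pow_succ', MulAut.mul_apply, ← ih w]
          simp [h]
      have h12' := Fusion.QuaternionSL23.aut_twelve (h (.a 1)) (h (.xa 0))
        (fun a b => by rw [← hh]; exact map_mul h a b)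
        (fun a ha => by
          rw [← hh] at ha
          have h1 : f ((φ.symm a : Q) : W) = 1 := by
            have := congrArg (fun t => ((φ.symm t : Q) : W)) ha
            simpa [h] using this
          exact φ.symm.injective (Subtype.ext (f.injective (by rw [h1, map_one]; simp))))
      have := hit 12 ⟨x, hx⟩
      rw [hh, h12', MulEquiv.symm_apply_apply] at this
      exact this.symm
    have hf12 : ∀ f ∈ E, f ^ 12 = 1 := fun f hf => MulEquiv.ext fun x =>
      mem_fix.mp (hgenS (fix (f ^ 12)) (fun a ha => mem_fix.mpr (hZinv _ (pow_mem hf _) a ha))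
        (fun Q hQ a ha => mem_fix.mpr (h12 Q hQ f hf a ha)) x)
    have key : ∀ f ∈ E, f ≠ 1 → p ∣ 12 := by
      intro f hf hf1
      obtain ⟨k, hk⟩ := hpe f hf
      obtain ⟨j, -, hj⟩ := (Nat.dvd_prime_pow (Fact.out : p.Prime)).mp (orderOf_dvd_iff_pow_eq_one.mpr hk)
      have hj0 : j ≠ 0 := fun h => hf1 (orderOf_eq_one_iff.mp (by rw [hj, h, pow_zero]))
      exact (hj ▸ dvd_pow_self p hj0).trans (orderOf_dvd_iff_pow_eq_one.mpr (hf12 f hf))
    obtain rfl : p = 3 := by
      have hd : p ∣ 12 := key e0 he0 he01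
      have hle : p ≤ 12 := Nat.le_of_dvd (by norm_num) hd
      have hpp := (Fact.out : p.Prime)
      interval_cases p <;> first | rfl | exact absurd rfl hp | exact absurd hd (by decide) | exact absurd hpp (by decide)
    refine ⟨rfl, fun f hf => ?_⟩
    obtain ⟨k, hk⟩ := hpe f hf
    have h1 : orderOf f ∣ Nat.gcd (3 ^ k) 12 :=
      Nat.dvd_gcd (orderOf_dvd_iff_pow_eq_one.mpr hk) (orderOf_dvd_iff_pow_eq_one.mpr (hf12 f hf))
    obtain ⟨j, -, hj⟩ := (Nat.dvd_prime_pow Nat.prime_three).mp (h1.trans (Nat.gcd_dvd_left _ _))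
    have h2 : 3 ^ j ∣ 12 := hj ▸ h1.trans (Nat.gcd_dvd_right _ _)
    have hj2 : j < 2 := by
      by_contra hge
      have := (pow_dvd_pow 3 (not_lt.mp hge)).trans h2
      norm_num at this
    refine orderOf_dvd_iff_pow_eq_one.mp (hj ▸ ?_)
    interval_cases j <;> norm_num
  obtain ⟨rfl, hexp⟩ := hp3
  obtain ⟨k, hk⟩ := IsPGroup.iff_card.mp hE
  -- kernels
  let Ker : Subgroup W → Subgroup E := fun Q =>
    { carrier := {f | ∀ x ∈ Q, (f : MulAut W) x = x}
      one_mem' := fun x _ => rfl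
      mul_mem' := fun {a b} ha hb x hx => by
        show (a : MulAut W) ((b : MulAut W) x) = x
        rw [hb x hx, ha x hx]
      inv_mem' := fun {a} ha x hx => by
        show (a : MulAut W).symm x = x
        conv_lhs => rw [← ha x hx]
        exact MulEquiv.symm_apply_apply _ _ }
  have hidx : ∀ Q ∈ S, (Ker Q).index ≤ 3 := by
    intro Q hQ
    obtain ⟨u, hu, huz⟩ := SetLike.not_le_iff_exists.mp (hQne Q hQ)
    have hst : MulAction.stabilizer E u ≤ Ker Q := fun f hf =>
      hgood Q hQ f f.2 u hu (hQsq Q hQ u hu huz) hf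
    refine le_trans (Nat.le_of_dvd (Nat.pos_of_ne_zero Subgroup.index_ne_zero_of_finite)
      (Subgroup.index_dvd_of_le hst)) ?_
    have horb : (MulAction.stabilizer E u).index = Nat.card (MulAction.orbit E u) :=
      (MulAction.index_stabilizer E u).trans (Nat.card_coe_set_eq _).symm
    have hsub : MulAction.orbit E u ⊆ (Q : Set W) \ {1} := by
      rintro _ ⟨f, rfl⟩
      refine ⟨hQinv Q hQ f f.2 u hu, fun h => huz ?_⟩
      have : (f : MulAut W) u = 1 := h
      rw [(f : MulAut W).injective (this.trans (map_one _).symm)]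
      exact one_mem _
    have hle : Nat.card (MulAction.orbit E u) ≤ 7 := by
      rw [Nat.card_coe_set_eq]
      refine (Set.ncard_le_ncard hsub (Set.toFinite _)).trans ?_
      have h1 := Set.ncard_diff_singleton_of_mem (show (1 : W) ∈ (Q : Set W) from Q.one_mem)
      have h8 : (Q : Set W).ncard = 8 := (Nat.card_coe_set_eq _).symm.trans (hQcard Q hQ)
      omega
    rw [horb]
    obtain ⟨j, -, hj⟩ := (Nat.dvd_prime_pow Nat.prime_three).mp
      (hk ▸ (MulAction.stabilizer E u).index_dvd_card)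
    rw [horb] at hj
    rcases j with _ | _ | j
    · omega
    · omega
    · have : 3 ^ 2 ≤ 3 ^ (j + 1 + 1) := Nat.pow_le_pow_right (by norm_num) (by omega)
      omega
  have hkerpair : ∀ Q ∈ S, ∀ Q' ∈ S, Q ≠ Q' → Ker Q ⊓ Ker Q' = ⊥ := by
    intro Q hQ Q' hQ' hne
    rw [eq_bot_iff]
    intro f hf
    by_contra hf1
    have hf1' : (f : MulAut W) ≠ 1 := fun h => hf1 (Subtype.ext h)
    have hle : ∀ R ∈ S, f ∈ Ker R → R = fix (f : MulAut W) := fun R hR hfR => by
      have hle : R ≤ fix (f : MulAut W) := fun x hx => hfR x hx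
      rcases hdic f f.2 hf1' with h | h
      · exact absurd (hle.trans h) (hQne R hR)
      · exact Subgroup.eq_of_le_of_card_ge hle (by rw [hQcard R hR, hQcard _ h])
    exact hne ((hle Q hQ hf.1).trans (hle Q' hQ' hf.2).symm)
  have htwo : ∃ Q1 ∈ S, Q1 ≠ Q0 := by
    by_contra hno
    push Not at hno
    have hK0 : Ker Q0 = ⊥ := by
      rw [eq_bot_iff]
      intro f hf
      refine Subtype.ext (MulEquiv.ext fun x => mem_fix.mp (hgenS (fix (f : MulAut W))
        (fun a ha => mem_fix.mpr (hZinv _ f.2 a ha))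
        (fun Q hQ a ha => mem_fix.mpr (hf a (hno Q hQ ▸ ha))) x))
    have := hidx Q0 hQ0
    rw [hK0, Subgroup.index_bot, hk] at this
    apply hnc
    rcases k with _ | _ | k
    · haveI : Subsingleton E := (Nat.card_eq_one_iff_unique.mp (by rw [hk, pow_zero])).1
      infer_instance
    · exact isCyclic_of_prime_card (p := 3) (by rw [hk, pow_one])
    · have : 3 ^ 2 ≤ 3 ^ (k + 1 + 1) := Nat.pow_le_pow_right (by norm_num) (by omega)
      omega
  have hE9 : Nat.card E = 9 := by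
    obtain ⟨Q1, hQ1, hne⟩ := htwo
    have hle : Nat.card E ≤ 9 := by
      rw [← Subgroup.index_bot, ← hkerpair Q1 hQ1 Q0 hQ0 hne]
      exact Subgroup.index_inf_le.trans (Nat.mul_le_mul (hidx Q1 hQ1) (hidx Q0 hQ0))
    rcases k with _ | _ | k
    · exact absurd (by haveI : Subsingleton E := (Nat.card_eq_one_iff_unique.mp (by rw [hk, pow_zero])).1; infer_instance) hnc
    · exact absurd (isCyclic_of_prime_card (p := 3) (by rw [hk, pow_one])) hnc
    · rcases k with _ | k
      · rw [hk]; norm_num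
      · have : 3 ^ 3 ≤ 3 ^ (k + 1 + 1 + 1) := Nat.pow_le_pow_right (by norm_num) (by omega)
        omega
  -- the order of `W`
  let Sf : Finset (Subgroup W) := (Set.toFinite S).toFinset
  have hSf : ∀ {Q : Subgroup W}, Q ∈ Sf ↔ Q ∈ S := Set.Finite.mem_toFinset _
  have hcard : ∀ s : Finset (Subgroup W), s ⊆ Sf →
      Nat.card (Z0 ⊔ s.sup id : Subgroup W) = 2 * 4 ^ s.card := by
    intro s
    induction s using Finset.induction with
    | empty => intro _; simp [hZ0card]
    | @insert Q s hQs ih =>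
      intro hs
      rw [Finset.insert_subset_iff] at hs
      have hQ := hSf.mp hs.1
      set R : Subgroup W := Z0 ⊔ s.sup id
      have hRQ : R ≤ Subgroup.centralizer (Q : Set W) := by
        refine sup_le (fun a ha b _ => (hZc a ha b).symm) (Finset.sup_le fun Q' hQ' b hb a ha => ?_)
        exact hQQ Q hQ Q' (hSf.mp (hs.2 hQ')) (fun h => hQs (h ▸ hQ')) a ha b hb
      haveI : Q.Normal := ⟨fun a ha g => by
        have hm : ⁅g, a⁆ ∈ Q := hZQ Q hQ (hallcomm g a)
        have : g * a * g⁻¹ = ⁅g, a⁆ * a := by rw [commutatorElement_def]; group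
        rw [this]; exact mul_mem hm ha⟩
      have hinf : Q ⊓ R = Z0 := by
        refine le_antisymm ?_ (le_inf (hZQ Q hQ) le_sup_left)
        intro a ha
        by_contra haz
        obtain ⟨ψ⟩ := hQiso Q hQ
        obtain ⟨r, r', hrr⟩ := quat_facts.2.2.1
        have h1 := hinvsub Q hQ (Q ⊓ Subgroup.centralizer (Q : Set W))
          (fun g hg w hw => ⟨hQinv _ hQ g hg w hw.1, fun b hb => by
            have h1 := hw.2 _ (hQinv _ hQ g⁻¹ (inv_mem hg) b hb)
            have h2 := congrArg g h1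
            simpa [map_mul] using h2⟩) inf_le_left a ⟨ha.1, hRQ ha.2⟩ (hQsq Q hQ a ha.1 haz)
        exact hrr (ψ.symm.injective (by
          rw [map_mul, map_mul]
          exact Subtype.ext ((inf_eq_left.mp h1 (ψ.symm r').2) _ (ψ.symm r).2)))
      have hsup : (Z0 ⊔ (insert Q s).sup id : Subgroup W) = R ⊔ Q := by
        rw [Finset.sup_insert, id_eq]; simp only [R]; ac_rfl
      have h2 := Solvable.Basic.card_sup_mul Q R
      rw [hinf, hZ0card, hQcard Q hQ, ih hs.2] at h2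
      rw [hsup, Finset.card_insert_of_notMem hQs, pow_succ]
      omega
  have hWcard : Nat.card W = 2 * 4 ^ Sf.card := by
    have htop : (Z0 ⊔ Sf.sup id : Subgroup W) = ⊤ := eq_top_iff.mpr fun x _ => hgenS _ le_sup_left
      (fun Q hQ => le_sup_of_le_right (Finset.le_sup (f := id) (hSf.mpr hQ))) x
    rw [← hcard Sf subset_rfl, htop, Subgroup.card_top]
  have hk2 : 2 ≤ Sf.card := by
    obtain ⟨Q1, hQ1, hne⟩ := htwo
    exact Finset.one_lt_card.mpr ⟨Q1, hSf.mpr hQ1, Q0, hSf.mpr hQ0, hne⟩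
  have hk4 : Sf.card ≤ 4 := by
    have hch : ∀ Q : Sf, ∃ f : E, f ≠ 1 ∧ (Q : Subgroup W) = fix (f : MulAut W) := fun Q => by
      obtain ⟨f, hf, hf1, he⟩ := (hSf.mp Q.2).1
      exact ⟨⟨f, hf⟩, fun h => hf1 (congrArg Subtype.val h), he⟩
    choose F hF1 hF using hch
    let g : Sf × Bool → {f : E // f ≠ 1} := fun a =>
      ⟨if a.2 then F a.1 else (F a.1)⁻¹, by
        split_ifs
        · exact hF1 _
        · exact inv_ne_one.mpr (hF1 _)⟩
    have hginv : ∀ f : E, fix ((f : MulAut W)⁻¹) = fix (f : MulAut W) := fun f => by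
      ext x
      simp only [mem_fix]
      exact MulEquiv.symm_apply_eq (f : MulAut W) |>.trans eq_comm
    have hginj : Function.Injective g := by
      rintro ⟨Q, b⟩ ⟨Q', b'⟩ h
      have h1 := congrArg Subtype.val h
      simp only [g] at h1
      have h2 : (Q : Subgroup W) = Q' := by
        have h3 := congrArg (fun f : E => fix (f : MulAut W)) h1
        cases b <;> cases b' <;>
          simpa [hginv, ← hF] using h3
      obtain rfl : Q = Q' := Subtype.ext h2
      have hsq : F Q ≠ (F Q)⁻¹ := fun hs => hF1 Q (by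
        have h4 : (F Q) ^ 2 = 1 := by rw [pow_two]; exact mul_eq_one_iff_eq_inv.mpr hs
        have h5 : (F Q) ^ 3 = 1 := Subtype.ext (hexp _ (F Q).2)
        calc F Q = (F Q) ^ 3 * ((F Q) ^ 2)⁻¹ := by group
          _ = 1 := by rw [h4, h5, inv_one, mul_one])
      cases b <;> cases b' <;> first | rfl | exact absurd (by simpa using h1) hsq | exact absurd (by simpa using h1.symm) hsq
    have := Nat.card_le_card_of_injective g hginj
    rw [Nat.card_prod, Nat.card_eq_fintype_card (α := Bool), Fintype.card_bool,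
      Nat.card_eq_fintype_card (α := Sf), Fintype.card_coe] at this
    have h8 : Nat.card {f : E // f ≠ 1} = 8 := by
      haveI : Fintype E := Fintype.ofFinite E
      rw [Nat.card_eq_fintype_card, Fintype.card_subtype_compl, Fintype.card_subtype_eq,
        ← Nat.card_eq_fintype_card, hE9]
    omega
  refine ⟨hE9, ?_, ?_, ?_⟩
  · haveI := hW.isNilpotent
    have hder : commutator W = Z0 := by
      refine le_antisymm ?_ ?_
      · rw [commutator_eq_closure, Subgroup.closure_le]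
        rintro _ ⟨a, b, rfl⟩
        exact hallcomm a b
      · obtain ⟨r, r', hrr⟩ := quat_facts.2.2.1
        set a : W := ((φ0.symm r : Q0) : W)
        set b : W := ((φ0.symm r' : Q0) : W)
        have hne : ⁅a, b⁆ ≠ 1 := fun h => hrr (φ0.symm.injective (by
          rw [map_mul, map_mul]
          exact Subtype.ext (commutatorElement_eq_one_iff_mul_comm.mp h)))
        have hm : ⁅a, b⁆ ∈ commutator W :=
          Subgroup.commutator_mem_commutator (Subgroup.mem_top a) (Subgroup.mem_top b)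
        refine Subgroup.zpowers_le.mpr ?_
        have h2 : ⁅a, b⁆ = z := by
          obtain ⟨j, hj⟩ := hallcomm a b
          replace hj : z ^ j = ⁅a, b⁆ := hj
          rcases Int.even_or_odd j with ⟨m, rfl⟩ | ⟨m, rfl⟩
          · exact absurd (hj.symm.trans (by
              rw [← two_mul, zpow_mul]; simp [show z ^ (2 : ℤ) = 1 from (zpow_natCast z 2).trans hz2])) hne
          · rw [← hj]
            simp [zpow_add, zpow_mul, show z ^ (2 : ℤ) = 1 from (zpow_natCast z 2).trans hz2]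
        exact h2 ▸ hm
    have hfr : frattini W = Z0 := by
      refine le_antisymm ?_ (hder ▸ Solvable.FrattiniFitting.commutator_le_frattini)
      refine Coprime.SymplecticTools.frattini_le (p := 2) Z0 (fun x => ?_) hallcomm
      let D : Subgroup W :=
        { carrier := {x | x ^ 2 ∈ Z0}
          one_mem' := by simp
          mul_mem' := fun {a b} ha hb => by
            show (a * b) ^ 2 ∈ Z0
            have hc : (a * b) ^ 2 = a ^ 2 * (a⁻¹ * ⁅b, a⁆ * a) * b ^ 2 := by
              simp [pow_two, commutatorElement_def, mul_assoc]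
            rw [hc]
            exact mul_mem (mul_mem ha (by simpa using hZn.conj_mem _ (hallcomm b a) a⁻¹)) hb
          inv_mem' := fun {a} ha => by
            show a⁻¹ ^ 2 ∈ Z0
            rw [inv_pow]; exact inv_mem ha }
      refine hgenS D (fun a ha => show a ^ 2 ∈ Z0 from pow_mem ha 2) (fun Q hQ a ha => ?_) x
      show a ^ 2 ∈ Z0
      obtain ⟨e, he, he1, rfl⟩ := hQ.1
      exact hinv2 e he he1 _ (pow_mem ha 2) (by rw [← pow_mul]; exact hQfour _ hQ a ha)
    exact ⟨⟨hW, hfr.trans hcenter.symm, hder.trans hcenter.symm⟩, by rw [hcenter, hZ0card]⟩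
  · interval_cases h : Sf.card <;> norm_num [hWcard]
  · rw [hcenter, ← hC0Z]
    ext x
    exact hC0.symm

end CfsgLib.LocalEvenB.OneInvolutionFixed
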