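import Cfsg.Agent.Lib.Fusion.Abelian
import Cfsg.Agent.Lib.PGroup.Frattini

/-!
Automorphisms of a finite 2-group which fix every element squaring to one form a solvable group.

The core is about a perfect group `H` preserving an anisotropic quadratic map `q` on a finite
elementary abelian 2-group: for a 2-subgroup `Q` of `H` one gets `[V,Q,Q] = 1` and every element
normalising `Q` centralises it, so `H` has a normal 2-complement.
-/

set_option autoImplicit false
set_option linter.style.haveILetI false
set_option linter.unusedSectionVars false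
set_option linter.style.show false

namespace CfsgLib.LocalEvenB.QuadraticFix

open Subgroup
open scoped commutatorElement

universe u

/-- A homomorphism from a perfect group to a solvable one is trivial. -/
theorem eq_one_of_perfect {D A : Type*} [Group D] [Group A] [Group.IsSolvable A]
    (hD : commutator D = ⊤) (f : D →* A) (d : D) : f d = 1 := by
  obtain ⟨n, hn⟩ := (inferInstance : Group.IsSolvable A).solvable
  have hk : ∀ k, derivedSeries D k = ⊤ := by
    intro k
    induction k with
    | zero => exact derivedSeries_zero D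
    | succ k ih => rw [derivedSeries_succ, ih, ← commutator_def, hD]
  have h := map_derivedSeries_le_derivedSeries f n
  rw [hk, hn] at h
  exact mem_bot.1 (h ⟨d, mem_top d, rfl⟩)

/-- A finite group without nontrivial perfect subgroups is solvable. -/
theorem solvable_of_perfect {H : Type*} [Group H] [Finite H]
    (h : ∀ D : Subgroup H, commutator D = ⊤ → D = ⊥) : Group.IsSolvable H := by
  suffices key : ∀ n, ∀ D : Subgroup H, Nat.card D ≤ n → Group.IsSolvable D by
    haveI := key _ (⊤ : Subgroup H) le_rfl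
    exact solvable_of_surjective (f := (⊤ : Subgroup H).subtype) fun x => ⟨⟨x, mem_top x⟩, rfl⟩
  intro n
  induction n with
  | zero => intro D hD; exact absurd Nat.card_pos (not_lt.2 hD)
  | succ n ih =>
    intro D hD
    by_cases hp : commutator D = ⊤
    · rw [h D hp]; infer_instance
    · let C := (commutator D).map D.subtype
      have hlt : Nat.card C < Nat.card D := by
        rw [card_map_of_injective D.subtype_injective]
        refine lt_of_le_of_ne (card_le_card_group _) fun e => hp ?_
        exact eq_top_of_card_eq _ e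
      haveI := ih C (by omega)
      haveI : Group.IsSolvable (commutator D) := solvable_of_solvable_injective
        (f := ((commutator D).equivMapOfInjective D.subtype D.subtype_injective).toMonoidHom)
        ((commutator D).equivMapOfInjective D.subtype D.subtype_injective).injective
      haveI : Group.IsSolvable (D ⧸ commutator D) := ⟨⟨1, by
        rw [derivedSeries_one, commutator_eq_bot_iff_center_eq_top, eq_top_iff]
        intro x _
        rw [mem_center_iff]
        intro y
        obtain ⟨a, rfl⟩ := QuotientGroup.mk_surjective x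
        obtain ⟨b, rfl⟩ := QuotientGroup.mk_surjective y
        rw [← QuotientGroup.mk_mul, ← QuotientGroup.mk_mul, QuotientGroup.eq]
        rw [show (b * a)⁻¹ * (a * b) = ⁅a⁻¹, b⁻¹⁆ by group]
        exact commutator_mem_commutator (mem_top _) (mem_top _)⟩⟩
      exact solvable_of_ker_le_range (commutator D).subtype (QuotientGroup.mk' (commutator D))
        (by rw [QuotientGroup.ker_mk', Subgroup.range_subtype])

section Quadratic

variable {V W : Type u} [CommGroup V] [CommGroup W]

/-- The commutator of an automorphism with an element. -/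
def δ (a : MulAut V) (v : V) : V := v * a v

variable [Finite V] (hV : ∀ v : V, v * v = 1) (hW : ∀ w : W, w * w = 1) (q : V → W)
  (B : V →* V →* W) (hq : ∀ v w, q (v * w) = q v * q w * B v w) (hq0 : ∀ v, q v = 1 → v = 1)
  (hrad : ∀ v, (∀ w, B v w = 1) → v = 1) {H : Subgroup (MulAut V)}
  (hH : ∀ h ∈ H, ∀ v, q (h v) = q v)

include hV hW hq hq0 hH hrad in
/-- Every element normalising a 2-subgroup centralises it. -/
theorem conj_eq_self {Q : Subgroup (MulAut V)} (hQH : Q ≤ H) (hQ : IsPGroup 2 Q) {g : MulAut V}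
    (hg : g ∈ H) (hgQ : g ∈ normalizer (Q : Set (MulAut V))) {a : MulAut V} (ha : a ∈ Q) :
    g * a = a * g := by
  haveI : Fact (Nat.Prime 2) := ⟨Nat.prime_two⟩
  have hsym : ∀ v w, B v w = B w v := fun v w => by
    have h := hq w v
    rw [mul_comm w v, hq v w, mul_comm (q v) (q w)] at h
    exact mul_left_cancel h
  have hinv : ∀ h ∈ H, ∀ v w, B (h v) (h w) = B v w := by
    intro h hh v w
    have e := hH h hh (v * w)
    rw [map_mul, hq, hq, hH h hh, hH h hh] at e
    exact mul_left_cancel e
  have hone : ∀ v w : V, v * w = 1 → v = w := fun v w h => by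
    rw [← mul_one v, ← hV w, ← mul_assoc, h, one_mul]
  have hδ : ∀ (f : MulAut V) (v : V), f v = δ f v * v := fun f v => by
    rw [δ, mul_right_comm, hV, one_mul]
  have hstep : ∀ f ∈ H, ∀ u y, f u = u → B u (δ f y) = 1 := by
    intro f hf u y hu
    rw [δ, map_mul]
    nth_rewrite 2 [← hu]
    rw [hinv f hf, hW]
  -- a fixed double commutator is trivial
  have hfix : ∀ f ∈ Q, ∀ f' ∈ Q, ∀ y, (∀ c ∈ Q, c (δ f (δ f' y)) = δ f (δ f' y)) →
      δ f (δ f' y) = 1 := by
    intro f hf f' hf' y hu
    set u := δ f (δ f' y) with hudef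
    refine hq0 _ ?_
    have e := hH f (hQH hf) (δ f' y)
    rw [hδ f, ← hudef, hq, hstep f' (hQH hf') u y (hu f' hf'), mul_one] at e
    exact mul_eq_right.1 e
  -- nilpotence of the action
  let G := SemidirectProduct V Q Q.subtype
  haveI : Finite G := Finite.of_equiv _ SemidirectProduct.equivProd.symm
  have hG : IsPGroup 2 G := by
    have h1 : IsPGroup 2 V := fun v => ⟨1, by rw [pow_one, sq, hV]⟩
    obtain ⟨i, hi⟩ := IsPGroup.iff_card.1 h1
    obtain ⟨j, hj⟩ := IsPGroup.iff_card.1 hQ
    exact IsPGroup.of_card (n := i + j) (by rw [SemidirectProduct.card, hi, hj, pow_add])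
  haveI := hG.isNilpotent
  obtain ⟨N, hN⟩ := Subgroup.nilpotent_iff_lowerCentralSeries.1 (inferInstance : Group.IsNilpotent G)
  have hlcs : ∀ (n : ℕ), ∀ f ∈ Q, ∀ v : V,
      (SemidirectProduct.inl v : G) ∈ (⊤ : Subgroup G).lowerCentralSeries n →
      (SemidirectProduct.inl (δ f v) : G) ∈ (⊤ : Subgroup G).lowerCentralSeries (n + 1) := by
    intro n f hf v hv
    rw [Subgroup.lowerCentralSeries_succ]
    have h := Subgroup.commutator_mem_commutator (g₁ := (SemidirectProduct.inl v : G))
      (g₂ := (SemidirectProduct.inr (⟨f, hf⟩ : Q) : G)) hv (mem_top _)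
    convert h using 1
    rw [commutatorElement_def, mul_assoc _ (SemidirectProduct.inr _) _, mul_assoc, mul_assoc,
      ← mul_assoc (SemidirectProduct.inr _) (SemidirectProduct.inl v)⁻¹, ← map_inv, ← map_inv,
      ← SemidirectProduct.inl_aut, ← map_mul]
    congr 1
    have e : v⁻¹ = v := inv_eq_of_mul_eq_one_right (hV v)
    show v * f v = v * f v⁻¹
    rw [e]
  have h2 : ∀ k n, N ≤ n + k → ∀ f ∈ Q, ∀ f' ∈ Q, ∀ y,
      (SemidirectProduct.inl (δ f' y) : G) ∈ (⊤ : Subgroup G).lowerCentralSeries n →
      δ f (δ f' y) = 1 := by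
    intro k
    induction k with
    | zero =>
      intro n hn f hf f' hf' y h
      have h' := Subgroup.lowerCentralSeries_antitone ⊤ hn h
      rw [hN, mem_bot] at h'
      rw [SemidirectProduct.inl_injective (h'.trans (map_one _).symm)]
      simp [δ]
    | succ k ih =>
      intro n hn f hf f' hf' y h
      refine hfix f hf f' hf' y fun c hc => ?_
      have := ih (n + 1) (by omega) c hc f hf (δ f' y) (hlcs n f hf _ h)
      exact (hone _ _ this).symm
  have hQQ : ∀ f ∈ Q, ∀ f' ∈ Q, ∀ y, f (δ f' y) = δ f' y := fun f hf f' hf' y =>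
    (hone _ _ (h2 N 0 (by omega) f hf f' hf' y (by simp))).symm
  have hiso : ∀ f ∈ Q, ∀ f' ∈ Q, ∀ x y, B (δ f x) (δ f' y) = 1 := fun f hf f' hf' x y =>
    hstep f' (hQH hf') _ y (hQQ f' hf' f hf x)
  -- `g` fixes `[V,Q]`
  have hgfix : ∀ f ∈ Q, ∀ y, g (δ f y) = δ f y := by
    intro f hf y
    have hf' : g * f * g⁻¹ ∈ Q := (mem_normalizer_iff.1 hgQ f).1 hf
    have e : g (δ f y) = δ (g * f * g⁻¹) (g y) := by
      rw [δ, δ, map_mul, MulAut.mul_apply, MulAut.mul_apply, MulAut.inv_apply_self]
    have h1 : q (δ f y * g (δ f y)) = 1 := by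
      rw [hq, hH g hg, hW, one_mul, e]
      exact hiso f hf _ hf' _ _
    exact (hone _ _ (hq0 _ h1)).symm
  -- `Q` fixes `[V,g]`
  have hQd : ∀ f ∈ Q, ∀ x, f (δ g x) = δ g x := by
    intro f hf x
    refine (hone _ _ (hrad _ fun y => ?_)).symm
    have hy : B (δ g x) (δ f⁻¹ y) = 1 := by
      rw [hsym]; exact hstep g hg _ x (hgfix _ (inv_mem hf) y)
    rw [show δ f⁻¹ y = y * f⁻¹ y from rfl, map_mul] at hy
    rw [map_mul, MonoidHom.mul_apply, ← hy]
    congr 1
    conv_rhs => rw [← hinv f (hQH hf), MulAut.apply_inv_self]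
  refine MulEquiv.ext fun x => ?_
  show g (a x) = a (g x)
  conv_lhs => rw [hδ a x, map_mul, hgfix a ha, hδ g x]
  conv_rhs => rw [hδ g x, map_mul, hQd a ha, hδ a x]
  exact mul_left_comm _ _ _

include hV hW hq hq0 hH hrad in
/-- A perfect group preserving an anisotropic quadratic map is trivial. -/
theorem perfect_eq_bot (hperf : commutator H = ⊤)
    (hFT : ∀ (K : Type u) [Group K] [Finite K], Odd (Nat.card K) → Group.IsSolvable K) : H = ⊥ := by
  haveI : Fact (Nat.Prime 2) := ⟨Nat.prime_two⟩
  obtain ⟨T⟩ := (inferInstance : Nonempty (Sylow 2 H))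
  have hN : normalizer (T : Set H) ≤ centralizer (T : Set H) := by
    intro n hn
    refine mem_centralizer_iff.2 fun t ht => Subtype.ext ?_
    have hnm : (n : MulAut V) ∈ normalizer ((T : Subgroup H).map H.subtype : Set (MulAut V)) := by
      refine mem_normalizer_iff.2 fun x => ⟨?_, ?_⟩
      · rintro ⟨s, hs, rfl⟩
        exact ⟨n * s * n⁻¹, (mem_normalizer_iff.1 hn s).1 hs, by simp⟩
      · rintro ⟨s, hs, hx⟩
        refine ⟨n⁻¹ * s * n, ?_, ?_⟩
        · have := (mem_normalizer_iff.1 (inv_mem hn) s).1 hs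
          rwa [inv_inv] at this
        · simp only [Subgroup.coe_subtype, Subgroup.coe_mul, InvMemClass.coe_inv] at hx ⊢
          rw [hx]; group
    exact (conj_eq_self hV hW q B hq hq0 hrad hH (map_subtype_le _) (T.2.map H.subtype) n.2 hnm
      ⟨t, ht, rfl⟩).symm
  have hc := MonoidHom.ker_transferSylow_isComplement' T hN
  set N := (MonoidHom.transferSylow T hN).ker
  haveI : Group.IsNilpotent (H ⧸ N) := by
    obtain ⟨j, hj⟩ := IsPGroup.iff_card.1 T.2
    exact (IsPGroup.of_card (n := j) (by rw [← Subgroup.index, hc.symm.index_eq_card, hj])).isNilpotent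
  have hNtop : N = ⊤ := eq_top_iff.2 fun x _ =>
    (QuotientGroup.eq_one_iff x).1 (eq_one_of_perfect hperf (QuotientGroup.mk' N) x)
  have hodd : Odd (Nat.card H) := by
    refine Nat.not_even_iff_odd.1 fun h => T.not_dvd_index ?_
    rw [hc.index_eq_card, hNtop, card_top]
    exact even_iff_two_dvd.1 h
  haveI := hFT H hodd
  exact eq_bot_iff.2 fun x hx => mem_bot.2 (congrArg Subtype.val
    (eq_one_of_perfect hperf (MonoidHom.id H) ⟨x, hx⟩))

end Quadratic

theorem fix_aux (hFT : ∀ (K : Type u) [Group K] [Finite K], Odd (Nat.card K) → Group.IsSolvable K)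
    {D : Type u} [Group D] (hD : commutator D = ⊤) :
    ∀ (n : ℕ) (X : Type u) [Group X] [Finite X], Nat.card X ≤ n → IsPGroup 2 X →
      ∀ ρ : D →* MulAut X, (∀ d x, x * x = 1 → ρ d x = x) → ∀ d x, ρ d x = x := by
  intro n
  induction n with
  | zero => intro X _ _ h; exact absurd Nat.card_pos (not_lt.2 h)
  | succ n ih =>
    intro X _ _ hn hX ρ hρ
    haveI : Fact (Nat.Prime 2) := ⟨Nat.prime_two⟩
    rcases subsingleton_or_nontrivial X with hs | hnt
    · exact fun d x => Subsingleton.elim _ _
    by_contra hcon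
    haveI := hX.isNilpotent
    -- proper invariant subgroups are fixed
    have hprop : ∀ K : Subgroup X, K ≠ ⊤ → (∀ d, ∀ x ∈ K, ρ d x ∈ K) → ∀ d, ∀ x ∈ K, ρ d x = x := by
      intro K hK hinv
      let σ : D →* MulAut K :=
        { toFun := fun d =>
            { toFun := fun x => ⟨ρ d x, hinv d x x.2⟩
              invFun := fun x => ⟨(ρ d).symm x, by
                have := hinv d⁻¹ x x.2
                rwa [map_inv] at this⟩
              left_inv := fun x => Subtype.ext ((ρ d).symm_apply_apply _)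
              right_inv := fun x => Subtype.ext ((ρ d).apply_symm_apply _)
              map_mul' := fun x y => Subtype.ext (map_mul (ρ d) _ _) }
          map_one' := MulEquiv.ext fun x => Subtype.ext (by simp)
          map_mul' := fun a b => MulEquiv.ext fun x => Subtype.ext (by simp) }
      have hlt : Nat.card K < Nat.card X :=
        lt_of_le_of_ne (card_le_card_group K) fun e => hK (eq_top_of_card_eq K e)
      intro d x hx
      exact congrArg Subtype.val (ih K (by omega) (hX.to_subgroup K) σ
        (fun d y hy => Subtype.ext (hρ d y (congrArg Subtype.val hy))) d ⟨x, hx⟩)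
    -- displacements inside a fixed set are trivial
    have hdisp : (∀ d x, ∀ d', ρ d' (x⁻¹ * ρ d x) = x⁻¹ * ρ d x) → ∀ d x, ρ d x = x := by
      intro h d x
      let f : D →* X :=
        { toFun := fun d => x⁻¹ * ρ d x
          map_one' := by simp
          map_mul' := fun a b => by
            show x⁻¹ * ρ (a * b) x = x⁻¹ * ρ a x * (x⁻¹ * ρ b x)
            have e : ρ b x = x * (x⁻¹ * ρ b x) := (mul_inv_cancel_left _ _).symm
            conv_lhs => rw [map_mul, MulAut.mul_apply, e, map_mul, h]
            rw [mul_assoc] }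
      exact (inv_mul_eq_one.1 (eq_one_of_perfect hD f d)).symm
    -- the fixed subgroup
    let F : Subgroup X :=
      { carrier := {x | ∀ d, ρ d x = x}
        one_mem' := fun d => map_one _
        mul_mem' := fun {a b} ha hb d => by rw [map_mul, ha d, hb d]
        inv_mem' := fun {a} ha d => by rw [map_inv, ha d] }
    have hFne : F ≠ ⊤ := fun h => hcon fun d x => (h.ge (mem_top x) : ∀ d, ρ d x = x) d
    have hΦ : frattini X ≤ F := by
      intro x hx d
      refine hprop (frattini X) ?_ ?_ d x hx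
      · intro h
        exact (frattini_nongenerating (K := ⊥) (by rw [h, bot_sup_eq]) ▸ bot_ne_top) rfl
      · intro d x hx
        have := characteristic_iff_map_eq.1 (frattini_characteristic (G := X)) (ρ d)
        exact this.le ⟨x, hx, rfl⟩
    have hcomm : ∀ x y : X, ⁅x, y⁆ ∈ F := fun x y =>
      hΦ (CfsgLib.PGroup.Frattini.commutatorElement_mem_frattini hX x y)
    have hsq : ∀ x : X, x * x ∈ F := fun x => by
      have := CfsgLib.PGroup.Frattini.pow_mem_frattini hX x
      rw [sq] at this
      exact hΦ this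
    haveI hFn : F.Normal := ⟨fun f hf x => by
      have := mul_mem (hcomm x f) hf
      rwa [commutatorElement_def, inv_mul_cancel_right] at this⟩
    have hFc : F ≤ center X := by
      by_contra hne
      have hC : ∀ d x, x⁻¹ * ρ d x ∈ centralizer (F : Set X) := by
        intro d x
        refine mem_centralizer_iff.2 fun f hf => ?_
        have h1 : ρ d (x * f * x⁻¹) = x * f * x⁻¹ := hFn.conj_mem f hf x d
        rw [map_mul, map_mul, map_inv, (hf : ∀ d, ρ d f = f) d, mul_inv_eq_iff_eq_mul] at h1
        calc f * (x⁻¹ * ρ d x) = x⁻¹ * (x * f * x⁻¹ * ρ d x) := by group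
          _ = x⁻¹ * (ρ d x * f) := by rw [h1]
          _ = x⁻¹ * ρ d x * f := by group
      have hCne : centralizer (F : Set X) ≠ ⊤ := fun h => hne (by
        intro f hf
        refine mem_center_iff.2 fun y => ?_
        exact (mem_centralizer_iff.1 (h.ge (mem_top y)) f hf).symm)
      refine hcon (hdisp fun d x d' => hprop _ hCne ?_ d' _ (hC d x))
      intro d c hc
      refine mem_centralizer_iff.2 fun f hf => ?_
      rw [← (hf : ∀ d, ρ d f = f) d, ← map_mul, mem_centralizer_iff.1 hc f hf, map_mul]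
    have hFcomm : ∀ f : F, ∀ y : X, y * f = f * y := fun f y => mem_center_iff.1 (hFc f.2) y
    letI : CommGroup (X ⧸ F) :=
      { (inferInstance : Group (X ⧸ F)) with
        mul_comm := fun a b => by
          obtain ⟨x, rfl⟩ := QuotientGroup.mk_surjective a
          obtain ⟨y, rfl⟩ := QuotientGroup.mk_surjective b
          rw [← QuotientGroup.mk_mul, ← QuotientGroup.mk_mul, QuotientGroup.eq,
            show (x * y)⁻¹ * (y * x) = ⁅y⁻¹, x⁻¹⁆ by group]
          exact hcomm _ _ }
    letI : CommGroup F :=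
      { (inferInstance : Group F) with
        mul_comm := fun a b => Subtype.ext (hFcomm b a) }
    let F2 : Subgroup F := (powMonoidHom 2 : F →* F).range
    let π : F →* F ⧸ F2 := QuotientGroup.mk' F2
    have hπ2 : ∀ f : F, π (f * f) = 1 := fun f =>
      (QuotientGroup.eq_one_iff _).2 ⟨f, by simp [sq]⟩
    have hW : ∀ w : F ⧸ F2, w * w = 1 := fun w => by
      obtain ⟨f, rfl⟩ := QuotientGroup.mk_surjective w
      exact hπ2 f
    have hV : ∀ v : X ⧸ F, v * v = 1 := fun v => by
      obtain ⟨x, rfl⟩ := QuotientGroup.mk_surjective v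
      exact (QuotientGroup.eq_one_iff _).2 (hsq x)
    let c : X → X → F := fun x y => ⟨⁅x⁻¹, y⁆, hcomm _ _⟩
    have hc₂ : ∀ x y z, c x (y * z) = c x y * c x z := fun x y z => Subtype.ext (by
      show ⁅x⁻¹, y * z⁆ = ⁅x⁻¹, y⁆ * ⁅x⁻¹, z⁆
      calc ⁅x⁻¹, y * z⁆ = x⁻¹ * y * x * (c x z : X) * y⁻¹ := by
            show _ = x⁻¹ * y * x * ⁅x⁻¹, z⁆ * y⁻¹
            group
        _ = x⁻¹ * y * x * y⁻¹ * (c x z : X) := by rw [mul_assoc, ← hFcomm (c x z) y⁻¹, ← mul_assoc]
        _ = ⁅x⁻¹, y⁆ * ⁅x⁻¹, z⁆ := by show _ * ⁅x⁻¹, z⁆ = _; group)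
    have hc₁ : ∀ x w y, c (x * w) y = c x y * c w y := fun x w y => Subtype.ext (by
      show ⁅(x * w)⁻¹, y⁆ = ⁅x⁻¹, y⁆ * ⁅w⁻¹, y⁆
      calc ⁅(x * w)⁻¹, y⁆ = w⁻¹ * (c x y : X) * y * w * y⁻¹ := by
            show _ = w⁻¹ * ⁅x⁻¹, y⁆ * y * w * y⁻¹
            group
        _ = (c x y : X) * (w⁻¹ * y * w * y⁻¹) := by rw [hFcomm (c x y) w⁻¹]; group
        _ = ⁅x⁻¹, y⁆ * ⁅w⁻¹, y⁆ := by show ⁅x⁻¹, y⁆ * _ = _; group)
    have hcf : ∀ x, ∀ f ∈ F, c x f = 1 ∧ c f x = 1 := by
      intro x f hf
      constructor <;> refine Subtype.ext (commutatorElement_eq_one_iff_mul_comm.2 ?_)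
      · exact hFcomm ⟨f, hf⟩ x⁻¹
      · exact (hFcomm ⟨f⁻¹, inv_mem hf⟩ x).symm
    let B1 : X → (X ⧸ F →* F ⧸ F2) := fun x => QuotientGroup.lift F
      (MonoidHom.mk' (fun y => π (c x y)) fun y z => by rw [hc₂, map_mul])
      fun f hf => by show π (c x f) = 1; rw [(hcf x f hf).1, map_one]
    let B : X ⧸ F →* (X ⧸ F →* F ⧸ F2) := QuotientGroup.lift F
      (MonoidHom.mk' B1 fun x w => by
        refine MonoidHom.ext fun v => ?_
        obtain ⟨y, rfl⟩ := QuotientGroup.mk_surjective v
        show π (c (x * w) y) = π (c x y) * π (c w y)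
        rw [hc₁, map_mul])
      fun f hf => by
        refine MonoidHom.ext fun v => ?_
        obtain ⟨y, rfl⟩ := QuotientGroup.mk_surjective v
        show π (c f y) = 1
        rw [(hcf y f hf).2, map_one]
    let q : X ⧸ F → F ⧸ F2 := Quotient.lift (fun x => π ⟨x * x, hsq x⟩) fun x y hxy => by
      have hf : x⁻¹ * y ∈ F := QuotientGroup.leftRel_apply.1 hxy
      have e : (⟨y * y, hsq y⟩ : F) = ⟨x * x, hsq x⟩ * (⟨_, hf⟩ * ⟨_, hf⟩) := Subtype.ext (by
        show y * y = x * x * (x⁻¹ * y * (x⁻¹ * y))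
        calc y * y = x * (x⁻¹ * y * x) * (x⁻¹ * y) := by group
          _ = x * (x * (x⁻¹ * y)) * (x⁻¹ * y) := by rw [← hFcomm ⟨_, hf⟩ x]
          _ = _ := by group)
      show π _ = π _
      rw [e, map_mul, hπ2, mul_one]
    have hq : ∀ v w, q (v * w) = q v * q w * B v w := by
      intro v w
      obtain ⟨x, rfl⟩ := QuotientGroup.mk_surjective v
      obtain ⟨y, rfl⟩ := QuotientGroup.mk_surjective w
      show π ⟨x * y * (x * y), _⟩ = π ⟨x * x, _⟩ * π ⟨y * y, _⟩ * π (c x y)
      rw [← map_mul, ← map_mul]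
      congr 1
      apply Subtype.ext
      show x * y * (x * y) = x * x * (y * y) * (c x y : X)
      calc x * y * (x * y) = x * x * (c x y : X) * (y * y) := by
            show _ = x * x * ⁅x⁻¹, y⁆ * (y * y)
            group
        _ = _ := by rw [mul_assoc, ← hFcomm (c x y) (y * y), ← mul_assoc]
    have hq0 : ∀ v, q v = 1 → v = 1 := by
      intro v hv
      obtain ⟨x, rfl⟩ := QuotientGroup.mk_surjective v
      obtain ⟨f, hf⟩ := (QuotientGroup.eq_one_iff (⟨x * x, hsq x⟩ : F)).1 hv
      have hf' : (f : X) * f = x * x := by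
        have := congrArg Subtype.val hf
        simpa [sq] using this
      have h1 : x * (f : X)⁻¹ ∈ F := fun d => hρ d _ (by
        calc x * (f : X)⁻¹ * (x * (f : X)⁻¹) = x * ((f : X)⁻¹ * x) * (f : X)⁻¹ := by group
          _ = x * (x * (f : X)⁻¹) * (f : X)⁻¹ := by
            rw [← hFcomm ⟨_, inv_mem f.2⟩ x]
          _ = x * x * ((f : X) * f)⁻¹ := by group
          _ = 1 := by rw [hf', mul_inv_cancel])
      exact (QuotientGroup.eq_one_iff x).2 (by simpa using mul_mem h1 f.2)
    -- the action on the quotient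
    have hmap : ∀ d, F.map (ρ d).toMonoidHom = F := by
      intro d
      ext x
      constructor
      · rintro ⟨y, hy, rfl⟩
        show ρ d y ∈ F
        rw [(hy : ∀ d, ρ d y = y) d]; exact hy
      · intro hx; exact ⟨x, hx, (hx : ∀ d, ρ d x = x) d⟩
    let τ : D →* MulAut (X ⧸ F) :=
      { toFun := fun d => QuotientGroup.congr F F (ρ d) (hmap d)
        map_one' := MulEquiv.ext fun v => by
          obtain ⟨x, rfl⟩ := QuotientGroup.mk_surjective v
          show ((ρ 1 x : X) : X ⧸ F) = _
          rw [map_one]; rfl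
        map_mul' := fun a b => MulEquiv.ext fun v => by
          obtain ⟨x, rfl⟩ := QuotientGroup.mk_surjective v
          show ((ρ (a * b) x : X) : X ⧸ F) = ((ρ a (ρ b x) : X) : X ⧸ F)
          rw [map_mul]; rfl }
    have hτ : ∀ h ∈ τ.range, ∀ v, q (h v) = q v := by
      rintro _ ⟨d, rfl⟩ v
      obtain ⟨x, rfl⟩ := QuotientGroup.mk_surjective v
      show π ⟨ρ d x * ρ d x, _⟩ = π ⟨x * x, _⟩
      congr 1
      apply Subtype.ext
      show ρ d x * ρ d x = x * x
      rw [← map_mul]
      exact hsq x d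
    have hperf : commutator τ.range = ⊤ := by
      refine eq_top_iff.2 fun y _ => ?_
      obtain ⟨d, rfl⟩ := τ.rangeRestrict_surjective y
      have hmem : τ.rangeRestrict d ∈ (commutator D).map τ.rangeRestrict := ⟨d, by rw [hD]; trivial, rfl⟩
      rw [commutator_def, map_commutator] at hmem
      exact commutator_mono le_top le_top hmem
    have hall : (∀ d x, ((ρ d x : X) : X ⧸ F) = x) → False := fun h => hcon (hdisp fun d x d' => by
      have : x⁻¹ * ρ d x ∈ F := QuotientGroup.eq.1 (h d x).symm
      exact this d')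
    by_cases hR : ∀ v, (∀ w, B v w = 1) → v = 1
    · have hbot := perfect_eq_bot hV hW q B hq hq0 hR hτ hperf hFT
      refine hall fun d x => ?_
      have : τ d = 1 := mem_bot.1 (hbot.le ⟨d, rfl⟩)
      exact DFunLike.congr_fun this (x : X ⧸ F)
    · -- the radical is everything, so `q` is an injective homomorphism
      have hKinv : ∀ d, ∀ x ∈ B.ker.comap (QuotientGroup.mk' F), ρ d x ∈ B.ker.comap (QuotientGroup.mk' F) := by
        intro d x hx
        refine MonoidHom.mem_ker.2 (MonoidHom.ext fun w => ?_)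
        obtain ⟨z, rfl⟩ := QuotientGroup.mk_surjective w
        obtain ⟨y, rfl⟩ := (ρ d).surjective z
        have hxy : B (x : X ⧸ F) (y : X ⧸ F) = 1 := DFunLike.congr_fun (MonoidHom.mem_ker.1 hx) _
        have e := hq (τ d (x : X ⧸ F)) (τ d (y : X ⧸ F))
        rw [← map_mul, hτ _ ⟨d, rfl⟩, hτ _ ⟨d, rfl⟩, hτ _ ⟨d, rfl⟩, hq,
          hxy] at e
        exact (mul_left_cancel e).symm
      have hK : B.ker.comap (QuotientGroup.mk' F) = ⊤ := by
        by_contra hne
        refine hR fun v hv => ?_
        obtain ⟨x, rfl⟩ := QuotientGroup.mk_surjective v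
        exact (QuotientGroup.eq_one_iff x).2 fun d => hprop _ hne hKinv d x
          (MonoidHom.mem_ker.2 (MonoidHom.ext hv))
      refine hall fun d x => ?_
      have hB : ∀ w, B (x : X ⧸ F) w = 1 := fun w =>
        DFunLike.congr_fun (MonoidHom.mem_ker.1 (hK.ge (mem_top x))) w
      have h1 : q ((x : X ⧸ F) * (ρ d x : X)) = 1 := by
        rw [hq, hB, mul_one, show ((ρ d x : X) : X ⧸ F) = τ d (x : X ⧸ F) from rfl, hτ _ ⟨d, rfl⟩]
        exact hW _
      rw [← mul_right_inj (x : X ⧸ F), hq0 _ h1]
      exact (hV _).symm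

/-- The automorphisms of a 2-group fixing all elements squaring to one form a solvable group. -/
theorem solvable_of_fix {X : Type u} [Group X] [Finite X] (hX : IsPGroup 2 X)
    (hFT : ∀ (K : Type u) [Group K] [Finite K], Odd (Nat.card K) → Group.IsSolvable K)
    (H : Subgroup (MulAut X)) (hH : ∀ h ∈ H, ∀ x : X, x * x = 1 → h x = x) :
    Group.IsSolvable H := by
  refine solvable_of_perfect fun D hD => eq_bot_iff.2 fun d hd => mem_bot.2 (Subtype.ext ?_)
  refine MulEquiv.ext fun x => ?_
  exact fix_aux hFT hD (Nat.card X) X le_rfl hX (H.subtype.comp D.subtype)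
    (fun d x hx => hH _ (d : H).2 x hx) ⟨d, hd⟩ x

end CfsgLib.LocalEvenB.QuadraticFix
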