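import Cfsg.Agent.Lib.Components.GlaubermanAut
import Cfsg.Agent.Lib.LocalEvenB.QuadraticFix
import Cfsg.Agent.Lib.LocalEvenB.TransitiveNormal

/-!
Outer automorphism groups of simple groups with small or uniform Sylow 2-subgroups are solvable.
-/

set_option autoImplicit false
set_option linter.style.haveILetI false
set_option linter.unusedSectionVars false
set_option linter.style.show false

namespace CfsgLib.LocalEvenB.OutSolvable

open Subgroup

universe u

/-- Solvability of an image from an auxiliary homomorphism. -/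
theorem range_solvable {A P Q : Type*} [Group A] [Group P] [Group Q] (f : A →* P) (ε : A →* Q)
    (h1 : Group.IsSolvable ε.range) (h2 : Group.IsSolvable (ε.ker.map f)) :
    Group.IsSolvable f.range := by
  let M : Subgroup f.range := ε.ker.map f.rangeRestrict
  haveI : M.Normal := Subgroup.Normal.map inferInstance _ f.rangeRestrict_surjective
  haveI := h1
  haveI := h2
  haveI : Group.IsSolvable M := solvable_of_solvable_injective
    (f := (f.range.subtype.comp M.subtype).codRestrict (ε.ker.map f) fun x => by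
      obtain ⟨a, ha, hax⟩ := x.2
      exact ⟨a, ha, congrArg Subtype.val hax⟩)
    (fun a b h => Subtype.ext (Subtype.ext (congrArg (fun t : ε.ker.map f => (t : P)) h)))
  haveI : Group.IsSolvable (A ⧸ ε.ker) := solvable_of_solvable_injective
    (f := (QuotientGroup.quotientKerEquivRange ε).toMonoidHom)
    (QuotientGroup.quotientKerEquivRange ε).injective
  haveI : Group.IsSolvable (f.range ⧸ M) := solvable_of_surjective
    (f := QuotientGroup.map ε.ker M f.rangeRestrict (fun a ha => ⟨a, ha, rfl⟩)) (by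
      intro v
      obtain ⟨y, rfl⟩ := QuotientGroup.mk_surjective v
      obtain ⟨a, rfl⟩ := f.rangeRestrict_surjective y
      exact ⟨a, rfl⟩)
  exact solvable_of_ker_le_range M.subtype (QuotientGroup.mk' M)
    (by rw [QuotientGroup.ker_mk', Subgroup.range_subtype])

variable {G : Type u} [Group G] [Finite G]

/-- The commuting involutions of a Sylow 2-subgroup, all conjugate. -/
theorem range_solvable_of_one_class (S : Sylow 2 G)
    (hFT : ∀ (H : Type u) [Group H] [Finite H], Odd (Nat.card H) → Group.IsSolvable H)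
    (hcomm : ∀ s ∈ S, ∀ t ∈ S, orderOf s = 2 → orderOf t = 2 → s * t = t * s)
    (hconj : ∀ s ∈ S, ∀ t ∈ S, orderOf s = 2 → orderOf t = 2 → ∃ g : G, g * s * g⁻¹ = t) :
    Group.IsSolvable (CfsgLib.Components.GlaubermanAut.res S).range := by
  haveI : Fact (Nat.Prime 2) := ⟨Nat.prime_two⟩
  have hord : ∀ s : G, s * s = 1 → s ≠ 1 → orderOf s = 2 := fun s h h1 =>
    orderOf_eq_prime (by rw [sq, h]) h1
  have hcomm' : ∀ s ∈ S, ∀ t ∈ S, s * s = 1 → t * t = 1 → s * t = t * s := by
    intro s hs t ht h1 h2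
    rcases eq_or_ne s 1 with rfl | hs1
    · rw [one_mul, mul_one]
    rcases eq_or_ne t 1 with rfl | ht1
    · rw [one_mul, mul_one]
    exact hcomm s hs t ht (hord s h1 hs1) (hord t h2 ht1)
  let E : Subgroup G :=
    { carrier := {s | s ∈ (S : Subgroup G) ∧ s * s = 1}
      one_mem' := ⟨one_mem _, one_mul 1⟩
      mul_mem' := fun {a b} ha hb => ⟨mul_mem ha.1 hb.1, by
        rw [mul_assoc, ← mul_assoc b, ← hcomm' a ha.1 b hb.1 ha.2 hb.2, mul_assoc a b b, hb.2, mul_one, ha.2]⟩
      inv_mem' := fun {a} ha => ⟨inv_mem ha.1, by rw [← mul_inv_rev, ha.2, inv_one]⟩ }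
  letI : CommGroup E :=
    { (inferInstance : Group E) with
      mul_comm := fun a b => Subtype.ext (hcomm' a a.2.1 b b.2.1 a.2.2 b.2.2) }
  have hE : ∀ e : E, e * e = 1 := fun e => Subtype.ext e.2.2
  let X : Subgroup (MulAut E) := E.normalizerMonoidHom.range
  -- the action of the stabiliser of `S`
  let A := CfsgLib.Components.GlaubermanAut.stabAut S
  have hA : ∀ φ ∈ A, ∀ s : G, φ s ∈ E ↔ s ∈ E := by
    intro φ hφ s
    refine and_congr (hφ s) ?_
    rw [← map_mul, MulEquiv.map_eq_one_iff]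
  let ε : A →* MulAut E :=
    { toFun := fun φ =>
        { toFun := fun e => ⟨(φ : MulAut G) e, (hA φ φ.2 e).2 e.2⟩
          invFun := fun e => ⟨(φ : MulAut G).symm e, by
            rw [← hA φ φ.2, MulEquiv.apply_symm_apply]; exact e.2⟩
          left_inv := fun e => Subtype.ext ((φ : MulAut G).symm_apply_apply (e : G))
          right_inv := fun e => Subtype.ext ((φ : MulAut G).apply_symm_apply (e : G))
          map_mul' := fun a b => Subtype.ext (map_mul (φ : MulAut G) (a : G) b) }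
      map_one' := MulEquiv.ext fun _ => rfl
      map_mul' := fun _ _ => MulEquiv.ext fun _ => rfl }
  -- weak closure of `E`
  have hweak : ∀ g h : G, ∀ T : Subgroup G, IsPGroup 2 T → (∀ e ∈ E, g * e * g⁻¹ ∈ T) →
      (∀ e ∈ E, h * e * h⁻¹ ∈ T) → ∀ e ∈ E, (h⁻¹ * g) * e * (h⁻¹ * g)⁻¹ ∈ E := by
    intro g h T hT hg hh e he
    obtain ⟨S', hS'⟩ := hT.exists_le_sylow
    obtain ⟨k, hk⟩ := MulAction.exists_smul_eq G S' S
    have hmem : ∀ y : G, (∀ e ∈ E, y * e * y⁻¹ ∈ T) → ∀ e ∈ E, (k * y) * e * (k * y)⁻¹ ∈ E := by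
      intro y hy e he
      refine ⟨?_, ?_⟩
      · rw [← hk, Sylow.coe_subgroup_smul]
        exact ⟨y * e * y⁻¹, hS' (hy e he), by
          show k * (y * e * y⁻¹) * k⁻¹ = _
          group⟩
      · rw [conj_mul, he.2, mul_one, mul_inv_cancel]
    have hnorm : ∀ y : G, (∀ e ∈ E, y * e * y⁻¹ ∈ E) → ∀ e ∈ E, y⁻¹ * e * y ∈ E := by
      intro y hy e he
      have hy' : (Nat.card (E.map (MulAut.conj y).toMonoidHom)) = Nat.card E :=
        card_map_of_injective (MulAut.conj y).injective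
      have heq : E.map (MulAut.conj y).toMonoidHom = E :=
        eq_of_le_of_card_ge (by rintro _ ⟨x, hx, rfl⟩; exact hy x hx) hy'.ge
      obtain ⟨x, hx, rfl⟩ := heq.ge he
      show y⁻¹ * (y * x * y⁻¹) * y ∈ E
      rwa [show y⁻¹ * (y * x * y⁻¹) * y = x by group]
    have := hnorm (k * h) (hmem h hh) _ (hmem g hg e he)
    convert this using 1
    group
  have htr : ∀ e f : E, e ≠ 1 → f ≠ 1 → ∃ x ∈ X, x e = f := by
    intro e f he hf
    obtain ⟨g, hg⟩ := hconj e e.2.1 f f.2.1
      (hord e e.2.2 fun h => he (Subtype.ext h)) (hord f f.2.2 fun h => hf (Subtype.ext h))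
    set Cf := centralizer ({(f : G)} : Set G)
    have hEC : E ≤ Cf := fun x hx => mem_centralizer_singleton_iff.2
      (hcomm' x hx.1 f f.2.1 hx.2 f.2.2)
    have hEgC : E.map (MulAut.conj g).toMonoidHom ≤ Cf := by
      rintro _ ⟨x, hx, rfl⟩
      refine mem_centralizer_singleton_iff.2 ?_
      show g * x * g⁻¹ * f = f * (g * x * g⁻¹)
      rw [← hg, conj_mul, conj_mul, hcomm' x hx.1 e e.2.1 hx.2 e.2.2]
    have h2E : IsPGroup 2 E := fun x => ⟨1, by rw [pow_one, sq, hE]⟩
    obtain ⟨T1, hT1⟩ := (h2E.of_equiv (subgroupOfEquivOfLe hEC).symm).exists_le_sylow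
    obtain ⟨T2, hT2⟩ :=
      ((h2E.map (MulAut.conj g).toMonoidHom).of_equiv (subgroupOfEquivOfLe hEgC).symm).exists_le_sylow
    obtain ⟨c, hc⟩ := MulAction.exists_smul_eq Cf T2 T1
    have hall : ∀ x ∈ E, ((c : G) * g) * x * ((c : G) * g)⁻¹ ∈ E := by
      intro x hx
      have h := hweak ((c : G) * g) 1 ((T1 : Subgroup Cf).map Cf.subtype) (T1.2.map _) ?_ ?_ x hx
      · simpa using h
      · intro y hy
        refine ⟨c * ⟨g * y * g⁻¹, hEgC ⟨y, hy, rfl⟩⟩ * c⁻¹, ?_, ?_⟩
        · rw [← hc, Sylow.coe_subgroup_smul]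
          exact ⟨⟨g * y * g⁻¹, hEgC ⟨y, hy, rfl⟩⟩, hT2 ⟨y, hy, rfl⟩, rfl⟩
        · show (c : G) * (g * y * g⁻¹) * (c : G)⁻¹ = _
          group
      · intro y hy
        exact ⟨⟨y, hEC hy⟩, hT1 hy, by simp⟩
    have hn : (c : G) * g ∈ normalizer (E : Set G) := by
      have heq : E.map (MulAut.conj ((c : G) * g)).toMonoidHom = E :=
        eq_of_le_of_card_ge (by rintro _ ⟨x, hx, rfl⟩; exact hall x hx)
          (card_map_of_injective (MulAut.conj ((c : G) * g)).injective).ge
      refine mem_normalizer_iff.2 fun x => ⟨hall x, fun h => ?_⟩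
      obtain ⟨y, hy, hyx⟩ := heq.ge h
      obtain rfl : y = x := mul_left_cancel (mul_right_cancel hyx)
      exact hy
    refine ⟨_, ⟨⟨_, hn⟩, rfl⟩, Subtype.ext ?_⟩
    show (c : G) * g * e * ((c : G) * g)⁻¹ = f
    calc (c : G) * g * e * ((c : G) * g)⁻¹ = (c : G) * (g * e * g⁻¹) * (c : G)⁻¹ := by group
      _ = f := by rw [hg, mem_centralizer_singleton_iff.1 c.2, mul_inv_cancel_right]
  -- `ε.range` normalises `X`
  have hN : ∀ φ ∈ A, ∀ n ∈ normalizer (E : Set G), φ n ∈ normalizer (E : Set G) := by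
    intro φ hφ n hn
    refine mem_normalizer_iff.2 fun x => ?_
    obtain ⟨y, rfl⟩ := φ.surjective x
    change φ y ∈ E ↔ φ n * φ y * (φ n)⁻¹ ∈ E
    rw [← map_inv, ← map_mul, ← map_mul, hA φ hφ, hA φ hφ]
    exact mem_normalizer_iff.1 hn y
  have hεn : ∀ (φ : A) (n : normalizer (E : Set G)),
      ε φ * E.normalizerMonoidHom n * (ε φ)⁻¹ =
        E.normalizerMonoidHom ⟨(φ : MulAut G) n, hN φ φ.2 n n.2⟩ := by
    intro φ n
    refine MulEquiv.ext fun e => Subtype.ext ?_
    show (φ : MulAut G) ((n : G) * (φ : MulAut G).symm e * (n : G)⁻¹) =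
      (φ : MulAut G) n * e * ((φ : MulAut G) n)⁻¹
    rw [map_mul, map_mul, map_inv, MulEquiv.apply_symm_apply]
  have hB : ε.range ≤ normalizer (X : Set (MulAut E)) := by
    rintro _ ⟨φ, rfl⟩
    refine mem_normalizer_iff.2 fun x => ⟨?_, ?_⟩
    · rintro ⟨n, rfl⟩
      exact ⟨_, (hεn φ n).symm⟩
    · rintro ⟨n, hn⟩
      refine ⟨⟨((φ⁻¹ : A) : MulAut G) n, hN _ (φ⁻¹ : A).2 n n.2⟩, ?_⟩
      rw [← hεn, map_inv, inv_inv, hn]
      group
  -- `X ⊓ ε.range` normalises the image of `S`
  have hSN : (S : Subgroup G) ≤ normalizer (E : Set G) := by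
    intro s hs
    refine mem_normalizer_iff.2 fun x => ?_
    show _ ∧ _ ↔ _ ∧ _
    rw [conj_mul, conj_eq_one_iff]
    exact and_congr_left fun _ => by
      rw [mul_mem_cancel_right (inv_mem hs), mul_mem_cancel_left hs]
  let T : Sylow 2 X := (S.subtype hSN).mapSurjective E.normalizerMonoidHom.rangeRestrict_surjective
  have hTmem : ∀ x : X, x ∈ (T : Subgroup X) ↔
      ∃ s : normalizer (E : Set G), (s : G) ∈ S ∧ E.normalizerMonoidHom.rangeRestrict s = x := by
    intro x
    exact Iff.rfl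
  have hsol : Group.IsSolvable (normalizer (T : Set X)) := by
    set M := normalizer (T : Set X)
    haveI : ((T : Subgroup X).subgroupOf M).Normal := normal_in_normalizer
    haveI : Group.IsNilpotent ((T : Subgroup X).subgroupOf M) :=
      (T.2.of_equiv (subgroupOfEquivOfLe le_normalizer).symm).isNilpotent
    haveI : Group.IsSolvable (M ⧸ (T : Subgroup X).subgroupOf M) := hFT _ (by
      rw [← Subgroup.index]
      refine Nat.not_even_iff_odd.1 fun h => T.not_dvd_index ?_
      exact (even_iff_two_dvd.1 h).trans (Dvd.intro _ (relIndex_mul_index le_normalizer)))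
    exact solvable_of_ker_le_range ((T : Subgroup X).subgroupOf M).subtype
      (QuotientGroup.mk' ((T : Subgroup X).subgroupOf M)) (by rw [QuotientGroup.ker_mk', Subgroup.range_subtype])
  have hcap : Group.IsSolvable (X ⊓ ε.range : Subgroup (MulAut E)) := by
    haveI := hsol
    refine solvable_of_solvable_injective
      (f := (Subgroup.inclusion (inf_le_left : X ⊓ ε.range ≤ X)).codRestrict (normalizer (T : Set X))
        fun x => ?_) (fun a b h => inclusion_injective _ (congrArg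
          (fun t : normalizer (T : Set X) => (t : X)) h))
    have key : ∀ φ : A, ∀ y : X, ∀ hy : (y : MulAut E) = ε φ, ∀ t ∈ (T : Subgroup X),
        y * t * y⁻¹ ∈ (T : Subgroup X) := by
      intro φ y hy t ht
      obtain ⟨s, hs, rfl⟩ := (hTmem t).1 ht
      refine (hTmem _).2 ⟨⟨(φ : MulAut G) s, hN φ φ.2 s s.2⟩, (φ.2 s).2 hs, Subtype.ext ?_⟩
      show E.normalizerMonoidHom _ = (y : MulAut E) * E.normalizerMonoidHom s * (y : MulAut E)⁻¹
      rw [hy, hεn]
    obtain ⟨φ, hφ⟩ := x.2.2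
    refine mem_normalizer_iff.2 fun t => ⟨key φ _ hφ.symm t, fun h => ?_⟩
    have := key φ⁻¹ (Subgroup.inclusion inf_le_left x)⁻¹ (by simp [hφ]) _ h
    simpa [mul_assoc] using this
  have hrange : Group.IsSolvable ε.range :=
    TransitiveNormal.main hE X htr ε.range hB hcap
  refine range_solvable _ ε hrange (QuadraticFix.solvable_of_fix S.2 hFT _ ?_)
  rintro _ ⟨φ, hφ, rfl⟩ x hx
  have hxE : (x : G) ∈ E := ⟨x.2, congrArg Subtype.val hx⟩
  exact Subtype.ext (congrArg (fun a : E => (a : G)) (DFunLike.congr_fun (MonoidHom.mem_ker.1 hφ) ⟨x, hxE⟩))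

/-- The three sufficient conditions for a solvable outer automorphism group. -/
theorem main [IsSimpleGroup G]
    (hFT : ∀ (H : Type u) [Group H] [Finite H], Odd (Nat.card H) → Group.IsSolvable H)
    (S : Sylow 2 G) (hS1 : (S : Subgroup G) ≠ ⊥)
    (h : (∃ a b : ↥S, Subgroup.closure ({a, b} : Set ↥S) = ⊤) ∨
      ((∃ a b c : ↥S, Subgroup.closure ({a, b, c} : Set ↥S) = ⊤) ∧
        ∃ g ∈ Subgroup.normalizer ((S : Subgroup G) : Set G), Odd (orderOf g) ∧
          g ∉ Subgroup.centralizer ((S : Subgroup G) : Set G)) ∨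
      ((∀ s ∈ S, ∀ t ∈ S, orderOf s = 2 → orderOf t = 2 → s * t = t * s) ∧
        (∀ s ∈ S, ∀ t ∈ S, orderOf s = 2 → orderOf t = 2 → ∃ g : G, g * s * g⁻¹ = t))) :
    Group.IsSolvable (Cfsg.Out G) := by
  haveI : Fact (Nat.Prime 2) := ⟨Nat.prime_two⟩
  have hO : ∀ N : Subgroup G, N.Normal → Odd (Nat.card N) → N = ⊥ := by
    intro N hN hodd
    refine hN.eq_bot_or_eq_top.resolve_right fun htop => hS1 ?_
    obtain ⟨k, hk⟩ := IsPGroup.iff_card.1 S.2
    have hd : Odd (Nat.card (S : Subgroup G)) :=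
      Odd.of_dvd_nat (by rw [htop, card_top] at hodd; exact hodd) (card_subgroup_dvd_card _)
    rcases Nat.eq_zero_or_pos k with rfl | hk0
    · exact card_eq_one.1 (by rw [hk, pow_zero])
    · exact absurd hd (Nat.not_odd_iff_even.2 (hk ▸ (Nat.even_pow.2 ⟨even_two, hk0.ne'⟩)))
  refine CfsgLib.Components.GlaubermanAut.out_solvable hO S hFT ?_
  rcases h with ⟨a, b, hab⟩ | ⟨⟨a, b, c, habc⟩, g, hg, hodd, hgc⟩ | ⟨h1, h2⟩
  · haveI := CfsgLib.Components.GlaubermanAut.aut_solvable_of_two S.2 a b hab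
    infer_instance
  · exact CfsgLib.Components.GlaubermanAut.range_solvable_of_three S a b c habc hg hodd hgc
  · exact range_solvable_of_one_class S hFT h1 h2

end CfsgLib.LocalEvenB.OutSolvable
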