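import Cfsg.Agent.Lib.LocalEvenB.ThreeClasses
import Cfsg.Agent.Lib.SmallGroups.JordanCycle

/-!
# Permutation groups containing the even part of a perfect matching group

`Good H σ`: `σ` is an involution moving all points but at most one and `H` contains every product
of two of its transpositions.  If `F*(H)` is quasisimple and `n ≥ 8`, then `F*(H)` is alternating on
at least `2⌊n/2⌋ - 2` points.
-/

set_option autoImplicit false
set_option linter.unusedSectionVars false
set_option linter.style.haveILetI false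

namespace CfsgLib.LocalEvenB.PairClasses

open Equiv Cfsg.Agent.KnownC.AnHall CfsgLib.Components ThreeClasses

variable {α : Type*} [Fintype α] [DecidableEq α] (H : Subgroup (Perm α))

/-- a matching whose even products lie in `H` -/
structure Good (σ : Perm α) : Prop where
  inv : ∀ z, σ (σ z) = z
  card : 2 * (Fintype.card α / 2) ≤ σ.support.card
  pair : ∀ a b, σ a ≠ a → σ b ≠ b → swap a (σ a) * swap b (σ b) ∈ H

/-- moved by a three-cycle of `H` -/
def Mv (z : α) : Prop := ∃ x ∈ T H, x z ≠ z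

variable {H}

theorem mv_smul {g : Perm α} (hg : g ∈ H) {z : α} (h : Mv H z) : Mv H (g z) := by
  obtain ⟨x, hx, hxz⟩ := h
  refine ⟨g * x * g⁻¹, ⟨H.mul_mem (H.mul_mem hg hx.1) (H.inv_mem hg), three_conj hx.2 g⟩, ?_⟩
  rw [Cfsg.Agent.KnownC.AnHall.conj_apply]
  exact fun e => hxz (g.injective e)

theorem mv_smul_iff {g : Perm α} (hg : g ∈ H) (z : α) : Mv H (g z) ↔ Mv H z := by
  refine ⟨fun h => ?_, mv_smul hg⟩
  have := mv_smul (H.inv_mem hg) h
  rwa [show g⁻¹ (g z) = z from g.symm_apply_apply z] at this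

namespace Good

variable {σ σ' : Perm α} (hσ : Good H σ)
include hσ

theorem conj {g : Perm α} (hg : g ∈ H) : Good H (g * σ * g⁻¹) := by
  refine ⟨fun z => ?_, ?_, fun a b ha hb => ?_⟩
  · simp only [Perm.mul_apply]
    rw [show g⁻¹ (g (σ (g⁻¹ z))) = σ (g⁻¹ z) from g.symm_apply_apply _, hσ.inv]
    exact g.apply_symm_apply z
  · rw [Perm.card_support_conj]; exact hσ.card
  · obtain ⟨a', rfl⟩ := g.surjective a
    obtain ⟨b', rfl⟩ := g.surjective b
    rw [Cfsg.Agent.KnownC.AnHall.conj_apply] at ha hb ⊢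
    rw [Cfsg.Agent.KnownC.AnHall.conj_apply, swap_apply_apply, swap_apply_apply]
    have := H.mul_mem (H.mul_mem hg (hσ.pair a' b' (fun e => ha (by rw [e])) (fun e => hb (by rw [e]))))
      (H.inv_mem hg)
    convert this using 1
    group

theorem ne_of_moved {z : α} (hz : σ z ≠ z) : σ (σ z) ≠ σ z := fun e => hz (σ.injective e)

theorem exists_off (hn : 8 ≤ Fintype.card α) (s : Finset α) (hs : s.card ≤ 7) :
    ∃ d, σ d ≠ d ∧ d ∉ s := by
  by_contra h
  push Not at h
  have : σ.support ⊆ s := fun d hd => h d (Perm.mem_support.mp hd)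
  have := Finset.card_le_card this
  have := hσ.card
  omega

/-- the pair of a point stays inside or outside the moved points -/
theorem mv_iff (hn : 8 ≤ Fintype.card α) {z : α} (hz : σ z ≠ z) : Mv H (σ z) ↔ Mv H z := by
  obtain ⟨d, hd, hdn⟩ := hσ.exists_off hn {z, σ z} (by
    refine (Finset.card_le_two).trans (by omega))
  simp only [Finset.mem_insert, Finset.mem_singleton, not_or] at hdn
  have hd1 : σ d ≠ z := fun e => hdn.2 (by rw [← e, hσ.inv])
  have e : (swap z (σ z) * swap d (σ d)) z = σ z := by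
    rw [Perm.mul_apply, swap_apply_of_ne_of_ne (Ne.symm hdn.1) hd1.symm, swap_apply_left]
  have := mv_smul_iff (hσ.pair z d hz hd) z
  rwa [e] at this

/-- at most one point is fixed -/
theorem fixed_unique {y z : α} (hy : σ y = y) (hz : σ z = z) : y = z := by
  by_contra hne
  have h1 : σ.support ⊆ ((Finset.univ.erase y).erase z) := fun d hd => by
    have := Perm.mem_support.mp hd
    simp only [Finset.mem_erase, Finset.mem_univ, and_true]
    exact ⟨fun e => this (by rw [e, hz]), fun e => this (by rw [e, hy])⟩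
  have := Finset.card_le_card h1
  rw [Finset.card_erase_of_mem (by simp [Ne.symm hne]),
    Finset.card_erase_of_mem (Finset.mem_univ y), Finset.card_univ] at this
  have := hσ.card
  have : 1 < Fintype.card α := Fintype.one_lt_card_iff.mpr ⟨y, z, hne⟩
  omega

variable (hσ' : Good H σ')
include hσ'

/-- If two matchings share a pair, they agree outside the moved points. -/
theorem agree_of_shared {x₀ : α} (hx₀ : σ x₀ ≠ x₀) (he : σ' x₀ = σ x₀) {b : α} (hbW : ¬ Mv H b)
    (hb : σ b ≠ b) (hb' : σ' b ≠ b) : σ' b = σ b := by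
  by_contra hne
  have hx₀' : σ' x₀ ≠ x₀ := he.trans_ne hx₀
  have h1 := hσ.pair b x₀ hb hx₀
  have h2 := hσ'.pair b x₀ hb' hx₀'
  rw [he] at h2
  have h3 : swap b (σ b) * swap b (σ' b) ∈ H := by
    have e : swap b (σ b) * swap b (σ' b) =
        (swap b (σ b) * swap x₀ (σ x₀)) * (swap b (σ' b) * swap x₀ (σ x₀))⁻¹ := by
      rw [mul_inv_rev, swap_inv, swap_inv, mul_assoc, swap_mul_self_mul]
    rw [e]; exact H.mul_mem h1 (H.inv_mem h2)
  apply hbW
  refine ⟨_, ⟨h3, Perm.isThreeCycle_swap_mul_swap_same (Ne.symm hb) (Ne.symm hb') (Ne.symm hne)⟩, ?_⟩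
  rw [Perm.mul_apply, swap_apply_left, swap_apply_of_ne_of_ne hb' hne]
  exact hb'

/-- the same, also for fixed points -/
theorem eq_of_shared (hn : 8 ≤ Fintype.card α) {x₀ : α} (hx₀ : σ x₀ ≠ x₀) (he : σ' x₀ = σ x₀)
    {b : α} (hbW : ¬ Mv H b) : σ' b = σ b := by
  by_cases hb : σ b = b <;> by_cases hb' : σ' b = b
  · rw [hb, hb']
  · -- `σ' b` is moved by `σ`
    exfalso
    set y := σ' b
    have hy : σ y ≠ y := fun e => hb' (hσ.fixed_unique e hb)
    have hyW : ¬ Mv H y := fun h => hbW ((hσ'.mv_iff hn hb').mp h)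
    have hy' : σ' y ≠ y := hσ'.ne_of_moved hb'
    have := hσ.agree_of_shared hσ' hx₀ he hyW hy hy'
    rw [hσ'.inv] at this
    exact hy (by
      have h2 := congrArg σ this
      rw [hσ.inv, hb] at h2
      rw [← h2]; exact hb)
  · exfalso
    set y := σ b
    have hy' : σ' y ≠ y := fun e => hb (hσ'.fixed_unique e hb')
    have hyW : ¬ Mv H y := fun h => hbW ((hσ.mv_iff hn hb).mp h)
    have hy : σ y ≠ y := hσ.ne_of_moved hb
    have := hσ.agree_of_shared hσ' hx₀ he hyW hy hy'
    rw [hσ.inv] at this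
    exact hy' (by
      have h2 := congrArg σ' this
      rw [hσ'.inv, hb'] at h2
      rw [h2]; exact hb')
  · exact hσ.agree_of_shared hσ' hx₀ he hbW hb hb'

/-- The counting step: two pairs of each matching give a three-cycle unless they meet. -/
theorem key (hno : ∀ x, σ x ≠ x → σ' x ≠ σ x) {b d : α} (hbW : ¬ Mv H b) (hb : σ b ≠ b)
    (hb' : σ' b ≠ b) (hd : σ d ≠ d) (hd1 : d ∉ ({σ b, b, σ' b} : Finset α))
    (hd2 : σ d ∉ ({σ b, b, σ' b} : Finset α)) :
    (σ'.support.erase b).erase (σ' b) ⊆ {σ b, d, σ d, σ' (σ b), σ' d, σ' (σ d)} := by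
  intro x hx
  simp only [Finset.mem_erase, Perm.mem_support] at hx
  obtain ⟨hxc, hxb, hx⟩ := hx
  by_contra hcon
  simp only [Finset.mem_insert, Finset.mem_singleton, not_or] at hcon hd1 hd2
  obtain ⟨x1, x2, x3, x4, x5, x6⟩ := hcon
  set a := σ b with ha
  set c := σ' b with hc
  set y := σ' x with hy
  have y1 : y ≠ a := fun e => x4 (by rw [← e, hy, hσ'.inv])
  have y2 : y ≠ d := fun e => x5 (by rw [← e, hy, hσ'.inv])
  have y3 : y ≠ σ d := fun e => x6 (by rw [← e, hy, hσ'.inv])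
  have y4 : y ≠ b := fun e => hxc (by rw [hc, ← e, hy, hσ'.inv])
  have y5 : y ≠ c := fun e => hxb (σ'.injective (hy ▸ e))
  have hca : c ≠ a := hno b hb
  have h1 := hσ.pair b d hb hd
  have h2 := hσ'.pair b x hb' hx
  set u := swap b a * swap d (σ d) with hu
  set v := swap b c * swap x y with hv
  have hu1 : ∀ z, u z ≠ z → z = b ∨ z = a ∨ z = d ∨ z = σ d := by
    intro z hz
    by_contra h
    push Not at h
    exact hz (by rw [hu, Perm.mul_apply, swap_apply_of_ne_of_ne h.2.2.1 h.2.2.2,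
      swap_apply_of_ne_of_ne h.1 h.2.1])
  have hv1 : ∀ z, v z ≠ z → z = b ∨ z = c ∨ z = x ∨ z = y := by
    intro z hz
    by_contra h
    push Not at h
    exact hz (by rw [hv, Perm.mul_apply, swap_apply_of_ne_of_ne h.2.2.1 h.2.2.2,
      swap_apply_of_ne_of_ne h.1 h.2.1])
  have hub : u b = a := by
    rw [hu, Perm.mul_apply, swap_apply_of_ne_of_ne (Ne.symm hd1.2.1) (Ne.symm hd2.2.1), swap_apply_left]
  have hvb : v b = c := by
    rw [hv, Perm.mul_apply, swap_apply_of_ne_of_ne (Ne.symm hxb) y4.symm, swap_apply_left]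
  have huc : u c = c := by
    by_contra h
    rcases hu1 c h with e | e | e | e
    exacts [hb' e, hca e, hd1.2.2 e.symm, hd2.2.2 e.symm]
  have hvc : v c = b := by
    rw [hv, Perm.mul_apply, swap_apply_of_ne_of_ne (Ne.symm hxc) y5.symm, swap_apply_right]
  have h3 : (u * v * u⁻¹ * v⁻¹).IsThreeCycle := by
    refine CfsgLib.SmallGroups.JordanCycle.isThreeCycle_commutator (a := b) (by rw [hub]; exact hb)
      (by rw [hvb]; exact hb') fun z hz1 hz2 => ?_
    rcases hu1 z hz1 with e | e | e | e <;> rcases hv1 z hz2 with e' | e' | e' | e'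
    all_goals first
      | exact e
      | exact e'
      | (exfalso; subst e
         first
          | exact hca e'.symm | exact x1 e'.symm | exact y1 e'.symm
          | exact hd1.2.2 e' | exact x2 e'.symm | exact y2 e'.symm
          | exact hd2.2.2 e' | exact x3 e'.symm | exact y3 e'.symm)
  apply hbW
  refine ⟨_, ⟨H.mul_mem (H.mul_mem (H.mul_mem h1 h2) (H.inv_mem h1)) (H.inv_mem h2), h3⟩, ?_⟩
  have hvi : v⁻¹ b = c := Perm.inv_eq_iff_eq.mpr hvc.symm
  have hui : u⁻¹ c = c := Perm.inv_eq_iff_eq.mpr huc.symm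
  simp only [Perm.mul_apply, hvi, hui, hvc, hub]
  exact hb

/-- The counting, in numbers. -/
theorem key_card (hn : 8 ≤ Fintype.card α) (hno : ∀ x, σ x ≠ x → σ' x ≠ σ x) {b d : α}
    (hbW : ¬ Mv H b) (hb : σ b ≠ b) (hb' : σ' b ≠ b) (hd : σ d ≠ d)
    (hd1 : d ∉ ({σ b, b, σ' b} : Finset α)) (hd2 : σ d ∉ ({σ b, b, σ' b} : Finset α)) :
    Fintype.card α ≤ 9 ∧ ((σ'.support.erase b).erase (σ' b)).card = 6 ∧
      σ b ∈ (σ'.support.erase b).erase (σ' b) ∧ σ' (σ b) ∈ (σ'.support.erase b).erase (σ' b) ∧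
      σ' (σ b) ≠ d ∧ σ' (σ b) ≠ σ b ∧ d ∈ (σ'.support.erase b).erase (σ' b) := by
  have hsub := hσ.key hσ' hno hbW hb hb' hd hd1 hd2
  set S := (σ'.support.erase b).erase (σ' b)
  have hS : S.card = σ'.support.card - 2 := by
    rw [Finset.card_erase_of_mem (Finset.mem_erase.mpr ⟨hb', Perm.mem_support.mpr (hσ'.ne_of_moved hb')⟩),
      Finset.card_erase_of_mem (Perm.mem_support.mpr hb')]
    omega
  have h1 := Finset.card_le_card hsub
  have h6 : ({σ b, d, σ d, σ' (σ b), σ' d, σ' (σ d)} : Finset α).card ≤ 6 := Finset.card_le_six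
  have := hσ'.card
  have hS6 : S.card = 6 := by omega
  have heq : S = {σ b, d, σ d, σ' (σ b), σ' d, σ' (σ d)} :=
    Finset.eq_of_subset_of_card_le hsub (by omega)
  refine ⟨by omega, hS6, by rw [heq]; simp, by rw [heq]; simp, ?_, ?_, by rw [heq]; simp⟩
  · intro e
    have h5 : S ⊆ {σ b, d, σ d, σ' d, σ' (σ d)} := by
      rw [heq, e]; intro z; simp only [Finset.mem_insert, Finset.mem_singleton]; tauto
    have := (Finset.card_le_card h5).trans Finset.card_le_five
    omega
  · intro e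
    have h5 : S ⊆ {σ b, d, σ d, σ' d, σ' (σ d)} := by
      rw [heq, e]; intro z; simp only [Finset.mem_insert, Finset.mem_singleton]; tauto
    have := (Finset.card_le_card h5).trans Finset.card_le_five
    omega

/-- The partner under `σ'` of an unmoved point is moved by `σ`. -/
theorem moved_partner (hn : 8 ≤ Fintype.card α) (hno : ∀ x, σ x ≠ x → σ' x ≠ σ x) {b : α}
    (hbW : ¬ Mv H b) (hb : σ b ≠ b) (hb' : σ' b ≠ b) : σ (σ' b) ≠ σ' b := by
  intro hc
  set a := σ b
  set D := (σ.support.erase b).erase a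
  have hDc : D.card = σ.support.card - 2 := by
    rw [Finset.card_erase_of_mem (Finset.mem_erase.mpr ⟨hb, Perm.mem_support.mpr (hσ.ne_of_moved hb)⟩),
      Finset.card_erase_of_mem (Perm.mem_support.mpr hb)]
    omega
  have hall : ∀ d ∈ D, d ∉ ({a, b, σ' b} : Finset α) ∧ σ d ∉ ({a, b, σ' b} : Finset α) ∧ σ d ≠ d := by
    intro d hd
    simp only [D, Finset.mem_erase, Perm.mem_support] at hd
    obtain ⟨hda, hdb, hdm⟩ := hd
    simp only [Finset.mem_insert, Finset.mem_singleton, not_or]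
    refine ⟨⟨hda, hdb, fun e => hdm (by rw [e]; exact hc)⟩, ⟨?_, ?_, ?_⟩, hdm⟩
    · exact fun e => hdb (σ.injective e)
    · exact fun e => hda (by rw [show d = σ (σ d) from (hσ.inv d).symm, e])
    · exact fun e => hdm (by rw [e]; conv_rhs => rw [show d = σ (σ d) from (hσ.inv d).symm, e, hc])
  have hne : D.Nonempty := by
    rw [← Finset.card_pos, hDc]; have := hσ.card; omega
  obtain ⟨d₀, hd₀⟩ := hne
  obtain ⟨-, hS6, haS, -⟩ := hσ.key_card hσ' hn hno hbW hb hb' (hall d₀ hd₀).2.2 (hall d₀ hd₀).1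
    (hall d₀ hd₀).2.1
  have hsub : insert a D ⊆ (σ'.support.erase b).erase (σ' b) := by
    intro d hd
    rcases Finset.mem_insert.mp hd with rfl | hd
    · exact haS
    · exact (hσ.key_card hσ' hn hno hbW hb hb' (hall d hd).2.2 (hall d hd).1 (hall d hd).2.1).2.2.2.2.2.2
  have := Finset.card_le_card hsub
  rw [Finset.card_insert_of_notMem (by simp [D]), hDc, hS6] at this
  have := hσ.card
  omega

/-- Without shared pairs, an unmoved point moved by `σ` is moved by `σ'`. -/
theorem moved_iff (hn : 8 ≤ Fintype.card α) (hno : ∀ x, σ x ≠ x → σ' x ≠ σ x) {b : α}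
    (hbW : ¬ Mv H b) (hb' : σ' b ≠ b) : σ b ≠ b := by
  intro hb
  set y := σ' b
  have hy : σ y ≠ y := fun e => hb' (hσ.fixed_unique e hb)
  have hyW : ¬ Mv H y := fun h => hbW ((hσ'.mv_iff hn hb').mp h)
  have := hσ.moved_partner hσ' hn hno hyW hy (hσ'.ne_of_moved hb')
  rw [hσ'.inv] at this
  exact this hb

/-- Two matchings commute outside the moved points, and agree there unless `n ≤ 9`. -/
theorem commute_at (hn : 8 ≤ Fintype.card α) {b : α} (hbW : ¬ Mv H b) :
    σ (σ' b) = σ' (σ b) ∧ (10 ≤ Fintype.card α → σ' b = σ b) := by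
  by_cases hsh : ∃ x, σ x ≠ x ∧ σ' x = σ x
  · obtain ⟨x₀, hx₀, he⟩ := hsh
    have h1 := hσ.eq_of_shared hσ' hn hx₀ he hbW
    refine ⟨?_, fun _ => h1⟩
    rw [h1, hσ.inv]
    by_cases hb : σ b = b
    · rw [hb, h1, hb]
    · rw [hσ.eq_of_shared hσ' hn hx₀ he (fun h => hbW ((hσ.mv_iff hn hb).mp h)), hσ.inv]
  push Not at hsh
  have hno' : ∀ x, σ' x ≠ x → σ x ≠ σ' x := fun x hx e => by
    by_cases h : σ x = x
    · exact hx (e.symm.trans h)
    · exact hsh x h e.symm
  by_cases hb : σ b = b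
  · have hb' : σ' b = b := by
      by_contra h
      exact hσ.moved_iff hσ' hn hsh hbW h hb
    exact ⟨by rw [hb', hb, hb'], fun _ => by rw [hb', hb]⟩
  have hb' : σ' b ≠ b := hσ'.moved_iff hσ hn hno' hbW hb
  have hc : σ (σ' b) ≠ σ' b := hσ.moved_partner hσ' hn hsh hbW hb hb'
  have hcW : ¬ Mv H (σ' b) := fun h => hbW ((hσ'.mv_iff hn hb').mp h)
  set a := σ b
  set c := σ' b
  set f := σ c
  have hfW : ¬ Mv H f := fun h => hcW ((hσ.mv_iff hn hc).mp h)
  have hf' : σ' f ≠ f := hσ'.moved_iff hσ hn hno' hfW (hσ.ne_of_moved hc)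
  set D := (((σ.support.erase b).erase a).erase c).erase f
  have hall : ∀ d ∈ D, d ∉ ({a, b, c} : Finset α) ∧ σ d ∉ ({a, b, c} : Finset α) ∧ σ d ≠ d := by
    intro d hd
    simp only [D, Finset.mem_erase, Perm.mem_support] at hd
    obtain ⟨hdf, hdc, hda, hdb, hdm⟩ := hd
    simp only [Finset.mem_insert, Finset.mem_singleton, not_or]
    refine ⟨⟨hda, hdb, hdc⟩, ⟨fun e => hdb (σ.injective e), fun e => hda ?_, fun e => hdf ?_⟩, hdm⟩
    · rw [show d = σ (σ d) from (hσ.inv d).symm, e]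
    · rw [show d = σ (σ d) from (hσ.inv d).symm, e]
  have hac : a ≠ c := (hsh b hb).symm
  have hfa : f ≠ a := fun e => hb' (σ.injective e)
  have hfb : f ≠ b := fun e => hac (by
    show σ b = c
    rw [← e]; exact hσ.inv c)
  have hfc : f ≠ c := hc
  have hDc : D.card = σ.support.card - 4 := by
    rw [Finset.card_erase_of_mem, Finset.card_erase_of_mem, Finset.card_erase_of_mem,
      Finset.card_erase_of_mem (Perm.mem_support.mpr hb)]
    · omega
    · exact Finset.mem_erase.mpr ⟨hb, Perm.mem_support.mpr (hσ.ne_of_moved hb)⟩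
    · exact Finset.mem_erase.mpr ⟨hac.symm, Finset.mem_erase.mpr ⟨hb', Perm.mem_support.mpr hc⟩⟩
    · exact Finset.mem_erase.mpr ⟨hfc, Finset.mem_erase.mpr ⟨hfa,
        Finset.mem_erase.mpr ⟨hfb, Perm.mem_support.mpr (hσ.ne_of_moved hc)⟩⟩⟩
  have hne : D.Nonempty := by rw [← Finset.card_pos, hDc]; have := hσ.card; omega
  obtain ⟨d₀, hd₀⟩ := hne
  have K := fun d hd => hσ.key_card hσ' hn hsh hbW hb hb' (hall d hd).2.2 (hall d hd).1 (hall d hd).2.1
  obtain ⟨h9, hS6, haS, haS', -, hne2, -⟩ := K d₀ hd₀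
  refine ⟨?_, fun h => by omega⟩
  show f = σ' a
  by_contra hcon
  have hsub : insert a (insert (σ' a) D) ⊆ (σ'.support.erase b).erase c := by
    intro d hd
    simp only [Finset.mem_insert] at hd
    rcases hd with rfl | rfl | hd
    exacts [haS, haS', (K d hd).2.2.2.2.2.2]
  have hmemf : f ∈ (σ'.support.erase b).erase c :=
    Finset.mem_erase.mpr ⟨hfc, Finset.mem_erase.mpr ⟨hfb, Perm.mem_support.mpr hf'⟩⟩
  have hsub2 : insert f (insert a (insert (σ' a) D)) ⊆ (σ'.support.erase b).erase c :=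
    Finset.insert_subset hmemf hsub
  have := Finset.card_le_card hsub2
  rw [Finset.card_insert_of_notMem, Finset.card_insert_of_notMem, Finset.card_insert_of_notMem, hDc,
    hS6] at this
  · have := hσ.card; omega
  · exact fun h => (K _ h).2.2.2.2.1 rfl
  · simp only [D, Finset.mem_insert, Finset.mem_erase, not_or]
    exact ⟨hne2.symm, fun h => h.2.2.1 rfl⟩
  · simp only [D, Finset.mem_insert, Finset.mem_erase, not_or]
    exact ⟨hfa, hcon, fun h => h.1 rfl⟩

end Good

end CfsgLib.LocalEvenB.PairClasses
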