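import Cfsg.Agent.Lib.LocalEvenB.PairClasses

/-!
# `F*` of a permutation group containing the even part of a perfect matching group
-/

set_option autoImplicit false
set_option linter.unusedSectionVars false
set_option linter.style.haveILetI false

namespace CfsgLib.LocalEvenB.PairClasses

open Equiv Cfsg.Agent.KnownC.AnHall CfsgLib.Components ThreeClasses

theorem kill_of_comm {F X : Type*} [Group F] [Group X] (hF : Group.IsPerfect F) (φ : F →* X)
    (h : ∀ f g, φ f * φ g = φ g * φ f) (f : F) : φ f = 1 := by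
  have hle : commutator F ≤ φ.ker := by
    rw [commutator_def, Subgroup.commutator_le]
    intro a _ b _
    rw [MonoidHom.mem_ker, map_commutatorElement, commutatorElement_eq_one_iff_mul_comm]
    exact h a b
  exact hle (hF.commutator_eq_top ▸ Subgroup.mem_top f)

/-- A quasisimple group centralises an element of an abelian subgroup it normalises, provided the
element normalises its image. -/
theorem perfect_commute {F X : Type*} [Group F] [Group X] (hF : Cfsg.IsQuasisimple F) (φ : F →* X)
    (E : Subgroup X) (hab : ∀ a ∈ E, ∀ b ∈ E, a * b = b * a)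
    (hnorm : ∀ f, ∀ a ∈ E, φ f * a * (φ f)⁻¹ ∈ E) {e : X} (he : e ∈ E)
    (hinv : ∀ f, ∃ g, φ g = e * φ f * e⁻¹) (f : F) : φ f * e = e * φ f := by
  have hn : (E.comap φ).Normal := ⟨fun a ha g => by
    rw [Subgroup.mem_comap] at ha ⊢
    rw [map_mul, map_mul, map_inv]
    exact hnorm g _ ha⟩
  rcases IsQuasisimple.normal_le_center_or_top hF (E.comap φ) with h | h
  · set c : F → X := fun f => φ f * e * (φ f)⁻¹ * e⁻¹ with hc
    have hcE : ∀ f, c f ∈ E := fun f => E.mul_mem (hnorm f e he) (E.inv_mem he)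
    have hcen : ∀ f g, φ g * c f = c f * φ g := by
      intro f g
      obtain ⟨k, hk⟩ := hinv f⁻¹
      have e1 : φ (f * k) = c f := by
        rw [map_mul, hk, map_inv, hc]; group
      have hm : f * k ∈ E.comap φ := by rw [Subgroup.mem_comap, e1]; exact hcE f
      rw [← e1, ← map_mul, ← map_mul, Subgroup.mem_center_iff.mp (h hm) g]
    let ψ : F →* X := MonoidHom.mk' c fun a b => by
      calc c (a * b) = φ a * c b * (φ a)⁻¹ * c a := by simp only [hc, map_mul]; group
        _ = c b * c a := by rw [hcen b a, mul_inv_cancel_right]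
        _ = c a * c b := hab _ (hcE b) _ (hcE a)
    have h1 : c f = 1 := kill_of_comm hF.1 ψ (fun a b => hab _ (hcE a) _ (hcE b)) f
    rw [hc] at h1
    exact mul_inv_eq_iff_eq_mul.mp (mul_inv_eq_one.mp h1)
  · have hmem : ∀ g, φ g ∈ E := fun g => by
      have : g ∈ E.comap φ := by rw [h]; exact Subgroup.mem_top g
      exact this
    exact hab _ (hmem f) _ he

variable {α : Type*} [Fintype α] [DecidableEq α] {H : Subgroup (Perm α)}

namespace Good

variable {σ : Perm α} (hσ : Good H σ)
include hσ

theorem mv_iff' (hn : 8 ≤ Fintype.card α) (z : α) : ¬ Mv H (σ z) ↔ ¬ Mv H z := by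
  by_cases hz : σ z = z
  · rw [hz]
  · exact not_congr (hσ.mv_iff hn hz)

theorem mem_of_le_nine (hn : 8 ≤ Fintype.card α) (h9 : Fintype.card α ≤ 9) : σ ∈ H := by
  obtain ⟨a, ha, -⟩ := hσ.exists_off hn ∅ (by simp)
  obtain ⟨b, hb, hb'⟩ := hσ.exists_off hn {a, σ a} (Finset.card_le_two.trans (by omega))
  obtain ⟨c, hc, hc'⟩ := hσ.exists_off hn {a, σ a, b, σ b} (Finset.card_le_four.trans (by omega))
  obtain ⟨d, hd, hd'⟩ := hσ.exists_off hn {a, σ a, b, σ b, c, σ c} (Finset.card_le_six.trans (by omega))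
  simp only [Finset.mem_insert, Finset.mem_singleton, not_or] at hb' hc' hd'
  have hsym : ∀ {x y : α}, x ≠ σ y → σ x ≠ y := fun h e => h (by rw [← e, hσ.inv])
  have hinj : ∀ {x y : α}, x ≠ y → σ x ≠ σ y := fun h e => h (σ.injective e)
  have e : (swap a (σ a) * swap b (σ b)) * (swap c (σ c) * swap d (σ d)) = σ := by
    refine Equiv.ext fun z => ?_
    simp only [Perm.mul_apply]
    by_cases z1 : z = a ∨ z = σ a
    · rcases z1 with rfl | rfl
      · rw [swap_apply_of_ne_of_ne (Ne.symm hd'.1) (hsym hd'.2.1).symm,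
          swap_apply_of_ne_of_ne (Ne.symm hc'.1) (hsym hc'.2.1).symm,
          swap_apply_of_ne_of_ne (Ne.symm hb'.1) (hsym hb'.2).symm, swap_apply_left]
      · rw [swap_apply_of_ne_of_ne (Ne.symm hd'.2.1) (hinj hd'.1).symm,
          swap_apply_of_ne_of_ne (Ne.symm hc'.2.1) (hinj hc'.1).symm,
          swap_apply_of_ne_of_ne (Ne.symm hb'.2) (hinj hb'.1).symm, swap_apply_right, hσ.inv]
    by_cases z2 : z = b ∨ z = σ b
    · push Not at z1
      rcases z2 with rfl | rfl
      · rw [swap_apply_of_ne_of_ne (Ne.symm hd'.2.2.1) (hsym hd'.2.2.2.1).symm,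
          swap_apply_of_ne_of_ne (Ne.symm hc'.2.2.1) (hsym hc'.2.2.2).symm, swap_apply_left,
          swap_apply_of_ne_of_ne (hsym hb'.2) (hinj hb'.1)]
      · rw [swap_apply_of_ne_of_ne (Ne.symm hd'.2.2.2.1) (hinj hd'.2.2.1).symm,
          swap_apply_of_ne_of_ne (Ne.symm hc'.2.2.2) (hinj hc'.2.2.1).symm, swap_apply_right,
          swap_apply_of_ne_of_ne hb'.1 hb'.2, hσ.inv]
    by_cases z3 : z = c ∨ z = σ c
    · rcases z3 with rfl | rfl
      · rw [swap_apply_of_ne_of_ne (Ne.symm hd'.2.2.2.2.1) (hsym hd'.2.2.2.2.2).symm, swap_apply_left,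
          swap_apply_of_ne_of_ne (hsym hc'.2.2.2) (hinj hc'.2.2.1),
          swap_apply_of_ne_of_ne (hsym hc'.2.1) (hinj hc'.1)]
      · rw [swap_apply_of_ne_of_ne (Ne.symm hd'.2.2.2.2.2) (hinj hd'.2.2.2.2.1).symm, swap_apply_right,
          swap_apply_of_ne_of_ne hc'.2.2.1 hc'.2.2.2, swap_apply_of_ne_of_ne hc'.1 hc'.2.1, hσ.inv]
    by_cases z4 : z = d ∨ z = σ d
    · rcases z4 with rfl | rfl
      · rw [swap_apply_left, swap_apply_of_ne_of_ne (hsym hd'.2.2.2.2.2) (hinj hd'.2.2.2.2.1),
          swap_apply_of_ne_of_ne (hsym hd'.2.2.2.1) (hinj hd'.2.2.1),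
          swap_apply_of_ne_of_ne (hsym hd'.2.1) (hinj hd'.1)]
      · rw [swap_apply_right, swap_apply_of_ne_of_ne hd'.2.2.2.2.1 hd'.2.2.2.2.2,
          swap_apply_of_ne_of_ne hd'.2.2.1 hd'.2.2.2.1, swap_apply_of_ne_of_ne hd'.1 hd'.2.1, hσ.inv]
    push Not at z1 z2 z3 z4
    rw [swap_apply_of_ne_of_ne z4.1 z4.2, swap_apply_of_ne_of_ne z3.1 z3.2,
      swap_apply_of_ne_of_ne z2.1 z2.2, swap_apply_of_ne_of_ne z1.1 z1.2]
    by_contra hz
    set l : List α := [z, a, σ a, b, σ b, c, σ c, d, σ d] with hl
    have hz2 : σ z ∉ l := by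
      simp only [hl, List.mem_cons, List.not_mem_nil, or_false, not_or]
      exact ⟨Ne.symm hz, hsym z1.2, hinj z1.1, hsym z2.2, hinj z2.1, hsym z3.2, hinj z3.1, hsym z4.2,
        hinj z4.1⟩
    have hnd : (σ z :: l).Nodup := by
      refine List.nodup_cons.mpr ⟨hz2, ?_⟩
      simp only [hl, List.nodup_cons, List.mem_cons, List.not_mem_nil, or_false, not_or]
      exact ⟨⟨z1.1, z1.2, z2.1, z2.2, z3.1, z3.2, z4.1, z4.2⟩,
        ⟨Ne.symm ha, Ne.symm hb'.1, (hsym hb'.2).symm, Ne.symm hc'.1, (hsym hc'.2.1).symm,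
          Ne.symm hd'.1, (hsym hd'.2.1).symm⟩,
        ⟨Ne.symm hb'.2, (hinj hb'.1).symm, Ne.symm hc'.2.1, (hinj hc'.1).symm, Ne.symm hd'.2.1,
          (hinj hd'.1).symm⟩,
        ⟨Ne.symm hb, Ne.symm hc'.2.2.1, (hsym hc'.2.2.2).symm, Ne.symm hd'.2.2.1, (hsym hd'.2.2.2.1).symm⟩,
        ⟨Ne.symm hc'.2.2.2, (hinj hc'.2.2.1).symm, Ne.symm hd'.2.2.2.1, (hinj hd'.2.2.1).symm⟩,
        ⟨Ne.symm hc, Ne.symm hd'.2.2.2.2.1, (hsym hd'.2.2.2.2.2).symm⟩,
        ⟨Ne.symm hd'.2.2.2.2.2, (hinj hd'.2.2.2.2.1).symm⟩, Ne.symm hd, not_false, List.nodup_nil⟩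
    have := hnd.length_le_card
    simp only [hl, List.length_cons, List.length_nil] at this
    omega
  rw [← e]
  exact H.mul_mem (hσ.pair a b ha hb) (hσ.pair c d hc hd)

end Good

/-- The main statement. -/
theorem main (hn : 8 ≤ Fintype.card α)
    (hF : Cfsg.IsQuasisimple ↥(Cfsg.generalizedFittingSubgroup ↥H)) {σ₀ : Perm α} (hσ : Good H σ₀) :
    ∃ m : ℕ, 2 * (Fintype.card α / 2) ≤ m + 2 ∧ m ≤ Fintype.card α ∧
      Nonempty (↥(Cfsg.generalizedFittingSubgroup ↥H) ≃* ↥(alternatingGroup (Fin m))) := by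
  classical
  set Fs := Cfsg.generalizedFittingSubgroup ↥H with hFs
  haveI hFn : Fs.Normal := inferInstanceAs (Cfsg.generalizedFittingSubgroup ↥H).Normal
  by_cases hbig : ∃ a : α, 5 ≤ Nat.card {b // (threeRel H).r b a}
  · obtain ⟨a, ha⟩ := hbig
    obtain ⟨hKF, hall, hiso⟩ := ThreeClasses.big H hF ha
    refine ⟨_, ?_, ?_, hiso⟩
    · -- at most one pair misses the class
      have hMv : ∀ z, Mv H z → (threeRel H).r z a := fun z ⟨x, hx, hxz⟩ => hall x hx z hxz
      have hcl : ∀ z, (threeRel H).r z a → Mv H z := by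
        intro z hz
        by_cases hza : z = a
        · haveI : Nontrivial {b // (threeRel H).r b a} := Finite.one_lt_card_iff_nontrivial.mp (by omega)
          obtain ⟨⟨w, hw⟩, hwne⟩ := exists_ne (⟨a, (threeRel H).refl' a⟩ : {b // (threeRel H).r b a})
          rcases hw with rfl | ⟨x, hx, hx3, hxw⟩
          · exact absurd rfl hwne
          · refine ⟨x, ⟨hx, hx3⟩, fun e => hwne (Subtype.ext (x.injective ?_))⟩
            rw [hxw, ← hza, e]
        · rcases hz with rfl | ⟨x, hx, hx3, hxw⟩
          · exact absurd rfl hza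
          · exact ⟨x, ⟨hx, hx3⟩, fun e => hza (e.symm.trans hxw)⟩
      have hS : ∀ u v, σ₀ u ≠ u → σ₀ v ≠ v → ¬ Mv H u → ¬ Mv H v → v = u ∨ v = σ₀ u := by
        intro u v hu hv huW hvW
        by_contra hne
        push Not at hne
        set x := swap u (σ₀ u) * swap v (σ₀ v) with hx
        have hxu : x u ≠ u := by
          rw [hx, Perm.mul_apply, swap_apply_of_ne_of_ne (Ne.symm hne.1)
            (fun e => hne.2 (by rw [e, hσ.inv])), swap_apply_left]
          exact hu
        have hfixc : ∀ w, (threeRel H).r w a → x w = w := by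
          intro w hw
          have hw' := hcl w hw
          have n1 : w ≠ u := fun e => huW (e ▸ hw')
          have n2 : w ≠ σ₀ u := fun e => huW ((hσ.mv_iff hn hu).mp (e ▸ hw'))
          have n3 : w ≠ v := fun e => hvW (e ▸ hw')
          have n4 : w ≠ σ₀ v := fun e => hvW ((hσ.mv_iff hn hv).mp (e ▸ hw'))
          rw [hx, Perm.mul_apply, swap_apply_of_ne_of_ne n3 n4, swap_apply_of_ne_of_ne n1 n2]
        have hmem : (⟨x, hσ.pair u v hu hv⟩ : H) ∈ Subgroup.centralizer (Fs : Set H) := by
          rw [Subgroup.mem_centralizer_iff]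
          intro k hk
          rw [SetLike.mem_coe, hFs, ← hKF] at hk
          refine Subtype.ext ?_
          have hd : Perm.Disjoint (k : Perm α) x := by
            intro w
            by_cases hw : (threeRel H).r w a
            · exact Or.inr (hfixc w hw)
            · exact Or.inl (fix_outside H hk hw)
          exact hd.commute.eq
        have h1 := centralizer_generalizedFitting_le hmem
        rw [← hKF] at h1
        exact hxu (fix_outside H h1 fun h => huW (hcl u h))
      have hle : σ₀.support.card ≤ Nat.card {b // (threeRel H).r b a} + 2 := by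
        rw [Nat.card_eq_fintype_card, Fintype.card_subtype]
        by_cases hex : ∃ u, σ₀ u ≠ u ∧ ¬ Mv H u
        · obtain ⟨u, hu, huW⟩ := hex
          refine le_trans (Finset.card_le_card (t := (Finset.univ.filter fun b => (threeRel H).r b a) ∪ {u, σ₀ u}) ?_)
            ((Finset.card_union_le _ _).trans (Nat.add_le_add_left Finset.card_le_two _))
          intro z hz
          rw [Perm.mem_support] at hz
          simp only [Finset.mem_union, Finset.mem_filter, Finset.mem_univ, true_and, Finset.mem_insert,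
            Finset.mem_singleton]
          by_cases hzW : Mv H z
          · exact Or.inl (hMv z hzW)
          · exact Or.inr (hS u z hu hz huW hzW)
        · push Not at hex
          refine le_trans (Finset.card_le_card fun z hz => ?_) (Nat.le_add_right _ _)
          simp only [Finset.mem_filter, Finset.mem_univ, true_and]
          exact hMv z (hex z (Perm.mem_support.mp hz))
      have := hσ.card
      omega
    · rw [← Nat.card_eq_fintype_card]
      exact Nat.card_le_card_of_injective _ Subtype.val_injective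
  · exfalso
    push Not at hbig
    have hcomm := ThreeClasses.small_comm H hF hbig
    let ρ : H →* Perm {z // ¬ Mv H z} :=
      MonoidHom.mk' (fun h => (h : Perm α).subtypePerm fun z => not_congr (mv_smul_iff h.2 z))
        fun a b => Equiv.ext fun z => Subtype.ext rfl
    have hρ : ∀ (h : H) z, ((ρ h z : {z // ¬ Mv H z}) : α) = (h : Perm α) z := fun h z => rfl
    let φ : Fs →* Perm {z // ¬ Mv H z} := ρ.comp Fs.subtype
    let τ : ∀ σ, Good H σ → Perm {z // ¬ Mv H z} := fun σ h => σ.subtypePerm (h.mv_iff' hn)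
    have hτc : ∀ (h : H) σ (hs : Good H σ),
        ρ h * τ σ hs * (ρ h)⁻¹ = τ _ (hs.conj h.2) := by
      intro h σ hs
      refine Equiv.ext fun z => Subtype.ext ?_
      obtain ⟨w, rfl⟩ := (ρ h).surjective z
      rw [Perm.mul_apply, Perm.mul_apply, show (ρ h)⁻¹ (ρ h w) = w from (ρ h).symm_apply_apply w]
      show (h : Perm α) (σ w) = ((h : Perm α) * σ * (h : Perm α)⁻¹) ((h : Perm α) w)
      rw [Cfsg.Agent.KnownC.AnHall.conj_apply]
    set τ₀ := τ σ₀ hσ with hτ₀
    -- `F*` centralises the matching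
    have hfτ : ∀ f, φ f * τ₀ = τ₀ * φ f := by
      intro f
      by_cases h10 : 10 ≤ Fintype.card α
      · have he : φ f * τ₀ * (φ f)⁻¹ = τ₀ := by
          show ρ f * τ σ₀ hσ * (ρ f)⁻¹ = τ σ₀ hσ
          rw [hτc (f : H) σ₀ hσ]
          refine Equiv.ext fun z => Subtype.ext ?_
          exact ((hσ.commute_at (hσ.conj (f : H).2) hn z.2).2 h10)
        exact mul_inv_eq_iff_eq_mul.mp he
      · set E := Subgroup.closure {e | ∃ σ, ∃ hs : Good H σ, τ σ hs = e} with hE
        have hab : ∀ a ∈ E, ∀ b ∈ E, a * b = b * a := by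
          have hgen : ∀ a ∈ {e | ∃ σ, ∃ hs : Good H σ, τ σ hs = e},
              ∀ b ∈ {e | ∃ σ, ∃ hs : Good H σ, τ σ hs = e}, a * b = b * a := by
            rintro a ⟨σ, hs, rfl⟩ b ⟨σ', hs', rfl⟩
            refine Equiv.ext fun z => Subtype.ext ?_
            exact (hs.commute_at hs' hn z.2).1
          have h1 : E ≤ Subgroup.centralizer {e | ∃ σ, ∃ hs : Good H σ, τ σ hs = e} := by
            rw [hE, Subgroup.closure_le]
            intro a ha
            rw [SetLike.mem_coe, Subgroup.mem_centralizer_iff]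
            exact fun b hb => hgen b hb a ha
          have h2 : E ≤ Subgroup.centralizer (E : Set (Perm {z // ¬ Mv H z})) := by
            nth_rewrite 1 [hE]
            rw [Subgroup.closure_le]
            intro a ha
            rw [SetLike.mem_coe, Subgroup.mem_centralizer_iff]
            exact fun b hb => (Subgroup.mem_centralizer_iff.mp (h1 hb) a ha).symm
          exact fun a ha b hb => Subgroup.mem_centralizer_iff.mp (h2 hb) a ha
        have hnorm : ∀ f, ∀ a ∈ E, φ f * a * (φ f)⁻¹ ∈ E := by
          intro f a ha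
          induction ha using Subgroup.closure_induction with
          | mem a ha =>
            obtain ⟨σ, hs, rfl⟩ := ha
            exact Subgroup.subset_closure ⟨_, hs.conj (f : H).2, (hτc (f : H) σ hs).symm⟩
          | one => simp
          | mul a b _ _ iha ihb =>
            have e : φ f * (a * b) * (φ f)⁻¹ = (φ f * a * (φ f)⁻¹) * (φ f * b * (φ f)⁻¹) := by group
            rw [e]; exact E.mul_mem iha ihb
          | inv a _ iha =>
            have e : φ f * a⁻¹ * (φ f)⁻¹ = (φ f * a * (φ f)⁻¹)⁻¹ := by group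
            rw [e]; exact E.inv_mem iha
        refine perfect_commute hF φ E hab hnorm (Subgroup.subset_closure ⟨σ₀, hσ, rfl⟩) (fun g => ?_) f
        set s : H := ⟨σ₀, hσ.mem_of_le_nine hn (by omega)⟩
        refine ⟨⟨s * g * s⁻¹, hFn.conj_mem _ g.2 s⟩, ?_⟩
        have e1 : ρ s = τ₀ := Equiv.ext fun z => rfl
        show ρ (s * g * s⁻¹) = τ₀ * ρ g * τ₀⁻¹
        rw [map_mul, map_mul, map_inv, e1]
    have hτinv : ∀ z, τ₀ (τ₀ z) = z := fun z => Subtype.ext (hσ.inv z)
    have hfz : ∀ f z, φ f (τ₀ z) = τ₀ (φ f z) := fun f z => Equiv.congr_fun (hfτ f) z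
    -- and the even products of its transpositions
    have hfd : ∀ f (u v : {z // ¬ Mv H z}), τ₀ u ≠ u → τ₀ v ≠ v →
        φ f * (swap u (τ₀ u) * swap v (τ₀ v)) = (swap u (τ₀ u) * swap v (τ₀ v)) * φ f := by
      intro f u v hu hv
      set E := Subgroup.closure {e | ∃ z, swap z (τ₀ z) = e} with hE
      have hgen : ∀ a ∈ {e | ∃ z, swap z (τ₀ z) = e}, ∀ b ∈ {e | ∃ z, swap z (τ₀ z) = e},
          a * b = b * a := by
        rintro a ⟨y, rfl⟩ b ⟨z, rfl⟩
        by_cases h1 : z = y
        · rw [h1]
        by_cases h2 : z = τ₀ y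
        · rw [h2, hτinv, swap_comm (τ₀ y) y]
        refine (Perm.Disjoint.commute fun w => ?_).eq
        by_cases hw : w = y ∨ w = τ₀ y
        · refine Or.inr (swap_apply_of_ne_of_ne ?_ ?_)
          · rcases hw with rfl | rfl
            exacts [Ne.symm h1, Ne.symm h2]
          · rcases hw with rfl | rfl
            · exact fun e => h2 (by rw [e, hτinv])
            · exact fun e => h1 (τ₀.injective e).symm
        · push Not at hw
          exact Or.inl (swap_apply_of_ne_of_ne hw.1 hw.2)
      have hab : ∀ a ∈ E, ∀ b ∈ E, a * b = b * a := by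
        have h1 : E ≤ Subgroup.centralizer {e | ∃ z, swap z (τ₀ z) = e} := by
          rw [hE, Subgroup.closure_le]
          intro a ha
          rw [SetLike.mem_coe, Subgroup.mem_centralizer_iff]
          exact fun b hb => hgen b hb a ha
        have h2 : E ≤ Subgroup.centralizer (E : Set (Perm {z // ¬ Mv H z})) := by
          nth_rewrite 1 [hE]
          rw [Subgroup.closure_le]
          intro a ha
          rw [SetLike.mem_coe, Subgroup.mem_centralizer_iff]
          exact fun b hb => (Subgroup.mem_centralizer_iff.mp (h1 hb) a ha).symm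
        exact fun a ha b hb => Subgroup.mem_centralizer_iff.mp (h2 hb) a ha
      have hnorm : ∀ f, ∀ a ∈ E, φ f * a * (φ f)⁻¹ ∈ E := by
        intro f a ha
        induction ha using Subgroup.closure_induction with
        | mem a ha =>
          obtain ⟨z, rfl⟩ := ha
          exact Subgroup.subset_closure ⟨φ f z, by rw [← hfz, swap_apply_apply]⟩
        | one => simp
        | mul a b _ _ iha ihb =>
          have e : φ f * (a * b) * (φ f)⁻¹ = (φ f * a * (φ f)⁻¹) * (φ f * b * (φ f)⁻¹) := by group
          rw [e]; exact E.mul_mem iha ihb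
        | inv a _ iha =>
          have e : φ f * a⁻¹ * (φ f)⁻¹ = (φ f * a * (φ f)⁻¹)⁻¹ := by group
          rw [e]; exact E.inv_mem iha
      refine perfect_commute hF φ E hab hnorm
        (E.mul_mem (Subgroup.subset_closure ⟨u, rfl⟩) (Subgroup.subset_closure ⟨v, rfl⟩)) (fun g => ?_) f
      set s : H := ⟨_, hσ.pair (u : α) (v : α) (fun e => hu (Subtype.ext e)) (fun e => hv (Subtype.ext e))⟩
      refine ⟨⟨s * g * s⁻¹, hFn.conj_mem _ g.2 s⟩, ?_⟩
      have e1 : ρ s = swap u (τ₀ u) * swap v (τ₀ v) := by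
        refine Equiv.ext fun z => Subtype.ext ?_
        show (swap (u : α) (σ₀ u) * swap (v : α) (σ₀ v)) z = _
        simp only [Perm.mul_apply]
        have hsw : ∀ (p q r : {z // ¬ Mv H z}), ((swap p q r : {z // ¬ Mv H z}) : α) = swap (p : α) q r := by
          intro p q r
          simp only [swap_apply_def, Subtype.ext_iff]
          split_ifs <;> rfl
        rw [hsw, hsw]
        rfl
      show ρ (s * g * s⁻¹) = _ * ρ g * _
      rw [map_mul, map_mul, map_inv, e1]
    -- pointwise
    have hperf := hF.1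
    have hW : ∀ (f g : Fs) (z : {z // ¬ Mv H z}), φ f (φ g z) = φ g (φ f z) := by
      intro f g z
      by_cases hz : τ₀ z = z
      · have hfix : ∀ k, φ k z = z := fun k => by
          have h1 : τ₀ (φ k z) = φ k z := by rw [← hfz, hz]
          exact Subtype.ext (hσ.fixed_unique (congrArg Subtype.val h1) (congrArg Subtype.val hz))
        rw [hfix g, hfix f, hfix g]
      by_cases h3 : ∃ u v, τ₀ u ≠ u ∧ τ₀ v ≠ v ∧ u ≠ z ∧ u ≠ τ₀ z ∧ v ≠ z ∧ v ≠ τ₀ z ∧ v ≠ u ∧ v ≠ τ₀ u
      · obtain ⟨u, v, hu, hv, u1, u2, v1, v2, v3, v4⟩ := h3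
        have hin : ∀ k w, τ₀ w ≠ w → w ≠ z → w ≠ τ₀ z →
            φ k z = z ∨ φ k z = τ₀ z ∨ φ k z = w ∨ φ k z = τ₀ w := by
          intro k w hw w1 w2
          by_contra hcon
          push Not at hcon
          have h1 := Equiv.congr_fun (hfd k z w hz hw) z
          simp only [Perm.mul_apply] at h1
          rw [swap_apply_of_ne_of_ne (Ne.symm w1) (fun e => w2 (by rw [e, hτinv])), swap_apply_left,
            swap_apply_of_ne_of_ne hcon.2.2.1 hcon.2.2.2, swap_apply_of_ne_of_ne hcon.1 hcon.2.1] at h1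
          exact hz ((φ k).injective h1)
        have hk : ∀ k, φ k z = z ∨ φ k z = τ₀ z := by
          intro k
          rcases hin k u hu u1 u2 with h | h | h | h
          · exact Or.inl h
          · exact Or.inr h
          all_goals
            rcases hin k v hv v1 v2 with h' | h' | h' | h'
            · exact Or.inl h'
            · exact Or.inr h'
            all_goals exfalso
          · exact v3 (h'.symm.trans h)
          · exact v4 (by rw [← h'.symm.trans h, hτinv])
          · exact v4 (h'.symm.trans h)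
          · exact v3 (τ₀.injective (h'.symm.trans h))
        rcases hk f with h1 | h1 <;> rcases hk g with h2 | h2 <;> simp [h1, h2, hfz, hτinv]
      · push Not at h3
        set W' := {w : {z // ¬ Mv H z} // τ₀ w ≠ w}
        have hinv' : ∀ (k : Fs) w, τ₀ (φ k w) ≠ φ k w ↔ τ₀ w ≠ w := fun k w => by
          rw [← hfz, (φ k).injective.ne_iff]
        have hle : Nat.card W' ≤ 4 := by
          rw [Nat.card_eq_fintype_card, Fintype.card_subtype]
          by_cases hu : ∃ u, τ₀ u ≠ u ∧ u ≠ z ∧ u ≠ τ₀ z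
          · obtain ⟨u, hu, u1, u2⟩ := hu
            refine le_trans (Finset.card_le_card (t := {z, τ₀ z, u, τ₀ u}) fun w hw => ?_) Finset.card_le_four
            simp only [Finset.mem_filter, Finset.mem_univ, true_and] at hw
            simp only [Finset.mem_insert, Finset.mem_singleton]
            by_contra hcon
            push Not at hcon
            exact hcon.2.2.2 (h3 u w hu hw u1 u2 hcon.1 hcon.2.1 hcon.2.2.1)
          · push Not at hu
            refine le_trans (Finset.card_le_card (t := {z, τ₀ z}) fun w hw => ?_)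
              (Finset.card_le_two.trans (by omega))
            simp only [Finset.mem_filter, Finset.mem_univ, true_and] at hw
            simp only [Finset.mem_insert, Finset.mem_singleton]
            by_cases hwz : w = z
            · exact Or.inl hwz
            · exact Or.inr (hu w hw hwz)
        haveI := CfsgLib.Recognition.Zassenhaus.perm_solvable W' hle
        let ψ : Fs →* Perm W' := MonoidHom.mk' (fun k => (φ k).subtypePerm (hinv' k))
          fun a b => Equiv.ext fun w => Subtype.ext (by simp [Perm.mul_apply, map_mul])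
        have hkill : ∀ k, φ k z = z := by
          intro k
          have hcm : ⁅(⊤ : Subgroup Fs), (⊤ : Subgroup Fs)⁆ = (⊤ : Subgroup Fs) := by rw [← commutator_def]; exact hperf.commutator_eq_top
          have : ψ k = 1 := CfsgLib.Recognition.Zassenhaus.perfect_killed (R := (⊤ : Subgroup Fs)) hcm
            (ψ.comp (⊤ : Subgroup Fs).subtype) ⟨k, Subgroup.mem_top k⟩
          exact congrArg Subtype.val (Equiv.congr_fun this ⟨z, hz⟩)
        rw [hkill g, hkill f, hkill g]
    apply IsQuasisimple.not_isMulCommutative hF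
    refine ⟨⟨fun f g => Subtype.ext (Subtype.ext (Equiv.ext fun z => ?_))⟩⟩
    show ((f : H) : Perm α) (((g : H) : Perm α) z) = ((g : H) : Perm α) (((f : H) : Perm α) z)
    by_cases hz : Mv H z
    · obtain ⟨x, hx, hxz⟩ := hz
      exact comm_on_support hx.2 hxz (fun w => Equiv.congr_fun (hcomm x hx _ f.2) w)
        (fun w => Equiv.congr_fun (hcomm x hx _ g.2) w)
    · exact congrArg Subtype.val (hW f g ⟨z, hz⟩)

end CfsgLib.LocalEvenB.PairClasses
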