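import Cfsg.Agent.Lib.Solvable.Huppert
import Cfsg.Agent.Lib.Solvable.Supersolvable
import Cfsg.Agent.Lib.Solvable.Basic
import Cfsg.Agent.Lib.Fusion.Alperin
import Cfsg.Agent.Lib.OddOrder.Stabilize
import Cfsg.Agent.Lib.Solvable.SupersolvableCriteria
import Cfsg.Agent.Lib.Fusion.NormalRankTwo

/-!
If, for distinct primes `p`, `q`, a `p`-element and its conjugate by a `q`-element never generate a
group of order divisible by `q ^ 2`, then the group is supersolvable.
-/

set_option autoImplicit false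
set_option linter.style.haveILetI false

namespace CfsgLib.LocalEvenB.PairOrderSupersolvable

universe u

open Subgroup

/-- The hypothesis. -/
def Hyp (G : Type u) [Group G] : Prop :=
  ∀ (p q : ℕ), p.Prime → q.Prime → p ≠ q → ∀ (x g : G), (∃ a : ℕ, orderOf x = p ^ a) →
    (∃ b : ℕ, orderOf g = q ^ b) → ¬ q ^ 2 ∣ Nat.card ↥(zpowers x ⊔ zpowers (g * x * g⁻¹))

variable {G : Type u} [Group G] [Finite G]

theorem hyp_subgroup (h : Hyp G) (H : Subgroup G) : Hyp H := by
  intro p q hp hq hpq x g hx hg hd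
  refine h p q hp hq hpq x g (by simpa using hx) (by simpa using hg) ?_
  rw [Nat.card_congr (equivMapOfInjective _ H.subtype H.subtype_injective).toEquiv,
    Subgroup.map_sup, MonoidHom.map_zpowers, MonoidHom.map_zpowers] at hd
  simpa using hd

theorem exists_lift {H : Type u} [Group H] (f : G →* H) (hf : Function.Surjective f) {p : ℕ}
    (hp : p.Prime) {y : H} (hy : ∃ a : ℕ, orderOf y = p ^ a) :
    ∃ x : G, (∃ a : ℕ, orderOf x = p ^ a) ∧ f x = y := by
  obtain ⟨a, ha⟩ := hy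
  obtain ⟨x, rfl⟩ := hf y
  obtain ⟨e, m, hm, hord⟩ := Nat.exists_eq_pow_mul_and_not_dvd (orderOf_pos x).ne' p hp.ne_one
  have hcop : Nat.Coprime m (orderOf (f x)) := by
    rw [ha]; exact ((hp.coprime_iff_not_dvd.2 hm).symm).pow_right a
  obtain ⟨v, hv⟩ := exists_pow_eq_self_of_coprime hcop
  refine ⟨(x ^ m) ^ v, ?_, by simp [hv]⟩
  have h1 : orderOf ((x ^ m) ^ v) ∣ p ^ e := by
    refine orderOf_dvd_of_pow_eq_one ?_
    rw [← pow_mul, ← pow_mul, show m * (v * p ^ e) = (p ^ e * m) * v by ring, pow_mul, ← hord,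
      pow_orderOf_eq_one, one_pow]
  obtain ⟨b, -, hb⟩ := (Nat.dvd_prime_pow hp).1 h1
  exact ⟨b, hb⟩

theorem hyp_quotient (h : Hyp G) (N : Subgroup G) [N.Normal] : Hyp (G ⧸ N) := by
  intro p q hp hq hpq x g hx hg hd
  have hf := QuotientGroup.mk'_surjective N
  obtain ⟨x, hx', rfl⟩ := exists_lift _ hf hp hx
  obtain ⟨g, hg', rfl⟩ := exists_lift _ hf hq hg
  refine h p q hp hq hpq x g hx' hg' (hd.trans ?_)
  have h2 := Subgroup.card_map_dvd (zpowers x ⊔ zpowers (g * x * g⁻¹)) (QuotientGroup.mk' N)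
  rwa [Subgroup.map_sup, MonoidHom.map_zpowers, MonoidHom.map_zpowers, map_mul, map_mul,
    map_inv] at h2

/-- The basic consequence: commutators with a `p`-element span invariant subgroups of order `q`. -/
theorem cyclic_comm (h : Hyp G) {p q : ℕ} (hp : p.Prime) (hq : q.Prime) (hpq : p ≠ q)
    {R : Subgroup G} (hR : IsPGroup q R) {x : G} (hx : ∃ a : ℕ, orderOf x = p ^ a)
    (hxR : x ∈ normalizer (R : Set G)) {g : G} (hg : g ∈ R) :
    (x * g * x⁻¹ * g⁻¹) ^ q = 1 ∧
      x * (x * g * x⁻¹ * g⁻¹) * x⁻¹ ∈ zpowers (x * g * x⁻¹ * g⁻¹) := by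
  haveI := Fact.mk hq
  set c := x * g * x⁻¹ * g⁻¹ with hc
  set X := zpowers x ⊔ zpowers (g * x * g⁻¹) with hX
  have hxX : x ∈ X := mem_sup_left (mem_zpowers x)
  have hcX : c ∈ X := by
    have := mul_mem hxX (inv_mem (mem_sup_right (T := zpowers (g * x * g⁻¹)) (mem_zpowers (g * x * g⁻¹))
      : g * x * g⁻¹ ∈ X))
    simpa [hc, mul_assoc] using this
  have hcR : c ∈ R := mul_mem ((mem_normalizer_iff.1 hxR g).1 hg) (inv_mem hg)
  have hc' : x * c * x⁻¹ ∈ R := (mem_normalizer_iff.1 hxR c).1 hcR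
  set W := zpowers c ⊔ zpowers (x * c * x⁻¹) with hW
  have hWR : W ≤ R := sup_le (zpowers_le.2 hcR) (zpowers_le.2 hc')
  have hWX : W ≤ X :=
    sup_le (zpowers_le.2 hcX) (zpowers_le.2 (mul_mem (mul_mem hxX hcX) (inv_mem hxX)))
  obtain ⟨k, hk⟩ := (hR.to_le hWR).exists_card_eq
  have hgo : ∃ b : ℕ, orderOf g = q ^ b := by
    obtain ⟨b, hb⟩ := IsPGroup.iff_orderOf.1 hR ⟨g, hg⟩
    exact ⟨b, by rwa [orderOf_mk] at hb⟩
  have hk2 : k < 2 := by
    by_contra hk2
    exact h p q hp hq hpq x g hx hgo ((pow_dvd_pow q (not_lt.1 hk2)).trans (hk ▸ card_dvd_of_le hWX))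
  have hle : Nat.card W ∣ q := by
    rw [hk]; exact (pow_dvd_pow q (Nat.lt_succ_iff.1 hk2)).trans (by rw [pow_one])
  refine ⟨orderOf_dvd_iff_pow_eq_one.1
    ((orderOf_dvd_natCard W (mem_sup_left (mem_zpowers c))).trans hle), ?_⟩
  by_cases hc1 : c = 1
  · simp [hc1]
  have hco : orderOf c = q := by
    rcases (Nat.dvd_prime hq).1 ((orderOf_dvd_natCard W (mem_sup_left (mem_zpowers c))).trans hle)
      with e | e
    · exact absurd (orderOf_eq_one_iff.1 e) hc1
    · exact e
  have : zpowers c = W := eq_of_le_of_card_ge le_sup_left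
    (by rw [Nat.card_zpowers, hco]; exact Nat.le_of_dvd hq.pos hle)
  rw [this]
  exact mem_sup_right (mem_zpowers _)

/-- An element is in a subgroup when its primary parts are. -/
theorem mem_of_parts (C : Subgroup G) : ∀ (n : ℕ) (g : G), orderOf g ≤ n →
    (∀ r a : ℕ, r.Prime → ∀ y ∈ zpowers g, orderOf y = r ^ a → y ∈ C) → g ∈ C := by
  intro n
  induction n with
  | zero => intro g hn; exact absurd hn (not_le.2 (orderOf_pos g))
  | succ n ih =>
    intro g hn hparts
    by_cases h1 : orderOf g = 1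
    · rw [orderOf_eq_one_iff.1 h1]; exact one_mem _
    obtain ⟨r, hr, hrd⟩ := Nat.exists_prime_and_dvd h1
    obtain ⟨e, m, hm, hord⟩ := Nat.exists_eq_pow_mul_and_not_dvd (orderOf_pos g).ne' r hr.ne_one
    have he : 1 ≤ e := by
      by_contra he
      have : e = 0 := by omega
      rw [this, pow_zero, one_mul] at hord
      exact hm (hord ▸ hrd)
    have hmpos : 0 < m := Nat.pos_of_ne_zero fun e0 => by simp [e0] at hm
    have hgm : orderOf (g ^ m) = r ^ e := by
      rw [orderOf_pow, hord, Nat.gcd_mul_left_left, Nat.mul_div_cancel _ hmpos]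
    have hgr : orderOf (g ^ (r ^ e)) = m := by
      rw [orderOf_pow, hord, Nat.gcd_mul_right_left, Nat.mul_div_cancel_left _ (pow_pos hr.pos e)]
    have h2 : 2 ≤ r ^ e := le_trans hr.two_le (Nat.le_self_pow (by omega) r)
    have hA : g ^ (r ^ e) ∈ C := ih _ (by
      rw [hgr]
      nlinarith [hord]) fun r' a' hr' y hy ho =>
        hparts r' a' hr' y ((zpowers_le.2 (pow_mem (mem_zpowers g) _)) hy) ho
    have hB : g ^ m ∈ C := hparts r e hr _ (pow_mem (mem_zpowers g) m) hgm
    have hcop : Nat.gcd (r ^ e) m = 1 := ((hr.coprime_iff_not_dvd.2 hm).pow_left e).gcd_eq_one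
    have hbez := Nat.gcd_eq_gcd_ab (r ^ e) m
    rw [hcop, Nat.cast_one] at hbez
    rw [show g = g ^ ((1 : ℕ) : ℤ) by simp, Nat.cast_one, hbez, zpow_add, zpow_mul, zpow_mul,
      zpow_natCast, zpow_natCast]
    exact mul_mem (zpow_mem hA _) (zpow_mem hB _)

/-- `G` has a normal complement for its smallest prime. -/
theorem npc_smallest (h : Hyp G) {q : ℕ} [Fact q.Prime]
    (hmin : ∀ r : ℕ, r.Prime → r ∣ Nat.card G → q ≤ r) : Cfsg.HasNormalPComplement q G := by
  have hq := (Fact.out : q.Prime)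
  obtain ⟨P⟩ : Nonempty (Sylow q G) := inferInstance
  refine CfsgLib.Fusion.Alperin.npc_of_frobenius P fun R hRP g hg hgo => ?_
  refine mem_of_parts _ _ g le_rfl fun p a hp x hx hxo => ?_
  by_cases hxone : x = 1
  · rw [hxone]; exact one_mem _
  have hxR : x ∈ normalizer (R : Set G) := (zpowers_le.2 hg) hx
  have hxg : orderOf x ∣ orderOf g := orderOf_dvd_of_mem_zpowers hx
  have ha : a ≠ 0 := fun e => hxone (orderOf_eq_one_iff.1 (by rw [hxo, e, pow_zero]))
  have hpd : p ∣ orderOf g := (dvd_pow_self p ha).trans (hxo ▸ hxg)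
  have hpq : p ≠ q := fun e => by
    subst e
    exact hp.one_lt.ne' (Nat.eq_one_of_dvd_coprimes hgo hpd dvd_rfl)
  have hlt : q < p := lt_of_le_of_ne (hmin p hp (hpd.trans (orderOf_dvd_natCard g))) (Ne.symm hpq)
  have hR : IsPGroup q R := P.isPGroup'.to_le hRP
  rw [mem_centralizer_iff]
  intro n hn
  obtain ⟨hcq, hcmem⟩ := cyclic_comm h hp hq hpq hR ⟨a, hxo⟩ hxR hn
  set c := x * n * x⁻¹ * n⁻¹ with hc
  have hcx : x * c * x⁻¹ = c := by
    by_cases hc1 : c = 1
    · simp [hc1]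
    have hco : orderOf c = q := orderOf_eq_prime hcq hc1
    obtain ⟨k, hk⟩ := mem_zpowers_iff.1 hcmem
    have hkN : ∀ j : ℕ, x ^ j * c * (x ^ j)⁻¹ = c ^ (k ^ j) := by
      intro j
      induction j with
      | zero => simp
      | succ j ih =>
        calc x ^ (j + 1) * c * (x ^ (j + 1))⁻¹ = x * (x ^ j * c * (x ^ j)⁻¹) * x⁻¹ := by
              rw [pow_succ']; simp only [mul_inv_rev, mul_assoc]
          _ = (x * c * x⁻¹) ^ (k ^ j) := by rw [ih, conj_zpow]
          _ = c ^ (k ^ (j + 1)) := by rw [← hk, ← zpow_mul, ← pow_succ']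
    have h1 := hkN (p ^ a)
    rw [← hxo, pow_orderOf_eq_one, one_mul, inv_one, mul_one, hxo] at h1
    have h2 : ((k : ZMod q)) ^ (p ^ a) = 1 := by
      have h3 : c ^ ((k ^ (p ^ a) : ℤ) - 1) = 1 := by rw [zpow_sub, ← h1, zpow_one, mul_inv_cancel]
      have h4 := orderOf_dvd_iff_zpow_eq_one.2 h3
      rw [hco, ← ZMod.intCast_zmod_eq_zero_iff_dvd] at h4
      push_cast at h4
      exact sub_eq_zero.1 h4
    have hk0 : (k : ZMod q) ≠ 0 := fun e => by
      rw [e, zero_pow (pow_ne_zero a hp.ne_zero)] at h2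
      exact zero_ne_one h2
    have h5 : Nat.Coprime (p ^ a) (q - 1) := by
      refine Nat.Coprime.pow_left a ((hp.coprime_iff_not_dvd).2 fun hd => ?_)
      have := Nat.le_of_dvd (by have := hq.two_le; omega) hd
      omega
    have h6 := pow_gcd_eq_one.2 ⟨h2, ZMod.pow_card_sub_one_eq_one hk0⟩
    rw [h5.gcd_eq_one, pow_one] at h6
    rw [← hk]
    have h7 : ((k - 1 : ℤ) : ZMod q) = 0 := by push_cast; rw [h6, sub_self]
    rw [ZMod.intCast_zmod_eq_zero_iff_dvd, ← hco, orderOf_dvd_iff_zpow_eq_one, zpow_sub, zpow_one,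
      mul_inv_eq_one] at h7
    exact h7
  have h1 : x * n⁻¹ * x⁻¹ = n⁻¹ * c⁻¹ := by rw [hc]; group
  have hcom : Commute x c⁻¹ := by
    have : Commute x c := by
      show x * c = c * x
      nth_rewrite 2 [← hcx]; group
    exact this.inv_right
  have hcop : (orderOf x).Coprime (orderOf c⁻¹) := by
    rw [orderOf_inv, hxo]
    exact (((Nat.coprime_primes hp hq).2 hpq).pow_left a).coprime_dvd_right
      (orderOf_dvd_of_pow_eq_one hcq)
  have h2 := inv_eq_one.1 (CfsgLib.OddOrder.Stabilize.eq_one_of_conj_eq_mul h1 hcom hcop)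
  rw [hc, mul_inv_eq_one, mul_inv_eq_iff_eq_mul] at h2
  exact h2.symm

theorem isSolvable_aux : ∀ (N : ℕ) (G : Type u) [Group G] [Finite G], Nat.card G ≤ N → Hyp G →
    Group.IsSolvable G ∧ ∀ (p : ℕ) [Fact p.Prime], (∀ r : ℕ, r.Prime → r ∣ Nat.card G → r ≤ p) →
      ∀ P : Sylow p G, (P : Subgroup G).Normal := by
  intro N
  induction N with
  | zero => intro G _ _ hc; exact absurd hc (not_le.2 Nat.card_pos)
  | succ N ih =>
    intro G _ _ hc h
    by_cases h1 : Nat.card G = 1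
    · haveI : Subsingleton G := (Nat.card_eq_one_iff_unique.1 h1).1
      refine ⟨inferInstance, fun p _ _ P => ?_⟩
      rw [Subsingleton.elim (P : Subgroup G) ⊥]
      infer_instance
    have hqP : (Nat.card G).minFac.Prime := Nat.minFac_prime h1
    set q := (Nat.card G).minFac with hq
    haveI := Fact.mk hqP
    obtain ⟨Q, K, hKn, hKc⟩ := npc_smallest h (q := q)
      (fun r hr hrd => Nat.minFac_le_of_dvd hr.two_le hrd)
    haveI := hKn
    have hQ1 : 1 < Nat.card (Q : Subgroup G) :=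
      lt_of_lt_of_le hqP.one_lt (Nat.le_of_dvd Nat.card_pos (Q.dvd_card_of_dvd_card (Nat.minFac_dvd _)))
    have hKcard : Nat.card K ≤ N := by
      have := hKc.card_mul
      have := Nat.card_pos (α := K)
      nlinarith
    obtain ⟨hKs, hKP⟩ := ih K hKcard (hyp_subgroup h K)
    have hidx : K.index = Nat.card (Q : Subgroup G) := hKc.symm.index_eq_card
    haveI : Group.IsSolvable (G ⧸ K) := by
      obtain ⟨k, hk⟩ := Q.isPGroup'.exists_card_eq
      haveI := (IsPGroup.of_card (p := q) (n := k)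
        (show Nat.card (G ⧸ K) = q ^ k by rw [← Subgroup.index_eq_card, hidx, hk])).isNilpotent
      infer_instance
    refine ⟨Group.isSolvable_of_ker_le_range K.subtype (QuotientGroup.mk' K)
      (by rw [QuotientGroup.ker_mk', Subgroup.range_subtype]), ?_⟩
    intro p hpF hmax P
    have hp := hpF.out
    by_cases hpq : p = q
    · have hG : IsPGroup p G := fun y => by
        have hall : ∀ r : ℕ, r.Prime → r ∣ orderOf y → r = p := fun r hr hrd =>
          le_antisymm (hmax r hr (hrd.trans (orderOf_dvd_natCard y)))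
            (hpq ▸ Nat.minFac_le_of_dvd hr.two_le (hrd.trans (orderOf_dvd_natCard y)))
        obtain ⟨e, m, hm, hord⟩ := Nat.exists_eq_pow_mul_and_not_dvd (orderOf_pos y).ne' p hp.ne_one
        have hm1 : m = 1 := by
          by_contra hm1
          obtain ⟨r, hr, hrd⟩ := Nat.exists_prime_and_dvd hm1
          exact hm (hall r hr (hord ▸ dvd_mul_of_dvd_right hrd _) ▸ hrd)
        exact ⟨e, by rw [show p ^ e = orderOf y by rw [hord, hm1, mul_one]]; exact pow_orderOf_eq_one y⟩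
      have hPtop : (⊤ : Subgroup G) = P := P.is_maximal' (hG.to_subgroup ⊤) le_top
      rw [← hPtop]
      infer_instance
    have hPK : (P : Subgroup G) ≤ K := by
      intro y hy
      rw [← QuotientGroup.eq_one_iff, ← orderOf_eq_one_iff]
      obtain ⟨j, hj⟩ := IsPGroup.iff_orderOf.1 P.isPGroup' ⟨y, hy⟩
      rw [orderOf_mk] at hj
      obtain ⟨k, hk⟩ := Q.isPGroup'.exists_card_eq
      refine Nat.eq_one_of_dvd_coprimes (((Nat.coprime_primes hp hqP).2 hpq).pow j k)
        (hj ▸ orderOf_map_dvd (QuotientGroup.mk' K) y) ?_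
      rw [← hk, ← hidx, Subgroup.index_eq_card]
      exact orderOf_dvd_natCard _
    haveI : (P.subtype hPK : Subgroup K).Normal :=
      hKP p (fun r hr hrd => hmax r hr (hrd.trans (Subgroup.card_subgroup_dvd_card K))) _
    haveI : (P.subtype hPK : Subgroup K).Characteristic :=
      Sylow.characteristic_of_normal _ inferInstance
    have hn : ((P.subtype hPK : Subgroup K).map K.subtype).Normal :=
      ConjAct.normal_of_characteristic_of_normal
    rwa [Sylow.coe_subtype, Subgroup.subgroupOf_map_subtype, inf_eq_left.2 hPK] at hn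

/-! ### The linear part -/

/-- `x` acts on `W` as a power map. -/
def Pw (x : G) (W : Subgroup G) : Prop := ∃ k : ℤ, ∀ w ∈ W, x * w * x⁻¹ = w ^ k

theorem pw_of_cyclic {q : ℕ} [Fact q.Prime] {W : Subgroup G} (hab : ∀ u ∈ W, ∀ v ∈ W, u * v = v * u)
    (hexp : ∀ w ∈ W, w ^ q = 1) (x : G) (hcyc : ∀ w ∈ W, x * w * x⁻¹ ∈ zpowers w) : Pw x W := by
  by_cases hW : W = ⊥
  · refine ⟨1, fun w hw => ?_⟩
    rw [hW, mem_bot] at hw
    simp [hw]
  obtain ⟨n0, hn0, hn01⟩ := W.bot_or_exists_ne_one.resolve_left hW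
  obtain ⟨k, hk⟩ := mem_zpowers_iff.1 (hcyc n0 hn0)
  refine ⟨k, fun n hn => ?_⟩
  obtain ⟨l, hl⟩ := mem_zpowers_iff.1 (hcyc n hn)
  by_cases hmem : n ∈ zpowers n0
  · obtain ⟨i, rfl⟩ := mem_zpowers_iff.1 hmem
    rw [← conj_zpow, ← hk, ← zpow_mul, ← zpow_mul, mul_comm]
  obtain ⟨m, hm⟩ := mem_zpowers_iff.1 (hcyc (n * n0) (W.mul_mem hn hn0))
  have hc : Commute n n0 := hab n hn n0 hn0
  have e : n ^ m * n0 ^ m = n ^ l * n0 ^ k := by
    rw [← hc.mul_zpow, hm, hl, hk]; group
  have e2 : n ^ (m - l) = n0 ^ (k - m) := by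
    have h' : n ^ (-l) * (n ^ m * n0 ^ m) * n0 ^ (-m) = n ^ (-l) * (n ^ l * n0 ^ k) * n0 ^ (-m) := by
      rw [e]
    rw [sub_eq_neg_add, sub_eq_add_neg, zpow_add, zpow_add]
    simpa [mul_assoc] using h'
  have hdiv : (q : ℤ) ∣ m - l := by
    by_contra hnd
    apply hmem
    have hone : (orderOf n : ℤ) = q := by
      rw [orderOf_eq_prime (hexp n hn) fun e => hmem (e ▸ one_mem _)]
    have hcop : IsCoprime (m - l) (q : ℤ) :=
      ((Nat.prime_iff_prime_int.1 (Fact.out : q.Prime)).irreducible.coprime_iff_not_dvd.2 hnd).symm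
    obtain ⟨u, v, huv⟩ := hcop
    have : n = (n ^ (m - l)) ^ u := by
      have h3 : n ^ (v * (q : ℤ)) = 1 := by
        rw [← hone]; exact orderOf_dvd_iff_zpow_eq_one.1 (dvd_mul_left _ _)
      rw [← zpow_mul, mul_comm (m - l) u]
      calc n = n ^ (u * (m - l) + v * (q : ℤ)) := by rw [huv, zpow_one]
        _ = n ^ (u * (m - l)) := by rw [zpow_add, h3, mul_one]
    rw [this, e2]
    exact zpow_mem (zpow_mem (mem_zpowers n0) _) _
  have hzq : ∀ w ∈ W, ∀ i : ℤ, (q : ℤ) ∣ i → w ^ i = 1 := by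
    rintro w hw i ⟨c, rfl⟩
    rw [zpow_mul, zpow_natCast, hexp w hw, one_zpow]
  have hdiv2 : (q : ℤ) ∣ k - m := by
    rw [hzq n hn _ hdiv] at e2
    have := orderOf_dvd_iff_zpow_eq_one.2 e2.symm
    rwa [orderOf_eq_prime (hexp n0 hn0) hn01] at this
  rw [← hl]
  have := hzq n hn (k - l) (by
    have := dvd_add hdiv2 hdiv
    rwa [sub_add_sub_cancel] at this)
  rw [zpow_sub, mul_inv_eq_one] at this
  exact this.symm

theorem pw_mem {q : ℕ} [Fact q.Prime] {W : Subgroup G} (hexp : ∀ w ∈ W, w ^ q = 1) {x : G}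
    (hx : Pw x W) {w0 : G} (hw0 : w0 ∈ W) (hne : w0 ≠ 1) (hfix : x * w0 * x⁻¹ = w0) :
    ∀ w ∈ W, x * w * x⁻¹ = w := by
  obtain ⟨k, hk⟩ := hx
  intro w hw
  have h1 : w0 ^ (k - 1) = 1 := by rw [zpow_sub, zpow_one, ← hk w0 hw0, hfix, mul_inv_cancel]
  have h2 := orderOf_dvd_iff_zpow_eq_one.2 h1
  rw [orderOf_eq_prime (hexp w0 hw0) hne] at h2
  obtain ⟨c, hc⟩ := h2
  rw [hk w hw, show k = 1 + (q : ℤ) * c by omega, zpow_add, zpow_mul, zpow_natCast, hexp w hw]
  simp

theorem pw_mul {W : Subgroup G} {x y : G} (hx : Pw x W) (hy : Pw y W) : Pw (x * y) W := by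
  obtain ⟨k, hk⟩ := hx
  obtain ⟨l, hl⟩ := hy
  refine ⟨l * k, fun w hw => ?_⟩
  calc x * y * w * (x * y)⁻¹ = x * (y * w * y⁻¹) * x⁻¹ := by group
    _ = w ^ (l * k) := by rw [hl w hw, hk _ (zpow_mem hw l), zpow_mul]

/-- The setting: `N` elementary of exponent `q`, `M` a faithful irreducible complement. -/
structure Setting (q : ℕ) (N M : Subgroup G) : Prop where
  hyp : Hyp G
  ab : ∀ u ∈ N, ∀ v ∈ N, u * v = v * u
  exp : ∀ u ∈ N, u ^ q = 1
  normal : N.Normal
  top : N ⊔ M = ⊤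
  faith : ∀ m ∈ M, (∀ n ∈ N, m * n * m⁻¹ = n) → m = 1
  minimal : ∀ K : Subgroup G, K.Normal → K ≤ N → K = ⊥ ∨ K = N
  cop : ¬ q ∣ Nat.card M
  largest : ∀ r : ℕ, r.Prime → r ∣ Nat.card G → r ≤ q

variable {q : ℕ} [Fact q.Prime] {N M : Subgroup G}

theorem Setting.conj_mem (hS : Setting q N M) (x : G) {n : G} (hn : n ∈ N) : x * n * x⁻¹ ∈ N :=
  hS.normal.conj_mem n hn x

theorem Setting.comm_cyclic (hS : Setting q N M) {x : G} (hx : x ∈ M) {r a : ℕ} (hr : r.Prime)
    (hxo : orderOf x = r ^ a) {n : G} (hn : n ∈ N) :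
    x * (x * n * x⁻¹ * n⁻¹) * x⁻¹ ∈ zpowers (x * n * x⁻¹ * n⁻¹) := by
  by_cases hx1 : x = 1
  · simp [hx1]
  have hrq : r ≠ q := fun e => by
    have ha : a ≠ 0 := fun e0 => hx1 (orderOf_eq_one_iff.1 (by rw [hxo, e0, pow_zero]))
    refine hS.cop (e ▸ (dvd_pow_self r ha).trans ?_)
    rw [← hxo]; exact orderOf_dvd_natCard M hx
  have hNq : IsPGroup q N := fun u => ⟨1, Subtype.ext (by simpa using hS.exp u u.2)⟩
  exact (cyclic_comm hS.hyp hr (Fact.out : q.Prime) hrq hNq ⟨a, hxo⟩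
    (by rw [normalizer_eq_top_iff.2 hS.normal]; exact mem_top x) hn).2

/-- A fixed-point-free prime-power element is a power map. -/
theorem Setting.pw_of_fpf (hS : Setting q N M) {x : G} (hx : x ∈ M) {r a : ℕ} (hr : r.Prime)
    (hxo : orderOf x = r ^ a) (hfix : ∀ n ∈ N, x * n * x⁻¹ = n → n = 1) : Pw x N := by
  refine pw_of_cyclic hS.ab hS.exp x fun w hw => ?_
  let δ : N → N := fun n => ⟨x * n * x⁻¹ * (n : G)⁻¹, mul_mem (hS.conj_mem x n.2) (inv_mem n.2)⟩
  have hinj : Function.Injective δ := by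
    intro u v huv
    have e : x * u * x⁻¹ * (u : G)⁻¹ = x * v * x⁻¹ * (v : G)⁻¹ := congrArg Subtype.val huv
    refine Subtype.ext ?_
    have h2 : x * ((v : G)⁻¹ * u) * x⁻¹ = (v : G)⁻¹ * u := by
      calc x * ((v : G)⁻¹ * u) * x⁻¹ = (x * v * x⁻¹)⁻¹ * (x * u * x⁻¹ * (u : G)⁻¹) * u := by group
        _ = (v : G)⁻¹ * u := by rw [e]; group
    exact (inv_mul_eq_one.1 (hfix _ (mul_mem (inv_mem v.2) u.2) h2)).symm
  obtain ⟨n, hn⟩ := (Finite.injective_iff_surjective.1 hinj) ⟨w, hw⟩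
  rw [← show x * (n : G) * x⁻¹ * (n : G)⁻¹ = w from congrArg Subtype.val hn]
  exact hS.comm_cyclic hx hr hxo n.2

/-- The commutator image, on which a prime-power element is a power map. -/
theorem Setting.exists_image (hS : Setting q N M) {x : G} (hx : x ∈ M) {r a : ℕ} (hr : r.Prime)
    (hxo : orderOf x = r ^ a) :
    ∃ W : Subgroup G, W ≤ N ∧ (∀ n ∈ N, x * n * x⁻¹ * n⁻¹ ∈ W) ∧ Pw x W := by
  let δ : N →* G := MonoidHom.mk' (fun n => x * n * x⁻¹ * (n : G)⁻¹) fun u v => by
    have h1 : (u : G)⁻¹ * (x * v * x⁻¹ * (v : G)⁻¹) = (x * v * x⁻¹ * (v : G)⁻¹) * (u : G)⁻¹ :=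
      hS.ab _ (inv_mem u.2) _ (mul_mem (hS.conj_mem x v.2) (inv_mem v.2))
    show x * ((u : G) * v) * x⁻¹ * ((u : G) * v)⁻¹ = _
    calc x * ((u : G) * v) * x⁻¹ * ((u : G) * v)⁻¹
        = x * u * x⁻¹ * ((x * v * x⁻¹ * (v : G)⁻¹) * (u : G)⁻¹) := by group
      _ = _ := by rw [← h1]; group
  have hle : δ.range ≤ N := by
    rintro _ ⟨n, rfl⟩; exact mul_mem (hS.conj_mem x n.2) (inv_mem n.2)
  refine ⟨δ.range, hle, fun n hn => ⟨⟨n, hn⟩, rfl⟩,
    pw_of_cyclic (fun u hu v hv => hS.ab u (hle hu) v (hle hv)) (fun w hw => hS.exp w (hle hw)) x ?_⟩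
  rintro _ ⟨n, rfl⟩
  exact hS.comm_cyclic hx hr hxo n.2

/-- Power maps are central in `M`. -/
theorem Setting.commute_of_pw (hS : Setting q N M) {z m : G} (hz : z ∈ M) (hp : Pw z N) (hm : m ∈ M) :
    Commute m z := by
  obtain ⟨k, hk⟩ := hp
  have := hS.faith (m * z * m⁻¹ * z⁻¹) (mul_mem (mul_mem (mul_mem hm hz) (inv_mem hm)) (inv_mem hz))
    fun n hn => by
      have h1 : z⁻¹ * n * z ∈ N := by simpa using hS.conj_mem z⁻¹ hn
      have h3 : m⁻¹ * (z⁻¹ * n * z) * m ∈ N := by simpa using hS.conj_mem m⁻¹ h1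
      calc m * z * m⁻¹ * z⁻¹ * n * (m * z * m⁻¹ * z⁻¹)⁻¹
          = m * (z * (m⁻¹ * (z⁻¹ * n * z) * m) * z⁻¹) * m⁻¹ := by group
        _ = m * (m⁻¹ * (z⁻¹ * n * z) * m) ^ k * m⁻¹ := by rw [hk _ h3]
        _ = (z⁻¹ * n * z) ^ k := by rw [← conj_zpow]; group
        _ = z * (z⁻¹ * n * z) * z⁻¹ := (hk _ h1).symm
        _ = n := by group
  show m * z = z * m
  calc m * z = (m * z * m⁻¹ * z⁻¹) * (z * m) := by group
    _ = z * m := by rw [this, one_mul]

/-- A prime-power element generating an invariant subgroup is a power map. -/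
theorem Setting.pw_of_invariant (hS : Setting q N M) {x : G} (hx : x ∈ M) {r a : ℕ} (hr : r.Prime)
    (hxo : orderOf x = r ^ a) (hinv : ∀ m ∈ M, m * x * m⁻¹ ∈ zpowers x) : Pw x N := by
  haveI := hS.normal
  set F := N ⊓ centralizer ({x} : Set G) with hF
  have hFn : F.Normal := by
    rw [← normalizer_eq_top_iff, eq_top_iff, ← hS.top]
    refine sup_le (fun n hn => ?_) (fun m hm => ?_)
    · rw [mem_normalizer_iff]
      intro f
      constructor
      · intro hf
        rw [hS.ab n hn f hf.1, mul_inv_cancel_right]; exact hf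
      · intro hf
        have hfN : f ∈ N := by simpa [mul_assoc] using hS.conj_mem n⁻¹ hf.1
        rwa [hS.ab n hn f hfN, mul_inv_cancel_right] at hf
    · rw [mem_normalizer_iff_map_conj_eq]
      refine eq_of_le_of_card_ge ?_ (card_map_of_injective (MulAut.conj m).injective).ge
      rintro _ ⟨f, hf, rfl⟩
      refine mem_inf.2 ⟨hS.conj_mem m hf.1, ?_⟩
      obtain ⟨i, hi⟩ := mem_zpowers_iff.1 (show m⁻¹ * x * m ∈ zpowers x by
        simpa using hinv m⁻¹ (inv_mem hm))
      have hfx : Commute f x := mem_centralizer_singleton_iff.1 (mem_inf.1 hf).2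
      rw [mem_centralizer_singleton_iff]
      show m * f * m⁻¹ * x = x * (m * f * m⁻¹)
      calc m * f * m⁻¹ * x = m * (f * (m⁻¹ * x * m)) * m⁻¹ := by group
        _ = m * ((m⁻¹ * x * m) * f) * m⁻¹ := by rw [← hi, (hfx.zpow_right i).eq]
        _ = x * (m * f * m⁻¹) := by group
  rcases hS.minimal F hFn inf_le_left with h | h
  · refine hS.pw_of_fpf hx hr hxo fun n hn hfix => ?_
    have : n ∈ F := mem_inf.2 ⟨hn, mem_centralizer_singleton_iff.2 (by
      nth_rewrite 1 [← hfix]; group)⟩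
    rwa [h, mem_bot] at this
  · have : x = 1 := hS.faith x hx fun n hn => by
      have := mem_centralizer_singleton_iff.1 (mem_inf.1 (h.symm ▸ hn : n ∈ F)).2
      rw [← this, mul_inv_cancel_right]
    exact ⟨1, fun w _ => by simp [this]⟩

theorem Setting.all_pw (hS : Setting q N M) (hN : N ≠ ⊥) (hSS : Cfsg.IsSupersolvable M) :
    ∀ m ∈ M, Pw m N := by
  haveI := hS.normal
  let Zs : Submonoid M :=
    { carrier := {m | Pw (m : G) N}
      one_mem' := ⟨1, fun w _ => by simp⟩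
      mul_mem' := fun hu hv => pw_mul hu hv }
  let Z : Subgroup M :=
    { Zs with
      inv_mem' := fun {m} hm => by
        have h2 : m ^ (orderOf m - 1) ∈ Zs := pow_mem hm _
        rw [show m⁻¹ = m ^ (orderOf m - 1) from inv_eq_of_mul_eq_one_right (by
          rw [← pow_succ', Nat.sub_add_cancel (orderOf_pos m), pow_orderOf_eq_one])]
        exact h2 }
  have hmemZ : ∀ m : M, m ∈ Z ↔ Pw (m : G) N := fun _ => Iff.rfl
  haveI : Z.Normal := ⟨fun z hz m => by
    have hc := hS.commute_of_pw z.2 hz m.2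
    have : m * z * m⁻¹ = z := Subtype.ext (by simp [hc.eq])
    rwa [this]⟩
  by_contra hcon
  push Not at hcon
  obtain ⟨m1, hm1, hm1'⟩ := hcon
  haveI : Nontrivial (M ⧸ Z) := QuotientGroup.nontrivial_iff.2 fun e => hm1'
    ((hmemZ ⟨m1, hm1⟩).1 (e ▸ mem_top _))
  obtain ⟨Cb, hCbn, hCbp⟩ :=
    CfsgLib.Solvable.Supersolvable.exists_prime_normal (CfsgLib.Solvable.Supersolvable.quotient Z hSS)
  set r := Nat.card Cb with hr
  haveI := Fact.mk hCbp
  obtain ⟨⟨bb, hbb⟩, hbbo⟩ := exists_prime_orderOf_dvd_card' (G := Cb) r dvd_rfl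
  rw [orderOf_mk] at hbbo
  have hgenC : zpowers bb = Cb := eq_of_le_of_card_ge (zpowers_le.2 hbb)
    (by rw [Nat.card_zpowers, hbbo])
  -- a prime-power lift
  obtain ⟨⟨a, haM⟩, ⟨ea, hao⟩, rfl⟩ :=
    exists_lift (QuotientGroup.mk' Z) (QuotientGroup.mk'_surjective Z) hCbp (y := bb)
      ⟨1, by rw [hbbo, pow_one]⟩
  rw [orderOf_mk] at hao
  have haZ : ¬ Pw a N := fun hp => by
    rw [QuotientGroup.mk'_apply, (QuotientGroup.eq_one_iff _).2 ((hmemZ ⟨a, haM⟩).2 hp), orderOf_one] at hbbo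
    exact hCbp.one_lt.ne hbbo
  have hdec : ∀ m : G, m ∈ M → ∃ (z : G) (j : ℤ), z ∈ M ∧ Pw z N ∧ m * a * m⁻¹ = z * a ^ j := by
    intro m hm
    set mm : M := ⟨m, hm⟩
    set aa : M := ⟨a, haM⟩
    have h1 : (QuotientGroup.mk (mm * aa * mm⁻¹) : M ⧸ Z) ∈ Cb :=
      hCbn.conj_mem _ hbb (QuotientGroup.mk mm)
    rw [← hgenC, mem_zpowers_iff] at h1
    obtain ⟨j, hj⟩ := h1
    rw [QuotientGroup.mk'_apply, ← QuotientGroup.mk_zpow, QuotientGroup.eq] at hj
    refine ⟨((mm * aa * mm⁻¹) * (aa ^ j)⁻¹ : M), j, Subtype.prop _, (hmemZ _).1 ?_, by simp [mm, aa]⟩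
    have := (inferInstance : Z.Normal).conj_mem _ hj (aa ^ j)
    simpa [mul_assoc] using this
  obtain ⟨m, hm, hnot⟩ : ∃ m ∈ M, m * a * m⁻¹ ∉ zpowers a := by
    by_contra hc
    push Not at hc
    exact haZ (hS.pw_of_invariant haM hCbp hao hc)
  obtain ⟨z, j, hzM, hzP, hmaz⟩ := hdec m hm
  have hz1 : z ≠ 1 := fun e => hnot (by
    rw [hmaz, e, one_mul]; exact zpow_mem (mem_zpowers a) j)
  have hzc : ∀ y ∈ M, Commute y z := fun y hy => hS.commute_of_pw hzM hzP hy
  obtain ⟨v0, hv0, hv01, hv0f⟩ : ∃ v0 ∈ N, v0 ≠ 1 ∧ a * v0 * a⁻¹ = v0 := by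
    by_contra hc
    push Not at hc
    exact haZ (hS.pw_of_fpf haM hCbp hao fun n hn hf => by
      by_contra hn1; exact hc n hn hn1 hf)
  have har : a ^ r = 1 := by
    have hp : Pw (a ^ r) N := by
      have h2 : (⟨a, haM⟩ : M) ^ r ∈ Z := by
        rw [← QuotientGroup.eq_one_iff, QuotientGroup.mk_pow]
        exact orderOf_dvd_iff_pow_eq_one.1 hbbo.dvd
      exact (hmemZ _).1 h2
    refine hS.faith _ (pow_mem haM r) (pw_mem hS.exp hp hv0 hv01 ?_)
    have hc : Commute a v0 := mul_inv_eq_iff_eq_mul.1 hv0f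
    rw [(hc.pow_left r).eq, mul_inv_cancel_right]
  have hza : ∀ i : ℤ, Commute z (a ^ i) := fun i => ((hzc a haM).zpow_left i).symm
  have hzr : z ^ r = 1 := by
    have h1 : (m * a * m⁻¹) ^ r = 1 := by rw [conj_pow, har, mul_one, mul_inv_cancel]
    rw [hmaz, (hza j).mul_pow, ← zpow_natCast (a ^ j), zpow_comm, zpow_natCast, har, one_zpow,
      mul_one] at h1
    exact h1
  -- a power map fixing a nontrivial element is trivial
  have hzfix : ∀ v ∈ N, v ≠ 1 → z * v * z⁻¹ ≠ v := fun v hv hv1 e =>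
    hz1 (hS.faith z hzM (pw_mem hS.exp hzP hv hv1 e))
  by_cases hr2 : r = 2
  · -- `r = 2`: an element of order 4 would have to be a power map
    have hq2 : q ≠ 2 := fun e => by
      refine hS.cop (e ▸ hr2 ▸ ?_)
      have h2 : orderOf (⟨a, haM⟩ : M) = r := by
        refine orderOf_eq_prime (Subtype.ext (by simpa using har)) fun e1 => ?_
        have : a = 1 := congrArg Subtype.val e1
        exact haZ ⟨1, fun w _ => by simp [this]⟩
      exact h2 ▸ orderOf_dvd_natCard _
    have ha2 : a * a = 1 := by rw [← pow_two, ← hr2]; exact har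
    have hz2 : z * z = 1 := by rw [← pow_two, ← hr2]; exact hzr
    have hzinv : ∀ v ∈ N, z * v * z⁻¹ = v⁻¹ := by
      intro v hv
      have hw : (z * v * z⁻¹) * v ∈ N := mul_mem (hS.conj_mem z hv) hv
      have hfix : z * (z * v * z⁻¹ * v) * z⁻¹ = z * v * z⁻¹ * v := by
        calc z * (z * v * z⁻¹ * v) * z⁻¹ = (z * z) * v * (z * z)⁻¹ * (z * v * z⁻¹) := by group
          _ = v * (z * v * z⁻¹) := by rw [hz2]; simp
          _ = z * v * z⁻¹ * v := hS.ab v hv _ (hS.conj_mem z hv)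
      by_contra hne
      refine hzfix _ hw (fun e => hne ?_) hfix
      exact eq_inv_of_mul_eq_one_left e
    have hma : m * a * m⁻¹ = z * a := by
      rcases Int.even_or_odd j with ⟨i, rfl⟩ | ⟨i, rfl⟩
      · exfalso
        rw [zpow_add, ← (Commute.refl a).mul_zpow, ha2, one_zpow, mul_one] at hmaz
        have hc := hzc m hm
        have : a = z := by
          calc a = m⁻¹ * (m * a * m⁻¹) * m := by group
            _ = m⁻¹ * (z * m) := by rw [hmaz]; group
            _ = z := by rw [← hc.eq, inv_mul_cancel_left]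
        exact haZ (this ▸ hzP)
      · rw [zpow_add, zpow_mul, zpow_two, ha2, one_zpow, one_mul, zpow_one] at hmaz
        exact hmaz
    -- replace `m` by its 2-part
    obtain ⟨e, s, hs, hord⟩ := Nat.exists_eq_pow_mul_and_not_dvd (orderOf_pos m).ne' 2 (by norm_num)
    have hstep : ∀ i : ℕ, m ^ i * a * (m ^ i)⁻¹ = z ^ i * a := by
      intro i
      induction i with
      | zero => simp
      | succ i ih =>
        calc m ^ (i + 1) * a * (m ^ (i + 1))⁻¹ = m * (m ^ i * a * (m ^ i)⁻¹) * m⁻¹ := by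
              rw [pow_succ']; simp only [mul_inv_rev, mul_assoc]
          _ = (m * z ^ i * m⁻¹) * (m * a * m⁻¹) := by rw [ih]; group
          _ = z ^ i * (z * a) := by rw [((hzc m hm).pow_right i).eq, mul_inv_cancel_right, hma]
          _ = z ^ (i + 1) * a := by rw [← mul_assoc, pow_succ]
    have hm0a : m ^ s * a * (m ^ s)⁻¹ = z * a := by
      obtain ⟨i, rfl⟩ : Odd s := Nat.not_even_iff_odd.1 fun he => hs he.two_dvd
      rw [hstep, pow_succ, pow_mul, pow_two, hz2, one_pow, one_mul]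
    set m0 := m ^ s with hm0
    have hm0M : m0 ∈ M := pow_mem hm s
    have hm0o : ∃ t : ℕ, orderOf m0 = 2 ^ t := by
      refine ⟨e, ?_⟩
      rw [hm0, orderOf_pow, hord, Nat.gcd_mul_left_left,
        Nat.mul_div_cancel _ (Nat.pos_of_ne_zero fun e0 => by simp [e0] at hs)]
    obtain ⟨t, ht⟩ := hm0o
    obtain ⟨u, hu, hu1, huf⟩ : ∃ u ∈ N, u ≠ 1 ∧ m0 * u * m0⁻¹ = u := by
      by_contra hc
      push Not at hc
      have hp := hS.pw_of_fpf hm0M Nat.prime_two ht fun n hn hf => by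
        by_contra hn1; exact hc n hn hn1 hf
      have hc2 := (hS.commute_of_pw hm0M hp haM)
      rw [← hc2.eq, mul_inv_cancel_right] at hm0a
      exact hz1 (right_eq_mul.1 hm0a)
    set c := a * u * a⁻¹ with hc
    have hcN : c ∈ N := hS.conj_mem a hu
    have hmc : m0 * c * m0⁻¹ = c⁻¹ := by
      calc m0 * c * m0⁻¹ = (m0 * a * m0⁻¹) * (m0 * u * m0⁻¹) * (m0 * a * m0⁻¹)⁻¹ := by
            rw [hc]; group
        _ = z * c * z⁻¹ := by rw [hm0a, huf, hc]; group
        _ = c⁻¹ := hzinv c hcN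
    obtain ⟨W, hWN, hWmem, hWp⟩ := hS.exists_image hm0M Nat.prime_two ht
    have hcne : c ≠ 1 := fun e => hu1 (by
      have := congrArg (fun y => a⁻¹ * y * a) e
      simpa [hc, mul_assoc] using this)
    have hc2ne : c⁻¹ * c⁻¹ ≠ 1 := by
      intro e
      refine hcne ?_
      have h1 : c ^ 2 = 1 := by
        rw [← inv_eq_one, pow_two, mul_inv_rev]; exact e
      have h2 := pow_gcd_eq_one.2 ⟨h1, hS.exp c hcN⟩
      rwa [((Nat.coprime_primes Nat.prime_two Fact.out).2 (Ne.symm hq2)).gcd_eq_one, pow_one] at h2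
    have hWc : c⁻¹ * c⁻¹ ∈ W := by
      have := hWmem c hcN
      rwa [hmc] at this
    have hWinv : ∀ w ∈ W, m0 * w * m0⁻¹ = w⁻¹ := by
      intro w hw
      have hzm : Pw (z * m0) W := pw_mul
        (by obtain ⟨k, hk⟩ := hzP; exact ⟨k, fun v hv => hk v (hWN hv)⟩) hWp
      have hfixc : z * m0 * (c⁻¹ * c⁻¹) * (z * m0)⁻¹ = c⁻¹ * c⁻¹ := by
        calc z * m0 * (c⁻¹ * c⁻¹) * (z * m0)⁻¹
            = z * ((m0 * c * m0⁻¹)⁻¹ * (m0 * c * m0⁻¹)⁻¹) * z⁻¹ := by group
          _ = z * (c * c) * z⁻¹ := by rw [hmc, inv_inv]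
          _ = c⁻¹ * c⁻¹ := by rw [hzinv _ (mul_mem hcN hcN), mul_inv_rev]
      have := pw_mem (fun v hv => hS.exp v (hWN hv)) hzm hWc hc2ne hfixc w hw
      calc m0 * w * m0⁻¹ = z⁻¹ * (z * m0 * w * (z * m0)⁻¹) * z := by group
        _ = z⁻¹ * w * z := by rw [this]
        _ = z⁻¹ * (w⁻¹)⁻¹ * z := by rw [inv_inv]
        _ = z⁻¹ * (z * w⁻¹ * z⁻¹) * z := by rw [hzinv _ (inv_mem (hWN hw))]
        _ = w⁻¹ := by group
    have hm02 : m0 * m0 = 1 := hS.faith _ (mul_mem hm0M hm0M) fun n hn => by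
      have h1 := hWinv _ (hWmem n hn)
      calc m0 * m0 * n * (m0 * m0)⁻¹
          = (m0 * (m0 * n * m0⁻¹ * n⁻¹) * m0⁻¹) * (m0 * n * m0⁻¹ * n⁻¹) * n := by group
        _ = n := by rw [h1, inv_mul_cancel, one_mul]
    have hbsq : (a * m0) * (a * m0) = z := by
      calc (a * m0) * (a * m0) = a * (m0 * a * m0⁻¹) * (m0 * m0) := by group
        _ = (a * z) * a := by rw [hm0a, hm02, mul_one, mul_assoc]
        _ = z := by rw [(hzc a haM).eq, mul_assoc, ha2, mul_one]
    have hb4 : orderOf (a * m0) ∣ 2 ^ 2 := by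
      refine orderOf_dvd_of_pow_eq_one ?_
      rw [show (2 : ℕ) ^ 2 = 2 + 2 by norm_num, pow_add, pow_two, hbsq, hz2]
    obtain ⟨t', -, ht'⟩ := (Nat.dvd_prime_pow Nat.prime_two).1 hb4
    have hb := hS.pw_of_fpf (mul_mem haM hm0M) Nat.prime_two ht' fun n hn hf => by
      by_contra hn1
      refine hzfix n hn hn1 ?_
      rw [← hbsq]
      calc a * m0 * (a * m0) * n * (a * m0 * (a * m0))⁻¹
          = a * m0 * ((a * m0) * n * (a * m0)⁻¹) * (a * m0)⁻¹ := by group
        _ = n := by rw [hf, hf]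
    have h1 : a * (a * m0) = (a * m0) * a := (hS.commute_of_pw (mul_mem haM hm0M) hb haM).eq
    rw [mul_assoc a m0 a] at h1
    have h2 := mul_left_cancel h1
    rw [← h2, mul_inv_cancel_right] at hm0a
    exact hz1 (right_eq_mul.1 hm0a)
  · -- `r` odd
    obtain ⟨W, hWN, hWmem, hWp⟩ := hS.exists_image haM hCbp hao
    have hW1 : ∀ i : ℕ, i = 1 ∨ i = 2 → ∀ w ∈ W, z * a ^ i * w * (z * a ^ i)⁻¹ = w := by
      intro i hi
      have hb : Commute (z * a ^ i) a := (hzc a haM).symm.mul_left ((Commute.refl a).pow_left i)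
      have hbo : orderOf (z * a ^ i) ∣ r ^ 1 := by
        refine orderOf_dvd_of_pow_eq_one ?_
        rw [pow_one, (((hzc a haM).symm).pow_right i).mul_pow, hzr, one_mul, ← pow_mul, mul_comm,
          pow_mul, har, one_pow]
      obtain ⟨t, -, ht⟩ := (Nat.dvd_prime_pow hCbp).1 hbo
      obtain ⟨v, hv, hv1, hvf⟩ : ∃ v ∈ N, v ≠ 1 ∧ z * a ^ i * v * (z * a ^ i)⁻¹ = v := by
        by_contra hc
        push Not at hc
        have hp := hS.pw_of_fpf (mul_mem hzM (pow_mem haM i)) hCbp ht fun n hn hf => by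
          by_contra hn1; exact hc n hn hn1 hf
        refine haZ ?_
        have hcop : Nat.Coprime i r := by
          rcases hi with rfl | rfl
          · exact Nat.coprime_one_left r
          · exact (Nat.coprime_primes Nat.prime_two hCbp).2 (Ne.symm hr2)
        have hai : (⟨a, haM⟩ : M) ^ i ∈ Z := by
          have h2 : (⟨z, hzM⟩ : M) * ⟨a, haM⟩ ^ i ∈ Z := (hmemZ _).2 hp
          exact (mul_mem_cancel_left ((hmemZ ⟨z, hzM⟩).2 hzP)).1 h2
        obtain ⟨t2, ht2⟩ := exists_pow_eq_self_of_coprime (x := (⟨a, haM⟩ : M)) (n := i) (by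
          rw [orderOf_mk]
          exact hcop.coprime_dvd_right (orderOf_dvd_of_pow_eq_one har))
        exact (hmemZ _).1 (ht2 ▸ pow_mem hai t2)
      set b := z * a ^ i with hbdef
      set w0 := a * v * a⁻¹ * v⁻¹ with hw0
      have hw0f : b * w0 * b⁻¹ = w0 := by
        have hba : b * a * b⁻¹ = a := by rw [hb.eq, mul_inv_cancel_right]
        calc b * w0 * b⁻¹ = (b * a * b⁻¹) * (b * v * b⁻¹) * (b * a * b⁻¹)⁻¹ * (b * v * b⁻¹)⁻¹ := by
              rw [hw0]; group
          _ = w0 := by rw [hba, hvf]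
      have hbW : Pw b W := by
        refine pw_mul (by obtain ⟨k, hk⟩ := hzP; exact ⟨k, fun v hv => hk v (hWN hv)⟩) ?_
        rcases hi with rfl | rfl
        · rw [pow_one]; exact hWp
        · rw [pow_two]; exact pw_mul hWp hWp
      by_cases hw01 : w0 = 1
      · exfalso
        have hav : a * v * a⁻¹ = v := mul_inv_eq_one.1 hw01
        refine hzfix v hv hv1 ?_
        have hai : a ^ i * v = v * a ^ i :=
          ((show Commute a v from mul_inv_eq_iff_eq_mul.1 hav).pow_left i).eq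
        calc z * v * z⁻¹ = z * (v * a ^ i) * (z * a ^ i)⁻¹ := by group
          _ = z * a ^ i * v * (z * a ^ i)⁻¹ := by rw [← hai, ← mul_assoc z]
          _ = v := hvf
      · exact pw_mem (fun u hu => hS.exp u (hWN hu)) hbW (hWmem v hv) hw01 hw0f
    have hfixW : ∀ w ∈ W, a * w * a⁻¹ = w := fun w hw => by
      have h1 := hW1 1 (Or.inl rfl) w hw
      have h2 := hW1 2 (Or.inr rfl) w hw
      rw [pow_one] at h1
      calc a * w * a⁻¹ = a * (z * a * w * (z * a)⁻¹) * a⁻¹ := by rw [h1]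
        _ = (a * z) * a * w * ((a * z) * a)⁻¹ := by group
        _ = z * a ^ 2 * w * (z * a ^ 2)⁻¹ := by rw [(hzc a haM).eq, pow_two, mul_assoc z a a]
        _ = w := h2
    refine haZ ⟨1, fun n hn => ?_⟩
    rw [zpow_one]
    have h1 : a * n⁻¹ * a⁻¹ = n⁻¹ * (a * n * a⁻¹ * n⁻¹)⁻¹ := by group
    have hw := hWmem n hn
    have h2 := hfixW _ hw
    have hc : Commute a (a * n * a⁻¹ * n⁻¹)⁻¹ := (show Commute a _ from mul_inv_eq_iff_eq_mul.1 h2).inv_right
    have hcop : (orderOf a).Coprime (orderOf (a * n * a⁻¹ * n⁻¹)⁻¹) := by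
      rw [orderOf_inv]
      have hrq : r ≠ q := fun e => by
        refine hS.cop (e ▸ ?_)
        have : orderOf a = r := orderOf_eq_prime har fun e1 => haZ ⟨1, fun w _ => by simp [e1]⟩
        rw [← this]; exact orderOf_dvd_natCard M haM
      exact (((Nat.coprime_primes hCbp Fact.out).2 hrq).coprime_dvd_right
        (orderOf_dvd_of_pow_eq_one (hS.exp _ (hWN hw)))).coprime_dvd_left
        (orderOf_dvd_of_pow_eq_one har)
    have h3 := inv_eq_one.1 (CfsgLib.OddOrder.Stabilize.eq_one_of_conj_eq_mul h1 hc hcop)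
    exact mul_inv_eq_one.1 h3

theorem supersolvable_aux : ∀ (K : ℕ) (G : Type u) [Group G] [Finite G], Nat.card G ≤ K → Hyp G →
    Cfsg.IsSupersolvable G := by
  intro K
  induction K with
  | zero => intro G _ _ hc; exact absurd hc (not_le.2 Nat.card_pos)
  | succ K ih =>
    intro G _ _ hc h
    refine CfsgLib.Solvable.Huppert.huppert fun M hM => ?_
    obtain ⟨hsol, hsyl⟩ := isSolvable_aux _ G le_rfl h
    haveI := hsol
    by_cases hex : ∃ N : Subgroup G, N.Normal ∧ N ≠ ⊥ ∧ N ≤ M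
    · obtain ⟨N, hNn, hN1, hNM⟩ := hex
      haveI := hNn
      have hcard : Nat.card (G ⧸ N) ≤ K := by
        have h2 : 1 < Nat.card N := Finite.one_lt_card_iff_nontrivial.2
          ((Subgroup.nontrivial_iff_ne_bot N).2 hN1)
        have h3 := Subgroup.card_eq_card_quotient_mul_card_subgroup N
        nlinarith [Nat.card_pos (α := G ⧸ N)]
      set f := QuotientGroup.mk' N with hf
      have hsurj : Function.Surjective f := QuotientGroup.mk'_surjective N
      have hcm : (M.map f).comap f = M := by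
        rw [comap_map_eq, hf, QuotientGroup.ker_mk', sup_eq_left.2 hNM]
      have hco : IsCoatom (M.map f) := by
        refine ⟨fun e => hM.1 ?_, fun X hX => ?_⟩
        · rw [← hcm, e, comap_top]
        · have h2 : M < X.comap f := by
            rw [← hcm]; exact comap_lt_comap_of_surjective hsurj |>.2 hX
          exact comap_injective hsurj (by rw [hM.2 _ h2, comap_top])
      have := CfsgLib.Solvable.Supersolvable.index_prime_aux _ _ rfl
        (ih _ hcard (hyp_quotient h N)) _ hco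
      rwa [← index_comap_of_surjective _ hsurj, hcm] at this
    push Not at hex
    have hG1 : Nat.card G ≠ 1 := fun e => by
      haveI : Subsingleton G := (Nat.card_eq_one_iff_unique.1 e).1
      exact hM.1 (Subsingleton.elim _ _)
    obtain ⟨q, hq, hqd, hmax⟩ := CfsgLib.Solvable.SupersolvableCriteria.exists_largest_prime (Nat.card G)
      (by have := Nat.card_pos (α := G); omega)
    haveI := Fact.mk hq
    obtain ⟨P⟩ : Nonempty (Sylow q G) := inferInstance
    haveI hPn := hsyl q hmax P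
    have hP1 : (P : Subgroup G) ≠ ⊥ := P.ne_bot_of_dvd_card hqd
    obtain ⟨N, hNn, hN1, hNP, hNmin⟩ :=
      CfsgLib.Solvable.Basic.exists_minimal_normal_le (H := (P : Subgroup G)) hP1
    haveI := hNn
    haveI : Group.IsSolvable N := inferInstance
    obtain ⟨hNab, q', hq', hexp, hNq'⟩ := CfsgLib.Solvable.Basic.minimal_normal_solvable N hN1 hNmin
    have hqq : q' = q := by
      obtain ⟨y, hy, hy1⟩ := N.bot_or_exists_ne_one.resolve_left hN1
      obtain ⟨j, hj⟩ := IsPGroup.iff_orderOf.1 P.isPGroup' ⟨y, hNP hy⟩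
      rw [orderOf_mk] at hj
      have := orderOf_eq_prime (p := q') (hp := ⟨hq'⟩) (hexp y hy) hy1
      rw [this] at hj
      exact (Nat.prime_dvd_prime_iff_eq hq' hq).1 (hq'.dvd_of_dvd_pow (n := j) (hj ▸ dvd_rfl))
    subst hqq
    rename' q' => q
    have habN : ∀ u ∈ N, ∀ v ∈ N, u * v = v * u := fun u hu v hv =>
      congrArg Subtype.val (hNab.is_comm.comm ⟨u, hu⟩ ⟨v, hv⟩)
    have hNM : ¬ N ≤ M := hex N hNn hN1
    have htop : N ⊔ M = ⊤ := hM.2 _ (right_lt_sup.2 hNM)
    have hinf : N ⊓ M = ⊥ := by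
      have hn : (N ⊓ M).Normal := by
        rw [← normalizer_eq_top_iff, eq_top_iff, ← htop]
        refine sup_le (fun n hn => ?_) ((le_inf (normalizer_eq_top_iff.2 hNn ▸ le_top) le_normalizer).trans
          inf_normalizer_le_normalizer_inf)
        rw [mem_normalizer_iff]
        intro y
        constructor
        · intro hy; rw [habN n hn y hy.1, mul_inv_cancel_right]; exact hy
        · intro hy
          have hyN : y ∈ N := by simpa [mul_assoc] using hNn.conj_mem _ hy.1 n⁻¹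
          rwa [habN n hn y hyN, mul_inv_cancel_right] at hy
      by_contra hne
      exact hex _ hn hne inf_le_right
    have hCM : M ⊓ centralizer (N : Set G) = ⊥ := by
      have hn : (M ⊓ centralizer (N : Set G)).Normal := by
        rw [← normalizer_eq_top_iff, eq_top_iff, ← htop]
        refine sup_le (fun n hn => ?_) ((le_inf le_normalizer
          (normalizer_eq_top_iff.2 (inferInstance : (centralizer (N : Set G)).Normal) ▸ le_top)).trans
          inf_normalizer_le_normalizer_inf)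
        rw [mem_normalizer_iff]
        intro y
        constructor
        · intro hy
          rw [mem_centralizer_iff.1 hy.2 n hn, mul_inv_cancel_right]; exact hy
        · intro hy
          have h2 := mem_centralizer_iff.1 hy.2 n hn
          have : n * y * n⁻¹ = y := by
            have h3 : n * (n * y * n⁻¹) * n⁻¹ = n * y * n⁻¹ := by rw [h2, mul_inv_cancel_right]
            simpa using h3
          rwa [this] at hy
      by_contra hne
      exact hex _ hn hne inf_le_left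
    have hNZ : ∀ n ∈ N, ∀ y ∈ (P : Subgroup G), n * y = y * n := by
      have hne : ¬ N.subgroupOf (P : Subgroup G) ≤ ⊥ := fun e => hN1 (le_bot_iff.1 fun y hy => by
        have : (⟨y, hNP hy⟩ : (P : Subgroup G)) ∈ (⊥ : Subgroup _) := e hy
        simpa using congrArg Subtype.val (mem_bot.1 this))
      obtain ⟨⟨c, hcP⟩, hcN, hc1, -, hcc⟩ :=
        CfsgLib.Fusion.NormalRankTwo.exists_central_of_lt P.isPGroup' (M := ⊥)
          (N := N.subgroupOf (P : Subgroup G)) hne
      rw [mem_bot] at hc1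
      set Zc := N ⊓ centralizer ((P : Subgroup G) : Set G) with hZc
      have hZn : Zc.Normal := inferInstance
      rcases hNmin Zc hZn inf_le_left with e | e
      · exfalso
        have : c ∈ Zc := mem_inf.2 ⟨hcN, fun y hy => congrArg Subtype.val
          (commutatorElement_eq_one_iff_mul_comm.1 (mem_bot.1 (hcc ⟨y, hy⟩)))⟩
        rw [e, mem_bot] at this
        exact hc1 (Subtype.ext this)
      · intro n hn y hy
        exact (mem_centralizer_iff.1 (mem_inf.1 (e.symm ▸ hn : n ∈ Zc)).2 y hy).symm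
    have hPN : (P : Subgroup G) ≤ N := by
      intro y hy
      have hy' : y ∈ ((N ⊔ M : Subgroup G) : Set G) := by rw [htop]; exact mem_top y
      rw [normal_mul] at hy'
      obtain ⟨n, hn, m, hm, rfl⟩ := hy'
      have hmP : m ∈ (P : Subgroup G) := by
        simpa using mul_mem (inv_mem (hNP hn)) hy
      have : m ∈ M ⊓ centralizer (N : Set G) := mem_inf.2 ⟨hm, fun u hu => hNZ u hu m hmP⟩
      rw [hCM, mem_bot] at this
      simpa [this] using hn
    have hcompl : IsComplement' N M := isComplement'_of_disjoint_and_mul_eq_univ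
      (disjoint_iff.2 hinf) (by rw [← normal_mul, htop]; rfl)
    have hMidx : M.index = Nat.card N := hcompl.index_eq_card
    have hcop : ¬ q ∣ Nat.card M := by
      intro hd
      have h1 : N = (P : Subgroup G) := le_antisymm hNP hPN
      have h2 : N.index = Nat.card M := hcompl.symm.index_eq_card
      exact P.not_dvd_index (h1 ▸ h2 ▸ hd)
    have hS : Setting q N M :=
      { hyp := h, ab := habN, exp := hexp, normal := hNn, top := htop
        faith := fun m hm hf => by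
          have : m ∈ M ⊓ centralizer (N : Set G) := mem_inf.2 ⟨hm, fun u hu => by
            nth_rewrite 1 [← hf u hu]; group⟩
          rwa [hCM, mem_bot] at this
        minimal := hNmin, cop := hcop, largest := hmax }
    have hMcard : Nat.card M ≤ K := by
      have := hcompl.card_mul
      have h2 : 1 < Nat.card N := Finite.one_lt_card_iff_nontrivial.2
        ((Subgroup.nontrivial_iff_ne_bot N).2 hN1)
      nlinarith [Nat.card_pos (α := M)]
    have hall := hS.all_pw hN1 (ih M hMcard (hyp_subgroup h M))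
    obtain ⟨n0, hn0, hn01⟩ := N.bot_or_exists_ne_one.resolve_left hN1
    have hnorm : (zpowers n0).Normal := by
      rw [← normalizer_eq_top_iff, eq_top_iff, ← htop]
      refine sup_le (fun n hn => ?_) (fun m hm => ?_)
      · rw [mem_normalizer_iff_map_conj_eq, MonoidHom.map_zpowers]
        refine congrArg zpowers ?_
        show n * n0 * n⁻¹ = n0
        rw [habN n hn n0 hn0, mul_inv_cancel_right]
      · obtain ⟨k, hk⟩ := hall m hm
        rw [mem_normalizer_iff_map_conj_eq]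
        refine eq_of_le_of_card_ge ?_ (card_map_of_injective (MulAut.conj m).injective).ge
        rw [MonoidHom.map_zpowers, zpowers_le]
        show m * n0 * m⁻¹ ∈ zpowers n0
        rw [hk n0 hn0]
        exact zpow_mem (mem_zpowers n0) k
    have hNeq : zpowers n0 = N := (hNmin _ hnorm (zpowers_le.2 hn0)).resolve_left
      (fun e => hn01 (zpowers_eq_bot.1 e))
    rw [hMidx, ← hNeq, Nat.card_zpowers, orderOf_eq_prime (hexp n0 hn0) hn01]
    exact hq

theorem isSupersolvable (h : Hyp G) : Cfsg.IsSupersolvable G :=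
  supersolvable_aux _ G le_rfl h

end CfsgLib.LocalEvenB.PairOrderSupersolvable
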