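import Mathlib
import Cfsg.Prelude.Def_Transfer
import Cfsg.Agent.Lib.LocalEven.Residual
import Cfsg.Agent.Lib.PGroup.Frattini

/-!
The extraspecial group `2^(1+2n)_+` acting on functions `F₂^n → F₃`, and its extension by every
group of isometries of the hyperbolic quadratic form.
-/

set_option autoImplicit false

namespace CfsgLib.LocalEvenB.PlusExtraspecial

open scoped commutatorElement

variable {n : ℕ}

abbrev A (n : ℕ) := Fin n → ZMod 2
abbrev U0 (n : ℕ) := A n × A n
abbrev V (n : ℕ) := A n → ZMod 3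
abbrev G0 (n : ℕ) := V n ≃ₗ[ZMod 3] V n

def sgn (e : ZMod 2) : ZMod 3 := if e = 0 then 1 else -1

theorem sgn_zero : sgn 0 = 1 := rfl

theorem sgn_add : ∀ a b : ZMod 2, sgn (a + b) = sgn a * sgn b := by decide

theorem sgn_ne_zero : ∀ a : ZMod 2, sgn a ≠ 0 := by decide

theorem sgn_inj : ∀ {a b : ZMod 2}, sgn a = sgn b → a = b := by decide

theorem sgn_cover : ∀ c : ZMod 3, c ≠ 0 → ∃ e, sgn e = c := by decide

theorem zmod_two_cases : ∀ x : ZMod 2, x = 0 ∨ x = 1 := by decide

theorem add_self' {M : Type*} [AddCommGroup M] [Module (ZMod 2) M] (x : M) : x + x = 0 := by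
  rw [← two_smul (ZMod 2) x, show (2 : ZMod 2) = 0 by decide, zero_smul]

theorem add_add_cancel' {M : Type*} [AddCommGroup M] [Module (ZMod 2) M] (x y : M) : x + y + y = x := by
  rw [add_assoc, add_self', add_zero]

/-- The cocycle. -/
def β (u v : U0 n) : ZMod 2 := v.2 ⬝ᵥ u.1

theorem β_add_left (u u' v : U0 n) : β (u + u') v = β u v + β u' v := by
  simp [β, dotProduct_add]

theorem β_add_right (u v v' : U0 n) : β u (v + v') = β u v + β u v' := by
  simp [β, add_dotProduct]

theorem β_smul_left (c : ZMod 2) (u v : U0 n) : β (c • u) v = c * β u v := by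
  simp [β, dotProduct_smul]

theorem β_smul_right (c : ZMod 2) (u v : U0 n) : β u (c • v) = c * β u v := by
  simp [β, smul_dotProduct]

/-- The monomial operator. -/
def T (e : ZMod 2) (u : U0 n) : G0 n where
  toFun f x := sgn (e + u.2 ⬝ᵥ x) * f (x + u.1)
  map_add' f g := by funext x; simp [mul_add]
  map_smul' c f := by funext x; simp [mul_left_comm]
  invFun f x := sgn (e + u.2 ⬝ᵥ u.1 + u.2 ⬝ᵥ x) * f (x + u.1)
  left_inv f := by
    funext x
    simp only [add_add_cancel', dotProduct_add]
    rw [← mul_assoc, ← sgn_add]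
    have key : ∀ a b c : ZMod 2, a + b + c + (a + (c + b)) = 0 := by decide
    rw [key, sgn_zero, one_mul]
  right_inv f := by
    funext x
    simp only [add_add_cancel', dotProduct_add]
    rw [← mul_assoc, ← sgn_add]
    have key : ∀ a b c : ZMod 2, a + c + (a + b + (c + b)) = 0 := by decide
    rw [key, sgn_zero, one_mul]

theorem T_apply (e : ZMod 2) (u : U0 n) (f : V n) (x : A n) :
    T e u f x = sgn (e + u.2 ⬝ᵥ x) * f (x + u.1) := rfl

theorem T_mul (e e' : ZMod 2) (u u' : U0 n) :
    T e u * T e' u' = T (e + e' + β u u') (u + u') := by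
  refine LinearEquiv.ext fun f => funext fun x => ?_
  show T e u (T e' u' f) x = T _ _ f x
  rw [T_apply, T_apply, T_apply, ← mul_assoc, ← sgn_add, Prod.fst_add, Prod.snd_add, add_dotProduct,
    dotProduct_add, β]
  congr 2
  · abel
  · abel

theorem T_zero : T 0 (0 : U0 n) = 1 := by
  refine LinearEquiv.ext fun f => funext fun x => ?_
  show T _ _ f x = f x
  simp [T_apply, sgn_zero]

theorem T_central (e : ZMod 2) (g : G0 n) : T e 0 * g = g * T e 0 := by
  have h : ∀ f : V n, T e 0 f = sgn e • f := fun f => funext fun x => by simp [T_apply]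
  refine LinearEquiv.ext fun f => ?_
  show T e 0 (g f) = g (T e 0 f)
  rw [h, h, map_smul]

theorem T_split (e : ZMod 2) (u : U0 n) : T e u = T e 0 * T 0 u := by
  rw [T_mul]; simp [β]

theorem T_swap (e e' : ZMod 2) (u u' : U0 n) :
    T e u * T e' u' = T (e' + β u u' + β u' u) u' * T e u := by
  rw [T_mul, T_mul, add_comm u' u]
  congr 1
  have key : ∀ a b c d : ZMod 2, a + b + c = b + c + d + a + d := by decide
  exact key _ _ _ _

theorem T_inj {e e' : ZMod 2} {u u' : U0 n} (h : T e u = T e' u') : e = e' ∧ u = u' := by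
  classical
  have h0 : ∀ f x, T e u f x = T e' u' f x := fun f x => by rw [h]
  have h1 := h0 (Pi.single u.1 1) 0
  simp only [T_apply, zero_add, dotProduct_zero, add_zero, Pi.single_eq_same, mul_one] at h1
  have ha : u'.1 = u.1 := by
    by_contra hne
    rw [Pi.single_eq_of_ne hne, mul_zero] at h1
    exact sgn_ne_zero _ h1
  rw [ha, Pi.single_eq_same, mul_one] at h1
  have he := sgn_inj h1
  refine ⟨he, Prod.ext ha.symm (funext fun i => ?_)⟩
  have h2 := h0 (Pi.single (Pi.single i 1 + u.1) 1) (Pi.single i 1)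
  simp only [T_apply, ha, Pi.single_eq_same, mul_one, dotProduct_single] at h2
  rw [← he] at h2
  exact add_left_cancel (sgn_inj h2)

theorem sum_sgn (e : ZMod 2) {c : A n} (hc : c ≠ 0) : ∑ x : A n, sgn (e + c ⬝ᵥ x) = 0 := by
  classical
  obtain ⟨i, hi⟩ := Function.ne_iff.1 hc
  have h1 : ∑ x : A n, sgn (e + c ⬝ᵥ x) = -∑ x : A n, sgn (e + c ⬝ᵥ x) := by
    rw [← Finset.sum_neg_distrib]
    refine Fintype.sum_equiv (Equiv.addRight (Pi.single i 1)) _ _ fun x => ?_
    have key : ∀ a b d : ZMod 2, d ≠ 0 → sgn (a + b) = -sgn (a + (b + d)) := by decide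
    simp only [Equiv.coe_addRight, dotProduct_add, dotProduct_single, mul_one]
    exact key _ _ _ hi
  have key : ∀ a : ZMod 3, a = -a → a = 0 := by decide
  exact key _ h1

theorem card_cast_ne : ((Fintype.card (A n) : ℕ) : ZMod 3) ≠ 0 := by
  simp only [Fintype.card_pi, ZMod.card, Finset.prod_const, Finset.card_univ, Fintype.card_fin, Nat.cast_pow]
  exact pow_ne_zero _ (by decide)

/-- A sign turning an isotropic section into a homomorphic lift. -/
theorem exists_sign (L : A n →ₗ[ZMod 2] U0 n) (hL : ∀ a, β (L a) (L a) = 0) :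
    ∃ ε : A n → ZMod 2, ∀ a a', ε (a + a') = ε a + ε a' + β (L a) (L a') := by
  classical
  let b : A n →ₗ[ZMod 2] A n →ₗ[ZMod 2] ZMod 2 := LinearMap.mk₂ (ZMod 2) (fun a a' => β (L a) (L a'))
    (fun a a' c => by simp [β_add_left]) (fun c a a' => by simp [β_smul_left])
    (fun a c c' => by simp [β_add_right]) (fun c a a' => by simp [β_smul_right])
  let G : Matrix (Fin n) (Fin n) (ZMod 2) := LinearMap.toMatrix₂' (ZMod 2) b
  have hb : ∀ a a', β (L a) (L a') = a ⬝ᵥ (G.mulVec a') := fun a a' => by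
    rw [← Matrix.toLinearMap₂'_apply' G a a', Matrix.toLinearMap₂'_toMatrix']; rfl
  have hG : ∀ i j, G i j = β (L (Pi.single i 1)) (L (Pi.single j 1)) := fun i j => by
    simp only [G, LinearMap.toMatrix₂'_apply]; rfl
  have hsymm : ∀ a a', β (L a) (L a') = β (L a') (L a) := fun a a' => by
    have h := hL (a + a')
    rw [map_add, β_add_left, β_add_right, β_add_right, hL, hL] at h
    have key : ∀ x y : ZMod 2, (0 + x) + (y + 0) = 0 → x = y := by decide
    exact key _ _ h
  let Lw : Matrix (Fin n) (Fin n) (ZMod 2) := fun i j => if i < j then G i j else 0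
  have hLw : G = Lw + Lw.transpose := by
    ext i j
    show G i j = (if i < j then G i j else 0) + (if j < i then G j i else 0)
    rcases lt_trichotomy i j with h | h | h
    · simp [h, h.not_gt]
    · subst h; simp [hG, hL]
    · simp [h, h.not_gt, hG]
      rw [hsymm]
  refine ⟨fun a => a ⬝ᵥ Lw.mulVec a, fun a a' => ?_⟩
  beta_reduce
  rw [hb, hLw, Matrix.add_mulVec, dotProduct_add (a : A n) (Lw.mulVec a'),
    Matrix.mulVec_add, add_dotProduct, dotProduct_add, dotProduct_add]
  have ht : a ⬝ᵥ Lw.transpose.mulVec a' = a' ⬝ᵥ Lw.mulVec a := by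
    rw [Matrix.mulVec_transpose, dotProduct_comm, Matrix.dotProduct_mulVec]
  rw [ht]
  abel

variable {K : Type*} [Group K] (M : K →* Module.End (ZMod 2) (U0 n))

/-- The normalizer of the extraspecial group inducing an element of `K`. -/
def R : Subgroup (G0 n) where
  carrier := {g | ∃ k, ∀ u, ∃ e, g * T 0 u * g⁻¹ = T e (M k u)}
  one_mem' := ⟨1, fun u => ⟨0, by simp⟩⟩
  mul_mem' := by
    rintro g g' ⟨k, hk⟩ ⟨k', hk'⟩
    refine ⟨k * k', fun u => ?_⟩
    obtain ⟨e', he'⟩ := hk' u
    obtain ⟨e, he⟩ := hk (M k' u)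
    refine ⟨e' + e + β 0 (M k (M k' u)), ?_⟩
    rw [map_mul, Module.End.mul_apply,
      show g * g' * T 0 u * (g * g')⁻¹ = g * (g' * T 0 u * g'⁻¹) * g⁻¹ by group, he',
      T_split e', show g * (T e' 0 * T 0 (M k' u)) * g⁻¹ = (g * T e' 0) * T 0 (M k' u) * g⁻¹ by group,
      ← T_central, show T e' 0 * g * T 0 (M k' u) * g⁻¹ = T e' 0 * (g * T 0 (M k' u) * g⁻¹) by group,
      he, T_mul, zero_add]
  inv_mem' := by
    rintro g ⟨k, hk⟩
    refine ⟨k⁻¹, fun u => ?_⟩
    obtain ⟨e, he⟩ := hk (M k⁻¹ u)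
    rw [← Module.End.mul_apply, ← map_mul, mul_inv_cancel, map_one, Module.End.one_apply, T_split e u] at he
    refine ⟨e, ?_⟩
    have hee : T e (0 : U0 n) * T e 0 = 1 := by
      rw [T_mul, add_zero]; simp [β, add_self', T_zero]
    have h1 : T 0 u = T e 0 * (g * T 0 (M k⁻¹ u) * g⁻¹) := by
      rw [he, ← mul_assoc, hee, one_mul]
    rw [h1, inv_inv, T_split e (M k⁻¹ u)]
    rw [show g⁻¹ * (T e 0 * (g * T 0 (M k⁻¹ u) * g⁻¹)) * g = g⁻¹ * (T e 0 * g) * T 0 (M k⁻¹ u) by group,
      T_central, inv_mul_cancel_left]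

variable (hM : Function.Injective M)

include hM in
theorem k_unique {g : G0 n} {k k' : K} (h : ∀ u, ∃ e, g * T 0 u * g⁻¹ = T e (M k u))
    (h' : ∀ u, ∃ e, g * T 0 u * g⁻¹ = T e (M k' u)) : k = k' := by
  apply hM
  refine LinearMap.ext fun u => ?_
  obtain ⟨e, he⟩ := h u
  obtain ⟨e', he'⟩ := h' u
  exact (T_inj (he ▸ he')).2

/-- The projection to `K`. -/
noncomputable def proj : ↥(R M) →* K :=
  MonoidHom.mk' (fun g => g.2.choose) fun g g' => by
    obtain ⟨k, hk⟩ := (g * g').2
    refine k_unique M hM (g * g').2.choose_spec fun u => ?_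
    obtain ⟨e', he'⟩ := g'.2.choose_spec u
    obtain ⟨e, he⟩ := g.2.choose_spec (M g'.2.choose u)
    refine ⟨e' + e + β 0 (M g.2.choose (M g'.2.choose u)), ?_⟩
    rw [map_mul, Module.End.mul_apply, Subgroup.coe_mul,
      show (g : G0 n) * g' * T 0 u * ((g : G0 n) * g')⁻¹
        = (g : G0 n) * ((g' : G0 n) * T 0 u * (g' : G0 n)⁻¹) * (g : G0 n)⁻¹ by group, he',
      T_split e', show (g : G0 n) * (T e' 0 * T 0 (M g'.2.choose u)) * (g : G0 n)⁻¹
        = ((g : G0 n) * T e' 0) * T 0 (M g'.2.choose u) * (g : G0 n)⁻¹ by group,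
      ← T_central, show T e' 0 * (g : G0 n) * T 0 (M g'.2.choose u) * (g : G0 n)⁻¹
        = T e' 0 * ((g : G0 n) * T 0 (M g'.2.choose u) * (g : G0 n)⁻¹) by group,
      he, T_mul, zero_add]

theorem proj_spec (g : ↥(R M)) (u : U0 n) :
    ∃ e, (g : G0 n) * T 0 u * (g : G0 n)⁻¹ = T e (M (proj M hM g) u) := g.2.choose_spec u

include hM in
theorem proj_eq {g : ↥(R M)} {k : K} (h : ∀ u, ∃ e, (g : G0 n) * T 0 u * (g : G0 n)⁻¹ = T e (M k u)) :
    proj M hM g = k := k_unique M hM (proj_spec M hM g) h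

theorem T_mem_normalizing (e : ZMod 2) (u : U0 n) (u' : U0 n) :
    ∃ e', T e u * T 0 u' * (T e u)⁻¹ = T e' (M (1 : K) u') := by
  refine ⟨0 + β u u' + β u' u, ?_⟩
  rw [map_one, Module.End.one_apply, T_swap, mul_inv_cancel_right]

theorem T_mem (e : ZMod 2) (u : U0 n) : T e u ∈ R M := ⟨1, T_mem_normalizing M e u⟩

theorem commute_scalar (h : G0 n) (hh : ∀ u, h * T 0 u = T 0 u * h) : ∃ e, h = T e 0 := by
  classical
  let δ : A n → V n := fun a => Pi.single a 1
  have hc : ∀ u f, h (T 0 u f) = T 0 u (h f) := fun u f => LinearEquiv.congr_fun (hh u) f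
  have hTD : ∀ b, T 0 ((0, b) : U0 n) (δ 0) = δ 0 := fun b => funext fun x => by
    rcases eq_or_ne x 0 with rfl | hx
    · simp [T_apply, δ, sgn_zero]
    · simp [T_apply, δ, hx]
  have hTX : ∀ a, T 0 ((a, 0) : U0 n) (δ 0) = δ a := fun a => funext fun x => by
    rcases eq_or_ne x a with rfl | hx
    · simp [T_apply, δ, sgn_zero, add_self']
    · have : x + a ≠ 0 := fun h0 => hx (by
        rw [← add_add_cancel' x a, h0, zero_add])
      simp [T_apply, δ, this, hx]
  have hw : h (δ 0) = (h (δ 0) 0) • δ 0 := funext fun x => by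
    rcases eq_or_ne x 0 with rfl | hx
    · simp [δ]
    · obtain ⟨i, hi⟩ := Function.ne_iff.1 hx
      have h1 := congrFun (hc ((0, Pi.single i 1) : U0 n) (δ 0)) x
      rw [hTD, T_apply] at h1
      simp only [zero_add, add_zero, single_dotProduct, one_mul] at h1
      have key : ∀ (d : ZMod 2) (y : ZMod 3), d ≠ 0 → y = sgn d * y → y = 0 := by decide
      have := key _ _ hi h1
      simp [δ, hx, this]
  set c := h (δ 0) 0
  have hδ : ∀ a, h (δ a) = c • δ a := fun a => by
    rw [← hTX a, hc, hw, map_smul]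
  have hall : ∀ f, h f = c • f := fun f => by
    have hf : f = ∑ a, f a • δ a := funext fun x => by
      simp [δ, Finset.sum_apply, Pi.single_apply, Finset.sum_ite_eq]
    conv_lhs => rw [hf]
    conv_rhs => rw [hf]
    rw [map_sum, Finset.smul_sum]
    exact Finset.sum_congr rfl fun a _ => by rw [map_smul, hδ, smul_comm]
  have hc0 : c ≠ 0 := fun h0 => by
    have h1 := hall (δ 0)
    rw [h0, zero_smul, ← map_zero h] at h1
    simpa [δ] using congrFun (h.injective h1) 0
  obtain ⟨e, he⟩ := sgn_cover c hc0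
  refine ⟨e, LinearEquiv.ext fun f => funext fun x => ?_⟩
  simp [hall, T_apply, he]

include hM in
theorem mem_ker {g : ↥(R M)} (hg : g ∈ (proj M hM).ker) : ∃ p : ZMod 2 × U0 n, T p.1 p.2 = (g : G0 n) := by
  classical
  rw [MonoidHom.mem_ker] at hg
  have h1 : ∀ u, ∃ e, (g : G0 n) * T 0 u * (g : G0 n)⁻¹ = T e u := fun u => by
    simpa [hg] using proj_spec M hM g u
  choose ε hε using h1
  have hadd : ∀ u u', ε (u + u') = ε u + ε u' := fun u u' => by
    have h2 : (g : G0 n) * (T 0 u * T 0 u') * (g : G0 n)⁻¹ = T (ε u) u * T (ε u') u' := by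
      rw [← hε, ← hε]; group
    rw [T_mul, T_split (0 + 0 + β u u'), ← mul_assoc, ← T_central, mul_assoc (T _ 0) (g : G0 n),
      mul_assoc (T _ 0), hε, T_mul, T_mul] at h2
    have h3 := (T_inj h2).1
    have key : ∀ a b c d : ZMod 2, 0 + 0 + d + a + 0 = b + c + d → a = b + c := by decide
    refine key _ _ _ (β u u') ?_
    simpa [β] using h3
  let εl : U0 n →ₗ[ZMod 2] ZMod 2 := (AddMonoidHom.mk' ε hadd).toZModLinearMap 2
  let u0 : U0 n := (fun i => εl (0, Pi.single i 1), fun i => εl (Pi.single i 1, 0))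
  have hεu : ∀ u, ε u = β u0 u + β u u0 := fun u => by
    have h2 : εl u = εl (LinearMap.inl (ZMod 2) (A n) (A n) u.1) + εl (LinearMap.inr (ZMod 2) (A n) (A n) u.2) := by
      rw [← map_add]; simp
    show εl u = _
    rw [h2, ← LinearMap.comp_apply, ← LinearMap.comp_apply, LinearMap.pi_apply_eq_sum_univ (εl.comp (LinearMap.inl _ _ _)),
      LinearMap.pi_apply_eq_sum_univ (εl.comp (LinearMap.inr _ _ _)), add_comm]
    congr 1
    · refine Finset.sum_congr rfl fun i _ => ?_
      show _ = u.2 i * εl (0, Pi.single i 1)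
      rw [smul_eq_mul, LinearMap.comp_apply, LinearMap.inr_apply]
      congr 3
      funext j; simp [Pi.single_apply, eq_comm]
    · show _ = ∑ i, εl (Pi.single i 1, 0) * u.1 i
      refine Finset.sum_congr rfl fun i _ => ?_
      rw [smul_eq_mul, LinearMap.comp_apply, LinearMap.inl_apply, mul_comm]
      congr 3
      funext j; simp [Pi.single_apply, eq_comm]
  obtain ⟨e, he⟩ := commute_scalar ((T 0 u0)⁻¹ * (g : G0 n)) fun u => by
    have h2 : (g : G0 n) * T 0 u = T (ε u) u * g := by rw [← hε u, inv_mul_cancel_right]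
    have h3 : T 0 u0 * T 0 u = T (ε u) u * T 0 u0 := by rw [T_swap, hεu, zero_add]
    rw [mul_assoc, h2, ← mul_assoc, ← mul_assoc]
    congr 1
    rw [inv_mul_eq_iff_eq_mul, ← mul_assoc, h3, mul_inv_cancel_right]
  refine ⟨(e, u0), ?_⟩
  rw [inv_mul_eq_iff_eq_mul, ← T_central, ← T_split] at he
  exact he.symm

include hM in
theorem mem_ker_iff {g : ↥(R M)} : g ∈ (proj M hM).ker ↔ ∃ p : ZMod 2 × U0 n, T p.1 p.2 = (g : G0 n) := by
  refine ⟨mem_ker M hM, ?_⟩
  rintro ⟨p, hp⟩
  rw [MonoidHom.mem_ker]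
  exact proj_eq M hM fun u => hp ▸ T_mem_normalizing M p.1 p.2 u

theorem exists_lift (L : Module.End (ZMod 2) (U0 n)) (hLi : Function.Injective L)
    (hL : ∀ u, β (L u) (L u) = β u u) :
    ∃ g : G0 n, ∀ u, ∃ e, g * T 0 u * g⁻¹ = T e (L u) := by
  classical
  have hB : ∀ u v, β (L u) (L v) + β (L v) (L u) = β u v + β v u := fun u v => by
    have h := hL (u + v)
    rw [map_add] at h
    simp only [β_add_left, β_add_right, hL] at h
    have key : ∀ a b c d p q : ZMod 2, a + p + (q + b) = a + c + (d + b) → q + p = d + c := by decide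
    exact key _ _ _ _ _ _ h
  let LX : A n →ₗ[ZMod 2] U0 n := L.comp (LinearMap.inl _ _ _)
  let LD : A n →ₗ[ZMod 2] U0 n := L.comp (LinearMap.inr _ _ _)
  obtain ⟨εX, hεX⟩ := exists_sign LX fun a => by
    show β (L (a, 0)) (L (a, 0)) = 0
    rw [hL]; simp [β]
  obtain ⟨εD, hεD⟩ := exists_sign LD fun a => by
    show β (L (0, a)) (L (0, a)) = 0
    rw [hL]; simp [β]
  let X : A n → G0 n := fun a => T (εX a) (LX a)
  let D : A n → G0 n := fun b => T (εD b) (LD b)
  have hX : ∀ a a', X a * X a' = X (a + a') := fun a a' => by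
    simp only [X, T_mul, map_add, hεX]
  have hD : ∀ a a', D a * D a' = D (a + a') := fun a a' => by
    simp only [D, T_mul, map_add, hεD]
  have hεD0 : εD 0 = 0 := by
    have h := hεD 0 0
    simp [β] at h
    exact h
  have hDX : ∀ b a, D b * X a = T (b ⬝ᵥ a) 0 * (X a * D b) := fun b a => by
    simp only [D, X]
    rw [T_swap (εD b), ← mul_assoc, T_mul _ _ 0]
    congr 1
    rw [zero_add]
    congr 1
    have h := hB (LinearMap.inr (ZMod 2) (A n) (A n) b) (LinearMap.inl (ZMod 2) (A n) (A n) a)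
    simp [LD, LX, β, dotProduct_comm] at h ⊢
    rw [← h]
    abel
  -- a common fixed vector of the new diagonal operators
  let δ : A n → V n := fun a => Pi.single a 1
  have htr : ∑ x, ∑ b, D b (δ x) x = sgn 0 * (Fintype.card (A n) : ZMod 3) := by
    rw [Finset.sum_comm, Finset.sum_eq_single (0 : A n)]
    · simp [D, δ, T_apply, hεD0, mul_comm]
    · intro b _ hb
      have hu : LD b ≠ 0 := fun h0 => hb (by
        have := hLi (h0.trans (map_zero L).symm)
        simpa using congrArg Prod.snd this)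
      by_cases h1 : (LD b).1 = 0
      · have h2 : (LD b).2 ≠ 0 := fun h0 => hu (Prod.ext h1 h0)
        simp only [D, δ, T_apply, h1, add_zero, Pi.single_eq_same, mul_one]
        exact sum_sgn _ h2
      · refine Finset.sum_eq_zero fun x _ => ?_
        have : x + (LD b).1 ≠ x := fun h0 => h1 (by simpa using h0)
        simp [D, δ, T_apply, this]
    · simp
  obtain ⟨x0, hx0⟩ : ∃ x, (∑ b, D b (δ x)) ≠ 0 := by
    by_contra hcon
    push Not at hcon
    have h0 : ∑ x, ∑ b, D b (δ x) x = 0 := Finset.sum_eq_zero fun x _ => by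
      have := congrFun (hcon x) x
      simpa [Finset.sum_apply] using this
    rw [htr, sgn_zero, one_mul] at h0
    exact card_cast_ne h0
  set v := ∑ b, D b (δ x0) with hv
  have hfix : ∀ b, D b v = v := fun b => by
    rw [hv, map_sum]
    refine Fintype.sum_equiv (Equiv.addLeft b) _ _ fun c => ?_
    rw [Equiv.coe_addLeft, ← hD]
    rfl
  let g : V n →ₗ[ZMod 3] V n :=
    { toFun := fun f => ∑ a, f a • X a v
      map_add' := fun f f' => by simp [add_smul, Finset.sum_add_distrib]
      map_smul' := fun c f => by simp [mul_smul, Finset.smul_sum] }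
  have hgX : ∀ c f, g (T 0 ((c, 0) : U0 n) f) = X c (g f) := fun c f => by
    show ∑ a, T 0 _ f a • X a v = X c (∑ a, f a • X a v)
    rw [map_sum]
    refine Fintype.sum_equiv (Equiv.addRight c) _ _ fun a => ?_
    rw [Equiv.coe_addRight, map_smul, ← LinearEquiv.mul_apply, hX, add_comm c, add_add_cancel']
    simp [T_apply, sgn_zero]
  have hgD : ∀ b f, g (T 0 ((0, b) : U0 n) f) = D b (g f) := fun b f => by
    show ∑ a, T 0 _ f a • X a v = D b (∑ a, f a • X a v)
    rw [map_sum]
    refine Finset.sum_congr rfl fun a _ => ?_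
    rw [map_smul, ← LinearEquiv.mul_apply, hDX, LinearEquiv.mul_apply, LinearEquiv.mul_apply, hfix]
    funext x
    simp [T_apply]
    ring
  have hgi : Function.Injective g := by
    rw [← LinearMap.ker_eq_bot, LinearMap.ker_eq_bot']
    intro f hf
    by_contra hne
    obtain ⟨a0, ha0⟩ := Function.ne_iff.1 hne
    have h1 : ∑ b, sgn (b ⬝ᵥ a0) • T 0 ((0, b) : U0 n) f
        = ((Fintype.card (A n) : ZMod 3) * f a0) • δ a0 := by
      funext x
      simp only [Finset.sum_apply, Pi.smul_apply, smul_eq_mul, T_apply, zero_add, add_zero,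
        ← mul_assoc, ← sgn_add, ← dotProduct_add, ← Finset.sum_mul]
      rcases eq_or_ne x a0 with rfl | hx
      · simp [δ, add_self', sgn_zero]
      · have h2 : a0 + x ≠ 0 := fun h0 => hx (by rw [← add_add_cancel' x a0, add_comm x, h0, zero_add])
        have h3 := sum_sgn 0 h2
        simp only [zero_add, dotProduct_comm (a0 + x)] at h3
        simp only [dotProduct_add] at h3
        simp [δ, hx, h3]
    have h2 := congrArg g h1
    rw [map_sum, map_smul] at h2
    simp only [map_smul, hgD, hf, map_zero, smul_zero, Finset.sum_const_zero] at h2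
    have h3 : g (δ a0) = X a0 v := by
      show ∑ a, δ a0 a • X a v = _
      simp [δ, Pi.single_apply]
    rw [h3] at h2
    rcases smul_eq_zero.1 h2.symm with h4 | h4
    · exact mul_ne_zero card_cast_ne ha0 h4
    · exact hx0 ((X a0).map_eq_zero_iff.1 h4)
  refine ⟨LinearEquiv.ofInjectiveEndo g hgi, fun u => ⟨εD u.2 + εX u.1 + β (LD u.2) (LX u.1), ?_⟩⟩
  rw [mul_inv_eq_iff_eq_mul]
  refine LinearEquiv.ext fun f => ?_
  show g (T 0 u f) = T _ (L u) (g f)
  have hu : T 0 u = T 0 ((0, u.2) : U0 n) * T 0 ((u.1, 0) : U0 n) := by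
    rw [T_mul]; simp [β]
  have hLu : L u = LD u.2 + LX u.1 := by
    simp only [LD, LX, LinearMap.comp_apply, ← map_add]
    simp
  rw [hu, LinearEquiv.mul_apply, hgD, hgX, hLu, ← T_mul]
  rfl

variable (hMq : ∀ k u, β (M k u) (M k u) = β u u)

include hMq hM in
theorem proj_surjective : Function.Surjective (proj M hM) := by
  intro k
  obtain ⟨g, hg⟩ := exists_lift (M k) (fun a b h => by
    have := congrArg (M k⁻¹) h
    simpa [← Module.End.mul_apply, ← map_mul] using this) (hMq k)
  exact ⟨⟨g, k, hg⟩, proj_eq M hM hg⟩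

/-- The coordinates of an element of the extraspecial kernel. -/
noncomputable def coords : ↥(proj M hM).ker ≃ ZMod 2 × U0 n :=
  Equiv.ofBijective (fun a => (mem_ker M hM a.2).choose) <| by
    refine ⟨fun a b h => ?_, fun p => ?_⟩
    · apply Subtype.ext; apply Subtype.ext
      rw [← (mem_ker M hM a.2).choose_spec, ← (mem_ker M hM b.2).choose_spec]
      simp only at h
      rw [h]
    · refine ⟨⟨⟨T p.1 p.2, T_mem M p.1 p.2⟩, (mem_ker_iff M hM).2 ⟨p, rfl⟩⟩, ?_⟩
      simp only
      generalize_proofs hh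
      exact Prod.ext (T_inj hh.choose_spec).1 (T_inj hh.choose_spec).2

theorem coords_spec (a : ↥(proj M hM).ker) :
    T (coords M hM a).1 (coords M hM a).2 = ((a : ↥(R M)) : G0 n) := (mem_ker M hM a.2).choose_spec

theorem coords_mul (a b : ↥(proj M hM).ker) : coords M hM (a * b) =
    ((coords M hM a).1 + (coords M hM b).1 + β (coords M hM a).2 (coords M hM b).2,
      (coords M hM a).2 + (coords M hM b).2) := by
  have h := coords_spec M hM (a * b)
  rw [Subgroup.coe_mul, Subgroup.coe_mul, ← coords_spec, ← coords_spec, T_mul] at h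
  exact Prod.ext (T_inj h).1 (T_inj h).2

theorem coords_one : coords M hM 1 = 0 := by
  have h := coords_spec M hM 1
  rw [Subgroup.coe_one, Subgroup.coe_one, ← T_zero] at h
  exact Prod.ext (T_inj h).1 (T_inj h).2

/-- The image of an element of the kernel in the quadratic space. -/
noncomputable def chi : ↥(proj M hM).ker →* Multiplicative (U0 n) :=
  MonoidHom.mk' (fun a => Multiplicative.ofAdd (coords M hM a).2) fun a b => by
    rw [coords_mul]; rfl

theorem chi_apply (a : ↥(proj M hM).ker) : (chi M hM a).toAdd = (coords M hM a).2 := rfl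

theorem chi_surjective : Function.Surjective (chi M hM) := fun u =>
  ⟨(coords M hM).symm (0, u.toAdd), by
    apply Multiplicative.toAdd.injective
    rw [chi_apply, Equiv.apply_symm_apply]⟩

theorem mul_self_iff (a : ↥(proj M hM).ker) :
    a * a = 1 ↔ β (coords M hM a).2 (coords M hM a).2 = 0 := by
  rw [← (coords M hM).injective.eq_iff, coords_mul, coords_one]
  simp [Prod.ext_iff, add_self']

theorem card_ker : Nat.card ↥(proj M hM).ker = 2 ^ (2 * n + 1) := by
  rw [Nat.card_congr (coords M hM)]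
  simp [Nat.card_prod, pow_succ, two_mul, pow_add]
  ring

theorem conj_coords (r : ↥(R M)) (a : ↥(proj M hM).ker) (b : ↥(proj M hM).ker)
    (hb : (b : ↥(R M)) = r * a * r⁻¹) :
    (coords M hM b).2 = M (proj M hM r) (coords M hM a).2 := by
  obtain ⟨e, he⟩ := proj_spec M hM r (coords M hM a).2
  have h := coords_spec M hM b
  rw [hb, Subgroup.coe_mul, Subgroup.coe_mul, Subgroup.coe_inv, ← coords_spec M hM a,
    T_split (coords M hM a).1,
    show (r : G0 n) * (T (coords M hM a).1 0 * T 0 (coords M hM a).2) * (r : G0 n)⁻¹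
      = ((r : G0 n) * T (coords M hM a).1 0) * T 0 (coords M hM a).2 * (r : G0 n)⁻¹ by group,
    ← T_central, show T (coords M hM a).1 0 * (r : G0 n) * T 0 (coords M hM a).2 * (r : G0 n)⁻¹
      = T (coords M hM a).1 0 * ((r : G0 n) * T 0 (coords M hM a).2 * (r : G0 n)⁻¹) by group,
    he, T_mul, zero_add] at h
  exact (T_inj h).2

theorem center_eq : Subgroup.center ↥(proj M hM).ker = (chi M hM).ker := by
  classical
  ext a
  rw [Subgroup.mem_center_iff, MonoidHom.mem_ker, ← Multiplicative.toAdd.injective.eq_iff, chi_apply,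
    toAdd_one]
  constructor
  · intro h
    have h1 : ∀ u, β u (coords M hM a).2 = β (coords M hM a).2 u := fun u => by
      have := congrArg (coords M hM) (h ((coords M hM).symm (0, u)))
      simp only [coords_mul, Equiv.apply_symm_apply, Prod.ext_iff] at this
      have key : ∀ x y z : ZMod 2, 0 + x + y = x + 0 + z → y = z := by decide
      exact key _ _ _ this.1
    refine Prod.ext (funext fun i => ?_) (funext fun i => ?_)
    · have := h1 (0, Pi.single i 1)
      simp [β] at this
      simpa using this.symm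
    · have := h1 (Pi.single i 1, 0)
      simp [β] at this
      simpa using this
  · intro h b
    apply (coords M hM).injective
    simp [coords_mul, h, β, add_comm]

theorem isExtraspecial (hn : 1 ≤ n) : Cfsg.IsExtraspecial 2 ↥(proj M hM).ker := by
  classical
  haveI : Fact (Nat.Prime 2) := ⟨Nat.prime_two⟩
  set Q := (proj M hM).ker
  haveI : Finite ↥Q := Nat.finite_of_card_ne_zero (by rw [card_ker]; positivity)
  have hP : IsPGroup 2 ↥Q := IsPGroup.of_card (card_ker M hM)
  set z := (coords M hM).symm (1, 0) with hz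
  have hZ : ∀ a, a ∈ Subgroup.center ↥Q ↔ a = 1 ∨ a = z := fun a => by
    rw [center_eq, MonoidHom.mem_ker, ← Multiplicative.toAdd.injective.eq_iff, chi_apply, toAdd_one]
    constructor
    · intro h
      rcases zmod_two_cases (coords M hM a).1 with h1 | h1
      · exact Or.inl ((coords M hM).injective ((Prod.ext h1 h).trans (coords_one M hM).symm))
      · exact Or.inr ((coords M hM).injective ((Prod.ext h1 h).trans ((coords M hM).apply_symm_apply _).symm))
    · rintro (rfl | rfl)
      · rw [coords_one]; rfl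
      · rw [hz, Equiv.apply_symm_apply]
  have hzne : z ≠ 1 := fun h => by
    have := congrArg (coords M hM) h
    rw [hz, Equiv.apply_symm_apply, coords_one, Prod.ext_iff] at this
    exact one_ne_zero this.1
  let i0 : Fin n := ⟨0, hn⟩
  set x := (coords M hM).symm (0, (Pi.single i0 1, 0))
  set y := (coords M hM).symm (0, (0, Pi.single i0 1))
  have hxy : ⁅x, y⁆ = z := by
    rw [commutatorElement_def, mul_inv_eq_iff_eq_mul, mul_inv_eq_iff_eq_mul]
    apply (coords M hM).injective
    simp only [coords_mul, x, y, hz, Equiv.apply_symm_apply]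
    refine Prod.ext ?_ ?_
    · simp [β]
    · simp [add_comm]
  have hcomm : commutator ↥Q = Subgroup.center ↥Q := by
    refine le_antisymm ?_ ?_
    · rw [center_eq]
      exact Abelianization.commutator_subset_ker _
    · intro a ha
      rcases (hZ a).1 ha with rfl | rfl
      · exact one_mem _
      · rw [← hxy]
        exact Subgroup.commutator_mem_commutator (Subgroup.mem_top _) (Subgroup.mem_top _)
  refine ⟨⟨hP, le_antisymm ?_ ?_, hcomm⟩, ?_⟩
  · refine LocalEven.Residual.frattini_le (p := 2) (fun a b => ?_) fun a => ?_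
    · rw [← hcomm]
      exact Subgroup.commutator_mem_commutator (Subgroup.mem_top _) (Subgroup.mem_top _)
    · rw [center_eq, MonoidHom.mem_ker, ← Multiplicative.toAdd.injective.eq_iff, chi_apply, pow_two,
        coords_mul]
      exact add_self' _
  · intro a ha
    rcases (hZ a).1 ha with rfl | rfl
    · exact one_mem _
    · rw [← hxy]
      exact CfsgLib.PGroup.Frattini.commutatorElement_mem_frattini hP x y
  · have h2 : (Subgroup.center ↥Q : Set ↥Q) = {1, z} := Set.ext fun a => by simpa using hZ a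
    rw [← SetLike.coe_sort_coe, h2, Nat.card_coe_set_eq, Set.ncard_pair hzne.symm]

end CfsgLib.LocalEvenB.PlusExtraspecial
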