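import Cfsg.Agent.Lib.LocalEvenB.Isolated
import Cfsg.Agent.Lib.Involution.ZStar.Main
import Mathlib.GroupTheory.Commutator.Basic

/-!
Isolated elements of `2`-power order are central modulo the odd core; a `2`-group with a shared
centralizer of a central commutator element in a normal complement.
-/

set_option autoImplicit false

open scoped commutatorElement

namespace CfsgLib.LocalEvenB.SharedCentralizer

open Cfsg CfsgLib.Involution

universe u

theorem comm_mem_oddCore_aux (n : ℕ) : ∀ (G : Type u) [Group G] [Finite G], Nat.card G ≤ n →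
    ∀ x : G, (∃ k : ℕ, orderOf x = 2 ^ k) → IsIsolated x →
    ∀ g : G, g * x * g⁻¹ * x⁻¹ ∈ Cfsg.oddCore G := by
  induction n with
  | zero => intro G _ _ h; exact absurd h (Nat.not_le.mpr Nat.card_pos)
  | succ n ih =>
    intro G _ _ hcard x hx hiso g
    haveI : Fact (Nat.Prime 2) := ⟨Nat.prime_two⟩
    haveI := ZStar.oddCore_normal (G := G)
    have step : ∀ (W : Subgroup G) [W.Normal], W ≠ ⊥ → Cfsg.oddCore (G ⧸ W) = ⊥ →
        ∀ y : G, y * x * y⁻¹ * x⁻¹ ∈ W := by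
      intro W _ hW hO y
      have hlt : Nat.card (G ⧸ W) ≤ n := by
        have h1 := Subgroup.card_eq_card_quotient_mul_card_subgroup W
        have h2 := W.one_lt_card_iff_ne_bot.mpr hW
        have h3 : 0 < Nat.card (G ⧸ W) := Nat.card_pos
        nlinarith
      have hord : ∃ k : ℕ, orderOf (QuotientGroup.mk x : G ⧸ W) = 2 ^ k := by
        obtain ⟨k, hk⟩ := hx
        have hd := orderOf_map_dvd (QuotientGroup.mk' W) x
        rw [hk, Nat.dvd_prime_pow Nat.prime_two] at hd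
        obtain ⟨j, -, hj⟩ := hd
        exact ⟨j, hj⟩
      have h := ih (G ⧸ W) hlt _ hord (Isolated.isolated_quotient hx hiso W) (QuotientGroup.mk y)
      rw [hO, Subgroup.mem_bot] at h
      exact (QuotientGroup.eq_one_iff _).mp h
    by_cases hO : Cfsg.oddCore G = ⊥
    swap
    · exact step _ hO ZStar.oddCore_quotient g
    obtain ⟨k, hk⟩ := hx
    rcases k with _ | k
    · rw [pow_zero, orderOf_eq_one_iff] at hk
      simp [hk]
    set s := x ^ 2 ^ k with hsdef
    have hs : orderOf s = 2 := by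
      rw [hsdef, orderOf_pow' x (pow_ne_zero k two_ne_zero), hk,
        Nat.gcd_eq_right (pow_dvd_pow 2 k.le_succ), Nat.pow_div k.le_succ two_pos,
        Nat.succ_eq_add_one, Nat.add_sub_cancel_left, pow_one]
    have hp : IsPGroup 2 (Subgroup.zpowers x) :=
      IsPGroup.of_card (n := k + 1) (by rw [Nat.card_zpowers, hk])
    obtain ⟨P, hP⟩ := hp.exists_le_sylow
    have hsx : s ∈ Subgroup.zpowers x := pow_mem (Subgroup.mem_zpowers x) _
    obtain ⟨M, hMn, hModd, hM⟩ := ZStar.exists_odd_normal_of_sylow P hs (hP hsx) fun y hy =>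
      Isolated.stronglyClosed_step ⟨k + 1, hk⟩ hiso P (hP (Subgroup.mem_zpowers x)) hsx hy
    have hM1 : M = ⊥ := le_bot_iff.mp (hO ▸ ZStar.le_oddCore hMn hModd)
    have hsc : s ∈ Subgroup.center G := Subgroup.mem_center_iff.mpr fun y => by
      have h := hM y
      rw [hM1, Subgroup.mem_bot, mul_inv_eq_one, mul_inv_eq_iff_eq_mul] at h
      exact h.symm
    haveI : (Subgroup.zpowers s).Normal := ⟨fun a ha y => by
      have : a ∈ Subgroup.center G := (Subgroup.zpowers_le.mpr hsc) ha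
      rwa [Subgroup.mem_center_iff.mp this y, mul_inv_cancel_right]⟩
    have hsne : Subgroup.zpowers s ≠ ⊥ := by
      intro h
      rw [Subgroup.zpowers_eq_bot] at h
      simp [h] at hs
    have h := step _ hsne (ZStar.oddCore_quotient_central hO hs hsc) g
    have hc : Commute x (g * x * g⁻¹) := by
      obtain ⟨j, hj⟩ := h
      have e : g * x * g⁻¹ = s ^ j * x := by rw [show s ^ j = _ from hj]; group
      rw [e]
      exact ((Commute.refl x).pow_right (2 ^ k)).zpow_right j |>.mul_right (Commute.refl x)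
    simp [hiso g hc]

/-- An isolated element of `2`-power order is central modulo the odd core. -/
theorem comm_mem_oddCore {G : Type u} [Group G] [Finite G] {x : G}
    (hx : ∃ k : ℕ, orderOf x = 2 ^ k) (hiso : IsIsolated x) (g : G) :
    g * x * g⁻¹ * x⁻¹ ∈ Cfsg.oddCore G :=
  comm_mem_oddCore_aux (Nat.card G) G le_rfl x hx hiso g

variable {G : Type u} [Group G] [Finite G] {N Q : Subgroup G} {t : G}

theorem exists_mul (hN : N.Normal) (hG : Q ⊔ N = ⊤) (g : G) : ∃ n ∈ N, ∃ q ∈ Q, g = n * q := by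
  haveI := hN
  have hg : g ∈ ((Q ⊔ N : Subgroup G) : Set G) := by rw [hG]; trivial
  rw [sup_comm, Subgroup.normal_mul] at hg
  obtain ⟨n, hn, q, hq, rfl⟩ := Set.mem_mul.mp hg
  exact ⟨n, hn, q, hq, rfl⟩

theorem isolated (hN : N.Normal) (hG : Q ⊔ N = ⊤) (htc : ∀ q ∈ Q, Commute q t)
    (htQ : t ∈ ⁅Q, Q⁆) (hC : ∀ m ∈ N, Commute m t → ∀ q ∈ Q, Commute m q) : IsIsolated t := by
  intro g hcom
  obtain ⟨n, hn, q0, hq0, rfl⟩ := exists_mul hN hG g
  have hconj : n * q0 * t * (n * q0)⁻¹ = n * t * n⁻¹ :=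
    calc n * q0 * t * (n * q0)⁻¹ = n * (q0 * t) * q0⁻¹ * n⁻¹ := by group
      _ = n * (t * q0) * q0⁻¹ * n⁻¹ := by rw [(htc q0 hq0).eq]
      _ = n * t * n⁻¹ := by group
  rw [hconj] at hcom ⊢
  set t' := n * t * n⁻¹ with ht'
  have hC' : ∀ m ∈ N, Commute m t' → ∀ q ∈ Q, Commute m (n * q * n⁻¹) := by
    intro m hm hmt q hq
    have h1 : Commute (n⁻¹ * m * n) t := by
      have h0 := hmt.map (MulAut.conj n⁻¹).toMonoidHom
      simpa [ht', mul_assoc] using h0
    have h2 := (hC _ (by simpa using hN.conj_mem m hm n⁻¹) h1 q hq).map (MulAut.conj n).toMonoidHom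
    simpa [mul_assoc] using h2
  set r := t⁻¹ * t' with hr
  have hrN : r ∈ N := by
    rw [show r = (t⁻¹ * n * t) * n⁻¹ by rw [hr, ht']; group]
    exact mul_mem (by simpa using hN.conj_mem n hn t⁻¹) (inv_mem hn)
  have hrt : Commute r t := (Commute.refl t).inv_left.mul_left hcom.symm
  have hrt' : Commute r t' := hcom.inv_left.mul_left (Commute.refl t')
  have hte : t = t' * r⁻¹ := by
    rw [hr]
    calc t = t' * t'⁻¹ * t := by group
      _ = _ := by group
  have hphi : ∀ q ∈ Q, ∃ z ∈ N, n * q * n⁻¹ = q * z ∧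
      (∀ a ∈ Q, Commute z a) ∧ ∀ a ∈ Q, Commute z (n * a * n⁻¹) := by
    intro q hq
    refine ⟨q⁻¹ * (n * q * n⁻¹), ?_, by group, ?_⟩
    · rw [show q⁻¹ * (n * q * n⁻¹) = (q⁻¹ * n * q) * n⁻¹ by group]
      exact mul_mem (by simpa using hN.conj_mem n hn q⁻¹) (inv_mem hn)
    have hzN : q⁻¹ * (n * q * n⁻¹) ∈ N := by
      rw [show q⁻¹ * (n * q * n⁻¹) = (q⁻¹ * n * q) * n⁻¹ by group]
      exact mul_mem (by simpa using hN.conj_mem n hn q⁻¹) (inv_mem hn)
    have hq't' : Commute (n * q * n⁻¹) t' := by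
      simpa [ht', mul_assoc] using (htc q hq).map (MulAut.conj n).toMonoidHom
    have hq't : Commute (n * q * n⁻¹) t := by
      rw [hte]
      exact hq't'.mul_right ((hC' r hrN hrt' q hq).symm.inv_right)
    have hqt' : Commute q t' := by
      rw [show t' = t * r by rw [hr]; group]
      exact (htc q hq).mul_right (hC r hrN hrt q hq).symm
    exact ⟨hC _ hzN ((htc q hq).inv_left.mul_left hq't),
      hC' _ hzN (hqt'.inv_left.mul_left hq't')⟩
  have hfix : ⁅Q, Q⁆ ≤ Subgroup.centralizer ({n} : Set G) := by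
    rw [Subgroup.commutator_le]
    intro a ha b hb
    rw [Subgroup.mem_centralizer_singleton_iff]
    obtain ⟨za, -, hea, hza, hza'⟩ := hphi a ha
    obtain ⟨zb, -, heb, hzb, hzb'⟩ := hphi b hb
    have hzz : Commute za zb := by
      rw [show zb = b⁻¹ * (n * b * n⁻¹) by rw [heb]; group]
      exact (hza b hb).inv_right.mul_right (hza' b hb)
    have key : ⁅a * za, b * zb⁆ = ⁅a, b⁆ := by
      have e1 : za * b = b * za := (hza b hb).eq
      have e2 : zb * a⁻¹ = a⁻¹ * zb := (hzb a ha).inv_right.eq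
      simp only [commutatorElement_def, mul_inv_rev]
      calc a * za * (b * zb) * (za⁻¹ * a⁻¹) * (zb⁻¹ * b⁻¹)
          = a * (za * b) * zb * za⁻¹ * a⁻¹ * zb⁻¹ * b⁻¹ := by group
        _ = a * b * (za * zb) * za⁻¹ * a⁻¹ * zb⁻¹ * b⁻¹ := by rw [e1]; group
        _ = a * b * (zb * za) * za⁻¹ * a⁻¹ * zb⁻¹ * b⁻¹ := by rw [hzz.eq]
        _ = a * b * (zb * a⁻¹) * zb⁻¹ * b⁻¹ := by group
        _ = a * b * (a⁻¹ * zb) * zb⁻¹ * b⁻¹ := by rw [e2]
        _ = a * b * a⁻¹ * b⁻¹ := by group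
    have h3 : n * ⁅a, b⁆ * n⁻¹ = ⁅a, b⁆ := by
      rw [show n * ⁅a, b⁆ * n⁻¹ = ⁅n * a * n⁻¹, n * b * n⁻¹⁆ from
        map_commutatorElement (MulAut.conj n) a b, hea, heb, key]
    calc ⁅a, b⁆ * n = n * ⁅a, b⁆ * n⁻¹ * n := by rw [h3]
      _ = n * ⁅a, b⁆ := by group
  have := Subgroup.mem_centralizer_singleton_iff.mp (hfix htQ)
  calc t' = n * t * n⁻¹ := ht'
    _ = t * n * n⁻¹ := by rw [this]
    _ = t := by group

/-- `[N, Q]` lies in the odd core. -/
theorem commutator_le_oddCore (hN : N.Normal) (hG : Q ⊔ N = ⊤) (hQ : IsPGroup 2 Q) (ht : t ∈ Q)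
    (htc : ∀ q ∈ Q, Commute q t)
    (htQ : t ∈ ⁅Q, Q⁆) (hC : ∀ m ∈ N, Commute m t → ∀ q ∈ Q, Commute m q) :
    ⁅N, Q⁆ ≤ Cfsg.oddCore G := by
  haveI : Fact (Nat.Prime 2) := ⟨Nat.prime_two⟩
  have hiso := isolated hN hG htc htQ hC
  have hx : ∃ k : ℕ, orderOf t = 2 ^ k := by
    obtain ⟨k, hk⟩ := IsPGroup.iff_orderOf.mp hQ ⟨t, ht⟩
    exact ⟨k, by rw [← hk, Subgroup.orderOf_mk]⟩
  set O := Cfsg.oddCore G
  haveI hOn : O.Normal := ZStar.oddCore_normal
  haveI := hN
  have hON : O ≤ N := by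
    intro o ho
    obtain ⟨n, hn, q, hq, rfl⟩ := exists_mul hN hG o
    suffices q ∈ N from mul_mem hn this
    obtain ⟨k, hk⟩ := IsPGroup.iff_orderOf.mp hQ ⟨q, hq⟩
    rw [Subgroup.orderOf_mk] at hk
    set f := QuotientGroup.mk' N
    have h1 : f (n * q) = f q := by
      rw [map_mul, show f n = 1 from (QuotientGroup.eq_one_iff n).mpr hn, one_mul]
    have h2 : orderOf (f q) ∣ 2 ^ k := hk ▸ orderOf_map_dvd f q
    have h3 : Odd (orderOf (f q)) :=
      Odd.of_dvd_nat (ZStar.odd_orderOf_of_mem ho) (h1 ▸ orderOf_map_dvd f (n * q))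
    have h4 : orderOf (f q) = 1 := Nat.dvd_one.mp <| by
      have := Nat.Coprime.pow_right k (Nat.coprime_two_right.mpr h3)
      exact this.gcd_eq_one ▸ Nat.dvd_gcd dvd_rfl h2
    exact (QuotientGroup.eq_one_iff q).mp (orderOf_eq_one_iff.mp h4)
  rw [Subgroup.commutator_le]
  intro n hn q hq
  have hm : n * t * n⁻¹ ∈ O ⊔ Subgroup.zpowers t := by
    rw [show n * t * n⁻¹ = (n * t * n⁻¹ * t⁻¹) * t by group]
    exact mul_mem (Subgroup.mem_sup_left (comm_mem_oddCore hx hiso n))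
      (Subgroup.mem_sup_right (Subgroup.mem_zpowers t))
  obtain ⟨h, hh, he⟩ :=
    Isolated.exists_conj hx hiso (Subgroup.mem_sup_right (Subgroup.mem_zpowers t)) hm
  have hh' : h ∈ ((O ⊔ Subgroup.zpowers t : Subgroup G) : Set G) := hh
  rw [Subgroup.normal_mul] at hh'
  obtain ⟨o, ho, s, hs, rfl⟩ := Set.mem_mul.mp hh'
  obtain ⟨j, rfl⟩ := hs
  set m := t ^ (-j) * o * t ^ j * n with hmdef
  have ho' : t ^ (-j) * o * t ^ j ∈ O := by simpa using hOn.conj_mem o ho (t ^ (-j))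
  have hmt : Commute m t := by
    have e : o * t ^ j * n * t * (o * t ^ j * n)⁻¹ = t := by refine Eq.trans ?_ he; group
    calc m * t = t ^ (-j) * (o * t ^ j * n * t * (o * t ^ j * n)⁻¹) * (o * t ^ j * n) := by
          rw [hmdef]; group
      _ = t ^ (-j) * t * (o * t ^ j * n) := by rw [e]
      _ = t * m := by rw [hmdef]; group
  have hmN : m ∈ N := mul_mem (hON ho') hn
  set w := (t ^ (-j) * o * t ^ j)⁻¹ with hwdef
  have hn' : n = w * m := by rw [hwdef, hmdef]; group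
  have hw : w ∈ O := inv_mem ho'
  have e : ⁅n, q⁆ = w * (q * w⁻¹ * q⁻¹) := by
    rw [hn', commutatorElement_def]
    calc w * m * q * (w * m)⁻¹ * q⁻¹ = w * (m * q) * m⁻¹ * w⁻¹ * q⁻¹ := by group
      _ = w * (q * m) * m⁻¹ * w⁻¹ * q⁻¹ := by rw [(hC m hmN hmt q hq).eq]
      _ = _ := by group
  rw [e]
  exact mul_mem hw (hOn.conj_mem _ (inv_mem hw) q)

end CfsgLib.LocalEvenB.SharedCentralizer
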