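import Cfsg.Prelude.Def_SubgroupEmbedding
import Cfsg.Prelude.Def_Transfer
import Cfsg.Agent.Lib.Components.GenFitting
import Cfsg.Agent.Lib.Solvable.FrattiniFitting

/-!
# A minimal counterexample for Sidki pairs is almost simple
-/

set_option autoImplicit false

set_option linter.unusedSectionVars false

namespace CfsgLib.LocalEvenB.SidkiReduction

open Subgroup CfsgLib.Solvable CfsgLib.Components
open scoped commutatorElement

universe u

variable {G : Type u} [Group G]

theorem sidki_subgroupOf {V : Subgroup G} (hS : Cfsg.IsSidkiPair V) {H : Subgroup G} (hVH : V ≤ H) :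
    Cfsg.IsSidkiPair (V.subgroupOf H) := by
  intro h v hv hodd hinv
  obtain ⟨w, hw, hw1, hc⟩ := hS (h : G) (v : G) hv (by rwa [Subgroup.orderOf_coe])
    (congrArg Subtype.val hinv)
  exact ⟨⟨w, hVH hw⟩, hw, fun e => hw1 (congrArg Subtype.val e), Subtype.ext hc⟩

theorem elementary_subgroupOf {V : Subgroup G} (hV : Cfsg.IsElementaryAbelian 2 V) {H : Subgroup G} :
    Cfsg.IsElementaryAbelian 2 (V.subgroupOf H) := by
  refine ⟨⟨⟨fun a b => ?_⟩⟩, fun a ha => Subtype.ext (hV.2 _ ha)⟩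
  have e : ((a : H) : G) * ((b : H) : G) = ((b : H) : G) * ((a : H) : G) :=
    congrArg (fun x : V => (x : G))
      (hV.1.is_comm.comm ⟨((a : H) : G), a.2⟩ ⟨((b : H) : G), b.2⟩)
  exact Subtype.ext (Subtype.ext e)

theorem elementary_map {V : Subgroup G} (hV : Cfsg.IsElementaryAbelian 2 V) {G' : Type*} [Group G']
    (f : G →* G') : Cfsg.IsElementaryAbelian 2 (V.map f) := by
  refine ⟨⟨⟨?_⟩⟩, ?_⟩
  · rintro ⟨_, a, ha, rfl⟩ ⟨_, b, hb, rfl⟩
    exact Subtype.ext ((map_mul f a b).symm.trans (((congrArg (fun x : V => f (x : G))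
      (hV.1.is_comm.comm ⟨a, ha⟩ ⟨b, hb⟩))).trans (map_mul f b a)))
  · rintro _ ⟨a, ha, rfl⟩
    rw [← map_pow, hV.2 a ha, map_one]

variable [Finite G]

/-- The Sidki condition passes to a quotient meeting the subgroup trivially. -/
theorem sidki_map {V : Subgroup G} (hV : Cfsg.IsElementaryAbelian 2 V) (hS : Cfsg.IsSidkiPair V)
    (N : Subgroup G) [N.Normal] (hVN : V ⊓ N = ⊥) :
    Cfsg.IsSidkiPair (V.map (QuotientGroup.mk' N)) := by
  rintro hb _ ⟨v, hv, rfl⟩ hodd hinv
  obtain ⟨h₀, rfl⟩ := QuotientGroup.mk'_surjective N hb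
  set π := QuotientGroup.mk' N
  have hv2 : v * v = 1 := by rw [← pow_two]; exact hV.2 v hv
  have hvi : v⁻¹ = v := inv_eq_of_mul_eq_one_right hv2
  obtain ⟨s, hs⟩ := hodd
  -- a conjugating square root
  set k := h₀ ^ (s + 1) with hk
  set c := v * (k⁻¹ * v * k) with hc
  have hπk : π k ^ 2 = π h₀ := by
    rw [hk, map_pow, ← pow_mul, show (s + 1) * 2 = orderOf (π h₀) + 1 by omega, pow_succ,
      pow_orderOf_eq_one, one_mul]
  have hvk : π v * (π k)⁻¹ * π v = π k := by
    have : π v * π h₀ * (π v)⁻¹ = (π h₀)⁻¹ := hinv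
    calc π v * (π k)⁻¹ * π v = (π v * π k * (π v)⁻¹)⁻¹ := by
          rw [show (π v)⁻¹ = π v by rw [← map_inv, hvi]]
          rw [mul_inv_rev, mul_inv_rev, show (π v)⁻¹ = π v by rw [← map_inv, hvi], mul_assoc]
      _ = π k := by
          rw [hk, map_pow, ← conj_pow, this, inv_pow, inv_inv]
  have hπc : π c = π h₀ := by
    rw [hc, ← hπk, pow_two, map_mul, map_mul, map_mul, map_inv, ← mul_assoc, ← mul_assoc, hvk]
  have hinvc : v * c * v⁻¹ = c⁻¹ := by
    rw [hc]
    calc v * (v * (k⁻¹ * v * k)) * v⁻¹ = (v * v) * (k⁻¹ * v * k) * v⁻¹ := by group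
      _ = (k⁻¹ * v * k) * v := by rw [hv2, one_mul, hvi]
      _ = (v * (k⁻¹ * v * k))⁻¹ := by
          rw [mul_inv_rev, mul_inv_rev, mul_inv_rev, inv_inv, hvi, mul_assoc k⁻¹ v k]
  -- remove the 2-part of the order
  obtain ⟨a, b, hb2, hab⟩ := Nat.exists_eq_two_pow_mul_odd (orderOf_pos c).ne'
  have hdvd : orderOf (π h₀) ∣ b := by
    have h1 : orderOf (π h₀) ∣ 2 ^ a * b := by
      rw [← hπc, ← hab]; exact orderOf_map_dvd π c
    refine Nat.Coprime.dvd_of_dvd_mul_left (Nat.Coprime.pow_right _ ?_) h1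
    rw [Nat.coprime_two_right]
    exact ⟨s, hs⟩
  obtain ⟨e, he1, he2⟩ := Nat.chineseRemainder
    (show Nat.Coprime (2 ^ a) b from Nat.Coprime.pow_left _ (Nat.coprime_two_left.2 hb2)) 0 1
  have hce : π (c ^ e) = π h₀ := by
    rw [map_pow, hπc]
    conv_rhs => rw [← pow_one (π h₀)]
    exact pow_eq_pow_iff_modEq.2 (he2.of_dvd hdvd)
  have hco : Odd (orderOf (c ^ e)) := by
    refine hb2.of_dvd_nat ?_
    rw [orderOf_dvd_iff_pow_eq_one, ← pow_mul, ← orderOf_dvd_iff_pow_eq_one, hab]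
    exact mul_dvd_mul_right (Nat.modEq_zero_iff_dvd.1 he1) b
  obtain ⟨w, hw, hw1, hcm⟩ := hS (c ^ e) v hv hco (by
    rw [← conj_pow, hinvc, inv_pow])
  refine ⟨π w, ⟨w, hw, rfl⟩, fun e' => hw1 ?_, ?_⟩
  · have : w ∈ V ⊓ N := ⟨hw, (QuotientGroup.eq_one_iff w).1 e'⟩
    rwa [hVN, Subgroup.mem_bot] at this
  · rw [← hce, ← map_mul, ← map_mul, hcm]

/-- The minimal counterexample. -/
structure Min (V : Subgroup G) : Prop where
  elem : Cfsg.IsElementaryAbelian 2 V
  ne_bot : V ≠ ⊥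
  sidki : Cfsg.IsSidkiPair V
  meet : V ⊓ Cfsg.pCore 2 G = ⊥
  minG : ∀ (H : Type u) [Group H] [Finite H] (W : Subgroup H), Nat.card H < Nat.card G →
    Cfsg.IsElementaryAbelian 2 W → W ≠ ⊥ → Cfsg.IsSidkiPair W → W ⊓ Cfsg.pCore 2 H ≠ ⊥
  minV : ∀ W : Subgroup G, Nat.card W < Nat.card V → Cfsg.IsElementaryAbelian 2 W → W ≠ ⊥ →
    Cfsg.IsSidkiPair W → W ⊓ Cfsg.pCore 2 G ≠ ⊥

namespace Min

variable {V : Subgroup G} (m : Min V)
include m

omit [Finite G] in
theorem sq {v : G} (hv : v ∈ V) : v * v = 1 := by rw [← pow_two]; exact m.elem.2 v hv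

omit [Finite G] in
theorem comm {v w : G} (hv : v ∈ V) (hw : w ∈ V) : v * w = w * v :=
  congrArg Subtype.val (m.elem.1.is_comm.comm ⟨v, hv⟩ ⟨w, hw⟩)

omit [Finite G] in
theorem inv {v : G} (hv : v ∈ V) : v⁻¹ = v := inv_eq_of_mul_eq_one_right (m.sq hv)

omit [Finite G] in
/-- An element of odd order of a product with `V` lies in the normal subgroup. -/
theorem mem_of_odd {N A : Subgroup G} [N.Normal] (hA : A ≤ V) {x : G} (hx : x ∈ N ⊔ A)
    (hodd : Odd (orderOf x)) : x ∈ N := by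
  have hx' : x ∈ A ⊔ N := by rwa [sup_comm]
  obtain ⟨a, ha, n, hn, rfl⟩ := exists_mul_of_mem_sup (A := A) (B := N)
    (by rw [normalizer_eq_top]; exact le_top) hx'
  obtain ⟨s, hs⟩ := hodd
  rw [← QuotientGroup.eq_one_iff]
  set y : G ⧸ N := QuotientGroup.mk (a * n)
  have h2 : y * y = 1 := by
    have : y = QuotientGroup.mk a := by
      simp only [y, QuotientGroup.mk_mul, (QuotientGroup.eq_one_iff n).2 hn, mul_one]
    rw [this, ← QuotientGroup.mk_mul, m.sq (hA ha), QuotientGroup.mk_one]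
  have h1 : y ^ (2 * s + 1) = 1 := by
    rw [← hs, ← QuotientGroup.mk_pow, pow_orderOf_eq_one, QuotientGroup.mk_one]
  rwa [pow_succ, pow_mul, pow_two, h2, one_pow, one_mul] at h1

theorem pCore_eq_bot : Cfsg.pCore 2 G = ⊥ := by
  by_contra hne
  set P := Cfsg.pCore 2 G
  have : Fact (Nat.Prime 2) := ⟨Nat.prime_two⟩
  have hlt : Nat.card (G ⧸ P) < Nat.card G := by
    have h1 : 1 < Nat.card P := (Subgroup.one_lt_card_iff_ne_bot P).2 hne
    have h2 : 0 < Nat.card (G ⧸ P) := Nat.card_pos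
    rw [Subgroup.card_eq_card_quotient_mul_card_subgroup P]
    calc Nat.card (G ⧸ P) = Nat.card (G ⧸ P) * 1 := (mul_one _).symm
      _ < Nat.card (G ⧸ P) * Nat.card P := (Nat.mul_lt_mul_left h2).2 h1
  have hne' : V.map (QuotientGroup.mk' P) ≠ ⊥ := by
    rw [Ne, Subgroup.map_eq_bot_iff, QuotientGroup.ker_mk']
    intro hle
    exact m.ne_bot (le_bot_iff.1 (m.meet ▸ le_inf le_rfl hle))
  obtain ⟨x, hx, hx1⟩ := (Subgroup.bot_or_exists_ne_one _).resolve_left (m.minG _ _ hlt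
    (elementary_map m.elem _) hne' (sidki_map m.elem m.sidki P m.meet))
  obtain ⟨⟨v, hv, rfl⟩, hx2⟩ := hx
  let R := (Cfsg.pCore 2 (G ⧸ P)).comap (QuotientGroup.mk' P)
  have hR : IsPGroup 2 R := (Cores.isPGroup_pCore 2).comap_of_ker_isPGroup _ (by
    rw [QuotientGroup.ker_mk']; exact Cores.isPGroup_pCore 2)
  have : v ∈ V ⊓ P := ⟨hv, Cores.le_pCore (N := R) hR hx2⟩
  rw [m.meet, Subgroup.mem_bot] at this
  exact hx1 (by rw [this, map_one])

/-- An element of `O₂(H)` centralises a normal subgroup contained in `H`. -/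
theorem commute_of_core {X H : Subgroup G} [X.Normal] (hXH : X ≤ H) {w : G} (hw : w ∈ H)
    (hwc : (⟨w, hw⟩ : H) ∈ Cfsg.pCore 2 H) (hX : (Cfsg.pCore 2 X) = ⊥) :
    w ∈ centralizer (X : Set G) := by
  have : Fact (Nat.Prime 2) := ⟨Nat.prime_two⟩
  rw [Subgroup.mem_centralizer_iff]
  intro x hx
  let i : ↥X →* ↥H := Subgroup.inclusion hXH
  let R : Subgroup ↥X := (Cfsg.pCore 2 H).comap i
  have hR : IsPGroup 2 R := (Cores.isPGroup_pCore 2).comap_of_injective i
    (Subgroup.inclusion_injective hXH)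
  have hc : ⁅w, x⁆ ∈ X := by
    rw [commutatorElement_def]
    exact mul_mem (Subgroup.Normal.conj_mem inferInstance _ hx _) (inv_mem hx)
  have hmem : (⟨⁅w, x⁆, hc⟩ : ↥X) ∈ R := by
    rw [Subgroup.mem_comap, show i ⟨⁅w, x⁆, hc⟩ = (⟨w, hw⟩ : H) *
      ((⟨x, hXH hx⟩ : H) * (⟨w, hw⟩ : H)⁻¹ * (⟨x, hXH hx⟩ : H)⁻¹) from Subtype.ext (by
        simp [i, commutatorElement_def]; group)]
    exact mul_mem hwc (Subgroup.Normal.conj_mem inferInstance _ (inv_mem hwc) _)
  have := Cores.le_pCore (N := R) hR hmem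
  rw [hX, Subgroup.mem_bot] at this
  exact (commutatorElement_eq_one_iff_mul_comm.1 (congrArg Subtype.val this)).symm

theorem core_normal (X : Subgroup G) [X.Normal] : Cfsg.pCore 2 X = ⊥ := by
  have h : (Cfsg.pCore 2 X).map X.subtype ≤ Cfsg.pCore 2 G := Cores.map_pCore_le 2 X
  rw [m.pCore_eq_bot, le_bot_iff, Subgroup.map_eq_bot_iff] at h
  exact le_bot_iff.1 (by rwa [Subgroup.ker_subtype] at h)

/-- A proper product with a normal subgroup leaves a centralising element. -/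
theorem exists_centralizing (X : Subgroup G) [X.Normal] (hne : X ⊔ V ≠ ⊤) :
    ∃ w ∈ V, w ≠ 1 ∧ w ∈ centralizer (X : Set G) := by
  set H := X ⊔ V
  have hlt : Nat.card H < Nat.card G :=
    lt_of_le_of_ne (Subgroup.card_le_card_group H) fun e => hne (Subgroup.eq_top_of_card_eq H e)
  have hne' : V.subgroupOf H ≠ ⊥ := by
    rw [Ne, Subgroup.subgroupOf_eq_bot]
    intro e
    exact m.ne_bot (disjoint_self.1 (e.mono_right le_sup_right))
  obtain ⟨w, ⟨hwV, hwc⟩, hw1⟩ := (Subgroup.bot_or_exists_ne_one _).resolve_left (m.minG _ _ hlt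
    (elementary_subgroupOf m.elem) hne' (sidki_subgroupOf m.sidki le_sup_right))
  exact ⟨w, hwV, fun e => hw1 (Subtype.ext e),
    m.commute_of_core le_sup_left w.2 hwc (m.core_normal X)⟩

/-- The group does not split over two normal subgroups, one of which is partly centralised. -/
theorem no_split (N D : Subgroup G) [N.Normal] [D.Normal] (hdisj : N ⊓ D = ⊥)
    (htop : N ⊔ D ⊔ V = ⊤) (h1 : V ⊓ centralizer (D : Set G) ≠ ⊥)
    (h2 : ¬ V ≤ centralizer (D : Set G)) : False := by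
  set U := V ⊓ centralizer (D : Set G) with hU
  have hND : ∀ {n d : G}, n ∈ N → d ∈ D → n * d = d * n := fun {n d} hn hd =>
    Subgroup.commute_of_normal_of_disjoint N D inferInstance inferInstance
      (disjoint_iff.2 hdisj) n d hn hd
  have huniq : ∀ {n n' d d' : G}, n ∈ N → n' ∈ N → d ∈ D → d' ∈ D → n * d = n' * d' →
      n = n' ∧ d = d' := by
    intro n n' d d' hn hn' hd hd' e
    have h4 : n'⁻¹ * n = d' * d⁻¹ := by
      calc n'⁻¹ * n = n'⁻¹ * (n * d) * d⁻¹ := by group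
        _ = d' * d⁻¹ := by rw [e]; group
    have h5 : n'⁻¹ * n ∈ N ⊓ D :=
      Subgroup.mem_inf.2 ⟨mul_mem (inv_mem hn') hn, h4 ▸ mul_mem hd' (inv_mem hd)⟩
    rw [hdisj, Subgroup.mem_bot] at h5
    exact ⟨(inv_mul_eq_one.1 h5).symm, (mul_inv_eq_one.1 (h4.symm.trans h5)).symm⟩
  have hUlt : Nat.card U < Nat.card V := by
    refine lt_of_le_of_ne (Subgroup.card_le_of_le inf_le_left) fun e => h2 ?_
    have := Subgroup.eq_of_le_of_card_ge (inf_le_left : U ≤ V) e.ge
    rw [← this]; exact inf_le_right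
  have hUel : Cfsg.IsElementaryAbelian 2 U :=
    ⟨⟨⟨fun a b => Subtype.ext (m.comm a.2.1 b.2.1)⟩⟩, fun a ha => m.elem.2 a ha.1⟩
  refine m.minV U hUlt hUel h1 ?_
    (le_bot_iff.1 ((inf_le_inf_right _ inf_le_left).trans m.meet.le))
  intro h u hu hodd hinv
  have hh : h ∈ N ⊔ D := m.mem_of_odd le_rfl (htop ▸ trivial) hodd
  obtain ⟨n, hn, d, hd, rfl⟩ := exists_mul_of_mem_sup (A := N) (B := D)
    (by rw [normalizer_eq_top]; exact le_top) hh
  have hud : u * d * u⁻¹ = d := by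
    rw [mul_inv_eq_iff_eq_mul]; exact (Subgroup.mem_centralizer_iff.1 hu.2 d hd).symm
  have hsplit : u * n * u⁻¹ = n⁻¹ ∧ d = d⁻¹ := by
    refine huniq (Subgroup.Normal.conj_mem inferInstance _ hn _) (inv_mem hn) hd (inv_mem hd) ?_
    calc u * n * u⁻¹ * d = u * n * u⁻¹ * (u * d * u⁻¹) := by rw [hud]
      _ = u * (n * d) * u⁻¹ := by group
      _ = (n * d)⁻¹ := hinv
      _ = n⁻¹ * d⁻¹ := by rw [hND hn hd, mul_inv_rev]
  have hd1 : d = 1 := by
    obtain ⟨s, hs⟩ := hodd
    have h0 := pow_orderOf_eq_one (n * d)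
    rw [(show Commute n d from hND hn hd).mul_pow] at h0
    have h4 : d ^ orderOf (n * d) = 1 :=
      (huniq (pow_mem hn _) (one_mem N) (pow_mem hd _) (one_mem D) (h0.trans (one_mul 1).symm)).2
    have hd2 : d * d = 1 := by nth_rw 2 [hsplit.2]; exact mul_inv_cancel d
    rw [hs, pow_succ, pow_mul, pow_two, hd2, one_pow, one_mul] at h4
    exact h4
  subst hd1
  rw [mul_one] at hodd hinv ⊢
  by_cases hn1 : n = 1
  · obtain ⟨w, hw, hw1⟩ := (Subgroup.bot_or_exists_ne_one _).resolve_left h1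
    exact ⟨w, hw, hw1, by rw [hn1, mul_one, one_mul]⟩
  by_contra hfail
  simp only [not_exists, not_and] at hfail
  set A := V ⊓ centralizer ({n} : Set G) with hA
  have hAn : ∀ {w : G}, w ∈ V → w * n = n * w → w ∈ A := fun hw hc =>
    ⟨hw, Subgroup.mem_centralizer_singleton_iff.2 hc⟩
  have hAn' : ∀ {w : G}, w ∈ A → w * n = n * w := fun hw =>
    Subgroup.mem_centralizer_singleton_iff.1 hw.2
  obtain ⟨w₀, hw₀, hw₀1, hw₀c⟩ := m.sidki n u hu.1 hodd hinv
  set H := D ⊔ A
  have hlt : Nat.card H < Nat.card G := by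
    refine lt_of_le_of_ne (Subgroup.card_le_card_group H) fun e => hn1 ?_
    have : n ∈ N ⊓ D :=
      ⟨hn, m.mem_of_odd (N := D) (A := A) inf_le_left (by
        rw [show D ⊔ A = ⊤ from Subgroup.eq_top_of_card_eq H e]; trivial) hodd⟩
    rwa [hdisj, Subgroup.mem_bot] at this
  have hA1 : A.subgroupOf H ≠ ⊥ := by
    intro e
    have : (⟨w₀, le_sup_right (a := D) (hAn hw₀ hw₀c)⟩ : H) ∈ A.subgroupOf H := hAn hw₀ hw₀c
    rw [e, Subgroup.mem_bot] at this
    exact hw₀1 (congrArg Subtype.val this)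
  have hAel : Cfsg.IsElementaryAbelian 2 A :=
    ⟨⟨⟨fun a b => Subtype.ext (m.comm a.2.1 b.2.1)⟩⟩, fun a ha => m.elem.2 a ha.1⟩
  have hAO : A.subgroupOf H ⊓ Cfsg.pCore 2 H = ⊥ := by
    rw [eq_bot_iff]
    rintro ⟨w, hwH⟩ ⟨hw, hwc⟩
    have hwD : w ∈ centralizer (D : Set G) :=
      m.commute_of_core le_sup_left hwH hwc (m.core_normal D)
    rw [Subgroup.mem_bot]
    refine Subtype.ext ?_
    by_contra hw1
    exact hfail w ⟨hw.1, hwD⟩ hw1 (hAn' hw)
  have hns : ¬ Cfsg.IsSidkiPair (A.subgroupOf H) := fun hs =>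
    m.minG _ _ hlt (elementary_subgroupOf hAel) hA1 hs hAO
  simp only [Cfsg.IsSidkiPair, not_forall, not_exists, not_and] at hns
  obtain ⟨⟨d, hdH⟩, ⟨a, haH⟩, ha, hdodd, hdinv, hno⟩ := hns
  have hdo : Odd (orderOf d) := by rwa [Subgroup.orderOf_mk] at hdodd
  have hdD : d ∈ D := m.mem_of_odd inf_le_left hdH hdo
  have hda : a * d * a⁻¹ = d⁻¹ := congrArg Subtype.val hdinv
  have haA : a ∈ A := ha
  have hud' : u * d * u⁻¹ = d := by
    rw [mul_inv_eq_iff_eq_mul]; exact (Subgroup.mem_centralizer_iff.1 hu.2 d hdD).symm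
  obtain ⟨w, hw, hw1, hwc⟩ := m.sidki (n * d) (u * a) (mul_mem hu.1 haA.1)
    ((hodd.mul hdo).of_dvd_nat ((show Commute n d from hND hn hdD).orderOf_mul_dvd_mul_orderOf)) (by
    calc u * a * (n * d) * (u * a)⁻¹
        = u * ((a * n) * a⁻¹ * (a * d * a⁻¹)) * u⁻¹ := by group
      _ = u * (n * d⁻¹) * u⁻¹ := by rw [hAn' haA, mul_inv_cancel_right, hda]
      _ = (u * n * u⁻¹) * (u * d * u⁻¹)⁻¹ := by group
      _ = n⁻¹ * d⁻¹ := by rw [hinv, hud']
      _ = (n * d)⁻¹ := by rw [hND hn hdD, mul_inv_rev])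
  obtain ⟨e1, e2⟩ := huniq (Subgroup.Normal.conj_mem inferInstance _ hn w) hn
    (Subgroup.Normal.conj_mem inferInstance _ hdD w) hdD (by
      calc w * n * w⁻¹ * (w * d * w⁻¹) = w * (n * d) * w⁻¹ := by group
        _ = n * d := by rw [hwc, mul_inv_cancel_right])
  have hwA : w ∈ A := hAn hw (mul_inv_eq_iff_eq_mul.1 e1)
  refine hno ⟨w, le_sup_right (a := D) hwA⟩ hwA (fun e => hw1 (congrArg Subtype.val e)) ?_
  exact Subtype.ext (mul_inv_eq_iff_eq_mul.1 e2)

theorem core_centralizes (w : G) (hw : w ∈ V)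
    (hc : w ∈ centralizer (Cfsg.generalizedFittingSubgroup G : Set G)) : w = 1 := by
  have : Fact (Nat.Prime 2) := ⟨Nat.prime_two⟩
  by_contra hw1
  set F := Cfsg.fittingSubgroup G
  have hwF : w ∈ F := centralizer_generalizedFitting_le_fitting hc
  obtain ⟨S, hS⟩ := ((IsPGroup.of_card (n := 1) (show Nat.card (zpowers (⟨w, hwF⟩ : F)) = 2 ^ 1 by
    rw [Nat.card_zpowers, pow_one, Subgroup.orderOf_mk]
    exact orderOf_eq_prime (m.elem.2 w hw) hw1))).exists_le_sylow
  have hn : (S : Subgroup F).Normal := inferInstance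
  have h2 : (⟨w, hwF⟩ : F) ∈ Cfsg.pCore 2 F := Cores.le_pCore S.2 (hS (mem_zpowers _))
  rw [m.core_normal F, Subgroup.mem_bot] at h2
  exact hw1 (congrArg Subtype.val h2)

theorem sup_eq_top : Cfsg.generalizedFittingSubgroup G ⊔ V = ⊤ := by
  by_contra hne
  obtain ⟨w, hw, hw1, hc⟩ := m.exists_centralizing _ hne
  exact hw1 (m.core_centralizes w hw hc)

theorem eq_bot_of_sq {N D : Subgroup G} [N.Normal] [D.Normal] (hdisj : N ⊓ D = ⊥)
    (hN : D ⊔ V = ⊤) : N = ⊥ := by
  have : Fact (Nat.Prime 2) := ⟨Nat.prime_two⟩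
  rw [← le_bot_iff, ← m.pCore_eq_bot]
  refine Cores.le_pCore (N := N) ?_
  intro x
  refine ⟨1, Subtype.ext ?_⟩
  have hx : (x : G) ∈ V ⊔ D := by rw [sup_comm, hN]; trivial
  obtain ⟨v, hv, d, hd, he⟩ := exists_mul_of_mem_sup (A := V) (B := D)
    (by rw [normalizer_eq_top]; exact le_top) hx
  have h1 : (x : G) * x ∈ D := by
    rw [← QuotientGroup.eq_one_iff, ← he, QuotientGroup.mk_mul, QuotientGroup.mk_mul,
      (QuotientGroup.eq_one_iff d).2 hd, mul_one, ← QuotientGroup.mk_mul, m.sq hv,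
      QuotientGroup.mk_one]
  have h2 : (x : G) * x ∈ N ⊓ D := ⟨mul_mem x.2 x.2, h1⟩
  rw [hdisj, Subgroup.mem_bot] at h2
  simpa [pow_two] using h2

/-- A split in which both factors carry weight is impossible. -/
theorem trivial_of_split (N D : Subgroup G) [N.Normal] [D.Normal] (hdisj : N ⊓ D = ⊥)
    (htop : N ⊔ D ⊔ V = ⊤) (h1 : V ⊓ centralizer (D : Set G) ≠ ⊥)
    (h3 : ∀ w ∈ V, w ∈ centralizer (N : Set G) → w ∈ centralizer (D : Set G) → w = 1) :
    D = ⊥ ∧ N ⊔ V = ⊤ := by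
  by_cases h2 : V ≤ centralizer (D : Set G)
  · have hNV : N ⊔ V = ⊤ := by
      by_contra hne
      obtain ⟨w, hw, hw1, hc⟩ := m.exists_centralizing N hne
      exact hw1 (h3 w hw hc (h2 hw))
    exact ⟨m.eq_bot_of_sq (inf_comm N D ▸ hdisj) hNV, hNV⟩
  · exact absurd (m.no_split N D hdisj htop h1 h2) not_false

theorem fitting_eq_bot : Cfsg.fittingSubgroup G = ⊥ := by
  by_contra hne
  have : Fact (Nat.Prime 2) := ⟨Nat.prime_two⟩
  set F := Cfsg.fittingSubgroup G with hF
  obtain ⟨N, hNF, hNn, hN, hmin⟩ : ∃ N : Subgroup G, N ≤ F ∧ N.Normal ∧ N ≠ ⊥ ∧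
      ∀ M : Subgroup G, M.Normal → M ≤ N → M = ⊥ ∨ M = N := by
    classical
    obtain ⟨N, ⟨hNF, hNn, hN⟩, hmin⟩ := (Set.toFinite {N : Subgroup G | N ≤ F ∧ N.Normal ∧ N ≠ ⊥}
      ).exists_minimal ⟨F, le_rfl, inferInstance, hne⟩
    refine ⟨N, hNF, hNn, hN, fun M hM hle => ?_⟩
    by_cases h0 : M = ⊥
    · exact Or.inl h0
    · exact Or.inr (le_antisymm hle (hmin ⟨hle.trans hNF, hM, h0⟩ hle))
  -- `F` has odd order
  have hodd : ∀ x ∈ F, Odd (orderOf x) := by
    intro x hx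
    by_contra hev
    rw [Nat.not_odd_iff_even, even_iff_two_dvd] at hev
    obtain ⟨c, hc⟩ := hev
    set y := x ^ c with hy
    have hy1 : y ≠ 1 := pow_ne_one_of_lt_orderOf (by
      intro h0; rw [h0, mul_zero] at hc; exact (orderOf_pos x).ne' hc) (by
      have := orderOf_pos x; omega)
    have hy2 : y ^ 2 = 1 := by rw [hy, ← pow_mul, mul_comm, ← hc, pow_orderOf_eq_one]
    have hyF : y ∈ F := pow_mem hx c
    obtain ⟨S, hS⟩ := ((IsPGroup.of_card (n := 1) (show Nat.card (zpowers (⟨y, hyF⟩ : F)) = 2 ^ 1 by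
      rw [Nat.card_zpowers, pow_one, Subgroup.orderOf_mk]
      exact orderOf_eq_prime hy2 hy1))).exists_le_sylow
    have hn : (S : Subgroup F).Normal := inferInstance
    have h2 : (⟨y, hyF⟩ : F) ∈ Cfsg.pCore 2 F := Cores.le_pCore S.2 (hS (mem_zpowers _))
    rw [m.core_normal F, Subgroup.mem_bot] at h2
    exact hy1 (congrArg Subtype.val h2)
  -- `N` is central in `F`
  have hNZ : F ≤ centralizer (N : Set G) := by
    have : Nontrivial (N.subgroupOf F) := by
      rw [Subgroup.nontrivial_iff_ne_bot, Ne, Subgroup.subgroupOf_eq_bot]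
      exact fun e => hN (disjoint_self.1 (e.mono_right hNF))
    have hz : N.subgroupOf F ⊓ center F ≠ ⊥ :=
      CfsgLib.Solvable.FrattiniFitting.inf_center_ne_bot _ (Subgroup.nontrivial_iff_ne_bot _ |>.1 this)
    set Z := (N.subgroupOf F ⊓ center F).map F.subtype
    have hZle : Z ≤ N := by rintro _ ⟨y, hy, rfl⟩; exact hy.1
    have hZn : Z.Normal := ⟨fun z hz g => by
      obtain ⟨y, hy, rfl⟩ := hz
      have hyF : g * (y : G) * g⁻¹ ∈ F := Subgroup.Normal.conj_mem inferInstance _ y.2 _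
      refine ⟨⟨g * (y : G) * g⁻¹, hyF⟩, Subgroup.mem_inf.2 ⟨Subgroup.Normal.conj_mem hNn _ hy.1 _, ?_⟩, rfl⟩
      rw [Subgroup.mem_center_iff]
      intro t
      refine Subtype.ext ?_
      have ht : g⁻¹ * (t : G) * g ∈ F := by
        simpa using Subgroup.Normal.conj_mem (inferInstance : F.Normal) _ t.2 g⁻¹
      have e := congrArg Subtype.val (Subgroup.mem_center_iff.1 hy.2 ⟨_, ht⟩)
      simp only [Subgroup.coe_mul] at e ⊢
      calc (t : G) * (g * (y : G) * g⁻¹) = g * ((g⁻¹ * t * g) * y) * g⁻¹ := by group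
        _ = g * ((y : G) * (g⁻¹ * t * g)) * g⁻¹ := by rw [e]
        _ = g * (y : G) * g⁻¹ * t := by group⟩
    rcases hmin Z hZn hZle with e | e
    · exact absurd ((Subgroup.map_eq_bot_iff_of_injective _ F.subtype_injective).1 e) hz
    · intro t ht
      rw [Subgroup.mem_centralizer_iff]
      intro x hx
      rw [← e] at hx
      obtain ⟨y, hy, rfl⟩ := hx
      exact (congrArg Subtype.val (Subgroup.mem_center_iff.1 hy.2 ⟨t, ht⟩)).symm
  set C := centralizer (N : Set G) with hC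
  have hCn : C.Normal := inferInstance
  have hFC : Cfsg.generalizedFittingSubgroup G ≤ C := by
    refine sup_le (layer_le_centralizer_fitting.trans ?_) hNZ
    exact Subgroup.centralizer_le hNF
  have hNC : N ≤ C := hNF.trans hNZ
  have hCV : C ⊔ V = ⊤ := eq_top_iff.2 (m.sup_eq_top.ge.trans (sup_le_sup_right hFC V))
  have hcen : ∀ {c n : G}, c ∈ C → n ∈ N → n * c = c * n := fun hc hn =>
    Subgroup.mem_centralizer_iff.1 hc _ hn
  have hVN : V ⊓ N = ⊥ := by
    rw [eq_bot_iff]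
    rintro x ⟨hxV, hxN⟩
    rw [Subgroup.mem_bot]
    obtain ⟨s, hs⟩ := hodd x (hNF hxN)
    have := pow_orderOf_eq_one x
    rwa [hs, pow_succ, pow_mul, m.elem.2 x hxV, one_pow, one_mul] at this
  -- an element of `V` centralising `C / N`
  obtain ⟨a, haV, ha1, haC⟩ : ∃ a ∈ V, a ≠ 1 ∧ ∀ c ∈ C, ⁅a, c⁆ ∈ N := by
    have hlt : Nat.card (G ⧸ N) < Nat.card G := by
      have h1 : 1 < Nat.card N := (Subgroup.one_lt_card_iff_ne_bot N).2 hN
      have h2 : 0 < Nat.card (G ⧸ N) := Nat.card_pos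
      rw [Subgroup.card_eq_card_quotient_mul_card_subgroup N]
      calc Nat.card (G ⧸ N) = Nat.card (G ⧸ N) * 1 := (mul_one _).symm
        _ < Nat.card (G ⧸ N) * Nat.card N := (Nat.mul_lt_mul_left h2).2 h1
    have hne' : V.map (QuotientGroup.mk' N) ≠ ⊥ := by
      rw [Ne, Subgroup.map_eq_bot_iff, QuotientGroup.ker_mk']
      exact fun hle => m.ne_bot (le_bot_iff.1 (hVN ▸ le_inf le_rfl hle))
    obtain ⟨x, hx, hx1⟩ := (Subgroup.bot_or_exists_ne_one _).resolve_left (m.minG _ _ hlt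
      (elementary_map m.elem _) hne' (sidki_map m.elem m.sidki N hVN))
    obtain ⟨⟨a, ha, rfl⟩, hx2⟩ := hx
    refine ⟨a, ha, fun e => hx1 (by rw [e, map_one]), fun c hc => ?_⟩
    let P : Subgroup G := C ⊓ (Cfsg.pCore 2 (G ⧸ N)).comap (QuotientGroup.mk' N)
    have hmem : ⁅a, c⁆ ∈ P := by
      refine Subgroup.mem_inf.2 ⟨?_, ?_⟩
      · rw [commutatorElement_def]
        exact mul_mem (hCn.conj_mem _ hc _) (inv_mem hc)
      · rw [Subgroup.mem_comap, map_commutatorElement, commutatorElement_def,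
          mul_assoc, mul_assoc, ← mul_assoc (QuotientGroup.mk' N c)]
        exact mul_mem hx2 (Subgroup.Normal.conj_mem inferInstance _ (inv_mem hx2) _)
    -- `P` is nilpotent
    let f : ↥P →* G ⧸ N := (QuotientGroup.mk' N).comp P.subtype
    have hfr : IsPGroup 2 f.range := (Cores.isPGroup_pCore 2).to_le (by
      rintro _ ⟨y, rfl⟩; exact y.2.2)
    have : Group.IsNilpotent f.range := hfr.isNilpotent
    have hPn : Group.IsNilpotent ↥P := by
      refine Subgroup.isNilpotent_of_ker_le_center f.rangeRestrict ?_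
      intro y hy
      rw [MonoidHom.ker_rangeRestrict] at hy
      have hyN : (y : G) ∈ N := (QuotientGroup.eq_one_iff _).1 hy
      rw [Subgroup.mem_center_iff]
      exact fun t => Subtype.ext (hcen t.2.1 hyN).symm
    have hPF : P ≤ F := le_sSup ⟨inferInstance, hPn⟩
    obtain ⟨k, hk⟩ := hfr ⟨f ⟨⁅a, c⁆, hmem⟩, _, rfl⟩
    have hk' : f ⟨⁅a, c⁆, hmem⟩ ^ 2 ^ k = 1 := congrArg Subtype.val hk
    have hdiv : orderOf (f ⟨⁅a, c⁆, hmem⟩) ∣ orderOf ⁅a, c⁆ := by
      rw [← Subgroup.orderOf_mk _ hmem]; exact orderOf_map_dvd f _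
    obtain ⟨j, -, hj⟩ := (Nat.dvd_prime_pow Nat.prime_two).1 (orderOf_dvd_of_pow_eq_one hk')
    have hj0 : j = 0 := by
      by_contra hj0
      have h2 : 2 ∣ orderOf ⁅a, c⁆ := (dvd_pow_self 2 hj0).trans (hj ▸ hdiv)
      exact (Nat.not_even_iff_odd.2 (hodd _ (hPF hmem))) (even_iff_two_dvd.2 h2)
    rw [hj0, pow_zero, orderOf_eq_one_iff] at hj
    exact (QuotientGroup.eq_one_iff _).1 hj
  have hinv : ∀ c ∈ C, a * ⁅a, c⁆ * a⁻¹ = ⁅a, c⁆⁻¹ := by
    intro c hc
    have h : ⁅a * a, c⁆ = a * ⁅a, c⁆ * a⁻¹ * ⁅a, c⁆ := by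
      simp only [commutatorElement_def]; group
    rw [m.sq haV, commutatorElement_one_left] at h
    exact eq_inv_of_mul_eq_one_left h.symm
  have haNC : a ∉ C := by
    intro haC'
    refine ha1 (m.core_centralizes a haV (Subgroup.mem_centralizer_iff.2 fun t ht => ?_))
    have htC := hFC ht
    have e := hinv t htC
    rw [show a * ⁅a, t⁆ * a⁻¹ = ⁅a, t⁆ by
      rw [← hcen haC' (haC t htC), mul_inv_cancel_right]] at e
    obtain ⟨s, hs⟩ := hodd _ (hNF (haC t htC))
    have h1 := pow_orderOf_eq_one ⁅a, t⁆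
    rw [hs, pow_succ, pow_mul, pow_two] at h1
    rw [show ⁅a, t⁆ * ⁅a, t⁆ = 1 by nth_rw 2 [e]; exact mul_inv_cancel _, one_pow, one_mul] at h1
    exact (commutatorElement_eq_one_iff_mul_comm.1 h1).symm
  set D := C ⊓ centralizer ({a} : Set G) with hD
  have hDn : D.Normal := by
    rw [← Subgroup.normalizer_eq_top_iff, eq_top_iff, ← hCV]
    have key : ∀ g : G, (∀ d ∈ D, g * d * g⁻¹ ∈ D) → g ∈ normalizer (D : Set G) := fun g hg =>
      Subgroup.mem_normalizer_fintype hg
    refine sup_le (fun c hc => key c fun d hd => ?_) (fun v hv => key v fun d hd => ?_)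
    · refine Subgroup.mem_inf.2 ⟨mul_mem (mul_mem hc hd.1) (inv_mem hc), ?_⟩
      have hd2 : a * d = d * a := Subgroup.mem_centralizer_singleton_iff.1 hd.2 |>.symm
      rw [Subgroup.mem_centralizer_singleton_iff]
      set r := ⁅a, c⁆
      have e1 : a * c = r * c * a := by simp only [r, commutatorElement_def]; group
      have e2 : r * (c * d * c⁻¹) = c * d * c⁻¹ * r :=
        hcen (mul_mem (mul_mem hc hd.1) (inv_mem hc)) (haC c hc)
      refine (mul_inv_eq_iff_eq_mul.1 ?_).symm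
      calc a * (c * d * c⁻¹) * a⁻¹ = (a * c) * d * (a * c)⁻¹ := by group
        _ = r * c * (a * d) * a⁻¹ * c⁻¹ * r⁻¹ := by rw [e1]; group
        _ = r * (c * d * c⁻¹) * r⁻¹ := by rw [hd2]; group
        _ = c * d * c⁻¹ := by rw [e2, mul_inv_cancel_right]
    · refine Subgroup.mem_inf.2 ⟨hCn.conj_mem _ hd.1 _, ?_⟩
      rw [Subgroup.mem_centralizer_singleton_iff]
      have hd2 : d * a = a * d := Subgroup.mem_centralizer_singleton_iff.1 hd.2
      have hva : v⁻¹ * a = a * v⁻¹ := m.comm (inv_mem hv) haV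
      calc v * d * v⁻¹ * a = v * (d * a) * v⁻¹ := by rw [mul_assoc (v * d), hva]; group
        _ = v * a * (d * v⁻¹) := by rw [hd2]; group
        _ = a * (v * d * v⁻¹) := by rw [m.comm hv haV]; group
  have hdisj : N ⊓ D = ⊥ := by
    refine (hmin (N ⊓ D) inferInstance inf_le_left).resolve_right fun e => haNC ?_
    rw [hC, Subgroup.mem_centralizer_iff]
    intro x hx
    have : x ∈ N ⊓ D := e.symm ▸ hx
    exact Subgroup.mem_centralizer_singleton_iff.1 this.2.2
  have hCND : C ≤ N ⊔ D := by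
    intro c hc
    set r₀ := ⁅a, c⁆ with hr₀
    obtain ⟨s, hs⟩ : Odd (orderOf r₀) := hodd _ (hNF (haC c hc))
    set r := r₀ ^ (s + 1) with hr
    have hrr : r * r = r₀ := by
      rw [hr, ← pow_add, show s + 1 + (s + 1) = orderOf r₀ + 1 by omega, pow_succ,
        pow_orderOf_eq_one, one_mul]
    have hrN : r ∈ N := pow_mem (haC c hc) _
    have har : a * r * a⁻¹ = r⁻¹ := by rw [hr, ← conj_pow, hinv c hc, inv_pow]
    have hrc : r * c ∈ D := by
      refine Subgroup.mem_inf.2 ⟨mul_mem (hNC hrN) hc, ?_⟩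
      rw [Subgroup.mem_centralizer_singleton_iff]
      refine (mul_inv_eq_iff_eq_mul.1 ?_).symm
      calc a * (r * c) * a⁻¹ = (a * r * a⁻¹) * (r₀ * c) := by
            rw [hr₀]; simp only [commutatorElement_def]; group
        _ = r * c := by rw [har, ← hrr]; group
    rw [show c = r⁻¹ * (r * c) by group]
    exact mul_mem (le_sup_left (b := D) (inv_mem hrN)) (le_sup_right (a := N) hrc)
  have h3 : ∀ w ∈ V, w ∈ centralizer (N : Set G) → w ∈ centralizer (D : Set G) → w = 1 := by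
    intro w hw hwN hwD
    refine m.core_centralizes w hw (Subgroup.centralizer_le hFC ?_)
    have : C ≤ centralizer ({w} : Set G) := hCND.trans (sup_le
      (fun x hx => Subgroup.mem_centralizer_singleton_iff.2 (Subgroup.mem_centralizer_iff.1 hwN x hx))
      (fun x hx => Subgroup.mem_centralizer_singleton_iff.2 (Subgroup.mem_centralizer_iff.1 hwD x hx)))
    exact Subgroup.mem_centralizer_iff.2 fun x hx =>
      Subgroup.mem_centralizer_singleton_iff.1 (this hx)
  have h1 : V ⊓ centralizer (D : Set G) ≠ ⊥ := by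
    intro e
    have : a ∈ V ⊓ centralizer (D : Set G) := ⟨haV, Subgroup.mem_centralizer_iff.2 fun x hx =>
      Subgroup.mem_centralizer_singleton_iff.1 hx.2⟩
    rw [e, Subgroup.mem_bot] at this
    exact ha1 this
  have htop : N ⊔ D ⊔ V = ⊤ := eq_top_iff.2 (hCV.ge.trans (sup_le_sup_right hCND V))
  obtain ⟨hDbot, hNV⟩ := m.trivial_of_split N D hdisj htop h1 h3
  -- `V` inverts all of `N`
  have hCN : ∀ x : G, x ∈ N → x * x ≠ 1 ∨ x = 1 := by
    intro x hx
    by_cases h : x * x = 1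
    · obtain ⟨s, hs⟩ := hodd x (hNF hx)
      have h1 := pow_orderOf_eq_one x
      rw [hs, pow_succ, pow_mul, pow_two, h, one_pow, one_mul] at h1
      exact Or.inr h1
    · exact Or.inl h
  have hab : ∀ x y : G, x ∈ N → y ∈ N → x * y = y * x := fun x y hx hy => hcen (hNC hy) hx
  have hfree : ∀ v ∈ V, v ≠ 1 → ∀ x ∈ N, v * x * v⁻¹ = x → x = 1 := by
    intro v hv hv1
    have hMn : (N ⊓ centralizer ({v} : Set G)).Normal := by
      rw [← Subgroup.normalizer_eq_top_iff, eq_top_iff, ← hNV]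
      refine sup_le (fun x hx => Subgroup.mem_normalizer_fintype fun y hy => ?_)
        (fun w hw => Subgroup.mem_normalizer_fintype fun y hy => ?_)
      · rw [hab x y hx hy.1, mul_inv_cancel_right]; exact hy
      · refine Subgroup.mem_inf.2 ⟨hNn.conj_mem _ hy.1 _, ?_⟩
        rw [Subgroup.mem_centralizer_singleton_iff]
        have hy2 : y * v = v * y := Subgroup.mem_centralizer_singleton_iff.1 hy.2
        have hwv : w⁻¹ * v = v * w⁻¹ := m.comm (inv_mem hw) hv
        calc w * y * w⁻¹ * v = w * (y * v) * w⁻¹ := by rw [mul_assoc (w * y), hwv]; group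
          _ = w * v * (y * w⁻¹) := by rw [hy2]; group
          _ = v * (w * y * w⁻¹) := by rw [m.comm hw hv]; group
    intro x hx hfix
    rcases hmin _ hMn inf_le_left with e | e
    · have : x ∈ N ⊓ centralizer ({v} : Set G) :=
        ⟨hx, Subgroup.mem_centralizer_singleton_iff.2 (mul_inv_eq_iff_eq_mul.1 hfix).symm⟩
      rwa [e, Subgroup.mem_bot] at this
    · exfalso
      refine hv1 (h3 v hv ?_ ?_)
      · rw [Subgroup.mem_centralizer_iff]
        intro y hy
        exact Subgroup.mem_centralizer_singleton_iff.1 (e.symm ▸ hy : y ∈ N ⊓ _).2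
      · rw [hDbot, Subgroup.mem_centralizer_iff]
        intro y hy
        rw [SetLike.mem_coe, Subgroup.mem_bot] at hy
        rw [hy, one_mul, mul_one]
  obtain ⟨x, hx, hx1⟩ := (Subgroup.bot_or_exists_ne_one _).resolve_left hN
  obtain ⟨v, hv, hv1⟩ := (Subgroup.bot_or_exists_ne_one _).resolve_left m.ne_bot
  have hvx : v * x * v⁻¹ = x⁻¹ := by
    have hy : x * (v * x * v⁻¹) = 1 := by
      refine hfree v hv hv1 _ (mul_mem hx (hNn.conj_mem _ hx _)) ?_
      calc v * (x * (v * x * v⁻¹)) * v⁻¹ = v * x * v⁻¹ * ((v * v) * x * (v * v)⁻¹) := by group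
        _ = v * x * v⁻¹ * x := by rw [m.sq hv]; group
        _ = x * (v * x * v⁻¹) := hab _ _ (hNn.conj_mem _ hx _) hx
    exact eq_inv_of_mul_eq_one_right hy
  obtain ⟨w, hw, hw1, hwx⟩ := m.sidki x v hv (hodd x (hNF hx)) hvx
  exact hx1 (hfree w hw hw1 x hx (by rw [hwx, mul_inv_cancel_right]))

theorem simple_case : IsSimpleGroup ↥(Cfsg.generalizedFittingSubgroup G) ∧
    ¬ IsMulCommutative ↥(Cfsg.generalizedFittingSubgroup G) := by
  have : Fact (Nat.Prime 2) := ⟨Nat.prime_two⟩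
  have hF := m.fitting_eq_bot
  set E := Cfsg.generalizedFittingSubgroup G with hE
  have hEl : E = Cfsg.layer G := by rw [hE, Cfsg.generalizedFittingSubgroup, hF, sup_bot_eq]
  have hnil : ∀ X : Subgroup G, X.IsSubnormal → Group.IsNilpotent X → X = ⊥ := fun X hX hn =>
    le_bot_iff.1 (hF ▸ le_fittingSubgroup_of_subnormal hX hn)
  have hE1 : E ≠ ⊥ := by
    intro e
    refine m.ne_bot (le_bot_iff.1 fun w hw => Subgroup.mem_bot.2 (m.core_centralizes w hw ?_))
    rw [← hE, e, Subgroup.mem_centralizer_iff]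
    intro y hy
    rw [SetLike.mem_coe, Subgroup.mem_bot] at hy
    rw [hy, one_mul, mul_one]
  obtain ⟨N, hNE, hNn, hN, hmin⟩ : ∃ N : Subgroup G, N ≤ E ∧ N.Normal ∧ N ≠ ⊥ ∧
      ∀ M : Subgroup G, M.Normal → M ≤ N → M = ⊥ ∨ M = N := by
    obtain ⟨N, ⟨hNF, hNn, hN⟩, hmin⟩ := (Set.toFinite {N : Subgroup G | N ≤ E ∧ N.Normal ∧ N ≠ ⊥}
      ).exists_minimal ⟨E, le_rfl, inferInstance, hE1⟩
    refine ⟨N, hNF, hNn, hN, fun M hM hle => ?_⟩
    by_cases h0 : M = ⊥
    · exact Or.inl h0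
    · exact Or.inr (le_antisymm hle (hmin ⟨hle.trans hNF, hM, h0⟩ hle))
  set D := E ⊓ centralizer (N : Set G) with hD
  have hdisj : N ⊓ D = ⊥ := by
    refine hnil _ (Subgroup.Normal.isSubnormal inferInstance) ?_
    have : IsMulCommutative ↥(N ⊓ D) := ⟨⟨fun x y => Subtype.ext
      (Subgroup.mem_centralizer_iff.1 y.2.2.2 _ x.2.1)⟩⟩
    exact isNilpotent_of_isMulCommutative _
  have hED : E ≤ N ⊔ D := by
    conv_lhs => rw [hEl]
    refine layer_le_iff.2 fun L hL => ?_
    rcases IsComponent.le_or_commutator_eq_bot_of_normal hL N with h | h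
    · exact h.trans le_sup_left
    · exact le_trans (le_inf (hEl ▸ IsComponent.le_layer hL)
        (commutator_eq_bot_iff_le_centralizer.1 h)) le_sup_right
  have htop : N ⊔ D ⊔ V = ⊤ := eq_top_iff.2 (m.sup_eq_top.ge.trans (sup_le_sup_right hED V))
  have h3 : ∀ w ∈ V, w ∈ centralizer (N : Set G) → w ∈ centralizer (D : Set G) → w = 1 := by
    intro w hw hwN hwD
    refine m.core_centralizes w hw ?_
    have : E ≤ centralizer ({w} : Set G) := hED.trans (sup_le
      (fun x hx => Subgroup.mem_centralizer_singleton_iff.2 (Subgroup.mem_centralizer_iff.1 hwN x hx))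
      (fun x hx => Subgroup.mem_centralizer_singleton_iff.2 (Subgroup.mem_centralizer_iff.1 hwD x hx)))
    exact Subgroup.mem_centralizer_iff.2 fun x hx =>
      Subgroup.mem_centralizer_singleton_iff.1 (this hx)
  have h1 : V ⊓ centralizer (D : Set G) ≠ ⊥ := by
    intro e
    obtain ⟨w, hw, hw1, hc⟩ := m.exists_centralizing D (fun q => hN (m.eq_bot_of_sq hdisj q))
    have : w ∈ V ⊓ centralizer (D : Set G) := ⟨hw, hc⟩
    rw [e, Subgroup.mem_bot] at this
    exact hw1 this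
  obtain ⟨hDbot, hNV⟩ := m.trivial_of_split N D hdisj htop h1 h3
  have hEN : E = N := le_antisymm (hED.trans (by rw [hDbot, sup_bot_eq])) hNE
  obtain ⟨K, hK⟩ : ∃ K : Subgroup G, Cfsg.IsComponent K := by
    by_contra hne
    exact hE1 (hEl.trans (layer_eq_bot_iff.2 fun L hL => hne ⟨L, hL⟩))
  have hKE : K ≤ E := hEl ▸ IsComponent.le_layer hK
  have hZ : center ↥K = ⊥ := by
    refine (Subgroup.map_eq_bot_iff_of_injective _ K.subtype_injective).1 (hnil _ ?_ ?_)
    · exact CfsgLib.Components.IsSubnormal.map_subtype_normal hK.1 inferInstance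
    · have : IsMulCommutative ↥((center ↥K).map K.subtype) := inferInstance
      exact isNilpotent_of_isMulCommutative _
  have hKC : ∀ {x : G}, x ∈ K → x ∈ centralizer (K : Set G) → x = 1 := fun {x} hx hc => by
    have : (⟨x, hx⟩ : K) ∈ center ↥K := Subgroup.mem_center_iff.2 fun y =>
      Subtype.ext (Subgroup.mem_centralizer_iff.1 hc y y.2)
    rw [hZ, Subgroup.mem_bot] at this
    exact congrArg Subtype.val this
  let cj : G → Subgroup G := fun g => K.map (MulAut.conj g).toMonoidHom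
  have hcj : ∀ g, Cfsg.IsComponent (cj g) := fun g => IsComponent.conj hK g
  have hother : ∀ {g x : G}, cj g ≠ K → x ∈ cj g → x ∈ centralizer (K : Set G) := fun {g x} hne hx =>
    IsComponent.le_centralizer_of_ne (hcj g) hK hne hx
  set U := V ⊓ normalizer (K : Set G) with hU
  by_cases hUV : V ≤ normalizer (K : Set G)
  · have hKn : K.Normal := by
      rw [← Subgroup.normalizer_eq_top_iff, eq_top_iff, ← m.sup_eq_top]
      exact sup_le (by rw [← hE, hEl]; exact layer_le_normalizer hK) hUV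
    have hKN : K = N := by
      rcases hmin K hKn (hEN ▸ hKE) with e | e
      · exact absurd e (IsComponent.ne_bot hK)
      · exact e
    rw [hEN, ← hKN]
    refine ⟨?_, IsQuasisimple.not_isMulCommutative hK.2⟩
    have := IsQuasisimple.isSimple_quotient hK.2
    exact ((QuotientGroup.quotientMulEquivOfEq hZ).trans QuotientGroup.quotientBot).symm.isSimpleGroup
  exfalso
  -- components are conjugate under `V`
  have hcent : ∀ u ∈ V, u ∈ centralizer (K : Set G) → u = 1 := by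
    intro u hu huK
    set S : Subgroup G := ⨆ v : V, cj (v : G)
    have hSn : S.Normal := by
      rw [← Subgroup.normalizer_eq_top_iff, eq_top_iff, ← m.sup_eq_top]
      refine sup_le ?_ (fun w hw => Subgroup.mem_normalizer_iff_map_conj_eq.2 ?_)
      · intro e he
        rw [Subgroup.mem_normalizer_iff_map_conj_eq, Subgroup.map_iSup]
        exact iSup_congr fun v => Subgroup.mem_normalizer_iff_map_conj_eq.1
          (layer_le_normalizer (hcj v) (hEl ▸ he))
      · have hle : ∀ z ∈ V, S.map (MulAut.conj z).toMonoidHom ≤ S := fun z hz => by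
          rw [Subgroup.map_iSup]
          refine iSup_le fun v => le_iSup_of_le ⟨z * v, mul_mem hz v.2⟩ ?_
          simp only [cj, Subgroup.map_map]
          exact le_of_eq (congrArg (K.map ·) (MonoidHom.ext fun x => by simp [mul_assoc]))
        exact Subgroup.eq_of_le_of_card_ge (hle w hw)
          (by rw [Subgroup.card_map_of_injective (MulAut.conj w).injective])
    have hKS : K ≤ S := le_iSup_of_le ⟨1, one_mem V⟩ fun x hx => ⟨x, hx, by simp⟩
    have hSE : S ≤ N := iSup_le fun v => hEN ▸ (hEl ▸ IsComponent.le_layer (hcj v))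
    have hSN : S = N := (hmin S hSn hSE).resolve_left fun e =>
      IsComponent.ne_bot hK (le_bot_iff.1 (e ▸ hKS))
    refine m.core_centralizes u hu ?_
    rw [← hE, hEN, ← hSN]
    have : S ≤ centralizer ({u} : Set G) := iSup_le fun v => by
      rintro _ ⟨k, hk, rfl⟩
      rw [Subgroup.mem_centralizer_singleton_iff]
      simp only [MulEquiv.coe_toMonoidHom, MulAut.conj_apply]
      have hvu : (v : G)⁻¹ * u = u * (v : G)⁻¹ := m.comm (inv_mem v.2) hu
      calc (v : G) * k * (v : G)⁻¹ * u = (v : G) * (k * u) * (v : G)⁻¹ := by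
            rw [mul_assoc ((v : G) * k), hvu]; group
        _ = (v : G) * u * (k * (v : G)⁻¹) := by
            rw [Subgroup.mem_centralizer_iff.1 huK k hk]; group
        _ = u * ((v : G) * k * (v : G)⁻¹) := by rw [m.comm v.2 hu]; group
    exact Subgroup.mem_centralizer_iff.2 fun x hx =>
      Subgroup.mem_centralizer_singleton_iff.1 (this hx)
  have hnorm : ∀ {g : G}, cj g = K → g ∈ normalizer (K : Set G) := fun e =>
    Subgroup.mem_normalizer_iff_map_conj_eq.2 e
  have hmemcj : ∀ {g x : G}, x ∈ K → g * x * g⁻¹ ∈ cj g := fun {g x} hx => ⟨x, hx, rfl⟩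
  by_cases hU1 : U = ⊥
  · -- a regular orbit
    obtain ⟨v, hv, hv1⟩ := (Subgroup.bot_or_exists_ne_one _).resolve_left m.ne_bot
    have hUtriv : ∀ {w : G}, w ∈ V → cj w = K → w = 1 := fun hw e => by
      have : _ ∈ U := ⟨hw, hnorm e⟩
      rwa [hU1, Subgroup.mem_bot] at this
    obtain ⟨k, hk, hk1, hko⟩ : ∃ k ∈ K, k ≠ 1 ∧ Odd (orderOf k) := by
      by_contra hne
      simp only [not_exists, not_and] at hne
      refine IsComponent.ne_bot hK (hnil K hK.1 (IsPGroup.isNilpotent (p := 2) fun x => ?_))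
      obtain ⟨i, b, hb, he⟩ := Nat.exists_eq_two_pow_mul_odd (orderOf_pos x).ne'
      refine ⟨i, ?_⟩
      by_contra h1
      refine hne (x ^ 2 ^ i : K) (SetLike.coe_mem _) (fun e => h1 (Subtype.ext e)) ?_
      rw [Subgroup.orderOf_coe, orderOf_pow' _ (by positivity), he,
        Nat.gcd_eq_right (dvd_mul_right _ _), Nat.mul_div_cancel_left _ (by positivity)]
      exact hb
    have hvK : cj v ≠ K := fun e => hv1 (hUtriv hv e)
    set k' := v * k * v⁻¹ with hk'
    have hcomm : k * k' = k' * k :=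
      Subgroup.mem_centralizer_iff.1 (hother hvK (hmemcj hk)) k hk
    obtain ⟨w, hw, hw1, hwc⟩ := m.sidki (k * k'⁻¹) v hv (by
      refine (hko.mul hko).of_dvd_nat ?_
      have h := (show Commute k k'⁻¹ from (show Commute k k' from hcomm).inv_right).orderOf_mul_dvd_mul_orderOf
      rwa [orderOf_inv, hk', show v * k * v⁻¹ = MulAut.conj v k from rfl, MulEquiv.orderOf_eq] at h) (by
      calc v * (k * k'⁻¹) * v⁻¹ = k' * ((v * v) * k * (v * v)⁻¹)⁻¹ := by rw [hk']; group
        _ = (k * k'⁻¹)⁻¹ := by rw [m.sq hv]; group)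
    by_cases hwv : w = v
    · subst hwv
      have e1 : k' * k⁻¹ = k * k'⁻¹ := by
        calc k' * k⁻¹ = k' * ((w * w) * k * (w * w)⁻¹)⁻¹ := by rw [m.sq hv]; group
          _ = w * (k * k'⁻¹) * w⁻¹ := by rw [hk']; group
          _ = k * k'⁻¹ := by rw [hwc, mul_inv_cancel_right]
      have e2 : k * k = k' * k' := by
        calc k * k = k * k'⁻¹ * (k' * k) := by group
          _ = k' * k⁻¹ * (k * k') := by rw [e1, ← hcomm]
          _ = k' * k' := by group
      have hkk : k * k = 1 := hKC (mul_mem hk hk) (e2 ▸ mul_mem (hother hvK (hmemcj hk))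
        (hother hvK (hmemcj hk)))
      obtain ⟨s, hs⟩ := hko
      have h0 := pow_orderOf_eq_one k
      rw [hs, pow_succ, pow_mul, pow_two, hkk, one_pow, one_mul] at h0
      exact hk1 h0
    · have hwK : cj w ≠ K := fun e => hw1 (hUtriv hw e)
      have hwvK : cj (w * v) ≠ K := fun e => hwv (by
        have := hUtriv (mul_mem hw hv) e
        rw [eq_inv_of_mul_eq_one_left this, m.inv hv])
      have e1 : w * k * w⁻¹ * (w * v * k * (w * v)⁻¹)⁻¹ = k * k'⁻¹ := by
        calc w * k * w⁻¹ * (w * v * k * (w * v)⁻¹)⁻¹ = w * (k * k'⁻¹) * w⁻¹ := by rw [hk']; group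
          _ = k * k'⁻¹ := by rw [hwc, mul_inv_cancel_right]
      have h4 : k * k'⁻¹ ∈ centralizer (K : Set G) := e1 ▸ mul_mem (hother hwK (hmemcj hk))
        (inv_mem (hother hwvK (hmemcj hk)))
      refine hk1 (hKC hk ?_)
      have := mul_mem h4 (hother hvK (hmemcj hk) : k' ∈ centralizer (K : Set G))
      rwa [inv_mul_cancel_right] at this
  · -- a smaller group
    set H := K ⊔ U
    have hKH : H ≤ normalizer (K : Set G) := sup_le Subgroup.le_normalizer inf_le_right
    have hlt : Nat.card H < Nat.card G := by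
      refine lt_of_le_of_ne (Subgroup.card_le_card_group H) fun e => hUV ?_
      rw [Subgroup.eq_top_of_card_eq H e] at hKH
      exact le_top.trans hKH
    have hUel : Cfsg.IsElementaryAbelian 2 U :=
      ⟨⟨⟨fun a b => Subtype.ext (m.comm a.2.1 b.2.1)⟩⟩, fun a ha => m.elem.2 a ha.1⟩
    have hUne : U.subgroupOf H ≠ ⊥ := by
      rw [Ne, Subgroup.subgroupOf_eq_bot]
      exact fun e => hU1 (disjoint_self.1 (e.mono_right le_sup_right))
    have : (K.subgroupOf H).Normal := (Subgroup.normal_subgroupOf_iff_le_normalizer le_sup_left).2 hKH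
    have hKO : Cfsg.pCore 2 ↥(K.subgroupOf H) = ⊥ := by
      by_contra hne
      have hsn : ((Cfsg.pCore 2 ↥K).map K.subtype).IsSubnormal :=
        CfsgLib.Components.IsSubnormal.map_subtype_normal hK.1 inferInstance
      have hzero : Cfsg.pCore 2 ↥K = ⊥ := (Subgroup.map_eq_bot_iff_of_injective _ K.subtype_injective).1
        (hnil _ hsn ((((Cores.isPGroup_pCore 2).map _)).isNilpotent))
      rw [← Cores.map_pCore (Subgroup.subgroupOfEquivOfLe (le_sup_left : K ≤ H)) 2] at hzero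
      exact hne ((Subgroup.map_eq_bot_iff_of_injective _
        (Subgroup.subgroupOfEquivOfLe (le_sup_left : K ≤ H)).injective).1 hzero)
    have hUO : U.subgroupOf H ⊓ Cfsg.pCore 2 H = ⊥ := by
      rw [eq_bot_iff]
      rintro ⟨w, hwH⟩ ⟨hw, hwc⟩
      rw [Subgroup.mem_bot]
      refine Subtype.ext (hcent w hw.1 (Subgroup.mem_centralizer_iff.2 fun x hx => ?_))
      have hc : ⁅(⟨w, hwH⟩ : H), (⟨x, le_sup_left (b := U) hx⟩ : H)⁆ ∈
          K.subgroupOf H ⊓ Cfsg.pCore 2 H := by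
        refine Subgroup.mem_inf.2 ⟨?_, ?_⟩
        · rw [Subgroup.mem_subgroupOf]
          exact mul_mem ((Subgroup.mem_normalizer_iff.1 hw.2 x).1 hx) (inv_mem hx)
        · rw [commutatorElement_def, mul_assoc, mul_assoc, ← mul_assoc (⟨x, _⟩ : H)]
          exact mul_mem hwc (Subgroup.Normal.conj_mem inferInstance _ (inv_mem hwc) _)
      have hc2 : (⟨_, hc.1⟩ : ↥(K.subgroupOf H)) ∈ Cfsg.pCore 2 ↥(K.subgroupOf H) :=
        Cores.le_pCore (N := (Cfsg.pCore 2 ↥H).comap (K.subgroupOf H).subtype)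
          ((Cores.isPGroup_pCore 2).comap_of_injective _ Subtype.val_injective) hc.2
      rw [hKO, Subgroup.mem_bot] at hc2
      exact (congrArg Subtype.val (commutatorElement_eq_one_iff_mul_comm.1
        (congrArg Subtype.val hc2))).symm
    have hns : ¬ Cfsg.IsSidkiPair (U.subgroupOf H) := fun hs =>
      m.minG _ _ hlt (elementary_subgroupOf hUel) hUne hs hUO
    simp only [Cfsg.IsSidkiPair, not_forall, not_exists, not_and] at hns
    obtain ⟨⟨k, hkH⟩, ⟨a, haH⟩, ha, hkodd, hkinv, hno⟩ := hns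
    have hko : Odd (orderOf k) := by rwa [Subgroup.orderOf_mk] at hkodd
    have hk : k ∈ K := by
      obtain ⟨u', hu', y, hy, e⟩ := exists_mul_of_mem_sup (A := U) (B := K) inf_le_right
        (by rw [sup_comm]; exact hkH : k ∈ U ⊔ K)
      obtain ⟨s, hs⟩ := hko
      have hy' : u'⁻¹ * y * u' ∈ K := by
        simpa using (Subgroup.mem_normalizer_iff.1 (inv_mem hu'.2) y).1 hy
      have h2 : k * k ∈ K := by
        have : k * k = (u' * u') * (u'⁻¹ * y * u') * y := by rw [← e]; group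
        rw [this, m.sq hu'.1, one_mul]; exact mul_mem hy' hy
      have h0 := pow_orderOf_eq_one k
      have : k = (k * k) ^ (s + 1) := by
        rw [← pow_two, ← pow_mul, show 2 * (s + 1) = orderOf k + 1 by omega, pow_succ, h0, one_mul]
      rw [this]; exact pow_mem h2 _
    obtain ⟨w, hw, hw1, hwc⟩ := m.sidki k a ha.1 hko (congrArg Subtype.val hkinv)
    have hwK : cj w = K := by
      by_contra hne
      refine hw1 ?_
      have : k ∈ centralizer (K : Set G) := hother hne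
        (by have := hmemcj (g := w) hk; rwa [hwc, mul_inv_cancel_right] at this)
      have hk1 : k = 1 := hKC hk this
      obtain ⟨u', hu', hu'1⟩ := (Subgroup.bot_or_exists_ne_one _).resolve_left hUne
      exact absurd (Subtype.ext (by simp [hk1])) (hno u' hu' hu'1)
    exact hno ⟨w, le_sup_right (a := K) ⟨hw, hnorm hwK⟩⟩ ⟨hw, hnorm hwK⟩
      (fun e => hw1 (congrArg Subtype.val e)) (Subtype.ext hwc)

end Min

end CfsgLib.LocalEvenB.SidkiReduction
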