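import Cfsg.Agent.Lib.LocalEvenB.JEdgeTrace
import Cfsg.Agent.Lib.LocalEven.StronglyEmbedded
import Cfsg.Agent.Lib.Solvable.Cores

/-!
A group with solvable 2-local subgroups in which the centralizers of `Ω₁(Z(S))` normalize `S`: either a strongly
embedded subgroup, or two traces `S₄` meeting in a group of order eight.
-/

set_option autoImplicit false

namespace CfsgLib.LocalEvenB.SolvableLocalDichotomy

open Subgroup CfsgLib.LocalEven

universe u

variable {G : Type u} [Group G] [Finite G]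

theorem main (H : JVertex.Hyp G) (hO : Cfsg.pCore 2 G = ⊥) :
    (∃ M : Subgroup G, Cfsg.IsStronglyEmbedded M) ∨
      ∃ M₁ M₂ : Subgroup (JEdgeHull.hull G), M₁ ≠ M₂ ∧ Cfsg.IsMaximalTwoLocal M₁ ∧ Cfsg.IsMaximalTwoLocal M₂ ∧
        Nonempty (M₁ ≃* Equiv.Perm (Fin 4)) ∧ Nonempty (M₂ ≃* Equiv.Perm (Fin 4)) ∧
        Nat.card ↥(M₁ ⊓ M₂) = 8 := by
  haveI : Fact (Nat.Prime 2) := ⟨Nat.prime_two⟩
  obtain ⟨S⟩ : Nonempty (Sylow 2 G) := inferInstance
  set J := Cfsg.thompsonSubgroupOf 2 (S : Subgroup G) with hJ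
  set M := normalizer (J : Set G) with hM
  have hS1 : (S : Subgroup G) ≠ ⊥ := S.ne_bot_of_dvd_card (even_iff_two_dvd.1 H.char2.1)
  by_cases hs : (Cfsg.straddlingTwoSubgroups M).Nonempty
  · obtain ⟨T, hT⟩ := JGlobal.exists_max hs
    obtain ⟨-, A, N, A', N', b⟩ := JGlobal.main H hO S le_rfl hT
    exact Or.inr (JEdgeHull.conclusion b)
  left
  have hJ1 : J ≠ ⊥ := by
    obtain ⟨A, hA⟩ := JComponent.exists_maxIn (S : Subgroup G)
    obtain ⟨x, hx, hxp⟩ := StronglyEmbedded.exists_order_p S.isPGroup' hS1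
    have hle := hA.2.2 _ (zpowers_le.2 hx)
      (JComponent.isEA_zpowers (by rw [← pow_two, ← hxp]; exact pow_orderOf_eq_one x))
    rw [Nat.card_zpowers, hxp] at hle
    intro e
    rw [eq_bot_iff.2 ((JComponent.maxIn_le hA).trans e.le), card_bot] at hle
    omega
  have hSM : (S : Subgroup G) ≤ M :=
    Subgroup.le_normalizer.trans (Fusion.Thompson.normalizer_le_normalizer_thompsonOf (p := 2) _)
  have hMtop : M ≠ ⊤ := fun e => hJ1 (le_bot_iff.1 (hO ▸ le_sSup
    ⟨normalizer_eq_top_iff.1 e, S.isPGroup'.to_le (Fusion.Thompson.thompsonSubgroupOf_le _)⟩))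
  have hall : ∀ A : Subgroup G, A ≤ (S : Subgroup G) → A ≠ ⊥ → normalizer (A : Set G) ≤ M := by
    intro A hA hA1
    by_contra hle
    exact hs ⟨A, S.isPGroup'.to_le hA, hA1, hA.trans hSM, normalizer (A : Set G),
      ⟨A, S.isPGroup'.to_le hA, hA1, rfl⟩, Subgroup.le_normalizer, hle⟩
  have hspe := StronglyEmbedded.spe_of_normalizer_le hMtop hS1 hall
  have hev : 2 ∣ Nat.card M := StronglyEmbedded.spe_dvd hspe
  exact ⟨M, hMtop, even_iff_two_dvd.2 hev, fun g hg => Nat.not_even_iff_odd.1 fun he =>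
    (StronglyEmbedded.spe_iff_classical hMtop hev).1 hspe g hg (even_iff_two_dvd.1 he)⟩

end CfsgLib.LocalEvenB.SolvableLocalDichotomy
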