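import Cfsg.Agent.Lib.Components.PumpUp
import Cfsg.Agent.Lib.FTApps.Basic
import Cfsg.Prelude.Def_Local

/-!
# Components of the centraliser of an involution, standard subgroups

Given the odd order theorem, components have even order; with L-balance this places a component of
the centraliser of an involution below a component of the group, and gives the trichotomy for a
standard subgroup.
-/

set_option autoImplicit false
set_option linter.unusedSectionVars false

namespace CfsgLib.LocalEvenB.StandardPump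

open Subgroup CfsgLib.Components CfsgLib.Solvable

universe u

variable {G : Type u} [Group G] [Finite G]

theorem two_dvd_card_of_quasisimple (hFT : CfsgLib.FTApps.OddSolvable.{u}) {H : Type u} [Group H]
    [Finite H] (hH : Cfsg.IsQuasisimple H) : 2 ∣ Nat.card H := by
  by_contra h
  exact IsQuasisimple.not_isSolvable hH (hFT H (Nat.odd_iff.mpr (Nat.two_dvd_ne_zero.mp h)))

/-- With trivial odd core the 2-layer is in the layer. -/
theorem pLayer_le_layer (hO : Cfsg.pPrimeCore 2 G = ⊥) : Cfsg.pLayer 2 G ≤ Cfsg.layer G := by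
  refine sSup_le fun K hK => ?_
  set e : G ⧸ Cfsg.pPrimeCore 2 G ≃* G :=
    (QuotientGroup.quotientMulEquivOfEq hO).trans QuotientGroup.quotientBot with he
  have h := IsComponent.le_layer (IsComponent.mapEquiv hK.2.1 e)
  rw [Subgroup.map_map] at h
  intro k hk
  have : e.toMonoidHom.comp (QuotientGroup.mk' (Cfsg.pPrimeCore 2 G)) k = k := rfl
  exact this ▸ h ⟨k, hk, rfl⟩

/-- The component below which a component of the centraliser of an involution lies is fixed by it. -/
theorem map_conj_eq_of_le {L D : Subgroup G} (hD : Cfsg.IsComponent D) {t : G}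
    (hLt : L ≤ centralizer ({t} : Set G)) (hLD : L ≤ D) (hL : ¬ L ≤ centralizer (L : Set G)) :
    D.map (MulAut.conj t).toMonoidHom = D := by
  by_contra hne
  refine hL ?_
  have h1 : L ≤ D.map (MulAut.conj t).toMonoidHom := fun x hx => by
    refine ⟨x, hLD hx, ?_⟩
    show t * x * t⁻¹ = x
    rw [← mem_centralizer_singleton_iff.mp (hLt hx), mul_inv_cancel_right]
  exact hLD.trans ((IsComponent.le_centralizer_of_ne hD (IsComponent.conj hD t) (Ne.symm hne)).trans
    (centralizer_le (SetLike.coe_subset_coe.mpr h1)))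

/-- An element of a component whose commutators with it are central is central. -/
theorem commute_of_central_commutator {D : Subgroup G} (hD : Cfsg.IsComponent D) {d : G} (hd : d ∈ D)
    (key : ∀ y ∈ D, d * y * d⁻¹ * y⁻¹ ∈ centralizer (D : Set G)) : ∀ y ∈ D, d * y = y * d := by
  -- the map `y ↦ [d, y]` is a homomorphism into an abelian group
  intro y hy
  have hperf := IsComponent.commutator_self hD
  set d' : D := ⟨d, hd⟩
  let f : D →* center D := MonoidHom.mk' (fun x => ⟨d' * x * d'⁻¹ * x⁻¹, mem_center_iff.mpr fun z =>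
      Subtype.ext (mem_centralizer_iff.mp (key x x.2) z z.2)⟩) fun a b => by
    refine Subtype.ext ?_
    show d' * (a * b) * d'⁻¹ * (a * b)⁻¹ = (d' * a * d'⁻¹ * a⁻¹) * (d' * b * d'⁻¹ * b⁻¹)
    have hz : d' * b * d'⁻¹ * b⁻¹ ∈ center D := mem_center_iff.mpr fun z =>
      Subtype.ext (mem_centralizer_iff.mp (key b b.2) z z.2)
    calc d' * (a * b) * d'⁻¹ * (a * b)⁻¹
        = d' * a * d'⁻¹ * (d' * b * d'⁻¹ * b⁻¹) * a⁻¹ := by group
      _ = _ := by rw [mul_assoc _ (d' * b * d'⁻¹ * b⁻¹) a⁻¹, ← mem_center_iff.mp hz a⁻¹]; group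
  haveI : Group.IsPerfect D := hD.2.1
  have h1 : f ⟨y, hy⟩ = 1 := by
    have h2 : (⊤ : Subgroup D).map f = ⊥ := by
      rw [← Group.IsPerfect.commutator_eq_top, commutator_def, map_commutator, eq_bot_iff,
        commutator_le]
      intro a _ b _
      rw [mem_bot, commutatorElement_eq_one_iff_mul_comm]
      exact Subtype.ext (mem_center_iff.mp b.2 a)
    have : f ⟨y, hy⟩ ∈ (⊤ : Subgroup D).map f := ⟨_, mem_top _, rfl⟩
    rwa [h2, mem_bot] at this
  have h3 : d * y * d⁻¹ * y⁻¹ = 1 :=
    congrArg (fun x : center D => ((x : D) : G)) h1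
  rwa [mul_inv_eq_one, mul_inv_eq_iff_eq_mul] at h3

/-- The product of a component and its twisted copy meets the centraliser of the twisted diagonal
in the centre. -/
theorem eq_of_centralizes_diag {D : Subgroup G} (hD : Cfsg.IsComponent D) {t : G}
    (hne : D.map (MulAut.conj t).toMonoidHom ≠ D) {d : G} (hd : d ∈ D) {e : G}
    (he : e ∈ D.map (MulAut.conj t).toMonoidHom)
    (hc : ∀ y ∈ D, d * e * (y * (t * y * t⁻¹)) = y * (t * y * t⁻¹) * (d * e)) :
    ∀ y ∈ D, d * y = y * d := by
  have hcomm : D ≤ centralizer ((D.map (MulAut.conj t).toMonoidHom : Subgroup G) : Set G) :=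
    IsComponent.le_centralizer_of_ne hD (IsComponent.conj hD t) (Ne.symm hne)
  have hde : ∀ x ∈ D, ∀ z ∈ D.map (MulAut.conj t).toMonoidHom, Commute x z := fun x hx z hz =>
    (mem_centralizer_iff.mp (hcomm hx) z hz).symm
  -- the commutator with `d` is central in `D`
  have key : ∀ y ∈ D, d * y * d⁻¹ * y⁻¹ ∈ centralizer (D : Set G) := by
    intro y hy
    have hy' : t * y * t⁻¹ ∈ D.map (MulAut.conj t).toMonoidHom := ⟨y, hy, rfl⟩
    set y' := t * y * t⁻¹
    have h1 : (d * y) * (e * y') = (y * d) * (y' * e) := by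
      calc (d * y) * (e * y') = d * (y * e) * y' := by group
        _ = d * e * (y * y') := by rw [(hde y hy e he).eq]; group
        _ = y * y' * (d * e) := hc y hy
        _ = y * (y' * d) * e := by group
        _ = _ := by rw [← (hde d hd y' hy').eq]; group
    have h2 : d * y * d⁻¹ * y⁻¹ = (y * d) * ((y' * e) * (e * y')⁻¹) * d⁻¹ * y⁻¹ := by
      rw [← mul_assoc, ← h1]; group
    refine mem_centralizer_iff.mpr fun x hx => ?_
    have hz : (y' * e) * (e * y')⁻¹ ∈ D.map (MulAut.conj t).toMonoidHom :=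
      mul_mem (mul_mem hy' he) (inv_mem (mul_mem he hy'))
    have h3 : d * y * d⁻¹ * y⁻¹ = (y' * e) * (e * y')⁻¹ := by
      rw [h2, (hde (y * d) (mul_mem hy hd) _ hz).eq]; group
    rw [h3]
    exact (hde x hx _ hz).eq
  exact commute_of_central_commutator hD hd key

/-- A component of the centraliser of an involution lies below a component of the group. -/
theorem component_of_centralizer (hFT : CfsgLib.FTApps.OddSolvable.{u})
    (hE : Cfsg.pLayer 2 G ≤ Cfsg.layer G) {t : G} (ht : orderOf t = 2) {L : Subgroup G}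
    (hLt : L ≤ centralizer ({t} : Set G))
    (hL : Cfsg.IsComponent (L.subgroupOf (centralizer ({t} : Set G)))) :
    ∃ D : Subgroup G, Cfsg.IsComponent D ∧ (L = D ∨ (L < D ∧ D = ⁅D, zpowers t⁆) ∨
      (D.map (MulAut.conj t).toMonoidHom ≠ D ∧ L = (Cfsg.layer ↥((D ⊔ D.map (MulAut.conj t).toMonoidHom) ⊓
        centralizer ({t} : Set G))).map ((D ⊔ D.map (MulAut.conj t).toMonoidHom) ⊓
          centralizer ({t} : Set G)).subtype)) := by
  set C := centralizer ({t} : Set G) with hC
  have htt : t * t = 1 := by rw [← pow_two, ← ht, pow_orderOf_eq_one]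
  have hLq : Cfsg.IsQuasisimple L := IsQuasisimple.of_mulEquiv hL.2 (subgroupOfEquivOfLe hLt)
  have hLne : ¬ L ≤ centralizer (L : Set G) := fun h =>
    IsQuasisimple.not_isMulCommutative hLq (le_centralizer_iff_isMulCommutative.mp h)
  obtain ⟨D, hD, hKD, hcase⟩ := PumpUp.exists_component_of_centralizer htt hLt hL
    (two_dvd_card_of_quasisimple hFT hLq) hE
  refine ⟨D, hD, ?_⟩
  rcases hcase with hLD | ⟨hne, φ, hφ, hrange⟩
  · by_cases heq : L = D
    · exact Or.inl heq
    refine Or.inr (Or.inl ⟨lt_of_le_of_ne hLD heq, ?_⟩)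
    have hDt := map_conj_eq_of_le hD hLt hLD hLne
    have htN : t ∈ normalizer (D : Set G) := Subgroup.mem_normalizer_iff_map_conj_eq.mpr hDt
    have hle : ⁅D, zpowers t⁆ ≤ D := by
      rw [← le_normalizer_iff_commutator_le_left]
      exact zpowers_le.mpr htN
    have hDn : D ≤ normalizer ((⁅D, zpowers t⁆ : Subgroup G) : Set G) :=
      normalizer_commutator_ge_left D (zpowers t)
    haveI hn : (⁅D, zpowers t⁆.subgroupOf D).Normal :=
      (normal_subgroupOf_iff_le_normalizer hle).mpr hDn
    rcases IsQuasisimple.normal_le_center_or_top hD.2 (⁅D, zpowers t⁆.subgroupOf D) with h | h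
    · exfalso
      refine heq ?_
      have h1 : ⁅⁅zpowers t, D⁆, D⁆ = ⊥ := by
        rw [commutator_eq_bot_iff_le_centralizer]
        intro x hx
        rw [commutator_comm] at hx
        refine mem_centralizer_iff.mpr fun y hy => ?_
        exact congrArg Subtype.val (mem_center_iff.mp
          (h (show (⟨x, hle hx⟩ : D) ∈ ⁅D, zpowers t⁆.subgroupOf D from hx)) ⟨y, hy⟩)
      have h2 := commutator_eq_bot_of_perfect hD.2.1 h1
      rw [commutator_eq_bot_iff_le_centralizer, zpowers_le] at h2
      have hDC : D ≤ C := fun d hd =>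
        mem_centralizer_singleton_iff.mpr (mem_centralizer_iff.mp h2 d hd)
      have h3 : L.subgroupOf C = D.subgroupOf C :=
        IsComponent.eq_of_le hL (IsComponent.subgroupOf hD hDC) (subgroupOf_mono _ hLD)
      calc L = (L.subgroupOf C).map C.subtype := (map_subgroupOf_eq_of_le hLt).symm
        _ = (D.subgroupOf C).map C.subtype := by rw [h3]
        _ = D := map_subgroupOf_eq_of_le hDC
    · exact le_antisymm (subgroupOf_eq_top.mp h) hle
  · refine Or.inr (Or.inr ⟨hne, ?_⟩)
    set D' := D.map (MulAut.conj t).toMonoidHom with hD'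
    set H := (D ⊔ D') ⊓ C with hH
    have hLH : L ≤ H := by
      refine le_inf ?_ hLt
      rw [← hrange]
      rintro _ ⟨d, rfl⟩
      rw [hφ]
      exact mul_mem (mem_sup_left d.2) (mem_sup_right ⟨d, d.2, rfl⟩)
    have hLc : Cfsg.IsComponent (L.subgroupOf H) :=
      ⟨hL.1.comap (inclusion (inf_le_right : H ≤ C)),
        IsQuasisimple.of_mulEquiv hLq (subgroupOfEquivOfLe hLH).symm⟩
    refine le_antisymm (fun x hx => ?_) ?_
    · exact ⟨⟨x, hLH hx⟩, IsComponent.le_layer hLc (mem_subgroupOf.mpr hx), rfl⟩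
    rw [map_le_iff_le_comap, layer_le_iff]
    intro M hM
    by_cases hML : M = L.subgroupOf H
    · exact hML.le
    exfalso
    have hcomm := IsComponent.le_centralizer_of_ne hM hLc hML
    refine IsComponent.not_le_centralizer hM fun x hx => mem_centralizer_iff.mpr fun y hy => ?_
    have hcz : D ≤ centralizer (D' : Set G) :=
      IsComponent.le_centralizer_of_ne hD (IsComponent.conj hD t) (Ne.symm hne)
    -- both components of an element of `M` are central
    have hdec : ∀ z ∈ M, ∃ d ∈ D, ∃ e ∈ D', (z : G) = d * e ∧ (∀ w ∈ D, d * w = w * d) := by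
      intro z hz
      obtain ⟨d, hd, e, he, hde⟩ :=
        PumpUp.exists_mul_of_mem_sup_commuting (le_centralizer_iff.mp hcz) z.2.1
      refine ⟨d, hd, e, he, hde.symm, eq_of_centralizes_diag hD hne hd he fun w hw => ?_⟩
      have hwL : w * (t * w * t⁻¹) ∈ L := by
        rw [← hrange]
        exact ⟨⟨w, hw⟩, hφ _⟩
      have h1 := congrArg Subtype.val (mem_centralizer_iff.mp (hcomm hz) ⟨_, hLH hwL⟩
        (mem_subgroupOf.mpr hwL))
      rw [hde]
      exact h1.symm
    obtain ⟨d₁, hd₁, e₁, he₁, hx1, hc1⟩ := hdec x hx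
    obtain ⟨d₂, hd₂, e₂, he₂, hy1, hc2⟩ := hdec y hy
    -- the second factor of an element centralising `t` is the conjugate of the first, up to centre
    have he : ∀ z : H, ∀ d ∈ D, ∀ e ∈ D', (z : G) = d * e → (∀ w ∈ D, d * w = w * d) →
        ∀ w ∈ D', e * w = w * e := by
      intro z d hd e he hz hc
      rintro _ ⟨w, hw, rfl⟩
      show e * (t * w * t⁻¹) = t * w * t⁻¹ * e
      have h1 := mem_centralizer_singleton_iff.mp z.2.2
      rw [hz] at h1
      obtain ⟨f, hf, rfl⟩ := he
      change d * (t * f * t⁻¹) * t = t * (d * (t * f * t⁻¹)) at h1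
      have ht' : t⁻¹ = t := inv_eq_of_mul_eq_one_right htt
      have hcDf : ∀ a ∈ D, Commute a (t * f * t⁻¹) := fun a ha =>
        (mem_centralizer_iff.mp (hcz ha) _ ⟨f, hf, rfl⟩).symm
      have hcDd : ∀ a ∈ D, Commute a (t * d * t⁻¹) := fun a ha =>
        (mem_centralizer_iff.mp (hcz ha) _ ⟨d, hd, rfl⟩).symm
      -- conjugating by `t`: `f⁻¹ d` lies in both components
      have h2 : d * (t * f * t⁻¹) = (t * d * t⁻¹) * f := by
        calc d * (t * f * t⁻¹) = d * (t * f * t⁻¹) * t * t⁻¹ := by group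
          _ = t * (d * (t * f * t⁻¹)) * t⁻¹ := by rw [h1]
          _ = t * d * t⁻¹ * (t * t * f * (t * t)⁻¹) := by group
          _ = _ := by rw [htt]; group
      rw [← (hcDd f hf).eq] at h2
      have h4 : f⁻¹ * d = (t * d * t⁻¹) * (t * f * t⁻¹)⁻¹ := by
        rw [inv_mul_eq_iff_eq_mul, ← mul_assoc, eq_mul_inv_iff_mul_eq, h2]
      have h5 : ∀ a ∈ D, Commute a (f⁻¹ * d) := fun a ha => by
        rw [h4]; exact (hcDd a ha).mul_right (hcDf a ha).inv_right
      have h6 : Commute w f := by
        have h7 : Commute w (d * (f⁻¹ * d)⁻¹) :=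
          (show Commute w d from (hc w hw).symm).mul_right (h5 w hw).inv_right
        rwa [mul_inv_rev, inv_inv, mul_inv_cancel_left] at h7
      calc t * f * t⁻¹ * (t * w * t⁻¹) = t * (f * w) * t⁻¹ := by group
        _ = t * (w * f) * t⁻¹ := by rw [h6.eq]
        _ = t * w * t⁻¹ * (t * f * t⁻¹) := by group
    refine Subtype.ext ?_
    show (y : G) * x = x * y
    rw [hx1, hy1]
    have c1 : Commute d₂ d₁ := hc2 d₁ hd₁
    have c2 : Commute e₂ e₁ := he y d₂ hd₂ e₂ he₂ hy1 hc2 e₁ he₁
    have c3 : Commute d₂ e₁ := (mem_centralizer_iff.mp (hcz hd₂) e₁ he₁).symm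
    have c4 : Commute d₁ e₂ := (mem_centralizer_iff.mp (hcz hd₁) e₂ he₂).symm
    exact ((c1.mul_right c3).mul_left (c4.symm.mul_right c2)).eq

/-- An involution, or a component, centralising `A` and centralised by `x` puts `x` in `N(A)`. -/
theorem mem_normalizer_of_centralizes {A Y : Subgroup G} (hA : Cfsg.IsStandardSubgroup A)
    (hY : Y ≤ centralizer (A : Set G)) (heven : 2 ∣ Nat.card Y) {x : G}
    (hx : x ∈ centralizer (Y : Set G)) : x ∈ normalizer (A : Set G) := by
  rw [hA.2.2.2]
  by_contra h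
  have h1 := hA.2.1.2 x h
  have hle : Y ≤ centralizer (A : Set G) ⊓
      (centralizer (A : Set G)).map (MulAut.conj x).toMonoidHom := fun y hy => by
    refine ⟨hY hy, ⟨y, hY hy, ?_⟩⟩
    show x * y * x⁻¹ = y
    rw [← mem_centralizer_iff.mp hx y hy, mul_inv_cancel_right]
  exact absurd h1 (Nat.not_odd_iff_even.mpr (even_iff_two_dvd.mpr (heven.trans (card_dvd_of_le hle))))

/-- A standard subgroup centralised by an involution, with trivial odd core. -/
theorem standard_cases (hFT : CfsgLib.FTApps.OddSolvable.{u}) {A : Subgroup G}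
    (hA : Cfsg.IsStandardSubgroup A) (hO : Cfsg.oddCore G = ⊥) {t : G} (ht : orderOf t = 2)
    (htA : t ∈ centralizer (A : Set G)) :
    A.Normal ∨ (∃ X : Subgroup G, IsSimpleGroup ↥X ∧ ¬ IsMulCommutative ↥X ∧ Nonempty (↥X ≃* ↥A) ∧
      (∀ a ∈ X, ∀ b ∈ X.map (MulAut.conj t).toMonoidHom, a * b = b * a) ∧
      X ⊓ X.map (MulAut.conj t).toMonoidHom = ⊥ ∧ X ⊔ X.map (MulAut.conj t).toMonoidHom = Cfsg.layer G ∧
      centralizer (A : Set G) = zpowers t) ∨
    (A ≤ Cfsg.layer G ∧ IsSimpleGroup ↥(Cfsg.layer G) ∧ ¬ IsMulCommutative ↥(Cfsg.layer G)) := by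
  set C := centralizer ({t} : Set G) with hC
  have htt : t * t = 1 := by rw [← pow_two, ← ht, pow_orderOf_eq_one]
  have hAC : A ≤ C := fun a ha => mem_centralizer_singleton_iff.mpr (mem_centralizer_iff.mp htA a ha)
  have hnorm : C ≤ normalizer (A : Set G) := fun x hx =>
    mem_normalizer_of_centralizes hA (zpowers_le.mpr htA) (by rw [Nat.card_zpowers, ht]) (by
      rw [← centralizer_closure, ← zpowers_eq_closure] at hC
      exact hC ▸ hx)
  have hAcomp : Cfsg.IsComponent (A.subgroupOf C) :=
    ⟨((normal_subgroupOf_iff_le_normalizer hAC).mpr hnorm).isSubnormal,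
      IsQuasisimple.of_mulEquiv hA.1 (subgroupOfEquivOfLe hAC).symm⟩
  have hAne : ¬ A ≤ centralizer (A : Set G) := fun h =>
    IsQuasisimple.not_isMulCommutative hA.1 (le_centralizer_iff_isMulCommutative.mp h)
  obtain ⟨D, hD, hKD, hcase⟩ := PumpUp.exists_component_of_centralizer htt hAC hAcomp
    (two_dvd_card_of_quasisimple hFT hA.1) (pLayer_le_layer hO)
  set D' := D.map (MulAut.conj t).toMonoidHom with hD'
  -- everything even centralising `D` and `A` is absent, as soon as `D` does not normalise `A`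
  have hZ : ¬ D ≤ normalizer (A : Set G) → IsSimpleGroup D ∧ ¬ IsMulCommutative D ∧
      ∀ z ∈ D, z ∈ centralizer (D : Set G) → z ∈ centralizer (A : Set G) → z = 1 := by
    intro hDA
    set Z := (center D).map D.subtype with hZdef
    have hZsub : Z.IsSubnormal :=
      Subgroup.IsSubnormal.trans (map_subtype_le _)
        (by rw [hZdef, subgroupOf_map_subtype_eq]; exact Subgroup.Normal.isSubnormal inferInstance) hD.1
    have hsimple : ∀ z ∈ D, z ∈ centralizer (D : Set G) → z ∈ centralizer (A : Set G) → z = 1 := by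
      intro z hzD hzc hzA
      by_contra hz1
      have hzC : z ∈ Z := ⟨⟨z, hzD⟩, mem_center_iff.mpr fun w =>
        Subtype.ext (mem_centralizer_iff.mp hzc w w.2), rfl⟩
      rcases Nat.even_or_odd (orderOf z) with hev | hodd
      · refine hDA fun x hx => mem_normalizer_of_centralizes hA (zpowers_le.mpr hzA)
          (by rw [Nat.card_zpowers]; exact even_iff_two_dvd.mp hev) (mem_centralizer_iff.mpr ?_)
        intro y hy
        obtain ⟨i, rfl⟩ := mem_zpowers_iff.mp hy
        exact ((show Commute x z from mem_centralizer_iff.mp hzc x hx).zpow_right i).symm.eq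
      · haveI : IsMulCommutative Z := by
          rw [hZdef]; infer_instance
        have hzs : (zpowers z).IsSubnormal := by
          refine Subgroup.IsSubnormal.trans (zpowers_le.mpr hzC) ?_ hZsub
          exact Subgroup.Normal.isSubnormal inferInstance
        have h := le_pPrimeCore_of_subnormal (p := 2) hzs (by
          rw [Nat.card_zpowers]; exact hodd.coprime_two_right)
        rw [show Cfsg.pPrimeCore 2 G = ⊥ from hO, zpowers_le, mem_bot] at h
        exact hz1 h
    have hcen : center D = ⊥ := by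
      rw [eq_bot_iff]
      intro z hz
      rw [mem_bot]
      by_contra hz1
      have hzc : (z : G) ∈ centralizer (D : Set G) :=
        mem_centralizer_iff.mpr fun y hy => congrArg Subtype.val (mem_center_iff.mp hz ⟨y, hy⟩)
      refine hz1 (Subtype.ext (hsimple z z.2 hzc ?_))
      rcases hcase with hAD | ⟨hne, φ, hφ, hrange⟩
      · exact centralizer_le (SetLike.coe_subset_coe.mpr hAD) hzc
      · have hzsup : (z : G) ∈ centralizer ((D ⊔ D' : Subgroup G) : Set G) := by
          have hle : D ⊔ D' ≤ centralizer ({(z : G)} : Set G) := sup_le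
            (fun y hy => mem_centralizer_singleton_iff.mpr (mem_centralizer_iff.mp hzc y hy))
            (fun y hy => mem_centralizer_singleton_iff.mpr (mem_centralizer_iff.mp
              (IsComponent.le_centralizer_of_ne hD (IsComponent.conj hD t) (Ne.symm hne) z.2) y hy))
          exact mem_centralizer_iff.mpr fun y hy => mem_centralizer_singleton_iff.mp (hle hy)
        refine centralizer_le (SetLike.coe_subset_coe.mpr ?_) hzsup
        rw [← hrange]
        rintro _ ⟨d, rfl⟩
        rw [hφ]
        exact mul_mem (mem_sup_left d.2) (mem_sup_right ⟨d, d.2, rfl⟩)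
    haveI := hD.2.2
    have hs : IsSimpleGroup D := by
      haveI : Nontrivial D := IsQuasisimple.nontrivial hD.2
      exact IsSimpleGroup.isSimpleGroup_of_surjective
        ((QuotientGroup.quotientMulEquivOfEq hcen).trans QuotientGroup.quotientBot).toMonoidHom
        (MulEquiv.surjective _)
    exact ⟨hs, IsQuasisimple.not_isMulCommutative hD.2, hsimple⟩
  rcases hcase with hAD | ⟨hne, φ, hφ, hrange⟩
  · by_cases heq : A = D
    · left
      refine normalizer_eq_top_iff.mp (eq_top_iff.mpr fun g _ => Subgroup.mem_normalizer_iff_map_conj_eq.mpr ?_)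
      by_contra hg
      refine hA.2.2.1 g hg ?_
      rw [heq] at hg ⊢
      exact IsComponent.commutator_eq_bot hD (IsComponent.conj hD g) (Ne.symm hg)
    right; right
    have hDA : ¬ D ≤ normalizer (A : Set G) := fun h => by
      haveI : (A.subgroupOf D).Normal := (normal_subgroupOf_iff_le_normalizer hAD).mpr h
      rcases IsQuasisimple.normal_le_center_or_top hD.2 (A.subgroupOf D) with h' | h'
      · refine hAne fun a ha => mem_centralizer_iff.mpr fun b hb => ?_
        exact congrArg Subtype.val (mem_center_iff.mp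
          (h' (show (⟨a, hAD ha⟩ : D) ∈ A.subgroupOf D from ha)) ⟨b, hAD hb⟩)
      · exact heq (le_antisymm hAD (subgroupOf_eq_top.mp h'))
    obtain ⟨hs, hna, -⟩ := hZ hDA
    have hlayer : Cfsg.layer G = D := by
      refine le_antisymm (layer_le_iff.mpr fun E hE => ?_) (IsComponent.le_layer hD)
      by_cases hED : E = D
      · exact hED.le
      exfalso
      have h1 : E ≤ centralizer (D : Set G) := IsComponent.le_centralizer_of_ne hE hD hED
      exact hDA fun x hx => mem_normalizer_of_centralizes hA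
        (h1.trans (centralizer_le (SetLike.coe_subset_coe.mpr hAD)))
        (two_dvd_card_of_quasisimple hFT hE.2) (le_centralizer_iff.mp h1 hx)
    rw [hlayer]
    exact ⟨hAD, hs, hna⟩
  -- exchanged components
  right; left
  have hD'c : Cfsg.IsComponent D' := IsComponent.conj hD t
  have hcc : D ≤ centralizer (D' : Set G) := IsComponent.le_centralizer_of_ne hD hD'c (Ne.symm hne)
  have hAle : A ≤ D ⊔ D' := by
    rw [← hrange]
    rintro _ ⟨d, rfl⟩
    rw [hφ]
    exact mul_mem (mem_sup_left d.2) (mem_sup_right ⟨d, d.2, rfl⟩)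
  have hmemA : ∀ y ∈ D, y * (t * y * t⁻¹) ∈ A := fun y hy => by
    rw [← hrange]
    exact ⟨⟨y, hy⟩, hφ _⟩
  have hDA : ¬ D ≤ normalizer (A : Set G) := fun h => by
    -- otherwise `D` would be abelian
    refine IsComponent.not_le_centralizer hD fun d hd => mem_centralizer_iff.mpr fun x hx => ?_
    refine (commute_of_central_commutator hD hd (fun y hy => ?_) x hx).symm
    have h1 : d * (y * (t * y * t⁻¹)) * d⁻¹ ∈ A :=
      (mem_normalizer_iff.mp (h hd) _).mp (hmemA y hy)
    rw [← hrange] at h1
    obtain ⟨x', hx'⟩ := h1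
    rw [hφ] at hx'
    have hcd : ∀ a ∈ D, ∀ b ∈ D, Commute a (t * b * t⁻¹) := fun a ha b hb =>
      (mem_centralizer_iff.mp (hcc ha) _ ⟨b, hb, rfl⟩).symm
    set c := d * y * d⁻¹ with hc
    have hcD : c ∈ D := mul_mem (mul_mem hd hy) (inv_mem hd)
    have h2 : c⁻¹ * x' = (t * y * t⁻¹) * (t * x' * t⁻¹)⁻¹ := by
      rw [inv_mul_eq_iff_eq_mul, ← mul_assoc, eq_mul_inv_iff_mul_eq, hx', hc]
      calc d * (y * (t * y * t⁻¹)) * d⁻¹ = d * y * ((t * y * t⁻¹) * d⁻¹) := by group
        _ = _ := by rw [← (hcd d⁻¹ (inv_mem hd) y hy).eq]; group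
    have hzD' : c⁻¹ * x' ∈ D' := h2 ▸ mul_mem ⟨y, hy, rfl⟩ (inv_mem ⟨x', x'.2, rfl⟩)
    have ht' : t⁻¹ = t := inv_eq_of_mul_eq_one_right htt
    -- `t` exchanges the factors
    have h3 : y * (x' : G)⁻¹ = t * (c⁻¹ * x') * t⁻¹ := by
      rw [h2]
      calc y * (x' : G)⁻¹ = (t * t) * y * (x' : G)⁻¹ * (t * t)⁻¹ := by rw [htt]; group
        _ = (t * t) * y * (t * t)⁻¹ * ((t * t) * (x' : G)⁻¹ * (t * t)⁻¹) := by group
        _ = _ := by group
    have hz1 : c⁻¹ * x' ∈ centralizer (D : Set G) := le_centralizer_iff.mp hcc hzD'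
    have hz2 : y * (x' : G)⁻¹ ∈ centralizer (D : Set G) := by
      rw [h3]
      refine le_centralizer_iff.mp hcc ⟨c⁻¹ * x', mul_mem (inv_mem hcD) x'.2, rfl⟩
    have h5 : d * y * d⁻¹ * y⁻¹ = c * (c⁻¹ * x')⁻¹ * c⁻¹ * (y * (x' : G)⁻¹)⁻¹ := by rw [hc]; group
    rw [h5]
    refine mul_mem ?_ (inv_mem hz2)
    rw [mem_centralizer_iff.mp (inv_mem hz1) c hcD, mul_inv_cancel_right]
    exact inv_mem hz1
  obtain ⟨hs, hna, hsimple⟩ := hZ hDA
  have hsupc : ∀ {z : G}, z ∈ centralizer (D : Set G) → z ∈ centralizer (D' : Set G) →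
      z ∈ centralizer (A : Set G) := by
    intro z h1 h2
    have hle : D ⊔ D' ≤ centralizer ({z} : Set G) := sup_le
      (fun y hy => mem_centralizer_singleton_iff.mpr (mem_centralizer_iff.mp h1 y hy))
      (fun y hy => mem_centralizer_singleton_iff.mpr (mem_centralizer_iff.mp h2 y hy))
    exact mem_centralizer_iff.mpr fun y hy => mem_centralizer_singleton_iff.mp (hle (hAle hy))
  have hinf : D ⊓ D' = ⊥ := by
    rw [eq_bot_iff]
    intro z hz
    exact hsimple z hz.1 (le_centralizer_iff.mp hcc hz.2)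
      (hsupc (le_centralizer_iff.mp hcc hz.2) (hcc hz.1))
  have hcomp : ∀ E : Subgroup G, Cfsg.IsComponent E → E = D ∨ E = D' := by
    intro E hE
    by_contra hcon
    push Not at hcon
    have h1 := IsComponent.le_centralizer_of_ne hE hD hcon.1
    have h2 := IsComponent.le_centralizer_of_ne hE hD'c hcon.2
    exact hDA fun x hx => mem_normalizer_of_centralizes hA (fun e he => hsupc (h1 he) (h2 he))
      (two_dvd_card_of_quasisimple hFT hE.2) (le_centralizer_iff.mp h1 hx)
  have hlayer : D ⊔ D' = Cfsg.layer G := by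
    refine le_antisymm (sup_le (IsComponent.le_layer hD) (IsComponent.le_layer hD'c))
      (layer_le_iff.mpr fun E hE => ?_)
    rcases hcomp E hE with rfl | rfl
    · exact le_sup_left
    · exact le_sup_right
  have hinj : Function.Injective φ := by
    rw [injective_iff_map_eq_one]
    intro d hd
    rw [hφ] at hd
    have hd' : (d : G) ∈ D' := by
      rw [eq_inv_of_mul_eq_one_left hd]
      exact D'.inv_mem ⟨d, d.2, rfl⟩
    exact Subtype.ext (show (d : G) = 1 from mem_bot.mp (hinf ▸ ⟨d.2, hd'⟩))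
  refine ⟨D, hs, hna, ⟨(MonoidHom.ofInjective hinj).trans (MulEquiv.subgroupCongr hrange)⟩,
    fun a ha b hb => (mem_centralizer_iff.mp (hcc ha) b hb).symm, hinf, hlayer, ?_⟩
  -- the centraliser of the layer is trivial
  have hCE : centralizer ((Cfsg.layer G : Subgroup G) : Set G) = ⊥ := by
    set N := centralizer ((Cfsg.layer G : Subgroup G) : Set G) with hN
    haveI : N.Normal := inferInstance
    have hNA : N ≤ centralizer (A : Set G) :=
      centralizer_le (SetLike.coe_subset_coe.mpr (hlayer ▸ hAle))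
    rcases Nat.even_or_odd (Nat.card N) with hev | hodd
    · refine absurd (fun x hx => ?_) hDA
      refine mem_normalizer_of_centralizes hA hNA (even_iff_two_dvd.mp hev) (mem_centralizer_iff.mpr ?_)
      exact fun y hy => (mem_centralizer_iff.mp hy x (IsComponent.le_layer hD hx)).symm
    · have h := le_pPrimeCore_of_subnormal (p := 2) (Subgroup.Normal.isSubnormal ‹N.Normal›)
        hodd.coprime_two_right
      rwa [show Cfsg.pPrimeCore 2 G = ⊥ from hO, le_bot_iff] at h
  have key : ∀ x ∈ centralizer (A : Set G), D.map (MulAut.conj x).toMonoidHom = D → x = 1 := by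
    intro x hx hxD
    have hxD' : D'.map (MulAut.conj x).toMonoidHom = D' := by
      rcases hcomp _ (IsComponent.conj hD'c x) with h | h
      · exact absurd (Subgroup.map_injective (MulAut.conj x).injective (h.trans hxD.symm)) hne
      · exact h
    suffices hc : x ∈ centralizer (D : Set G) ∧ x ∈ centralizer (D' : Set G) by
      have hle : D ⊔ D' ≤ centralizer ({x} : Set G) := sup_le
        (fun y hy => mem_centralizer_singleton_iff.mpr (mem_centralizer_iff.mp hc.1 y hy))
        (fun y hy => mem_centralizer_singleton_iff.mpr (mem_centralizer_iff.mp hc.2 y hy))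
      rw [hlayer] at hle
      exact mem_bot.mp (hCE ▸ mem_centralizer_iff.mpr fun y hy =>
        mem_centralizer_singleton_iff.mp (hle hy))
    have main : ∀ d ∈ D, x * d * x⁻¹ = d ∧ x * (t * d * t⁻¹) * x⁻¹ = t * d * t⁻¹ := by
      intro d hd
      have h1 : x * d * x⁻¹ ∈ D := hxD.le ⟨d, hd, rfl⟩
      have h2 : x * (t * d * t⁻¹) * x⁻¹ ∈ D' := hxD'.le ⟨_, ⟨d, hd, rfl⟩, rfl⟩
      have h3 : (x * d * x⁻¹) * (x * (t * d * t⁻¹) * x⁻¹) = d * (t * d * t⁻¹) := by
        have := mem_centralizer_iff.mp hx _ (hmemA d hd)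
        calc (x * d * x⁻¹) * (x * (t * d * t⁻¹) * x⁻¹) = x * (d * (t * d * t⁻¹)) * x⁻¹ := by group
          _ = _ := by rw [← this, mul_inv_cancel_right]
      have h4 : d⁻¹ * (x * d * x⁻¹) = (t * d * t⁻¹) * (x * (t * d * t⁻¹) * x⁻¹)⁻¹ := by
        rw [inv_mul_eq_iff_eq_mul, ← mul_assoc, eq_mul_inv_iff_mul_eq, h3]
      have h5' : d⁻¹ * (x * d * x⁻¹) ∈ D' := by
        rw [h4]
        exact D'.mul_mem ⟨d, hd, rfl⟩ (D'.inv_mem h2)
      have h5 : d⁻¹ * (x * d * x⁻¹) = 1 :=
        mem_bot.mp (hinf ▸ ⟨D.mul_mem (D.inv_mem hd) h1, h5'⟩)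
      have h6 := h4.symm.trans h5
      rw [mul_inv_eq_one] at h6
      exact ⟨(inv_mul_eq_one.mp h5).symm, h6.symm⟩
    constructor
    · exact mem_centralizer_iff.mpr fun d hd => (mul_inv_eq_iff_eq_mul.mp (main d hd).1).symm
    · refine mem_centralizer_iff.mpr ?_
      rintro _ ⟨d, hd, rfl⟩
      exact (mul_inv_eq_iff_eq_mul.mp (main d hd).2).symm
  refine le_antisymm (fun x hx => ?_) (zpowers_le.mpr htA)
  rcases hcomp _ (IsComponent.conj hD x) with h | h
  · rw [key x hx h]
    exact one_mem _
  · have hxt : D.map (MulAut.conj (x * t)).toMonoidHom = D := by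
      have e : D.map (MulAut.conj (x * t)).toMonoidHom = D'.map (MulAut.conj x).toMonoidHom := by
        rw [hD', Subgroup.map_map]
        congr 1
        ext y
        simp [mul_assoc]
      rw [e]
      rcases hcomp _ (IsComponent.conj hD'c x) with h' | h'
      · exact h'
      · exact absurd (Subgroup.map_injective (MulAut.conj x).injective (h'.trans h.symm)) hne
    rw [eq_inv_of_mul_eq_one_left (key _ (mul_mem hx htA) hxt)]
    exact inv_mem (mem_zpowers t)

end CfsgLib.LocalEvenB.StandardPump
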