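import Cfsg.Agent.Lib.LocalEvenB.JGenerate

/-!
Maximal straddling `2`-subgroups and the `J(T)`-components in their overgroups.
-/

set_option autoImplicit false
set_option linter.style.haveILetI false
set_option linter.unusedSectionVars false

open scoped Pointwise

namespace CfsgLib.LocalEvenB.Straddle

open Subgroup CfsgLib.LocalEven

universe u

variable {G : Type u} [Group G] [Finite G]

theorem isSylowTwoIn_iff {T L : Subgroup G} : Cfsg.IsSylowTwoIn T L ↔ SylowIn.IsSylowIn 2 T L := by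
  haveI : Fact (Nat.Prime 2) := ⟨Nat.prime_two⟩
  constructor
  · intro h
    obtain ⟨S, rfl⟩ := JAmbient.exists_sylow h
    exact .of_map_subtype S
  · intro h
    refine ⟨h.1, h.2.1, ?_⟩
    rw [relIndex]
    exact (Nat.prime_two.coprime_iff_not_dvd.2 h.toSylow.not_dvd_index).odd_of_left

theorem eq_of_normalizer {P X : Subgroup G} (hP : IsPGroup 2 P) (hX : X ≤ P)
    (h : ∀ x ∈ P, x ∈ normalizer (X : Set G) → x ∈ X) : X = P := by
  haveI : Fact (Nat.Prime 2) := ⟨Nat.prime_two⟩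
  haveI := hP.isNilpotent
  by_contra hne
  have hlt : X.subgroupOf P < ⊤ := lt_top_iff_ne_top.2 fun e => hne (le_antisymm hX (subgroupOf_eq_top.1 e))
  obtain ⟨x, hx, hxX⟩ := SetLike.exists_of_lt ((Group.normalizerCondition_of_isNilpotent (G := P)) _ hlt)
  rw [← subgroupOf_normalizer_eq hX] at hx
  exact hxX (h x x.2 hx)

theorem maxElemAbelianOrder_eq {X A : Subgroup G} (hA : JComponent.MaxIn X A) :
    Cfsg.maxElemAbelianOrder X = Nat.card A := by
  have hA' : A.subgroupOf X ∈ Cfsg.maxElementaryAbelianSubgroups 2 X := by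
    refine ⟨Fusion.Thompson.isEA_subgroupOf hA.2.1 X, fun B hB => ?_⟩
    rw [Nat.card_congr (subgroupOfEquivOfLe hA.1).toEquiv, ← card_map_of_injective X.subtype_injective]
    exact hA.2.2 _ (map_subtype_le B) (Fusion.Thompson.isEA_map _ hB)
  have hset : (fun A : Subgroup ↥X => Nat.card ↥A) '' Cfsg.maxElementaryAbelianSubgroups 2 ↥X = {Nat.card A} := by
    refine Set.eq_singleton_iff_unique_mem.2 ⟨⟨_, hA', Nat.card_congr (subgroupOfEquivOfLe hA.1).toEquiv⟩, ?_⟩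
    rintro _ ⟨B, hB, rfl⟩
    show Nat.card B = _
    rw [← Nat.card_congr (subgroupOfEquivOfLe hA.1).toEquiv]
    exact le_antisymm (hA'.2 B hB.1) (hB.2 _ hA'.1)
  rw [Cfsg.maxElemAbelianOrder, hset, csSup_singleton]

theorem thompson_ne_bot {T : Subgroup G} (hT : IsPGroup 2 T) (hT1 : T ≠ ⊥) :
    Cfsg.thompsonSubgroupOf 2 T ≠ ⊥ := by
  haveI : Fact (Nat.Prime 2) := ⟨Nat.prime_two⟩
  obtain ⟨A, hA⟩ := JComponent.exists_maxIn T
  obtain ⟨n, hn⟩ := IsPGroup.iff_card.1 hT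
  have h2 : 2 ∣ Nat.card T := by
    rcases Nat.eq_zero_or_pos n with rfl | hn0
    · exact absurd (eq_bot_of_card_eq T (by simpa using hn)) hT1
    · rw [hn]; exact dvd_pow_self 2 hn0.ne'
  obtain ⟨x, hx⟩ := exists_prime_orderOf_dvd_card' 2 h2
  have hxx : (x : G) * x = 1 := by
    have := congrArg Subtype.val (pow_orderOf_eq_one x)
    rwa [hx, pow_two] at this
  have h := hA.2.2 (zpowers (x : G)) (zpowers_le.2 x.2) (JComponent.isEA_zpowers hxx)
  rw [Nat.card_zpowers, orderOf_coe, hx] at h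
  intro e
  have := (JComponent.maxIn_le hA)
  rw [e, le_bot_iff] at this
  rw [this, card_bot] at h
  omega

theorem le_map_of_sylow {T L U : Subgroup G} (hT : Cfsg.IsSylowTwoIn T L) (hUL : U ≤ L)
    (hU : IsPGroup 2 U) : ∃ g ∈ L, U ≤ T.map (MulAut.conj g).toMonoidHom := by
  haveI : Fact (Nat.Prime 2) := ⟨Nat.prime_two⟩
  obtain ⟨V, hV, hUV⟩ := SylowIn.exists_isSylowIn (p := 2) L hUL hU
  obtain ⟨g, hg, rfl⟩ := (isSylowTwoIn_iff.1 hT).conjugate hV
  exact ⟨g, hg, hUV⟩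

/-- Between `J(T)` and a Sylow subgroup the Thompson subgroup is constant. -/
theorem thompson_eq {T L S : Subgroup G} (hT : Cfsg.IsSylowTwoIn T L) (hSL : S ≤ L) (hS : IsPGroup 2 S)
    (hJ : Cfsg.thompsonSubgroupOf 2 T ≤ S) :
    Cfsg.thompsonSubgroupOf 2 S = Cfsg.thompsonSubgroupOf 2 T := by
  obtain ⟨g, hg, hle⟩ := le_map_of_sylow hT hSL hS
  have hcard : ∀ A B, JComponent.MaxIn T A → B ≤ S → Cfsg.IsElementaryAbelian 2 B → Nat.card B ≤ Nat.card A := by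
    intro A B hA hB hBe
    have h := hA.2.2 (B.map (MulAut.conj g⁻¹).toMonoidHom) ?_ (Fusion.Thompson.isEA_map _ hBe)
    · rwa [card_map_of_injective (MulAut.conj g⁻¹).injective] at h
    · refine (map_mono (hB.trans hle)).trans (le_of_eq ?_)
      rw [SylowIn.map_conj_conj, inv_mul_cancel, SylowIn.map_conj_one]
  have h1 : Cfsg.thompsonSubgroupOf 2 T ≤ Cfsg.thompsonSubgroupOf 2 S := JComponent.thompson_le fun A hA =>
    JComponent.maxIn_le ⟨(JComponent.maxIn_le hA).trans hJ, hA.2.1, fun B hB hBe => hcard A B hA hB hBe⟩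
  have h2 : Cfsg.thompsonSubgroupOf 2 S ≤ Cfsg.thompsonSubgroupOf 2 (T.map (MulAut.conj g).toMonoidHom) := by
    refine JComponent.thompson_le fun B hB => JComponent.maxIn_le ⟨hB.1.trans hle, hB.2.1, fun C hC hCe => ?_⟩
    obtain ⟨A, hA⟩ := JComponent.exists_maxIn T
    refine le_trans ?_ (hB.2.2 A ((JComponent.maxIn_le hA).trans hJ) hA.2.1)
    have h := hA.2.2 (C.map (MulAut.conj g⁻¹).toMonoidHom) ?_ (Fusion.Thompson.isEA_map _ hCe)
    · rwa [card_map_of_injective (MulAut.conj g⁻¹).injective] at h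
    · refine (map_mono hC).trans (le_of_eq ?_)
      rw [SylowIn.map_conj_conj, inv_mul_cancel, SylowIn.map_conj_one]
  refine (eq_of_le_of_card_ge h1 ?_).symm
  refine (Nat.le_of_dvd Nat.card_pos (card_dvd_of_le h2)).trans (le_of_eq ?_)
  rw [Fusion.Thompson.thompsonSubgroupOf_map_conj, card_map_of_injective (MulAut.conj g).injective]

section Overgroup

variable (hN : ∀ N : Subgroup G, Cfsg.IsTwoLocal N → Group.IsSolvable ↥N)
  (hZ : ∀ S : Sylow 2 G, centralizer (Cfsg.omegaCenterOf (S : Subgroup G) : Set G) ≤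
    normalizer ((S : Subgroup G) : Set G))
include hN hZ

omit hN hZ in
theorem pCoreOf_ne_bot {T L : Subgroup G} (hT1 : T ≠ ⊥) (hLT : L ∈ Cfsg.jOvergroups T) :
    Cfsg.pCoreOf 2 L ≠ ⊥ := by
  intro e
  have h := hLT.2.2
  rw [e] at h
  refine hT1 (le_bot_iff.1 (le_trans (fun x _ => ?_) h))
  exact mem_centralizer_iff.2 fun y hy => by rw [mem_bot.1 hy, one_mul, mul_one]

omit hN hZ in
theorem isJComponent_map {T L : Subgroup G} (hT : Cfsg.IsSylowTwoIn T L) (S : Sylow 2 ↥L)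
    (hS : (S : Subgroup ↥L).map L.subtype = T) {K : Subgroup ↥L} (hK : JGenerate.IsComp S K) :
    Cfsg.IsJComponent T (K.map L.subtype) := by
  haveI : Fact (Nat.Prime 2) := ⟨Nat.prime_two⟩
  have hinj := L.subtype_injective
  have hJ : Cfsg.thompsonSubgroupOf 2 T = (Cfsg.thompsonSubgroupOf 2 (S : Subgroup ↥L)).map L.subtype := by
    rw [JAmbient.map_thompsonOf L.subtype hinj, hS]
  have hQ : Cfsg.pCoreOf 2 (K.map L.subtype) = (Cfsg.pCoreOf 2 K).map L.subtype :=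
    (JAmbient.map_pCoreOf L.subtype hinj K).symm
  have hΩ : ∀ X : Subgroup ↥L, (Cfsg.omegaCenterOf X).map L.subtype = Cfsg.omegaCenterOf (X.map L.subtype) := by
    intro X
    rw [Cfsg.omegaCenterOf, Cfsg.omegaCenterOf, Cfsg.omegaOne, Cfsg.omegaOne, MonoidHom.map_closure]
    congr 1
    ext x
    constructor
    · rintro ⟨y, ⟨⟨hy, hyc⟩, hy2⟩, rfl⟩
      refine ⟨⟨mem_map_of_mem _ hy, ?_⟩, by rw [← map_pow, hy2, map_one]⟩
      rintro _ ⟨z, hz, rfl⟩
      rw [← map_mul, ← map_mul, hyc z hz]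
    · rintro ⟨⟨⟨y, hy, rfl⟩, hyc⟩, hy2⟩
      exact ⟨y, ⟨⟨hy, fun z hz => hinj (by rw [map_mul, map_mul]; exact hyc _ (mem_map_of_mem _ hz))⟩,
        hinj (by rw [map_pow, map_one]; exact hy2)⟩, rfl⟩
  have hW : Cfsg.wOf (K.map L.subtype) = (Cfsg.wOf K).map L.subtype := by
    rw [Cfsg.wOf, Cfsg.wOf, hQ, ← hΩ, map_commutator]
  refine ⟨?_, ?_, ?_, fun U hU hJU => ?_, ?_, ?_⟩
  · conv_rhs => rw [← hK.gen, MonoidHom.map_closure]
    congr 1
    ext x
    constructor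
    · rintro ⟨⟨y, hy, rfl⟩, ho⟩
      exact ⟨y, ⟨hy, by rwa [orderOf_injective L.subtype hinj] at ho⟩, rfl⟩
    · rintro ⟨y, ⟨hy, ho⟩, rfl⟩
      exact ⟨⟨y, hy, rfl⟩, by rwa [orderOf_injective L.subtype hinj]⟩
  · rw [hJ, ← map_commutator, hK.comm]
  · rw [hQ, relIndex_map_map_of_injective _ _ hinj, hK.idx]
  · refine thompson_eq hT (hU.1.trans (sup_le (map_subtype_le K) ?_)) hU.2.1 hJU
    exact (Fusion.Thompson.thompsonSubgroupOf_le T).trans hT.1
  · rw [hW, card_map_of_injective hinj, hK.wcard]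
  · rw [hW]
    rintro _ ⟨w, hw, rfl⟩
    rw [← map_mul, hK.wsq w hw, map_one]

/-- An overgroup contains a component. -/
theorem exists_component {T L : Subgroup G} (hT1 : T ≠ ⊥) (hLT : L ∈ Cfsg.jOvergroups T) :
    ∃ K : Subgroup G, Cfsg.IsJComponent T K ∧ K ≤ L := by
  haveI : Fact (Nat.Prime 2) := ⟨Nat.prime_two⟩
  have hne := pCoreOf_ne_bot hT1 hLT
  obtain ⟨S, hS⟩ := JAmbient.exists_sylow hLT.1
  obtain ⟨K, hK⟩ := JGenerate.exists_isComp (JAmbient.setting_of hN hZ L hLT.2.2 hne) S fun hle => by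
    refine hLT.2.1 ?_
    rw [← hS, ← JAmbient.map_thompsonOf L.subtype L.subtype_injective]
    exact map_mono hle
  exact ⟨K.map L.subtype, isJComponent_map hLT.1 S hS hK, map_subtype_le K⟩

/-- An overgroup lies in any subgroup containing `T`, its components and `N(J(T))`. -/
theorem overgroup_le {T L M : Subgroup G} (hT1 : T ≠ ⊥) (hLT : L ∈ Cfsg.jOvergroups T)
    (hTM : T ≤ M) (hNJ : normalizer (Cfsg.thompsonSubgroupOf 2 T : Set G) ≤ M)
    (hcomp : ∀ K : Subgroup G, Cfsg.IsJComponent T K → K ≤ L → K ≤ M) : L ≤ M := by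
  haveI : Fact (Nat.Prime 2) := ⟨Nat.prime_two⟩
  have hne := pCoreOf_ne_bot hT1 hLT
  obtain ⟨S, hS⟩ := JAmbient.exists_sylow hLT.1
  set J := Cfsg.thompsonSubgroupOf 2 (S : Subgroup ↥L) with hJdef
  have hJ : Cfsg.thompsonSubgroupOf 2 T = J.map L.subtype := by
    rw [hJdef, JAmbient.map_thompsonOf L.subtype L.subtype_injective, hS]
  have hSM : (S : Subgroup ↥L) ≤ M.subgroupOf L := map_le_iff_le_comap.1 (hS.le.trans hTM)
  have hset := JAmbient.setting_of hN hZ L hLT.2.2 hne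
  have hJAM : Cfsg.thompsonSubgroup 2 ↥L ≤ M.subgroupOf L :=
    JGenerate.thompson_le hset S ((Fusion.Thompson.thompsonSubgroupOf_le _).trans hSM)
      ((CfsgLib.Solvable.Cores.pCore_le_sylow S).trans hSM)
      fun K hK => map_le_iff_le_comap.1 (hcomp _ (isJComponent_map hLT.1 S hS hK) (map_subtype_le K))
  obtain ⟨T1, hT1', hJT1⟩ := SylowIn.exists_isSylowIn (p := 2) (Cfsg.thompsonSubgroup 2 ↥L)
    (JExist.thompson_le_ja S) (S.isPGroup'.to_le (Fusion.Thompson.thompsonSubgroupOf_le _))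
  have hJeq := JGenerate.thompson_eq_of_between hset S hT1'.2.1 hJT1
  intro g hg
  obtain ⟨l, hl, n, hn, e⟩ := SylowIn.frattini_argument (H := (⊤ : Subgroup ↥L)) hT1'
    (by rw [Subgroup.normalizer_eq_top_iff.2 inferInstance]) le_top (mem_top (⟨g, hg⟩ : ↥L))
  have h1 : n ∈ normalizer (J : Set ↥L) := by
    have := Fusion.Thompson.normalizer_le_normalizer_thompsonOf (p := 2) T1 hn.2
    rwa [hJeq] at this
  have h2 : (n : G) ∈ M := hNJ (by rw [hJ]; exact le_normalizer_map L.subtype (mem_map_of_mem _ h1))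
  rw [show g = (l : G) * n from congrArg Subtype.val e]
  exact mul_mem (hJAM hl) h2

end Overgroup

section Maximal

variable {M T : Subgroup G} (hT : T ∈ Cfsg.maxStraddlingTwoSubgroups M)
include hT

theorem straddle_le {X : Subgroup G} (hX : X ∈ Cfsg.straddlingTwoSubgroups M)
    (hJ : Cfsg.thompsonSubgroupOf 2 T ≤ X) :
    Cfsg.thompsonSubgroupOf 2 X = Cfsg.thompsonSubgroupOf 2 T ∧ Nat.card X ≤ Nat.card T := by
  obtain ⟨A, hA⟩ := JComponent.exists_maxIn T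
  obtain ⟨B, hB⟩ := JComponent.exists_maxIn X
  obtain ⟨h1, h2⟩ := hT.2 X hX
  rw [maxElemAbelianOrder_eq hA, maxElemAbelianOrder_eq hB] at h1 h2
  have he : Nat.card B = Nat.card A := le_antisymm h1 (hB.2.2 A ((JComponent.maxIn_le hA).trans hJ) hA.2.1)
  obtain ⟨h3, h4⟩ := h2 he
  have hle : Cfsg.thompsonSubgroupOf 2 T ≤ Cfsg.thompsonSubgroupOf 2 X := JComponent.thompson_le fun A' hA' =>
    JComponent.maxIn_le ⟨(JComponent.maxIn_le hA').trans hJ, hA'.2.1, fun C hC hCe =>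
      ((hB.2.2 C hC hCe).trans he.le).trans (hA'.2.2 A hA.1 hA.2.1)⟩
  have heq := eq_of_le_of_card_ge hle h3
  exact ⟨heq.symm, h4 (by rw [heq])⟩

variable {S : Sylow 2 G}
  (hMJ : normalizer (Cfsg.thompsonSubgroupOf 2 (S : Subgroup G) : Set G) ≤ M)
include hMJ

theorem normalizer_thompson_le : normalizer (Cfsg.thompsonSubgroupOf 2 T : Set G) ≤ M := by
  haveI : Fact (Nat.Prime 2) := ⟨Nat.prime_two⟩
  obtain ⟨hTp, hT1, hTM, -⟩ := hT.1
  set J := Cfsg.thompsonSubgroupOf 2 T with hJdef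
  have hJp : IsPGroup 2 J := hTp.to_le (Fusion.Thompson.thompsonSubgroupOf_le T)
  by_contra hcon
  obtain ⟨P, hP, hTP⟩ := SylowIn.exists_isSylowIn (p := 2) M hTM hTp
  have hTN : T ≤ normalizer (J : Set G) :=
    Subgroup.le_normalizer.trans (Fusion.Thompson.normalizer_le_normalizer_thompsonOf T)
  have hPT : T = P := eq_of_normalizer hP.2.1 hTP fun x hxP hxn => by
    set X := P ⊓ normalizer (J : Set G) with hX
    have hTX : T ≤ X := le_inf hTP hTN
    have hXs : X ∈ Cfsg.straddlingTwoSubgroups M := ⟨hP.2.1.to_le inf_le_left,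
      fun e => hT1 (le_bot_iff.1 (e ▸ hTX)), inf_le_left.trans hP.1, _,
      ⟨J, hJp, thompson_ne_bot hTp hT1, rfl⟩, inf_le_right, hcon⟩
    rw [eq_of_le_of_card_ge hTX (straddle_le hT hXs ((Fusion.Thompson.thompsonSubgroupOf_le T).trans hTX)).2]
    exact ⟨hxP, Fusion.Thompson.normalizer_le_normalizer_thompsonOf T hxn⟩
  have hSM : (S : Subgroup G) ≤ M :=
    (Subgroup.le_normalizer.trans (Fusion.Thompson.normalizer_le_normalizer_thompsonOf _)).trans hMJ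
  have hS : SylowIn.IsSylowIn 2 (S : Subgroup G) M :=
    ⟨hSM, S.isPGroup', fun U _ hU hle => S.is_maximal' hU hle⟩
  obtain ⟨m, hm, he⟩ := hS.conjugate hP
  refine hcon ?_
  rw [hJdef, hPT, he, Fusion.Thompson.thompsonSubgroupOf_map_conj, SylowIn.normalizer_map_conj]
  rintro _ ⟨x, hx, rfl⟩
  exact mul_mem (mul_mem hm (hMJ hx)) (inv_mem hm)

theorem sylow_facts {L T₀ : Subgroup G} (hL2 : Cfsg.IsTwoLocal L) (hLM : ¬ L ≤ M)
    (hT₀ : Cfsg.IsSylowTwoIn T₀ L) (hJT₀ : Cfsg.thompsonSubgroupOf 2 T ≤ T₀) :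
    T₀ ∈ Cfsg.straddlingTwoSubgroups M ∧
      Cfsg.thompsonSubgroupOf 2 T₀ = Cfsg.thompsonSubgroupOf 2 T := by
  obtain ⟨hTp, hT1, hTM, -⟩ := hT.1
  have hJne := thompson_ne_bot hTp hT1
  have hJM : Cfsg.thompsonSubgroupOf 2 T ≤ M := (Fusion.Thompson.thompsonSubgroupOf_le T).trans hTM
  set X := T₀ ⊓ M with hX
  have hJX : Cfsg.thompsonSubgroupOf 2 T ≤ X := le_inf hJT₀ hJM
  have hXs : X ∈ Cfsg.straddlingTwoSubgroups M := ⟨hT₀.2.1.to_le inf_le_left,
    fun e => hJne (le_bot_iff.1 (e ▸ hJX)), inf_le_right, L, hL2, inf_le_left.trans hT₀.1, hLM⟩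
  have hJeq := (straddle_le hT hXs hJX).1
  have hXT : X = T₀ := eq_of_normalizer hT₀.2.1 inf_le_left fun x hx hxn => by
    refine ⟨hx, normalizer_thompson_le hT hMJ ?_⟩
    rw [← hJeq]
    exact Fusion.Thompson.normalizer_le_normalizer_thompsonOf X hxn
  rw [hXT] at hXs hJeq
  exact ⟨hXs, hJeq⟩

theorem overgroup (hchar : Cfsg.IsCharacteristicTwoType G) {L T₀ : Subgroup G} (hL2 : Cfsg.IsTwoLocal L)
    (hLM : ¬ L ≤ M) (hT₀ : Cfsg.IsSylowTwoIn T₀ L) (hJT₀ : Cfsg.thompsonSubgroupOf 2 T ≤ T₀) :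
    L ∈ Cfsg.jOvergroups T₀ := by
  haveI : Fact (Nat.Prime 2) := ⟨Nat.prime_two⟩
  obtain ⟨hT₀s, hJeq⟩ := sylow_facts hT hMJ hL2 hLM hT₀ hJT₀
  obtain ⟨W, hWp, hW1, rfl⟩ := hL2
  refine ⟨hT₀, fun hle => hLM ?_, ?_⟩
  · set R := Cfsg.pCoreOf 2 (normalizer (W : Set G)) with hR
    have hRT₀ : R ≤ T₀ := SylowIn.pCoreOf_le_sylowIn (isSylowTwoIn_iff.1 hT₀)
    rw [hJeq] at hle
    have hRs : R ∈ Cfsg.straddlingTwoSubgroups M := ⟨hT₀.2.1.to_le hRT₀,
      fun e => thompson_ne_bot hT.1.1 hT.1.2.1 (le_bot_iff.1 (e ▸ hle)), hRT₀.trans hT₀s.2.2.1,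
      _, ⟨W, hWp, hW1, rfl⟩, hRT₀.trans hT₀.1, hLM⟩
    refine le_trans ?_ (normalizer_thompson_le hT hMJ)
    rw [← (straddle_le hT hRs hle).1]
    exact (SylowIn.normalizer_pCoreOf _).trans (Fusion.Thompson.normalizer_le_normalizer_thompsonOf _)
  · have h1 := hchar.2 W hWp hW1
    have hWR : W ≤ Cfsg.pCoreOf 2 (normalizer (W : Set G)) :=
      SylowIn.le_pCoreOf Subgroup.le_normalizer le_rfl hWp
    intro c hc
    have hcN : c ∈ normalizer (W : Set G) := centralizer_le_normalizer _ (centralizer_le hWR hc)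
    refine ⟨⟨c, hcN⟩, h1 (mem_centralizer_iff.2 fun y hy => Subtype.ext ?_), rfl⟩
    exact mem_centralizer_iff.1 hc _ (mem_map_of_mem _ hy)

theorem sylow_of_le {L : Subgroup G} (hL2 : Cfsg.IsTwoLocal L) (hLM : ¬ L ≤ M) (hTL : T ≤ L) :
    Cfsg.IsSylowTwoIn T L := by
  obtain ⟨T', hT', hle⟩ := SylowIn.exists_isSylowIn (p := 2) L hTL hT.1.1
  have hT'' := isSylowTwoIn_iff.2 hT'
  have hJ : Cfsg.thompsonSubgroupOf 2 T ≤ T' := (Fusion.Thompson.thompsonSubgroupOf_le T).trans hle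
  obtain ⟨hs, -⟩ := sylow_facts hT hMJ hL2 hLM hT'' hJ
  rwa [eq_of_le_of_card_ge hle (straddle_le hT hs hJ).2]

variable (hchar : Cfsg.IsCharacteristicTwoType G)
  (hN : ∀ N : Subgroup G, Cfsg.IsTwoLocal N → Group.IsSolvable ↥N)
  (hZ : ∀ S : Sylow 2 G, centralizer (Cfsg.omegaCenterOf (S : Subgroup G) : Set G) ≤
    normalizer ((S : Subgroup G) : Set G))
include hchar hN hZ

theorem exists_outside : (Cfsg.jComponentsOutside M T).Nonempty := by
  haveI : Fact (Nat.Prime 2) := ⟨Nat.prime_two⟩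
  obtain ⟨hTp, hT1, hTM, L, hL2, hTL, hLM⟩ := hT.1
  have hTS := sylow_of_le hT hMJ hL2 hLM hTL
  have hLT := overgroup hT hMJ hchar hL2 hLM hTS (Fusion.Thompson.thompsonSubgroupOf_le T)
  obtain ⟨K, hK, hKL, hKM⟩ : ∃ K : Subgroup G, Cfsg.IsJComponent T K ∧ K ≤ L ∧ ¬ K ≤ M := by
    by_contra hcon
    push Not at hcon
    exact hLM (overgroup_le hN hZ hT1 hLT hTM (normalizer_thompson_le hT hMJ) hcon)
  refine ⟨K, ⟨hK, fun U hJU hU => ?_⟩, hKM, ?_⟩
  · have hW4 : Nat.card ↥(Cfsg.wOf K) = 4 := hK.2.2.2.2.1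
    have hW : Cfsg.IsTwoLocal (normalizer (Cfsg.wOf K : Set G)) :=
      ⟨_, IsPGroup.of_card (n := 2) (by rw [hW4]; norm_num), fun e => by rw [e, card_bot] at hW4; omega, rfl⟩
    exact (sylow_facts hT hMJ hW
      (fun hle => hKM ((Subgroup.le_normalizer.trans (JAmbient.conjK_le_normalizer_wOf K)).trans hle)) hU hJU).2
  · have hle : K ⊔ T ≤ L := sup_le hKL hTL
    have hRT : Cfsg.pCoreOf 2 L ≤ T := SylowIn.pCoreOf_le_sylowIn (isSylowTwoIn_iff.1 hTS)
    have := SylowIn.le_pCoreOf (hRT.trans le_sup_right) (hle.trans (SylowIn.normalizer_pCoreOf L))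
      (hTp.to_le hRT)
    exact fun e => pCoreOf_ne_bot hT1 hLT (le_bot_iff.1 (e ▸ this))

end Maximal

end CfsgLib.LocalEvenB.Straddle
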