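import Cfsg.Prelude.Def_SylowControl
import Cfsg.Prelude.Def_SylowChains
import Cfsg.Agent.Lib.Fusion.Alperin
import Cfsg.Agent.Lib.LocalEvenB.SylowGraph

/-!
Control of Sylow intersections: linked Sylow subgroups, strong control of fusion, connectivity, regularity.
-/

set_option autoImplicit false
set_option linter.unusedSectionVars false

namespace CfsgLib.LocalEvenB.SylowControl

open Cfsg CfsgLib.Fusion.Alperin
open scoped Pointwise

variable {G : Type*} [Group G] [Finite G] {p : ℕ} [Fact p.Prime]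

theorem coe_smul (g : G) (R : Sylow p G) :
    ((g • R : Sylow p G) : Subgroup G) = (R : Subgroup G).map (MulAut.conj g).toMonoidHom := rfl

theorem mem_members_iff {𝓕 : Set (Subgroup G)} {R : Sylow p G} {X : Subgroup G} :
    X ∈ sylowMembers p 𝓕 (R : Subgroup G) ↔ X ∈ 𝓕 ∧ ¬ p ∣ (R : Subgroup G).relIndex X := by
  constructor
  · rintro ⟨hX, P, hP⟩
    refine ⟨hX, ?_⟩
    have he : (P : Subgroup X) = (R : Subgroup G).subgroupOf X := by
      rw [← Subgroup.comap_map_eq_self_of_injective X.subtype_injective (P : Subgroup X), hP]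
      exact Subgroup.inf_subgroupOf_right (R : Subgroup G) X
    unfold Subgroup.relIndex
    rw [← he]
    exact P.not_dvd_index
  · rintro ⟨hX, hnd⟩
    refine ⟨hX, (R.2.comap_of_injective X.subtype X.subtype_injective).toSylow hnd, ?_⟩
    exact Subgroup.subgroupOf_map_subtype (R : Subgroup G) X

theorem members_of_le {𝓕 : Set (Subgroup G)} {R : Sylow p G} {X : Subgroup G} (hX : X ∈ 𝓕)
    (h : (R : Subgroup G) ≤ X) : X ∈ sylowMembers p 𝓕 (R : Subgroup G) :=
  mem_members_iff.mpr ⟨hX, fun hd =>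
    R.not_dvd_index (hd.trans (Subgroup.relIndex_dvd_index_of_le h))⟩

theorem members_of_sylow_le {𝓕 : Set (Subgroup G)} {M : Subgroup G} {R : Sylow p G}
    (W : Sylow p M) (hM : M ∈ 𝓕) (h : (W : Subgroup M).map M.subtype ≤ (R : Subgroup G)) :
    M ∈ sylowMembers p 𝓕 (R : Subgroup G) := by
  refine mem_members_iff.mpr ⟨hM, fun hd => W.not_dvd_index (hd.trans ?_)⟩
  refine Subgroup.index_dvd_of_le fun w hw => ?_
  exact h ⟨w, hw, rfl⟩

theorem map_conj_eq (g : G) (X : Subgroup G) :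
    X.map (MulAut.conj g).toMonoidHom = subgroupConjRight g⁻¹ X := by
  rw [subgroupConjRight, inv_inv]

theorem members_smul {𝓕 : Set (Subgroup G)} (hn : IsNormalSet 𝓕) {R : Sylow p G} {X : Subgroup G}
    (h : X ∈ sylowMembers p 𝓕 (R : Subgroup G)) (g : G) :
    X.map (MulAut.conj g).toMonoidHom ∈ sylowMembers p 𝓕 ((g • R : Sylow p G) : Subgroup G) := by
  obtain ⟨hX, hd⟩ := mem_members_iff.mp h
  refine mem_members_iff.mpr ⟨map_conj_eq g X ▸ hn X hX g⁻¹, ?_⟩
  rw [coe_smul, Subgroup.relIndex_map_map_of_injective _ _ (MulAut.conj g).injective]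
  exact hd

/-- One link of a chain controlling Sylow intersections. -/
def Link (𝓕 : Set (Subgroup G)) (D : Subgroup G) (P Q : Sylow p G) : Prop :=
  ∃ X : Subgroup G, X ∈ sylowMembers p 𝓕 (P : Subgroup G) ∧ X ∈ sylowMembers p 𝓕 (Q : Subgroup G) ∧
    ∃ x ∈ X, x • P = Q ∧ D ≤ (Q : Subgroup G) ⊓ X

abbrev Linked (𝓕 : Set (Subgroup G)) (D : Subgroup G) (P Q : Sylow p G) : Prop :=
  Relation.ReflTransGen (Link 𝓕 D) P Q

theorem smul_eq_iff_conjRight {x : G} {P Q : Sylow p G} :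
    subgroupConjRight x (Q : Subgroup G) = (P : Subgroup G) ↔ x • P = Q := by
  constructor
  · intro h
    have h1 : x⁻¹ • Q = P := Sylow.ext h
    rw [← h1, smul_inv_smul]
  · rintro rfl
    show ((x⁻¹ • (x • P) : Sylow p G) : Subgroup G) = _
    rw [inv_smul_smul]

theorem controls_iff {𝓕 : Set (Subgroup G)} :
    ControlsSylowIntersections p 𝓕 ↔ ∀ S T : Sylow p G, S ≠ T →
      (S : Subgroup G) ⊓ (T : Subgroup G) ≠ ⊥ → Linked 𝓕 ((S : Subgroup G) ⊓ T) S T := by
  constructor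
  · intro h S T hne hbot
    obtain ⟨n, c, X, x, h0, hl, hstep⟩ := h S T hne hbot
    have : ∀ i : Fin (n + 1), Linked 𝓕 ((S : Subgroup G) ⊓ T) S (c i) := by
      intro i
      induction i using Fin.induction with
      | zero => rw [h0]
      | succ i ih =>
        obtain ⟨h1, h2, h3, h4, h5⟩ := hstep i
        exact ih.tail ⟨X i, h1, h2, x i, h3, smul_eq_iff_conjRight.mp h4, h5⟩
    exact hl ▸ this _
  · intro h S T hne hbot
    have key : ∀ (D : Subgroup G) (P Q : Sylow p G), Linked 𝓕 D P Q →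
        ∃ (n : ℕ) (c : Fin (n + 1) → Sylow p G) (X : Fin n → Subgroup G) (x : Fin n → G),
          c 0 = P ∧ c (Fin.last n) = Q ∧ ∀ i : Fin n,
            X i ∈ sylowMembers p 𝓕 (c i.castSucc : Subgroup G) ∧
            X i ∈ sylowMembers p 𝓕 (c i.succ : Subgroup G) ∧
            x i ∈ X i ∧ subgroupConjRight (x i) (c i.succ : Subgroup G) = (c i.castSucc : Subgroup G) ∧
            D ≤ (c i.succ : Subgroup G) ⊓ X i := by
      intro D P Q hPQ
      induction hPQ with
      | refl => exact ⟨0, fun _ => P, Fin.elim0, Fin.elim0, rfl, rfl, fun i => i.elim0⟩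
      | @tail b c _ hbc ih =>
        obtain ⟨n, d, X, x, h0, hl, hstep⟩ := ih
        obtain ⟨Y, h1, h2, y, hy, he, hD⟩ := hbc
        refine ⟨n + 1, Fin.snoc d c, Fin.snoc X Y, Fin.snoc x y, ?_, Fin.snoc_last _ _, fun i => ?_⟩
        · rw [← Fin.castSucc_zero, Fin.snoc_castSucc, h0]
        · refine Fin.lastCases ?_ (fun j => ?_) i
          · rw [Fin.snoc_last, Fin.snoc_last, Fin.snoc_castSucc, Fin.succ_last, Fin.snoc_last, hl]
            exact ⟨h1, h2, hy, smul_eq_iff_conjRight.mpr he, hD⟩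
          · rw [Fin.snoc_castSucc, Fin.snoc_castSucc, Fin.snoc_castSucc, Fin.succ_castSucc,
              Fin.snoc_castSucc]
            exact hstep j
    exact key _ _ _ (h S T hne hbot)

theorem Linked.mono {𝓕 : Set (Subgroup G)} {D D' : Subgroup G} {P Q : Sylow p G}
    (h : Linked 𝓕 D P Q) (hle : D' ≤ D) : Linked 𝓕 D' P Q :=
  Relation.ReflTransGen.mono (fun _ _ ⟨X, a, b, x, c, d, e⟩ => ⟨X, a, b, x, c, d, hle.trans e⟩) _ _ h

theorem le_of_linked {𝓕 : Set (Subgroup G)} {D : Subgroup G} {P Q : Sylow p G}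
    (h : Linked 𝓕 D P Q) (hP : D ≤ (P : Subgroup G)) : D ≤ (Q : Subgroup G) := by
  induction h with
  | refl => exact hP
  | tail _ hbc _ => obtain ⟨X, -, -, x, -, -, hD⟩ := hbc; exact hD.trans inf_le_left

theorem conjRight_mul (a b : G) (A : Set G) : conjRight (a * b) A = conjRight b (conjRight a A) :=
  image_mul a b A

theorem conjRight_subset {g : G} {A B : Set G} (h : A ⊆ B) : conjRight g A ⊆ conjRight g B :=
  Set.image_mono h

theorem subset_iff_conjRight_subset {g : G} {A : Set G} {P : Sylow p G} :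
    conjRight g A ⊆ (P : Set G) ↔ A ⊆ ((g • P : Sylow p G) : Set G) := by
  constructor
  · intro h a ha
    refine ⟨g⁻¹ * a * g, h ⟨a, ha, rfl⟩, ?_⟩
    simp [mul_assoc]
  · rintro h _ ⟨a, ha, rfl⟩
    obtain ⟨s, hs, hse⟩ := h ha
    rw [← hse]
    simpa [mul_assoc] using hs

theorem prod_take_succ {n : ℕ} (y : Fin n → G) (i : Fin n) :
    ((List.ofFn y).take (i.val + 1)).prod = ((List.ofFn y).take i.val).prod * y i := by
  rw [List.prod_take_succ _ _ (by simp)]
  simp

/-- From a linked pair to a factorisation through the members at the first Sylow subgroup. -/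
theorem factor_of_linked {𝓕 : Set (Subgroup G)} (hn : IsNormalSet 𝓕) {D : Subgroup G}
    {S Q : Sylow p G} (h : Linked 𝓕 D S Q) :
    ∃ (n : ℕ) (Y : Fin n → Subgroup G) (y : Fin n → G),
      (∀ i : Fin n, Y i ∈ sylowMembers p 𝓕 (S : Subgroup G) ∧ y i ∈ Y i) ∧
      (List.ofFn y).prod • S = Q ∧
      ∀ i : Fin n, conjRight (((List.ofFn y).take (i.val + 1)).prod) (D : Set G) ⊆
        (S : Set G) ∩ (Y i : Set G) := by
  induction h with
  | refl => exact ⟨0, Fin.elim0, Fin.elim0, fun i => i.elim0, by simp, fun i => i.elim0⟩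
  | @tail b c _ hbc ih =>
    obtain ⟨n, Y, y, hY, hb, hA⟩ := ih
    obtain ⟨X, h1, -, x, hx, he, hD⟩ := hbc
    set w := (List.ofFn y).prod with hw
    have hprod : (List.ofFn (Fin.snoc y (w⁻¹ * x * w))).prod = x * w := by
      rw [List.ofFn_succ']
      simp [List.concat_eq_append, ← hw, mul_assoc]
    have hX' := members_smul hn h1 w⁻¹
    rw [← hb, inv_smul_smul] at hX'
    refine ⟨n + 1, Fin.snoc Y (X.map (MulAut.conj w⁻¹).toMonoidHom), Fin.snoc y (w⁻¹ * x * w),
      fun i => ?_, by rw [hprod, mul_smul, hb, he], fun i => ?_⟩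
    · refine Fin.lastCases ?_ (fun j => ?_) i
      · rw [Fin.snoc_last, Fin.snoc_last]
        exact ⟨hX', ⟨x, hx, by simp⟩⟩
      · rw [Fin.snoc_castSucc, Fin.snoc_castSucc]; exact hY j
    · refine Fin.lastCases ?_ (fun j => ?_) i
      · rw [Fin.snoc_last, List.take_of_length_le (by simp), hprod]
        rintro _ ⟨a, ha, rfl⟩
        refine ⟨(subset_iff_conjRight_subset (A := (D : Set G))).mpr ?_ ⟨a, ha, rfl⟩, ?_⟩
        · rw [mul_smul, hb, he]; exact fun z hz => (hD hz).1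
        · refine ⟨x⁻¹ * a * x, mul_mem (mul_mem (inv_mem hx) (hD ha).2) hx, ?_⟩
          simp [mul_assoc]
      · rw [Fin.snoc_castSucc]
        have : (List.ofFn (Fin.snoc y (w⁻¹ * x * w))).take (j.castSucc.val + 1) =
            (List.ofFn y).take (j.val + 1) := by
          rw [List.ofFn_succ', List.concat_eq_append, List.take_append_of_le_length (by simp)]
          simp
        rw [this]; exact hA j

theorem strongControl_iff {𝓕 : Set (Subgroup G)} (hn : IsNormalSet 𝓕) :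
    ControlsSylowIntersections p 𝓕 ↔ FamilyStronglyControlsFusion p 𝓕 := by
  rw [controls_iff]
  constructor
  · intro h S A g hA hA1 hAg
    set T := g • S with hT
    have hAT : A ⊆ (T : Set G) := subset_iff_conjRight_subset.mp hAg
    have key : ∀ Q : Sylow p G, Q = T → Linked 𝓕 ((S : Subgroup G) ⊓ T) S Q →
        ∃ (n : ℕ) (Y : Fin n → Subgroup G) (y : Fin n → G) (y₀ : G),
          y₀ ∈ Subgroup.normalizer ((S : Subgroup G) : Set G) ∧
          (∀ i : Fin n, Y i ∈ sylowMembers p 𝓕 (S : Subgroup G) ∧ y i ∈ Y i) ∧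
          g = (List.ofFn y).prod * y₀ ∧
          ∀ i : Fin n, conjRight (((List.ofFn y).take (i.val + 1)).prod) A ⊆
            (S : Set G) ∩ (Y i : Set G) := by
      rintro Q rfl hl
      obtain ⟨n, Y, y, hY, he, hD⟩ := factor_of_linked hn hl
      refine ⟨n, Y, y, (List.ofFn y).prod⁻¹ * g, ?_, hY, by rw [mul_inv_cancel_left], fun i => ?_⟩
      · exact Sylow.smul_eq_iff_mem_normalizer.mp (by rw [mul_smul, ← hT, ← he, inv_smul_smul])
      · exact (conjRight_subset (fun a ha => Subgroup.mem_inf.mpr ⟨hA ha, hAT ha⟩)).trans (hD i)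
    refine key T rfl ?_
    rcases eq_or_ne S T with e | e
    · rw [← e]
    · refine h S T e fun hb => ?_
      obtain ⟨a, ha, ha1⟩ := hA1
      exact ha1 (Subgroup.mem_bot.mp (hb ▸ Subgroup.mem_inf.mpr ⟨hA ha, hAT ha⟩))
  · intro h S T hne hbot
    obtain ⟨g, hg⟩ := MulAction.exists_smul_eq G S T
    obtain ⟨a, ha, ha1⟩ := Subgroup.ne_bot_iff_exists_ne_one.mp hbot |>.elim
      fun a ha => (⟨a, a.2, fun e => ha (Subtype.ext e)⟩ : ∃ a : G, a ∈ (S : Subgroup G) ⊓ T ∧ a ≠ 1)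
    obtain ⟨n, Y, y, y₀, hy₀, hY, hgy, hA⟩ := h S (((S : Subgroup G) ⊓ T : Subgroup G) : Set G) g
      (fun z hz => hz.1) ⟨a, ha, ha1⟩
      (subset_iff_conjRight_subset.mpr (fun z hz => hg.symm ▸ hz.2))
    have hw : ∀ i : ℕ, i ≤ n → Linked 𝓕 ((S : Subgroup G) ⊓ T) S (((List.ofFn y).take i).prod • S) := by
      intro i
      induction i with
      | zero => intro _; rw [List.take_zero, List.prod_nil, one_smul]
      | succ i ih =>
        intro hi
        refine (ih (Nat.le_of_succ_le hi)).tail ?_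
        have hps := prod_take_succ y ⟨i, hi⟩
        simp only at hps
        set v := ((List.ofFn y).take i).prod
        set v' := ((List.ofFn y).take (i + 1)).prod
        obtain ⟨hY1, hy1⟩ := hY ⟨i, hi⟩
        have hsame : (Y ⟨i, hi⟩).map (MulAut.conj v').toMonoidHom =
            (Y ⟨i, hi⟩).map (MulAut.conj v).toMonoidHom := by
          ext z
          simp only [Subgroup.mem_map, MulEquiv.coe_toMonoidHom, MulAut.conj_apply, hps]
          constructor
          · rintro ⟨u, hu, rfl⟩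
            exact ⟨y ⟨i, hi⟩ * u * (y ⟨i, hi⟩)⁻¹, mul_mem (mul_mem hy1 hu) (inv_mem hy1), by group⟩
          · rintro ⟨u, hu, rfl⟩
            exact ⟨(y ⟨i, hi⟩)⁻¹ * u * y ⟨i, hi⟩, mul_mem (mul_mem (inv_mem hy1) hu) hy1, by group⟩
        refine ⟨_, members_smul hn hY1 v, hsame ▸ members_smul hn hY1 v', v * y ⟨i, hi⟩ * v⁻¹,
          ⟨_, hy1, rfl⟩, by rw [← mul_smul, inv_mul_cancel_right, ← hps], fun z hz => ?_⟩
        have := hA ⟨i, hi⟩ ⟨z, hz, rfl⟩
        refine Subgroup.mem_inf.mpr ⟨⟨_, this.1, by simp [mul_assoc, v']⟩, ?_⟩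
        rw [← hsame]
        exact ⟨_, this.2, by simp [mul_assoc, v']⟩
    have h' := hw n le_rfl
    rw [List.take_of_length_le (by simp)] at h'
    rwa [← hg, hgy, mul_smul, Sylow.smul_eq_iff_mem_normalizer.mpr hy₀]  at *

theorem generation {𝓕 : Set (Subgroup G)} (hn : IsNormalSet 𝓕) (hc : ControlsSylowIntersections p 𝓕)
    (hconn : IsSylowChainConnected p G) (S : Sylow p G) :
    (⨆ X ∈ sylowMembers p 𝓕 (S : Subgroup G), X) ⊔ Subgroup.normalizer ((S : Subgroup G) : Set G) = ⊤ := by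
  set K := (⨆ X ∈ sylowMembers p 𝓕 (S : Subgroup G), X) ⊔ Subgroup.normalizer ((S : Subgroup G) : Set G)
  have hstep : ∀ T : Sylow p G, S ≠ T → (S : Subgroup G) ⊓ (T : Subgroup G) ≠ ⊥ →
      ∃ k ∈ K, k • S = T := by
    intro T hne hbot
    obtain ⟨n, Y, y, hY, he, -⟩ := factor_of_linked hn (controls_iff.mp hc S T hne hbot)
    refine ⟨_, K.list_prod_mem fun z hz => ?_, he⟩
    obtain ⟨i, rfl⟩ := List.mem_ofFn.mp hz
    exact le_sup_left (a := ⨆ X ∈ sylowMembers p 𝓕 (S : Subgroup G), X)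
      (le_iSup₂ (f := fun X (_ : X ∈ sylowMembers p 𝓕 (S : Subgroup G)) => X) (Y i) (hY i).1 (hY i).2)
  have hall : ∀ Q : Sylow p G, ∃ k ∈ K, k • S = Q := by
    intro Q
    have h := (SylowGraph.connected_iff.mp hconn) S Q
    induction h with
    | refl => exact ⟨1, one_mem _, one_smul _ _⟩
    | @tail b c _ hbc ih =>
      obtain ⟨k, hk, rfl⟩ := ih
      have h2 := SylowGraph.smul_ne_bot (g := k⁻¹) hbc.2
      rw [inv_smul_smul] at h2
      obtain ⟨l, hl, hle⟩ := hstep (k⁻¹ • c) (fun e => hbc.1 (by rw [e, smul_inv_smul])) h2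
      exact ⟨k * l, mul_mem hk hl, by rw [mul_smul, hle, smul_inv_smul]⟩
  refine eq_top_iff.mpr fun g _ => ?_
  obtain ⟨k, hk, he⟩ := hall (g • S)
  have : k⁻¹ * g ∈ Subgroup.normalizer ((S : Subgroup G) : Set G) :=
    Sylow.smul_eq_iff_mem_normalizer.mp (by rw [mul_smul, ← he, inv_smul_smul])
  simpa using mul_mem hk ((le_sup_right : _ ≤ K) this)

/-! ### Regularity -/

variable {f : Subgroup G → Set (Subgroup G)}

/-- What regularity of `M` gives, in ambient terms. -/
theorem regular_steps (hf : IsNormalizerFunctor p f) {M D : Subgroup G}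
    (hr : IsFunctorRegular p f M) (W₁ W₂ : Sylow p M) (hD : D ≠ ⊥)
    (h1 : D ≤ (W₁ : Subgroup M).map M.subtype) (h2 : D ≤ (W₂ : Subgroup M).map M.subtype) :
    Relation.ReflTransGen (fun W W' : Sylow p M => ∃ (P : Sylow p M) (F : Subgroup G) (x : M),
      F ∈ f ((P : Subgroup M).map M.subtype) ∧ (x : G) ∈ Subgroup.normalizer (F : Set G) ∧
      (W : Subgroup M).map M.subtype ≤ Subgroup.normalizer (F : Set G) ∧
      (W' : Subgroup M).map M.subtype ≤ Subgroup.normalizer (F : Set G) ∧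
      x • W = W' ∧ D ≤ (W' : Subgroup M).map M.subtype) W₁ W₂ := by
  rcases eq_or_ne W₁ W₂ with rfl | hne
  · exact Relation.ReflTransGen.refl
  have hDle : D.subgroupOf M ≤ (W₁ : Subgroup M) ⊓ (W₂ : Subgroup M) := by
    intro z hz
    obtain ⟨u, hu, hue⟩ := h1 hz
    obtain ⟨v, hv, hve⟩ := h2 hz
    exact ⟨(Subtype.ext hue : u = z) ▸ hu, (Subtype.ext hve : v = z) ▸ hv⟩
  have hbot : (W₁ : Subgroup M) ⊓ (W₂ : Subgroup M) ≠ ⊥ := by
    intro hb
    rw [hb] at hDle
    refine hD ((Subgroup.eq_bot_iff_forall D).mpr fun z hz => ?_)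
    obtain ⟨u, hu, rfl⟩ := h1 hz
    exact congrArg Subtype.val (Subgroup.mem_bot.mp (hDle (Subgroup.mem_subgroupOf.mpr hz)))
  refine Relation.ReflTransGen.mono ?_ _ _ (controls_iff.mp hr W₁ W₂ hne hbot)
  rintro W W' ⟨_, hmem, hmem', x, hx, he, hle⟩
  obtain ⟨⟨X, ⟨P, F, hF, rfl⟩, rfl⟩, hd⟩ := mem_members_iff.mp hmem
  obtain ⟨-, hd'⟩ := mem_members_iff.mp hmem'
  have hPX : (P : Subgroup M) ≤ (M ⊓ Subgroup.normalizer (F : Set G)).subgroupOf M := fun z hz =>
    Subgroup.mem_inf.mpr ⟨z.2,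
      ((hf _ (P.2.map M.subtype)).1 F hF).2 (Subgroup.le_normalizer ⟨z, hz, rfl⟩)⟩
  have hle' : ∀ V : Sylow p M,
      ¬ p ∣ (V : Subgroup M).relIndex ((M ⊓ Subgroup.normalizer (F : Set G)).subgroupOf M) →
      (V : Subgroup M).map M.subtype ≤ Subgroup.normalizer (F : Set G) := by
    intro V hV
    set X := (M ⊓ Subgroup.normalizer (F : Set G)).subgroupOf M
    have hdvd : Nat.card V ∣ Nat.card ↥((V : Subgroup M).subgroupOf X) := by
      have h3 := Subgroup.card_mul_index ((V : Subgroup M).subgroupOf X)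
      obtain ⟨k, hk⟩ := V.2.exists_card_eq
      rw [hk]
      refine Nat.Coprime.dvd_of_dvd_mul_right
        (((Fact.out : p.Prime).coprime_iff_not_dvd.mpr hV).pow_left k) ?_
      show p ^ k ∣ Nat.card ↥((V : Subgroup M).subgroupOf X) * (V : Subgroup M).relIndex X
      rw [Subgroup.relIndex, h3, ← hk, V.card_eq_multiplicity, ← P.card_eq_multiplicity]
      exact Subgroup.card_dvd_of_le hPX
    have hcard : Nat.card ↥((V : Subgroup M).subgroupOf X) = Nat.card ↥((V : Subgroup M) ⊓ X) := by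
      rw [← Subgroup.card_map_of_injective X.subtype_injective, Subgroup.subgroupOf_map_subtype]
    have heq : (V : Subgroup M) ⊓ X = V :=
      Subgroup.eq_of_le_of_card_ge inf_le_left (Nat.le_of_dvd Nat.card_pos (hcard ▸ hdvd))
    rintro _ ⟨z, hz, rfl⟩
    exact (Subgroup.mem_inf.mp (inf_eq_left.mp heq hz : z ∈ X)).2
  exact ⟨P, F, x, hF, (Subgroup.mem_inf.mp hx).2, hle' W hd, hle' W' hd', he, fun z hz => by
    obtain ⟨u, hu, rfl⟩ := h1 hz
    exact ⟨u, (hle.trans inf_le_left) (hDle (Subgroup.mem_subgroupOf.mpr hz) |> fun h => h), rfl⟩⟩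

/-- Inside a regular overgroup of a Sylow subgroup, linked through the full family. -/
theorem linked_of_regular (hf : IsNormalizerFunctor p f) {M D : Subgroup G}
    (hr : IsFunctorRegular p f M) (hD : D ≠ ⊥) {𝓕 : Set (Subgroup G)}
    (h𝓕 : ∀ (R : Sylow p G), ∀ F ∈ f (R : Subgroup G), Subgroup.normalizer (F : Set G) ∈ 𝓕)
    {R₁ R₂ : Sylow p G} (hR₁ : (R₁ : Subgroup G) ≤ M) (hR₂ : (R₂ : Subgroup G) ≤ M)
    (h1 : D ≤ (R₁ : Subgroup G)) (h2 : D ≤ (R₂ : Subgroup G)) : Linked 𝓕 D R₁ R₂ := by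
  have hmap : ∀ (R : Sylow p G) (hR : (R : Subgroup G) ≤ M),
      (R.subtype hR : Subgroup M).map M.subtype = R := fun R hR => by
    rw [Sylow.coe_subtype, Subgroup.subgroupOf_map_subtype, inf_of_le_left hR]
  have hsteps := regular_steps hf hr (R₁.subtype hR₁) (R₂.subtype hR₂) hD
    (by rwa [hmap]) (by rwa [hmap])
  have hfull : ∀ W : Sylow p M, ∃ R : Sylow p G, (R : Subgroup G) = (W : Subgroup M).map M.subtype := by
    intro W
    obtain ⟨k, hk⟩ := MulAction.exists_smul_eq M (R₁.subtype hR₁) W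
    exact ⟨(k : G) • R₁, by rw [← hk, Sylow.smul_subtype hR₁, hmap]; rfl⟩
  suffices ∀ W : Sylow p M, Relation.ReflTransGen _ (R₁.subtype hR₁) W →
      ∀ R : Sylow p G, (R : Subgroup G) = (W : Subgroup M).map M.subtype → Linked 𝓕 D R₁ R from
    this _ hsteps R₂ (hmap R₂ hR₂).symm
  intro W hW
  induction hW with
  | refl => intro R hR; rw [hmap] at hR; rw [Sylow.ext hR]
  | @tail b c _ hbc ih =>
    intro R hR
    obtain ⟨P, F, x, hF, hxF, hbF, hcF, he, hDc⟩ := hbc
    obtain ⟨Rb, hRb⟩ := hfull b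
    obtain ⟨RP, hRP⟩ := hfull P
    refine (ih Rb hRb).tail ⟨_, members_of_le (h𝓕 RP F (hRP ▸ hF)) (hRb ▸ hbF),
      members_of_le (h𝓕 RP F (hRP ▸ hF)) (hR ▸ hcF), x, hxF, Sylow.ext ?_, ?_⟩
    · rw [coe_smul, hR, hRb, ← he]
      ext z
      constructor
      · rintro ⟨_, ⟨u, hu, rfl⟩, rfl⟩
        exact ⟨_, ⟨u, hu, rfl⟩, by simp⟩
      · rintro ⟨_, ⟨u, hu, rfl⟩, rfl⟩
        exact ⟨_, ⟨u, hu, rfl⟩, by simp⟩
    · exact le_inf (hR ▸ hDc) (hDc.trans hcF)

theorem exists_sylow_ge {H A : Subgroup G} (hA : IsPGroup p A) (hle : A ≤ H) :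
    ∃ W : Sylow p H, A ≤ (W : Subgroup H).map H.subtype := by
  obtain ⟨W, hW⟩ := (hA.of_equiv (Subgroup.subgroupOfEquivOfLe hle).symm).exists_le_sylow
  exact ⟨W, fun a ha => ⟨⟨a, hle ha⟩, hW (Subgroup.mem_subgroupOf.mpr ha), rfl⟩⟩

theorem exists_maximal_local {N : Subgroup G} (hN : IsPLocal p N) :
    ∃ M, N ≤ M ∧ IsMaximalPLocal p M := by
  obtain ⟨M, hle, hM⟩ := (Set.toFinite {X : Subgroup G | IsPLocal p X}).exists_le_maximal hN
  exact ⟨M, hle, hM.1, fun X hX hMX => le_antisymm (hM.2 hX hMX) hMX⟩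

theorem controls_union_singular (hf : IsNormalizerFunctor p f)
    (hf1 : ∀ P : Subgroup G, IsPGroup p P → P ≠ ⊥ → ∀ F ∈ f P, F ≠ ⊥)
    {𝓕 : Set (Subgroup G)}
    (h𝓕 : ∀ (R : Sylow p G), ∀ F ∈ f (R : Subgroup G), Subgroup.normalizer (F : Set G) ∈ 𝓕)
    (hsing : ∀ M : Subgroup G, IsMaximalPLocal p M → ¬ IsFunctorRegular p f M → M ∈ 𝓕) :
    ControlsSylowIntersections p 𝓕 := by
  rw [controls_iff]
  suffices main : ∀ (k : ℕ) (S T : Sylow p G), Nat.card G - Nat.card ↥((S : Subgroup G) ⊓ T) = k →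
      (S : Subgroup G) ⊓ (T : Subgroup G) ≠ ⊥ → Linked 𝓕 ((S : Subgroup G) ⊓ T) S T from
    fun S T _ hb => main _ S T rfl hb
  intro k
  induction k using Nat.strong_induction_on with
  | _ k ih =>
  intro S T hk hb
  set D := (S : Subgroup G) ⊓ T with hDdef
  have hDcard : Nat.card D ≤ Nat.card G := Subgroup.card_le_card_group D
  have hup : ∀ P Q : Sylow p G, ∀ A : Subgroup G, D < A → A ≤ (P : Subgroup G) → A ≤ (Q : Subgroup G) →
      Linked 𝓕 D P Q := by
    intro P Q A hDA hP hQ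
    have hlt : Nat.card D < Nat.card ↥((P : Subgroup G) ⊓ Q) :=
      lt_of_lt_of_le (lt_of_le_of_ne (Subgroup.card_le_of_le hDA.le)
        fun e => hDA.ne (Subgroup.eq_of_le_of_card_ge hDA.le e.ge)) (Subgroup.card_le_of_le (le_inf hP hQ))
    have hle := Subgroup.card_le_card_group ((P : Subgroup G) ⊓ Q)
    exact (ih _ (by omega) P Q rfl (fun e => by
      rw [e] at hlt; simp at hlt; have : 0 < Nat.card D := Nat.card_pos; omega)).mono
      (hDA.le.trans (le_inf hP hQ))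
  rcases eq_or_ne S T with hST | hne
  · rw [hST]
  have hDS : D < (S : Subgroup G) := lt_of_le_of_ne inf_le_left fun e => hne (Sylow.ext
    (S.3 T.2 (inf_eq_left.mp e)).symm)
  have hDT : D < (T : Subgroup G) := lt_of_le_of_ne inf_le_right fun e => hne (Sylow.ext
    (T.3 S.2 (inf_eq_right.mp e)))
  have claim : ∀ (j : ℕ) (L : Subgroup G) (U₁ U₂ : Sylow p L),
      Nat.card G - Nat.card (U₁ : Subgroup L) = j → IsPLocal p L →
      D < (U₁ : Subgroup L).map L.subtype → D < (U₂ : Subgroup L).map L.subtype →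
      ∀ R₁ R₂ : Sylow p G, (U₁ : Subgroup L).map L.subtype ≤ (R₁ : Subgroup G) →
      (U₂ : Subgroup L).map L.subtype ≤ (R₂ : Subgroup G) → Linked 𝓕 D R₁ R₂ := by
    intro j
    induction j using Nat.strong_induction_on with
    | _ j ihj =>
    intro L U₁ U₂ hj hL hU₁ hU₂ R₁ R₂ hR₁ hR₂
    obtain ⟨M, hLM, hM⟩ := exists_maximal_local hL
    obtain ⟨W₁, hW₁⟩ := exists_sylow_ge (U₁.2.map L.subtype) ((Subgroup.map_subtype_le _).trans hLM)
    obtain ⟨W₂, hW₂⟩ := exists_sylow_ge (U₂.2.map L.subtype) ((Subgroup.map_subtype_le _).trans hLM)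
    obtain ⟨Q₁, hQ₁⟩ := (W₁.2.map M.subtype).exists_le_sylow
    obtain ⟨Q₂, hQ₂⟩ := (W₂.2.map M.subtype).exists_le_sylow
    refine ((hup R₁ Q₁ _ hU₁ hR₁ (hW₁.trans hQ₁)).trans ?_).trans (hup Q₂ R₂ _ hU₂ (hW₂.trans hQ₂) hR₂)
    by_cases hr : IsFunctorRegular p f M
    swap
    · obtain ⟨m, hm⟩ := MulAction.exists_smul_eq M W₁ W₂
      have hmW : (W₂ : Subgroup M).map M.subtype ≤ (((m : G) • Q₁ : Sylow p G) : Subgroup G) := by
        rw [← hm]
        rintro _ ⟨_, ⟨u, hu, rfl⟩, rfl⟩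
        exact ⟨_, hQ₁ ⟨u, hu, rfl⟩, rfl⟩
      have hMf := hsing M hM hr
      refine Relation.ReflTransGen.head ⟨M, members_of_sylow_le W₁ hMf hQ₁,
        members_of_sylow_le W₂ hMf hmW, m, m.2, rfl,
        le_inf ((hU₂.le.trans hW₂).trans hmW) (hU₂.le.trans (hW₂.trans (Subgroup.map_subtype_le _)))⟩
        (hup _ Q₂ _ (hU₂.trans_le hW₂) hmW hQ₂)
    by_cases hfull : Nat.card (Q₁ : Subgroup G) = Nat.card (W₁ : Subgroup M)
    · have hfl : ∀ (W : Sylow p M) (Q : Sylow p G), (W : Subgroup M).map M.subtype ≤ (Q : Subgroup G) →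
          (Q : Subgroup G) ≤ M := by
        intro W Q hle
        rw [← Subgroup.eq_of_le_of_card_ge hle (by
          rw [Subgroup.card_map_of_injective M.subtype_injective, Q.card_eq_multiplicity,
            ← Q₁.card_eq_multiplicity, hfull, W₁.card_eq_multiplicity, W.card_eq_multiplicity])]
        exact Subgroup.map_subtype_le _
      exact linked_of_regular hf hr hb h𝓕 (hfl W₁ Q₁ hQ₁) (hfl W₂ Q₂ hQ₂)
        ((hU₁.le.trans hW₁).trans hQ₁) ((hU₂.le.trans hW₂).trans hQ₂)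
    have hsteps := regular_steps hf hr W₁ W₂ hb (hU₁.le.trans hW₁) (hU₂.le.trans hW₂)
    suffices ∀ W : Sylow p M, Relation.ReflTransGen _ W₁ W →
        D < (W : Subgroup M).map M.subtype ∧ ∀ Q : Sylow p G,
          (W : Subgroup M).map M.subtype ≤ (Q : Subgroup G) → Linked 𝓕 D Q₁ Q from
      (this W₂ hsteps).2 Q₂ hQ₂
    intro W hW
    induction hW with
    | refl => exact ⟨hU₁.trans_le hW₁, fun Q hQ => hup _ _ _ (hU₁.trans_le hW₁) hQ₁ hQ⟩
    | @tail b c _ hbc ihb =>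
      obtain ⟨P, F, x, hF, hxF, hbF, hcF, he, hDc⟩ := hbc
      have hcardW : ∀ V : Sylow p M, Nat.card ↥((V : Subgroup M).map M.subtype) = Nat.card (W₁ : Subgroup M) :=
        fun V => by rw [Subgroup.card_map_of_injective M.subtype_injective, V.card_eq_multiplicity,
          W₁.card_eq_multiplicity]
      have hlt : D < (c : Subgroup M).map M.subtype := lt_of_le_of_ne hDc fun e => by
        have h1 := (lt_of_le_of_ne (Subgroup.card_le_of_le (hU₁.trans_le hW₁).le)
          fun e' => (hU₁.trans_le hW₁).ne (Subgroup.eq_of_le_of_card_ge (hU₁.trans_le hW₁).le e'.ge))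
        rw [e, hcardW c, hcardW W₁] at h1
        exact lt_irrefl _ h1
      refine ⟨hlt, fun Q hQ => ?_⟩
      have hPne : (P : Subgroup M).map M.subtype ≠ ⊥ := fun e => by
        have h1 := hcardW P
        rw [e, Subgroup.card_bot, ← hcardW W₁] at h1
        have h2 : D = ⊥ := eq_bot_mono (hU₁.le.trans hW₁) (Subgroup.card_eq_one.mp h1.symm)
        exact hb h2
      set L' := Subgroup.normalizer (F : Set G)
      have hL' : IsPLocal p L' := ⟨F, (P.2.map M.subtype).to_le ((hf _ (P.2.map M.subtype)).1 F hF).1,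
        hf1 _ (P.2.map M.subtype) hPne F hF, rfl⟩
      obtain ⟨V₁, hV₁⟩ := exists_sylow_ge (b.2.map M.subtype) hbF
      obtain ⟨V₂, hV₂⟩ := exists_sylow_ge (c.2.map M.subtype) hcF
      obtain ⟨Qb, hQb⟩ := (b.2.map M.subtype).exists_le_sylow
      obtain ⟨A, hA⟩ := (V₁.2.map L'.subtype).exists_le_sylow
      obtain ⟨B, hB⟩ := (V₂.2.map L'.subtype).exists_le_sylow
      refine ((ihb.2 A (hV₁.trans hA)).trans ?_).trans (hup B Q _ hlt (hV₂.trans hB) hQ)
      refine ihj _ ?_ L' V₁ V₂ rfl hL' (ihb.1.trans_le hV₁) (hlt.trans_le hV₂) A B hA hB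
      have hgrow : Nat.card (W₁ : Subgroup M) < Nat.card (V₁ : Subgroup L') := by
        set P' := (P : Subgroup M).map M.subtype
        obtain ⟨QP, hQP⟩ := (P.2.map M.subtype).exists_le_sylow
        have hPlt : P' < (QP : Subgroup G) := lt_of_le_of_ne hQP fun e => hfull (by
          rw [Q₁.card_eq_multiplicity, ← QP.card_eq_multiplicity, ← hcardW P]
          exact (congrArg (fun X : Subgroup G => Nat.card X) e).symm)
        have h1 := exists_gt_of_lt_sylow QP hPlt
        have h2 : Nat.card P' < Nat.card ↥((QP : Subgroup G) ⊓ Subgroup.normalizer (P' : Set G)) :=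
          lt_of_le_of_ne (Subgroup.card_le_of_le h1.le)
            fun e => h1.ne (Subgroup.eq_of_le_of_card_ge h1.le e.ge)
        have hle' : (QP : Subgroup G) ⊓ Subgroup.normalizer (P' : Set G) ≤ L' :=
          inf_le_right.trans ((hf _ (P.2.map M.subtype)).1 F hF).2
        obtain ⟨V, hV⟩ := exists_sylow_ge (QP.2.to_le inf_le_left) hle'
        have h3 := Subgroup.card_le_of_le hV
        rw [Subgroup.card_map_of_injective L'.subtype_injective, V.card_eq_multiplicity,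
          ← V₁.card_eq_multiplicity] at h3
        rw [← hcardW P]
        exact h2.trans_le h3
      have hge : Nat.card (U₁ : Subgroup L) ≤ Nat.card (W₁ : Subgroup M) := by
        have := Subgroup.card_le_of_le hW₁
        rwa [Subgroup.card_map_of_injective L.subtype_injective,
          Subgroup.card_map_of_injective M.subtype_injective] at this
      have hle : Nat.card (V₁ : Subgroup L') ≤ Nat.card G :=
        (Subgroup.card_le_card_group _).trans (Subgroup.card_le_card_group L')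
      omega
  set N := Subgroup.normalizer (D : Set G)
  have hDp : IsPGroup p D := S.2.to_le inf_le_left
  obtain ⟨U₁, hU₁⟩ := exists_sylow_ge (S.2.to_le inf_le_left)
    (inf_le_right : (S : Subgroup G) ⊓ N ≤ N)
  obtain ⟨U₂, hU₂⟩ := exists_sylow_ge (T.2.to_le inf_le_left)
    (inf_le_right : (T : Subgroup G) ⊓ N ≤ N)
  obtain ⟨R₁, hR₁⟩ := (U₁.2.map N.subtype).exists_le_sylow
  obtain ⟨R₂, hR₂⟩ := (U₂.2.map N.subtype).exists_le_sylow
  have hS1 := exists_gt_of_lt_sylow S hDS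
  have hT1 := exists_gt_of_lt_sylow T hDT
  exact ((hup S R₁ _ hS1 inf_le_left (hU₁.trans hR₁)).trans
    (claim _ N U₁ U₂ rfl ⟨D, hDp, hb, rfl⟩ (hS1.trans_le hU₁) (hT1.trans_le hU₂) R₁ R₂ hR₁ hR₂)).trans
    (hup R₂ T _ hT1 (hU₂.trans hR₂) inf_le_left)

theorem normalizer_mem_functorFamily_top (R : Sylow p G) {F : Subgroup G} (hF : F ∈ f (R : Subgroup G)) :
    Subgroup.normalizer (F : Set G) ∈ functorFamily p f ⊤ := by
  refine ⟨R.subtype le_top, F, ?_, top_inf_eq _ |>.symm⟩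
  rwa [Sylow.coe_subtype, Subgroup.subgroupOf_map_subtype, inf_top_eq]

theorem normalizer_conj (F : Subgroup G) (g : G) :
    (Subgroup.normalizer (F : Set G)).map (MulAut.conj g).toMonoidHom =
      Subgroup.normalizer ((F.map (MulAut.conj g).toMonoidHom : Subgroup G) : Set G) := by
  have h := rconj_normalizer g⁻¹ F
  simp only [rconj, inv_inv] at h
  exact h

theorem exists_sylow_top (P : Sylow p (⊤ : Subgroup G)) :
    ∃ R : Sylow p G, R.subtype le_top = P := by
  obtain ⟨R⟩ : Nonempty (Sylow p G) := inferInstance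
  obtain ⟨m, hm⟩ := MulAction.exists_smul_eq (⊤ : Subgroup G) (R.subtype le_top) P
  exact ⟨(m : G) • R, by rw [← hm, Sylow.smul_subtype le_top]; rfl⟩

theorem isNormalSet_functorFamily (hf : IsNormalizerFunctor p f) :
    IsNormalSet (functorFamily p f (⊤ : Subgroup G)) := by
  rintro _ ⟨P, F, hF, rfl⟩ g
  obtain ⟨R, rfl⟩ := exists_sylow_top P
  rw [Sylow.coe_subtype, Subgroup.subgroupOf_map_subtype, inf_top_eq] at hF
  rw [top_inf_eq, subgroupConjRight, normalizer_conj]
  refine normalizer_mem_functorFamily_top (g⁻¹ • R) ?_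
  rw [coe_smul, (hf _ R.2).2]
  exact ⟨F, hF, rfl⟩

theorem Linked.smul {𝓕 : Set (Subgroup G)} (hn : IsNormalSet 𝓕) {D : Subgroup G} {P Q : Sylow p G}
    (h : Linked 𝓕 D P Q) (g : G) :
    Linked 𝓕 (D.map (MulAut.conj g).toMonoidHom) (g • P) (g • Q) := by
  induction h with
  | refl => exact Relation.ReflTransGen.refl
  | @tail b c _ hbc ih =>
    obtain ⟨X, h1, h2, x, hx, he, hD⟩ := hbc
    refine ih.tail ⟨_, members_smul hn h1 g, members_smul hn h2 g, g * x * g⁻¹, ⟨x, hx, rfl⟩, ?_, ?_⟩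
    · rw [← mul_smul, inv_mul_cancel_right, mul_smul, he]
    · rintro _ ⟨d, hd, rfl⟩
      exact Subgroup.mem_inf.mpr ⟨⟨d, (hD hd).1, rfl⟩, ⟨d, (hD hd).2, rfl⟩⟩

theorem regular_top_of_controls (hc : ControlsSylowIntersections p (functorFamily p f (⊤ : Subgroup G))) :
    IsFunctorRegular p f (⊤ : Subgroup G) := by
  refine controls_iff.mpr fun S T hne hbot => ?_
  obtain ⟨A, rfl⟩ := exists_sylow_top S
  obtain ⟨B, rfl⟩ := exists_sylow_top T
  have hmem : ∀ {X : Subgroup G} {R : Sylow p G},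
      X ∈ sylowMembers p (functorFamily p f ⊤) (R : Subgroup G) →
      X.subgroupOf ⊤ ∈ sylowMembers p ((fun X : Subgroup G => X.subgroupOf ⊤) '' functorFamily p f ⊤)
        ((R.subtype le_top : Sylow p (⊤ : Subgroup G)) : Subgroup (⊤ : Subgroup G)) := by
    intro X R h
    obtain ⟨hX, hd⟩ := mem_members_iff.mp h
    refine mem_members_iff.mpr ⟨⟨X, hX, rfl⟩, ?_⟩
    rw [Sylow.coe_subtype]
    rwa [Subgroup.relIndex_subgroupOf le_top]
  have hne' : A ≠ B := fun e => hne (by subst e; rfl)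
  have hbot' : (A : Subgroup G) ⊓ B ≠ ⊥ := fun e => hbot (by
    rw [Sylow.coe_subtype, Sylow.coe_subtype]
    rw [eq_bot_iff]
    intro z hz
    exact Subtype.ext (Subgroup.mem_bot.mp (e ▸ Subgroup.mem_inf.mpr ⟨hz.1, hz.2⟩)))
  have hlift : ∀ R : Sylow p G, Linked (functorFamily p f ⊤) ((A : Subgroup G) ⊓ B) A R →
      Linked ((fun X : Subgroup G => X.subgroupOf ⊤) '' functorFamily p f ⊤)
        (((A.subtype le_top : Sylow p (⊤ : Subgroup G)) : Subgroup (⊤ : Subgroup G)) ⊓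
          (B.subtype le_top : Sylow p (⊤ : Subgroup G))) (A.subtype le_top) (R.subtype le_top) := by
    intro R h
    induction h with
    | refl => exact Relation.ReflTransGen.refl
    | @tail b c _ hbc ih =>
      obtain ⟨X, h1, h2, x, hx, he, hD⟩ := hbc
      refine ih.tail ⟨_, hmem h1, hmem h2, ⟨x, Subgroup.mem_top x⟩, hx, ?_, ?_⟩
      · rw [Sylow.smul_subtype le_top]
        exact Sylow.ext (by rw [Sylow.coe_subtype, Sylow.coe_subtype, ← he]; rfl)
      · rintro z hz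
        have := hD (Subgroup.mem_inf.mpr ⟨hz.1, hz.2⟩)
        exact Subgroup.mem_inf.mpr ⟨this.1, this.2⟩
  exact hlift B (controls_iff.mp hc A B hne' hbot')

theorem controls_of_factorisation (hf : IsNormalizerFunctor p f) (S : Sylow p G) (G₁ G₂ : Subgroup G)
    (h₁ : (S : Subgroup G) ≤ G₁) (h₂ : (S : Subgroup G) ≤ G₂)
    (hprod : ∀ g : G, ∃ g₁ ∈ G₁, ∃ g₂ ∈ G₂, g = g₁ * g₂)
    (hr₁ : IsFunctorRegular p f G₁) (hr₂ : IsFunctorRegular p f G₂) :
    ControlsSylowIntersections p (functorFamily p f (⊤ : Subgroup G)) := by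
  set 𝓕 := functorFamily p f (⊤ : Subgroup G)
  have hn := isNormalSet_functorFamily hf
  rw [controls_iff]
  intro A B _ hbot
  obtain ⟨h, rfl⟩ := MulAction.exists_smul_eq G S A
  obtain ⟨g, rfl⟩ : ∃ g : G, h • (g • S) = B := by
    obtain ⟨k, hk⟩ := MulAction.exists_smul_eq G S B
    exact ⟨h⁻¹ * k, by rw [mul_smul, smul_inv_smul, hk]⟩
  set T := g • S
  have hmap : ((h • S : Sylow p G) : Subgroup G) ⊓ ((h • T : Sylow p G) : Subgroup G) =
      ((S : Subgroup G) ⊓ T).map (MulAut.conj h).toMonoidHom := by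
    rw [coe_smul, coe_smul, Subgroup.map_inf _ _ _ (MulAut.conj h).injective]
  rw [hmap] at hbot ⊢
  refine Linked.smul hn ?_ h
  set D := (S : Subgroup G) ⊓ T with hD
  have hDne : D ≠ ⊥ := fun e => hbot (by rw [e, Subgroup.map_bot])
  obtain ⟨a, ha, b, hb, hab⟩ := hprod g
  have hTb : ((b • S : Sylow p G) : Subgroup G) ≤ G₂ := by
    rw [coe_smul]; rintro _ ⟨s, hs, rfl⟩
    exact mul_mem (mul_mem hb (h₂ hs)) (inv_mem hb)
  have haS : ((a • S : Sylow p G) : Subgroup G) ≤ G₁ := by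
    rw [coe_smul]; rintro _ ⟨s, hs, rfl⟩
    exact mul_mem (mul_mem ha (h₁ hs)) (inv_mem ha)
  have hTab : T = a • (b • S) := by rw [← mul_smul, ← hab]
  set I := G₁ ⊓ G₂.map (MulAut.conj a).toMonoidHom
  have hTI : (T : Subgroup G) ≤ G₂.map (MulAut.conj a).toMonoidHom := by
    rw [hTab, coe_smul]; exact Subgroup.map_mono hTb
  have haI : ((a • S : Sylow p G) : Subgroup G) ≤ I :=
    le_inf haS (by rw [coe_smul]; exact Subgroup.map_mono h₂)
  obtain ⟨W, hW⟩ := exists_sylow_ge (S.2.to_le inf_le_left)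
    (le_inf (inf_le_left.trans h₁) (inf_le_right.trans hTI) : D ≤ I)
  obtain ⟨m, hm⟩ := MulAction.exists_smul_eq I ((a • S).subtype haI) W
  set U := (m : G) • (a • S)
  have hUW : (U : Subgroup G) = (W : Subgroup I).map I.subtype := by
    rw [← hm, Sylow.smul_subtype haI, Sylow.coe_subtype, Subgroup.subgroupOf_map_subtype]
    exact (inf_eq_left.mpr (Sylow.smul_le haI m)).symm
  have hDU : D ≤ (U : Subgroup G) := hUW ▸ hW
  have hUI : (U : Subgroup G) ≤ I := hUW ▸ Subgroup.map_subtype_le _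
  have hF : ∀ (R : Sylow p G), ∀ F ∈ f (R : Subgroup G), Subgroup.normalizer (F : Set G) ∈ 𝓕 :=
    fun R F hF => normalizer_mem_functorFamily_top R hF
  refine (linked_of_regular hf hr₁ hDne hF h₁ (hUI.trans inf_le_left) inf_le_left hDU).trans ?_
  set D' := D.map (MulAut.conj a⁻¹).toMonoidHom
  have hback : D'.map (MulAut.conj a).toMonoidHom = D := by
    rw [Subgroup.map_map]
    convert Subgroup.map_id D using 2
    ext z; simp [mul_assoc]
  have hU' : ((a⁻¹ • U : Sylow p G) : Subgroup G) ≤ G₂ := by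
    rw [coe_smul]
    rintro _ ⟨u, hu, rfl⟩
    obtain ⟨v, hv, rfl⟩ := (hUI hu).2
    simpa [mul_assoc] using hv
  have hl := (linked_of_regular hf hr₂ (D := D') (fun e => hDne (by rw [← hback, e, Subgroup.map_bot]))
    hF hU' hTb (by rw [coe_smul]; exact Subgroup.map_mono hDU)
    (by rw [show b • S = a⁻¹ • T by rw [hTab, inv_smul_smul], coe_smul]
        exact Subgroup.map_mono inf_le_right)).smul hn a
  rwa [hback, smul_inv_smul, ← hTab] at hl

end CfsgLib.LocalEvenB.SylowControl
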