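import Cfsg.Prelude.Def_Classical
import Cfsg.Agent.Lib.LocalEvenB.SylowTables
import Cfsg.Agent.Lib.Classical.SympMatrix
import Cfsg.Agent.S0288

/-!
# Sylow 2-subgroups of `A₈, S₈` inside `PSp₄(3)` and `O₆⁻(2)`

A group generated by three pairs (permutation, matrix) is tabulated; both projections of this
group are compared, which gives the isomorphisms.
-/

set_option autoImplicit false

namespace CfsgLib.LocalEvenB.SylowEightPoints

open SylowTables

/-- A group inside a table closed under right multiplication by its generators. -/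
theorem exists_index {G M M₀ : Type*} [Group G] [Finite G] [Monoid M] [Monoid M₀] (ι : G →* M)
    (φ : M₀ →* M) {k n : ℕ} (g : Fin k → G) (gm : Fin k → M₀) (L : Fin (n + 1) → M₀)
    (hg : ∀ j, ι (g j) = φ (gm j)) (h0 : L 0 = 1) (hn : ∀ i j, ∃ i', L i * gm j = L i')
    {x : G} (hx : x ∈ Subgroup.closure (Set.range g)) : ∃ i, ι x = φ (L i) := by
  have hx' : x ∈ Submonoid.closure (Set.range g) := by
    rwa [← Subgroup.closure_toSubmonoid_of_finite, Subgroup.mem_toSubmonoid]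
  induction hx' using Submonoid.closure_induction_right with
  | one => exact ⟨0, by rw [map_one, h0, map_one]⟩
  | mul_right y _ z hz ih =>
    obtain ⟨j, rfl⟩ := hz
    obtain ⟨i, hi⟩ := ih (Subgroup.mem_toSubmonoid _ _ |>.1 (by
      rwa [Subgroup.closure_toSubmonoid_of_finite]))
    obtain ⟨i', hi'⟩ := hn i j
    exact ⟨i', by rw [map_mul, hi, hg, ← map_mul, hi']⟩

/-- Every entry of a table with parent pointers comes from the group. -/
theorem exists_preimage {G M M₀ : Type*} [Group G] [Monoid M] [Monoid M₀] (ι : G →* M)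
    (φ : M₀ →* M) {k n : ℕ} (g : Fin k → G) (gm : Fin k → M₀) (L : Fin (n + 1) → M₀)
    (hg : ∀ j, ι (g j) = φ (gm j)) (h0 : L 0 = 1)
    (hp : ∀ i : Fin (n + 1), i ≠ 0 → ∃ i' j, i' < i ∧ L i = L i' * gm j) (i : Fin (n + 1)) :
    ∃ x ∈ Subgroup.closure (Set.range g), ι x = φ (L i) := by
  suffices h : ∀ m : ℕ, ∀ i : Fin (n + 1), (i : ℕ) = m →
      ∃ x ∈ Subgroup.closure (Set.range g), ι x = φ (L i) from h _ i rfl
  intro m
  induction m using Nat.strong_induction_on with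
  | _ m ih =>
    rintro i rfl
    by_cases hi : i = 0
    · exact ⟨1, Subgroup.one_mem _, by rw [map_one, hi, h0, map_one]⟩
    · obtain ⟨i', j, hlt, he⟩ := hp i hi
      obtain ⟨x, hx, hxe⟩ := ih i' hlt i' rfl
      exact ⟨x * g j, mul_mem hx (Subgroup.subset_closure ⟨j, rfl⟩),
        by rw [map_mul, hxe, hg, he, map_mul]⟩

/-- A subgroup of the full 2-power order is isomorphic to every Sylow 2-subgroup. -/
theorem sylow_mulEquiv {G : Type*} [Group G] [Finite G] (H : Subgroup G) (k m : ℕ)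
    (hG : Nat.card G = 2 ^ k * m) (hm : Odd m) (hH : Nat.card H = 2 ^ k) (P : Sylow 2 G) :
    Nonempty (↥(P : Subgroup G) ≃* ↥H) := by
  haveI : Fact (Nat.Prime 2) := ⟨Nat.prime_two⟩
  have hm0 : m ≠ 0 := fun h => by simp [h] at hm
  have hfac : (Nat.card G).factorization 2 = k := by
    rw [hG, Nat.factorization_mul (by positivity) hm0, Finsupp.add_apply,
      Nat.Prime.factorization_pow Nat.prime_two, Finsupp.single_eq_same,
      Nat.factorization_eq_zero_of_not_dvd (fun h => Nat.not_even_iff_odd.2 hm (even_iff_two_dvd.2 h))]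
    rfl
  exact ⟨P.equiv (Sylow.ofCard H (by rw [hfac, hH]))⟩

/-- The underlying function of a permutation. -/
def toEnd (α : Type*) : Equiv.Perm α →* Function.End α where
  toFun σ := ⇑σ
  map_one' := rfl
  map_mul' _ _ := rfl

/-- Decoding of a self-map of eight points. -/
def decP (c : ℕ) : Fin 8 → Fin 8 := fun x => ⟨c / 8 ^ (x : ℕ) % 8, Nat.mod_lt _ (by decide)⟩

/-- Position of a coordinate of `Sp₄`. -/
def pos4 : Fin 2 ⊕ Fin 2 → ℕ := Sum.elim (fun i => i) (fun i => 2 + i)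

/-- Position of a coordinate of `O₆⁻`. -/
def pos6 : (Fin 2 ⊕ Fin 2) ⊕ Fin 2 → ℕ := Sum.elim pos4 (fun i => 4 + i)

/-- Decoding of a matrix over the field with three elements. -/
def dec3 (c : ℕ) : Matrix (Fin 2 ⊕ Fin 2) (Fin 2 ⊕ Fin 2) (ZMod 3) :=
  Matrix.of fun a b => ((c / 3 ^ (4 * pos4 a + pos4 b) % 3 : ℕ) : ZMod 3)

/-- Decoding of a matrix over the field with two elements. -/
def dec2 (c : ℕ) :
    Matrix ((Fin 2 ⊕ Fin 2) ⊕ Fin 2) ((Fin 2 ⊕ Fin 2) ⊕ Fin 2) (ZMod 2) :=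
  Matrix.of fun a b => ((c / 2 ^ (6 * pos6 a + pos6 b) % 2 : ℕ) : ZMod 2)

/-- Lookup in a table. -/
def look (l : List ℕ) (i : ℕ) : ℕ := l.getD i 0

/-- Permutation part of the first table. -/
def P1 (i : ℕ) : Fin 8 → Fin 8 := decP (look permTable1 i)

/-- Matrix part of the first table. -/
def M1 (i : ℕ) : Matrix (Fin 2 ⊕ Fin 2) (Fin 2 ⊕ Fin 2) (ZMod 3) := dec3 (look matTable1 i)

/-- Permutation part of the second table. -/
def P2 (i : ℕ) : Fin 8 → Fin 8 := decP (look permTable2 i)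

/-- Matrix part of the second table. -/
def M2 (i : ℕ) :
    Matrix ((Fin 2 ⊕ Fin 2) ⊕ Fin 2) ((Fin 2 ⊕ Fin 2) ⊕ Fin 2) (ZMod 2) :=
  dec2 (look matTable2 i)

theorem zero1 : P1 0 = id ∧ M1 0 = 1 := by decide +kernel

theorem next1 : ∀ (i : Fin 128) (j : Fin 3), look nextTable1 (3 * i + j) < 128 ∧
    P1 i ∘ P1 ((j : ℕ) + 1) = P1 (look nextTable1 (3 * i + j)) ∧
    M1 i * M1 ((j : ℕ) + 1) = M1 (look nextTable1 (3 * i + j)) := by decide +kernel

theorem parent1 : ∀ i : Fin 128, (i : ℕ) ≠ 0 → look parentTable1 i / 3 < i ∧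
    look nextTable1 (look parentTable1 i) = i := by decide +kernel

theorem kernel1 : ∀ i : Fin 128, P1 i = id →
    M1 i = 1 ∨ M1 i = -1 := by
  decide +kernel

theorem center1 : ∀ i : Fin 128,
    (∀ j : Fin 3, M1 i * M1 ((j : ℕ) + 1) = M1 ((j : ℕ) + 1) * M1 i) →
    P1 i = id := by decide +kernel

theorem select1 : (∀ k : Fin 64, look selTable k < 128) ∧
    (∀ i : Fin 128, ∃ k : Fin 64, P1 i = P1 (look selTable k)) ∧
    ∀ k k' : Fin 64, P1 (look selTable k) = P1 (look selTable k') → k = k' := by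
  decide +kernel

theorem symp1 : ∀ j : Fin 3, M1 ((j : ℕ) + 1) * Matrix.J (Fin 2) (ZMod 3) *
    (M1 ((j : ℕ) + 1)).transpose = Matrix.J (Fin 2) (ZMod 3) := by decide +kernel

theorem zero2 : P2 0 = id ∧ M2 0 = 1 := by decide +kernel

theorem next2 : ∀ (i : Fin 128) (j : Fin 3), look nextTable2 (3 * i + j) < 128 ∧
    P2 i ∘ P2 ((j : ℕ) + 1) = P2 (look nextTable2 (3 * i + j)) ∧
    M2 i * M2 ((j : ℕ) + 1) = M2 (look nextTable2 (3 * i + j)) := by decide +kernel

theorem parent2 : ∀ i : Fin 128, (i : ℕ) ≠ 0 → look parentTable2 i / 3 < i ∧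
    look nextTable2 (look parentTable2 i) = i := by decide +kernel

theorem kernel2 : ∀ i : Fin 128, (P2 i = id → (i : ℕ) = 0) ∧
    (M2 i = 1 → (i : ℕ) = 0) := by decide +kernel

theorem isometry2 : ∀ (j : Fin 3) (v : (Fin 2 ⊕ Fin 2) ⊕ Fin 2 → ZMod 2),
    Cfsg.quadFormMinus 2 (ZMod 2) 1 1 ((M2 ((j : ℕ) + 1)).mulVec v) =
      Cfsg.quadFormMinus 2 (ZMod 2) 1 1 v := by decide +kernel

end CfsgLib.LocalEvenB.SylowEightPoints
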