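import Cfsg.Agent.Lib.LocalEvenB.SylowEightPoints

/-!
# The isomorphisms between the Sylow 2-subgroups
-/

set_option autoImplicit false

namespace CfsgLib.LocalEvenB.SylowEightPointsIso

open SylowTables SylowEightPoints

/-- The three permutations of the first table. -/
def gen1 : Fin 3 → Equiv.Perm (Fin 8) :=
  ![⟨P1 1, decP 6852069, by decide +kernel, by decide +kernel⟩,
    ⟨P1 2, decP 2177847, by decide +kernel, by decide +kernel⟩,
    ⟨P1 3, decP 16433690, by decide +kernel, by decide +kernel⟩]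

theorem gen1_apply : ∀ j : Fin 3, ⇑(gen1 j) = P1 ((j : ℕ) + 1) := by decide +kernel

theorem gen1_even : ∀ j : Fin 3, Equiv.Perm.sign (gen1 j) = 1 := by decide +kernel

/-- The three permutations of the second table. -/
def gen2 : Fin 3 → Equiv.Perm (Fin 8) :=
  ![⟨P2 1, decP 16434817, by decide +kernel, by decide +kernel⟩,
    ⟨P2 2, decP 16433690, by decide +kernel, by decide +kernel⟩,
    ⟨P2 3, decP 6852524, by decide +kernel, by decide +kernel⟩]

theorem gen2_apply : ∀ j : Fin 3, ⇑(gen2 j) = P2 ((j : ℕ) + 1) := by decide +kernel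

/-- The inverse matrices of the generators of the second table. -/
def invCode : List ℕ := [26443009665, 44443352904, 43220223617]

theorem table_nodup : ∀ i i' : Fin 128, P2 i = P2 i' → i = i' := by decide +kernel

theorem gen2_inverse : ∀ j : Fin 3, M2 ((j : ℕ) + 1) * dec2 (look invCode j) = 1 ∧
    dec2 (look invCode j) * M2 ((j : ℕ) + 1) = 1 := by decide +kernel

/-- A table entry as an element of the product monoid. -/
def entry {ι R : Type*} [Fintype ι] [DecidableEq ι] [CommRing R] (P : ℕ → Fin 8 → Fin 8)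
    (M : ℕ → Matrix ι ι R) (i : ℕ) : Function.End (Fin 8) × Matrix ι ι R := (P i, M i)

section table

variable {ι R : Type*} [Fintype ι] [DecidableEq ι] [CommRing R]
  (P : ℕ → Fin 8 → Fin 8) (M : ℕ → Matrix ι ι R) (next parent : List ℕ)

theorem table_next (h : ∀ (i : Fin 128) (j : Fin 3), look next (3 * i + j) < 128 ∧
    P i ∘ P ((j : ℕ) + 1) = P (look next (3 * i + j)) ∧
    M i * M ((j : ℕ) + 1) = M (look next (3 * i + j))) (i : Fin (127 + 1)) (j : Fin 3) :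
    ∃ i' : Fin (127 + 1), entry P M i * entry P M ((j : ℕ) + 1) = entry P M i' :=
  ⟨⟨_, (h i j).1⟩, Prod.ext (h i j).2.1 (h i j).2.2⟩

theorem table_parent (h : ∀ (i : Fin 128) (j : Fin 3), look next (3 * i + j) < 128 ∧
    P i ∘ P ((j : ℕ) + 1) = P (look next (3 * i + j)) ∧
    M i * M ((j : ℕ) + 1) = M (look next (3 * i + j)))
    (hp : ∀ i : Fin 128, (i : ℕ) ≠ 0 → look parent i / 3 < i ∧ look next (look parent i) = i)
    (i : Fin (127 + 1)) (hi : i ≠ 0) :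
    ∃ (i' : Fin (127 + 1)) (j : Fin 3),
      i' < i ∧ entry P M i = entry P M i' * entry P M ((j : ℕ) + 1) := by
  obtain ⟨hlt, he⟩ := hp i (fun e => hi (Fin.ext e))
  have hi' : look parent i / 3 < 128 := lt_trans hlt i.2
  have hj : look parent i % 3 < 3 := Nat.mod_lt _ (by omega)
  refine ⟨⟨_, hi'⟩, ⟨_, hj⟩, hlt, ?_⟩
  obtain ⟨-, h1, h2⟩ := h ⟨_, hi'⟩ ⟨_, hj⟩
  rw [Nat.div_add_mod, he] at h1 h2
  exact Prod.ext h1.symm h2.symm

end table

section symplectic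

variable {F : Type} [Field F] (φ : ZMod 3 →+* F)

theorem J_map : (Matrix.J (Fin 2) (ZMod 3)).map φ = Matrix.J (Fin 2) F := by
  ext (a | a) (b | b) <;> simp [Matrix.J, Matrix.one_apply]

theorem gen_mem (j : Fin 3) :
    (M1 ((j : ℕ) + 1)).map φ ∈ Matrix.symplecticGroup (Fin 2) F := by
  rw [SymplecticGroup.mem_iff, ← Matrix.transpose_map, ← J_map φ, ← Matrix.map_mul, ← Matrix.map_mul,
    symp1 j]

end symplectic

theorem sylow_A8_PSp4 (F : Type) [Field F] [Fintype F] (hF : Fintype.card F = 3)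
    (P : Sylow 2 ↥(alternatingGroup (Fin 8))) (Q : Sylow 2 (Cfsg.PSp 2 F)) :
    Nonempty (↥(P : Subgroup ↥(alternatingGroup (Fin 8))) ≃* ↥(Q : Subgroup (Cfsg.PSp 2 F))) := by
  classical
  let φ : ZMod 3 →+* F := (ZMod.ringEquivOfPrime F Nat.prime_three hF).toRingHom
  have hφ : Function.Injective φ := (ZMod.ringEquivOfPrime F Nat.prime_three hF).injective
  let g : Fin 3 → Equiv.Perm (Fin 8) × Matrix.symplecticGroup (Fin 2) F :=
    fun j => (gen1 j, ⟨(M1 ((j : ℕ) + 1)).map φ, gen_mem φ j⟩)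
  let ι : Equiv.Perm (Fin 8) × Matrix.symplecticGroup (Fin 2) F →*
      Function.End (Fin 8) × Matrix (Fin 2 ⊕ Fin 2) (Fin 2 ⊕ Fin 2) F :=
    (toEnd (Fin 8)).prodMap (Matrix.symplecticGroup (Fin 2) F).subtype
  let Φ : Function.End (Fin 8) × Matrix (Fin 2 ⊕ Fin 2) (Fin 2 ⊕ Fin 2) (ZMod 3) →*
      Function.End (Fin 8) × Matrix (Fin 2 ⊕ Fin 2) (Fin 2 ⊕ Fin 2) F :=
    (MonoidHom.id _).prodMap φ.mapMatrix.toMonoidHom
  let L : Fin (127 + 1) → Function.End (Fin 8) × Matrix (Fin 2 ⊕ Fin 2) (Fin 2 ⊕ Fin 2) (ZMod 3) :=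
    fun i => entry P1 M1 i
  let gm : Fin 3 → Function.End (Fin 8) × Matrix (Fin 2 ⊕ Fin 2) (Fin 2 ⊕ Fin 2) (ZMod 3) :=
    fun j => entry P1 M1 ((j : ℕ) + 1)
  have hg : ∀ j, ι (g j) = Φ (gm j) := fun j => Prod.ext (gen1_apply j) rfl
  have h0 : L 0 = 1 := Prod.ext zero1.1 zero1.2
  set H := Subgroup.closure (Set.range g) with hH
  have hidx : ∀ x : ↥H, ∃ i : Fin (127 + 1), ι x = Φ (L i) := fun x =>
    exists_index ι Φ g gm L hg h0 (table_next P1 M1 nextTable1 next1) x.2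
  have hpre : ∀ i : Fin (127 + 1), ∃ x ∈ H, ι x = Φ (L i) :=
    exists_preimage ι Φ g gm L hg h0 (table_parent P1 M1 nextTable1 parentTable1 next1 parent1)
  let π₁ : ↥H →* Equiv.Perm (Fin 8) := (MonoidHom.fst _ _).comp H.subtype
  let π₂ : ↥H →* Cfsg.PSp 2 F :=
    (QuotientGroup.mk' _).comp ((MonoidHom.snd _ _).comp H.subtype)
  have hker : π₁.ker = π₂.ker := by
    ext x
    obtain ⟨i, hi⟩ := hidx x
    have h1 : ⇑(π₁ x) = P1 i := congrArg Prod.fst hi
    have h2 : ((x : Equiv.Perm (Fin 8) × Matrix.symplecticGroup (Fin 2) F).2 :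
        Matrix (Fin 2 ⊕ Fin 2) (Fin 2 ⊕ Fin 2) F) = (M1 i).map φ := congrArg Prod.snd hi
    simp only [MonoidHom.mem_ker, π₂, MonoidHom.comp_apply, QuotientGroup.mk'_apply,
      QuotientGroup.eq_one_iff, Subgroup.mem_center_iff, MonoidHom.coe_snd, Subgroup.coe_subtype]
    constructor
    · intro hx
      have hP : P1 i = id := by rw [← h1, hx]; rfl
      intro y
      refine Subtype.ext ?_
      simp only [Submonoid.coe_mul, h2]
      rcases kernel1 i hP with h | h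
      · rw [h, Matrix.map_one φ φ.map_zero φ.map_one, mul_one, one_mul]
      · have : ((-1 : Matrix (Fin 2 ⊕ Fin 2) (Fin 2 ⊕ Fin 2) (ZMod 3))).map φ = -1 := by
          rw [← RingHom.mapMatrix_apply, map_neg, map_one]
        rw [h, this, mul_neg_one, neg_one_mul]
    · intro hx
      have hP : P1 i = id := center1 i fun j => by
        refine Matrix.map_injective hφ ?_
        have := congrArg Subtype.val (hx (g j).2)
        simp only [Submonoid.coe_mul, h2] at this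
        simp only [Matrix.map_mul]
        exact this.symm
      exact Equiv.ext fun v => by rw [h1, hP]; rfl
  have hcard : Nat.card π₁.range = 2 ^ 6 := by
    have hmem : ∀ k : Fin 64, ∃ σ : π₁.range, ⇑(σ : Equiv.Perm (Fin 8)) = P1 (look selTable k) := by
      intro k
      obtain ⟨x, hx, he⟩ := hpre ⟨_, select1.1 k⟩
      exact ⟨⟨π₁ ⟨x, hx⟩, ⟨_, rfl⟩⟩, congrArg Prod.fst he⟩
    choose σ hσ using hmem
    have hb : Function.Bijective σ := by
      refine ⟨fun k k' e => select1.2.2 k k' (by rw [← hσ, ← hσ, e]), ?_⟩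
      rintro ⟨_, x, rfl⟩
      obtain ⟨i, hi⟩ := hidx x
      obtain ⟨k, hk⟩ := select1.2.1 i
      refine ⟨k, Subtype.ext (Equiv.ext fun v => ?_)⟩
      rw [hσ k, ← hk]
      exact (congrFun (congrArg Prod.fst hi) v).symm
    rw [← Nat.card_eq_of_bijective σ hb, Nat.card_fin]; norm_num
  have hA : π₁.range ≤ alternatingGroup (Fin 8) := by
    rintro _ ⟨x, rfl⟩
    have : H ≤ (alternatingGroup (Fin 8)).comap (MonoidHom.fst _ _) := by
      rw [hH, Subgroup.closure_le]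
      rintro _ ⟨j, rfl⟩
      exact Equiv.Perm.mem_alternatingGroup.2 (gen1_even j)
    exact this x.2
  have e : ↥π₁.range ≃* ↥π₂.range :=
    (QuotientGroup.quotientKerEquivRange π₁).symm.trans
      ((QuotientGroup.quotientMulEquivOfEq hker).trans (QuotientGroup.quotientKerEquivRange π₂))
  have hA8 : Nat.card ↥(alternatingGroup (Fin 8)) = 2 ^ 6 * 315 := by
    rw [nat_card_alternatingGroup, Nat.card_fin]
    decide +kernel
  obtain ⟨eP⟩ := sylow_mulEquiv (π₁.range.subgroupOf (alternatingGroup (Fin 8))) 6 315 hA8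
    (by decide) (by rw [Nat.card_congr (Subgroup.subgroupOfEquivOfLe hA).toEquiv, hcard]) P
  have hc2 : Nat.card π₂.range = 2 ^ 6 := by rw [← Nat.card_congr e.toEquiv, hcard]
  have hsp : Nat.card (Matrix.symplecticGroup (Fin 2) F) = 2 ^ 6 * 810 := by
    rw [CfsgLib.Classical.card_symplecticGroup 2, hF]
    decide +kernel
  obtain ⟨m, hm⟩ : 2 ^ 6 ∣ Nat.card (Cfsg.PSp 2 F) := hc2 ▸ Subgroup.card_subgroup_dvd_card _
  have hz : 2 ∣ Nat.card (Subgroup.center (Matrix.symplecticGroup (Fin 2) F)) := by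
    obtain ⟨x, hx, he⟩ := hpre ⟨0, by omega⟩
    let z : Matrix.symplecticGroup (Fin 2) F := ⟨-1, by rw [SymplecticGroup.mem_iff]; simp⟩
    have hzc : z ∈ Subgroup.center (Matrix.symplecticGroup (Fin 2) F) :=
      Subgroup.mem_center_iff.2 fun y => Subtype.ext (by simp [z])
    have hz2 : orderOf (⟨z, hzc⟩ : Subgroup.center (Matrix.symplecticGroup (Fin 2) F)) = 2 := by
      have : Fact (Nat.Prime 2) := ⟨Nat.prime_two⟩
      refine orderOf_eq_prime (Subtype.ext (Subtype.ext (by simp [z, pow_two]))) fun h => ?_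
      have h1 := congrArg (fun A : Subgroup.center (Matrix.symplecticGroup (Fin 2) F) =>
        ((A : Matrix.symplecticGroup (Fin 2) F) :
          Matrix (Fin 2 ⊕ Fin 2) (Fin 2 ⊕ Fin 2) F) (Sum.inl 0) (Sum.inl 0)) h
      simp [z] at h1
      have h3 : φ (-1) = φ 1 := by rw [map_neg, map_one]; exact h1
      exact absurd (hφ h3) (by decide)
    have := orderOf_dvd_natCard (⟨z, hzc⟩ : Subgroup.center (Matrix.symplecticGroup (Fin 2) F))
    rwa [hz2] at this
  obtain ⟨d, hd⟩ := hz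
  have hmd : m * (2 * d) = 810 := by
    have := Subgroup.card_eq_card_quotient_mul_card_subgroup
      (Subgroup.center (Matrix.symplecticGroup (Fin 2) F))
    rw [hsp, show Nat.card (Matrix.symplecticGroup (Fin 2) F ⧸ _) = 2 ^ 6 * m from hm, hd,
      mul_assoc] at this
    omega
  have hmodd : Odd m := by
    rcases Nat.even_or_odd m with ⟨c, rfl⟩ | h
    · exfalso
      have : 4 * (c * d) = 810 := by rw [← hmd]; ring
      omega
    · exact h
  obtain ⟨eQ⟩ := sylow_mulEquiv π₂.range 6 m hm hmodd hc2 Q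
  exact ⟨eP.trans ((Subgroup.subgroupOfEquivOfLe hA).trans (e.trans eQ.symm))⟩

section orthogonal

variable {K : Type} [Field K] (φ : ZMod 2 →+* K)

theorem quad_map (v : (Fin 2 ⊕ Fin 2) ⊕ Fin 2 → ZMod 2) :
    Cfsg.quadFormMinus 2 K 1 1 (φ ∘ v) = φ (Cfsg.quadFormMinus 2 (ZMod 2) 1 1 v) := by
  simp only [Cfsg.quadFormMinus, Fin.sum_univ_two, map_add, map_mul, map_pow, map_one, Function.comp]

theorem gen2_mem (hφ : Function.Surjective φ) (j : Fin 3)
    (u : (Matrix ((Fin 2 ⊕ Fin 2) ⊕ Fin 2) ((Fin 2 ⊕ Fin 2) ⊕ Fin 2) K)ˣ)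
    (hu : (u : Matrix ((Fin 2 ⊕ Fin 2) ⊕ Fin 2) ((Fin 2 ⊕ Fin 2) ⊕ Fin 2) K) =
      (M2 ((j : ℕ) + 1)).map φ) :
    u ∈ Cfsg.isometryGroup K (Cfsg.quadFormMinus 2 K 1 1) := by
  intro v w
  change Cfsg.quadFormMinus 2 K 1 1 (Matrix.mulVec (u : Matrix _ _ K) v) = _
  choose s hs using hφ
  have hv : v = φ ∘ (fun i => s (v i)) := funext fun i => (hs _).symm
  change _ = Cfsg.quadFormMinus 2 K 1 1 v
  rw [hu]
  conv_lhs => rw [hv]
  conv_rhs => rw [hv]
  rw [ show Matrix.mulVec ((M2 ((j : ℕ) + 1)).map φ) (φ ∘ fun i => s (v i)) =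
      φ ∘ (M2 ((j : ℕ) + 1)).mulVec (fun i => s (v i)) from
    funext fun i => (RingHom.map_mulVec φ _ _ i).symm, quad_map, quad_map, isometry2 j]

end orthogonal

theorem sylow_S8_O6 (K : Type) [Field K] [Fintype K] (hK : Fintype.card K = 2) (a b : K)
    (hab : ∀ z₁ z₂ : K, z₁ ^ 2 + a * z₁ * z₂ + b * z₂ ^ 2 = 0 → z₁ = 0 ∧ z₂ = 0)
    (P : Sylow 2 (Equiv.Perm (Fin 8)))
    (Q : Sylow 2 ↥(Cfsg.isometryGroup K (Cfsg.quadFormMinus 2 K a b))) :
    Nonempty (↥(P : Subgroup (Equiv.Perm (Fin 8))) ≃*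
      ↥(Q : Subgroup ↥(Cfsg.isometryGroup K (Cfsg.quadFormMinus 2 K a b)))) := by
  classical
  let e₂ := ZMod.ringEquivOfPrime K Nat.prime_two hK
  let φ : ZMod 2 →+* K := e₂.toRingHom
  have hφi : Function.Injective φ := e₂.injective
  have hφs : Function.Surjective φ := e₂.surjective
  obtain ⟨rfl, rfl⟩ : a = 1 ∧ b = 1 := by
    obtain ⟨a', rfl⟩ := hφs a
    obtain ⟨b', rfl⟩ := hφs b
    have key : ∀ z₁ z₂ : ZMod 2, z₁ ^ 2 + a' * z₁ * z₂ + b' * z₂ ^ 2 = 0 → z₁ = 0 ∧ z₂ = 0 := by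
      intro z₁ z₂ h
      obtain ⟨h1, h2⟩ := hab (φ z₁) (φ z₂) (by
        have := congrArg φ h
        simpa only [map_add, map_mul, map_pow, map_zero] using this)
      exact ⟨hφi (by rw [h1, map_zero]), hφi (by rw [h2, map_zero])⟩
    have : ∀ a' b' : ZMod 2, (∀ z₁ z₂ : ZMod 2, z₁ ^ 2 + a' * z₁ * z₂ + b' * z₂ ^ 2 = 0 →
        z₁ = 0 ∧ z₂ = 0) → a' = 1 ∧ b' = 1 := by decide +kernel
    obtain ⟨rfl, rfl⟩ := this a' b' key
    exact ⟨map_one φ, map_one φ⟩
  let u : Fin 3 → (Matrix ((Fin 2 ⊕ Fin 2) ⊕ Fin 2) ((Fin 2 ⊕ Fin 2) ⊕ Fin 2) K)ˣ := fun j =>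
    Units.map φ.mapMatrix.toMonoidHom
      ⟨M2 ((j : ℕ) + 1), dec2 (look invCode j), (gen2_inverse j).1, (gen2_inverse j).2⟩
  let g : Fin 3 → Equiv.Perm (Fin 8) × Cfsg.isometryGroup K (Cfsg.quadFormMinus 2 K 1 1) :=
    fun j => (gen2 j, ⟨u j, gen2_mem φ hφs j (u j) rfl⟩)
  let ι : Equiv.Perm (Fin 8) × Cfsg.isometryGroup K (Cfsg.quadFormMinus 2 K 1 1) →*
      Function.End (Fin 8) ×
        Matrix ((Fin 2 ⊕ Fin 2) ⊕ Fin 2) ((Fin 2 ⊕ Fin 2) ⊕ Fin 2) K :=
    (toEnd (Fin 8)).prodMap ((Units.coeHom _).comp (Subgroup.subtype _))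
  let Φ : Function.End (Fin 8) ×
        Matrix ((Fin 2 ⊕ Fin 2) ⊕ Fin 2) ((Fin 2 ⊕ Fin 2) ⊕ Fin 2) (ZMod 2) →*
      Function.End (Fin 8) ×
        Matrix ((Fin 2 ⊕ Fin 2) ⊕ Fin 2) ((Fin 2 ⊕ Fin 2) ⊕ Fin 2) K :=
    (MonoidHom.id _).prodMap φ.mapMatrix.toMonoidHom
  let L : Fin (127 + 1) → Function.End (Fin 8) ×
        Matrix ((Fin 2 ⊕ Fin 2) ⊕ Fin 2) ((Fin 2 ⊕ Fin 2) ⊕ Fin 2) (ZMod 2) :=
    fun i => entry P2 M2 i
  let gm : Fin 3 → Function.End (Fin 8) ×
        Matrix ((Fin 2 ⊕ Fin 2) ⊕ Fin 2) ((Fin 2 ⊕ Fin 2) ⊕ Fin 2) (ZMod 2) :=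
    fun j => entry P2 M2 ((j : ℕ) + 1)
  have hg : ∀ j, ι (g j) = Φ (gm j) := fun j => Prod.ext (gen2_apply j) rfl
  have h0 : L 0 = 1 := Prod.ext zero2.1 zero2.2
  set H := Subgroup.closure (Set.range g)
  have hidx : ∀ x : ↥H, ∃ i : Fin (127 + 1), ι x = Φ (L i) := fun x =>
    exists_index ι Φ g gm L hg h0 (table_next P2 M2 nextTable2 next2) x.2
  have hpre : ∀ i : Fin (127 + 1), ∃ x : ↥H, ι x = Φ (L i) := fun i => by
    obtain ⟨x, hx, he⟩ := exists_preimage ι Φ g gm L hg h0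
      (table_parent P2 M2 nextTable2 parentTable2 next2 parent2) i
    exact ⟨⟨x, hx⟩, he⟩
  let π₁ : ↥H →* Equiv.Perm (Fin 8) := (MonoidHom.fst _ _).comp H.subtype
  let π₂ : ↥H →* Cfsg.isometryGroup K (Cfsg.quadFormMinus 2 K 1 1) :=
    (MonoidHom.snd _ _).comp H.subtype
  have h1 : Function.Injective π₁ := by
    rw [← MonoidHom.ker_eq_bot_iff, eq_bot_iff]
    intro x hx
    obtain ⟨i, hi⟩ := hidx x
    have hP : P2 i = id := by
      rw [← show ⇑(π₁ x) = P2 i from congrArg Prod.fst hi, MonoidHom.mem_ker.1 hx]; rfl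
    obtain rfl : i = 0 := Fin.ext ((kernel2 i).1 hP)
    rw [Subgroup.mem_bot]
    refine Subtype.ext (Prod.ext (MonoidHom.mem_ker.1 hx) (Subtype.ext (Units.ext ?_)))
    have := congrArg Prod.snd hi
    rw [h0, map_one] at this
    exact this
  have h2 : Function.Injective π₂ := by
    rw [← MonoidHom.ker_eq_bot_iff, eq_bot_iff]
    intro x hx
    obtain ⟨i, hi⟩ := hidx x
    have hM : M2 i = 1 := by
      refine Matrix.map_injective hφi ?_
      change (M2 i).map φ = (1 : Matrix ((Fin 2 ⊕ Fin 2) ⊕ Fin 2) ((Fin 2 ⊕ Fin 2) ⊕ Fin 2) (ZMod 2)).map φ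
      rw [Matrix.map_one φ φ.map_zero φ.map_one]
      have e1 : ((π₂ x : GL ((Fin 2 ⊕ Fin 2) ⊕ Fin 2) K) :
          Matrix ((Fin 2 ⊕ Fin 2) ⊕ Fin 2) ((Fin 2 ⊕ Fin 2) ⊕ Fin 2) K) = (M2 i).map φ :=
        congrArg Prod.snd hi
      rw [MonoidHom.mem_ker.1 hx] at e1
      exact e1.symm
    obtain rfl : i = 0 := Fin.ext ((kernel2 i).2 hM)
    rw [Subgroup.mem_bot]
    refine Subtype.ext (Prod.ext (Equiv.ext fun v => ?_) (MonoidHom.mem_ker.1 hx))
    have := congrArg Prod.fst hi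
    rw [h0, map_one] at this
    exact congrFun this v
  have hΦ : Function.Injective Φ := fun x y e => by
    have e1 : (Φ x).1 = (Φ y).1 := congrArg Prod.fst e
    have e2 : x.2.map φ = y.2.map φ := congrArg Prod.snd e
    exact Prod.ext e1 (Matrix.map_injective hφi e2)
  have hLinj : Function.Injective L := by
    intro i i' e
    exact table_nodup i i' (congrArg Prod.fst e)
  have hcard : Nat.card H = 2 ^ 7 := by
    choose f hf using hpre
    have hb : Function.Bijective f := by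
      refine ⟨fun i i' e => hLinj (hΦ (by rw [← hf, ← hf, e])), fun x => ?_⟩
      obtain ⟨i, hi⟩ := hidx x
      refine ⟨i, h1 (Equiv.ext fun v => congrFun ?_ v)⟩
      exact congrArg Prod.fst ((hf i).trans hi.symm)
    rw [← Nat.card_eq_of_bijective f hb, Nat.card_fin]; norm_num
  have hS8 : Nat.card (Equiv.Perm (Fin 8)) = 2 ^ 7 * 315 := by
    rw [Nat.card_perm, Nat.card_fin]; decide +kernel
  have hO : Nat.card ↥(Cfsg.isometryGroup K (Cfsg.quadFormMinus 2 K 1 1)) = 2 ^ 7 * 405 := by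
    have := Cfsg.Agent.S0288.result (F := K) hK 3 (by omega) 1 1 hab
    rw [this]; decide +kernel
  obtain ⟨eP⟩ := sylow_mulEquiv π₁.range 7 315 hS8 (by decide)
    (by rw [← Nat.card_congr (MonoidHom.ofInjective h1).toEquiv, hcard]) P
  obtain ⟨eQ⟩ := sylow_mulEquiv π₂.range 7 405 hO (by decide)
    (by rw [← Nat.card_congr (MonoidHom.ofInjective h2).toEquiv, hcard]) Q
  exact ⟨eP.trans ((MonoidHom.ofInjective h1).symm.trans
    ((MonoidHom.ofInjective h2).trans eQ.symm))⟩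

end CfsgLib.LocalEvenB.SylowEightPointsIso
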