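import Cfsg.Agent.Lib.KnownC.AnHall.Alt
import Cfsg.Agent.Lib.Components.GenFitting
import Cfsg.Agent.Lib.Recognition.Zassenhaus.Core

/-!
# Permutation groups with quasisimple `F*` containing three-cycles

If `H ≤ Perm α` has quasisimple `F*(H)` and contains a three-cycle, with all but at most two points
moved by three-cycles of `H`, then `F*(H)` is the alternating group on the moved points.
-/

set_option autoImplicit false
set_option linter.unusedSectionVars false
set_option linter.style.haveILetI false

namespace CfsgLib.LocalEvenB.ThreeClasses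

open Equiv Cfsg.Agent.KnownC.AnHall CfsgLib.Components
open scoped commutatorElement

theorem quasisimple_of_simple {K : Type*} [Group K] [IsSimpleGroup K] (hna : ¬ IsMulCommutative K) :
    Cfsg.IsQuasisimple K := by
  have hz : Subgroup.center K = ⊥ := by
    rcases (inferInstance : (Subgroup.center K).Normal).eq_bot_or_eq_top with h | h
    · exact h
    · exact absurd ⟨⟨fun a b => Subgroup.mem_center_iff.mp (h ▸ Subgroup.mem_top b) a⟩⟩ hna
  refine ⟨?_, ?_⟩
  · rw [Group.isPerfect_def]
    rcases (inferInstance : (commutator K).Normal).eq_bot_or_eq_top with h | h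
    · refine absurd ⟨⟨fun a b => ?_⟩⟩ hna
      have : ⁅a, b⁆ ∈ commutator K :=
        Subgroup.commutator_mem_commutator (Subgroup.mem_top a) (Subgroup.mem_top b)
      rw [h, Subgroup.mem_bot, commutatorElement_eq_one_iff_mul_comm] at this
      exact this
    · exact h
  · have e : K ⧸ Subgroup.center K ≃* K :=
      (QuotientGroup.quotientMulEquivOfEq hz).trans QuotientGroup.quotientBot
    exact e.isSimpleGroup

variable {α : Type*} [Fintype α] [DecidableEq α] (H : Subgroup (Perm α))

/-- The three-cycles of `H`. -/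
def T : Set (Perm α) := {x | x ∈ H ∧ x.IsThreeCycle}

/-- The three-cycles of `H` supported on the class of `a`. -/
def Tc (a : α) : Set (Perm α) := {x | x ∈ H ∧ x.IsThreeCycle ∧ ∀ z, x z ≠ z → (threeRel H).r z a}

theorem rel_of_mem {y : Perm α} (hy : y ∈ T H) (z : α) : (threeRel H).r (y z) z :=
  (threeRel H).symm' (Or.inr ⟨y, hy.1, hy.2, rfl⟩)

theorem closure_T_le : Subgroup.closure (T H) ≤ H :=
  (Subgroup.closure_le _).mpr fun _ hx => hx.1

theorem closure_Tc_le (a : α) : Subgroup.closure (Tc H a) ≤ Subgroup.closure (T H) :=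
  Subgroup.closure_mono fun _ hx => ⟨hx.1, hx.2.1⟩

theorem normal_T : ((Subgroup.closure (T H)).subgroupOf H).Normal := by
  rw [Subgroup.normal_subgroupOf_iff_le_normalizer (closure_T_le H)]
  intro g hg
  have key : ∀ u ∈ H, ∀ x ∈ Subgroup.closure (T H), u * x * u⁻¹ ∈ Subgroup.closure (T H) := by
    intro u hu x hx
    induction hx using Subgroup.closure_induction with
    | mem y hy =>
      exact Subgroup.subset_closure
        ⟨H.mul_mem (H.mul_mem hu hy.1) (H.inv_mem hu), three_conj hy.2 u⟩
    | one => simp
    | mul y z _ _ ihy ihz =>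
      have e : u * (y * z) * u⁻¹ = (u * y * u⁻¹) * (u * z * u⁻¹) := by group
      rw [e]; exact Subgroup.mul_mem _ ihy ihz
    | inv y _ ihy =>
      have e : u * y⁻¹ * u⁻¹ = (u * y * u⁻¹)⁻¹ := by group
      rw [e]; exact Subgroup.inv_mem _ ihy
  refine Subgroup.mem_normalizer_iff.mpr fun x => ⟨fun hx => key g hg x hx, fun hx => ?_⟩
  have := key g⁻¹ (H.inv_mem hg) _ hx
  simpa [mul_assoc] using this

theorem normal_Tc (a : α) :
    ((Subgroup.closure (Tc H a)).subgroupOf (Subgroup.closure (T H))).Normal := by
  rw [Subgroup.normal_subgroupOf_iff_le_normalizer (closure_Tc_le H a)]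
  have key : ∀ y ∈ T H, ∀ x ∈ Subgroup.closure (Tc H a), y * x * y⁻¹ ∈ Subgroup.closure (Tc H a) := by
    intro y hy x hx
    induction hx using Subgroup.closure_induction with
    | mem x hx =>
      refine Subgroup.subset_closure
        ⟨H.mul_mem (H.mul_mem hy.1 hx.1) (H.inv_mem hy.1), three_conj hx.2.1 y, fun z hz => ?_⟩
      have hz' : x (y⁻¹ z) ≠ y⁻¹ z := fun h => hz (by
        simp only [Perm.mul_apply, h]
        exact y.apply_symm_apply z)
      have h1 := hx.2.2 _ hz'
      have h2 : (threeRel H).r (y (y⁻¹ z)) (y⁻¹ z) := rel_of_mem H hy _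
      rw [show y (y⁻¹ z) = z from y.apply_symm_apply z] at h2
      exact (threeRel H).trans' h2 h1
    | one => simp
    | mul u w _ _ ihu ihw =>
      have e : y * (u * w) * y⁻¹ = (y * u * y⁻¹) * (y * w * y⁻¹) := by group
      rw [e]; exact Subgroup.mul_mem _ ihu ihw
    | inv u _ ihu =>
      have e : y * u⁻¹ * y⁻¹ = (y * u * y⁻¹)⁻¹ := by group
      rw [e]; exact Subgroup.inv_mem _ ihu
  rw [Subgroup.closure_le]
  intro y hy
  refine Subgroup.mem_normalizer_iff.mpr fun x => ⟨fun hx => key y hy x hx, fun hx => ?_⟩
  have := key y⁻¹ ⟨H.inv_mem hy.1, hy.2.inv⟩ _ hx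
  simpa [mul_assoc] using this

open _root_.Classical in
/-- The alternating group of a class is generated by the three-cycles of `H` on it. -/
theorem closure_Tc_eq (a : α) :
    Subgroup.closure (Tc H a) =
      (alternatingGroup {b // (threeRel H).r b a}).map
        (Perm.ofSubtype (p := fun b => (threeRel H).r b a)) := by
  classical
  rw [← Perm.closure_three_cycles_eq_alternating, MonoidHom.map_closure]
  congr 1
  ext x
  constructor
  · rintro ⟨hxH, hx3, hsupp⟩
    have hiff : ∀ z, (threeRel H).r (x z) a ↔ (threeRel H).r z a := fun z =>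
      ⟨fun h => (threeRel H).trans' ((threeRel H).symm' (rel_of_mem H ⟨hxH, hx3⟩ z)) h,
        fun h => (threeRel H).trans' (rel_of_mem H ⟨hxH, hx3⟩ z) h⟩
    refine ⟨x.subtypePerm hiff, ?_, Perm.ofSubtype_subtypePerm _ hsupp⟩
    show (x.subtypePerm hiff).IsThreeCycle
    rw [← card_support_eq_three_iff, ← hx3.card_support,
      ← congrArg (fun f : Perm α => f.support.card)
        (Perm.ofSubtype_subtypePerm (f := x) hiff hsupp), Perm.support_ofSubtype, Finset.card_map]
  · rintro ⟨σ, hσ, rfl⟩
    have hσ' : σ.IsThreeCycle := hσ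
    have h3 : (Perm.ofSubtype (p := fun b => (threeRel H).r b a) σ).IsThreeCycle := by
      rw [← card_support_eq_three_iff, Perm.support_ofSubtype, Finset.card_map, hσ'.card_support]
    obtain ⟨u, hu, -⟩ := hσ'.isCycle
    refine ⟨three_mem_of_class H h3 (a := (u : α)) ?_ ?_ ?_, h3, fun z hz => ?_⟩
    · rw [Perm.ofSubtype_apply_coe]; exact fun h => hu (Subtype.ext h)
    · rw [Perm.ofSubtype_apply_coe]
      exact (threeRel H).trans' u.2 ((threeRel H).symm' (σ u).2)
    · rw [Perm.ofSubtype_apply_coe, Perm.ofSubtype_apply_coe]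
      exact (threeRel H).trans' u.2 ((threeRel H).symm' (σ (σ u)).2)
    · by_contra hza
      exact hz (Perm.ofSubtype_apply_of_not_mem σ hza)

/-- Elements of the class group fix all points outside the class. -/
theorem fix_outside {a : α} {x : Perm α} (hx : x ∈ Subgroup.closure (Tc H a)) {z : α}
    (hz : ¬ (threeRel H).r z a) : x z = z := by
  classical
  rw [closure_Tc_eq] at hx
  obtain ⟨σ, -, rfl⟩ := hx
  exact Perm.ofSubtype_apply_of_not_mem σ hz

open _root_.Classical in
/-- The class group. -/
noncomputable def classEquiv (a : α) :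
    alternatingGroup {b // (threeRel H).r b a} ≃* (Subgroup.closure (Tc H a)).subgroupOf H :=
  (((alternatingGroup {b // (threeRel H).r b a}).equivMapOfInjective _ Perm.ofSubtype_injective).trans
    (MulEquiv.subgroupCongr (closure_Tc_eq H a).symm)).trans
    (Subgroup.subgroupOfEquivOfLe ((closure_Tc_le H a).trans (closure_T_le H))).symm

theorem subnormal_Tc (a : α) : ((Subgroup.closure (Tc H a)).subgroupOf H).IsSubnormal := by
  refine Subgroup.IsSubnormal.step _ ((Subgroup.closure (T H)).subgroupOf H) ?_
    (normal_T H).isSubnormal ?_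
  · exact fun x hx => closure_Tc_le H a hx
  · have hn := normal_Tc H a
    refine ⟨fun x hx g => ?_⟩
    rw [Subgroup.mem_subgroupOf, Subgroup.mem_subgroupOf] at hx
    rw [Subgroup.mem_subgroupOf, Subgroup.mem_subgroupOf]
    exact hn.conj_mem ⟨((x : H) : Perm α), x.2⟩ hx ⟨((g : H) : Perm α), g.2⟩

/-- A class with at least five points carries `F*(H)` and all three-cycles. -/
theorem big (hF : Cfsg.IsQuasisimple ↥(Cfsg.generalizedFittingSubgroup ↥H)) {a : α}
    (ha : 5 ≤ Nat.card {b // (threeRel H).r b a}) :
    (Subgroup.closure (Tc H a)).subgroupOf H = Cfsg.generalizedFittingSubgroup ↥H ∧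
      (∀ x ∈ T H, ∀ z, x z ≠ z → (threeRel H).r z a) ∧
      Nonempty (↥(Cfsg.generalizedFittingSubgroup ↥H) ≃*
        ↥(alternatingGroup (Fin (Nat.card {b // (threeRel H).r b a})))) := by
  classical
  set Fs := Cfsg.generalizedFittingSubgroup ↥H with hFs
  haveI hFn : Fs.Normal := inferInstanceAs (Cfsg.generalizedFittingSubgroup ↥H).Normal
  have hFc : Cfsg.IsComponent Fs := ⟨hFn.isSubnormal, hF⟩
  set K := (Subgroup.closure (Tc H a)).subgroupOf H with hK
  haveI := alternatingGroup.isSimpleGroup ha
  have hna : ¬ IsMulCommutative (alternatingGroup {b // (threeRel H).r b a}) := by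
    intro h
    have := alternatingGroup.isMulCommutative_iff_card_le_three.mp h
    omega
  have hKc : Cfsg.IsComponent K :=
    ⟨subnormal_Tc H a, IsQuasisimple.of_mulEquiv (quasisimple_of_simple hna) (classEquiv H a)⟩
  have hKF : K = Fs :=
    IsComponent.eq_of_le hKc hFc ((IsComponent.le_layer hKc).trans le_sup_left)
  have hall : ∀ x ∈ T H, ∀ z, x z ≠ z → (threeRel H).r z a := by
    intro x hx z hz
    by_contra hza
    have hout : ∀ w, x w ≠ w → ¬ (threeRel H).r w a := by
      intro w hw hwa
      apply hza
      have e1 : (threeRel H).r (x z) z := rel_of_mem H hx z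
      rcases three_support hx.2 hw hz with h | h | h
      · rwa [h]
      · rw [h]; exact (threeRel H).trans' (rel_of_mem H hx w) hwa
      · rw [h]; exact (threeRel H).trans' (rel_of_mem H hx _) ((threeRel H).trans' (rel_of_mem H hx w) hwa)
    have hmem : (⟨x, hx.1⟩ : H) ∈ Subgroup.centralizer (Fs : Set H) := by
      rw [Subgroup.mem_centralizer_iff]
      intro k hk
      rw [← hKF] at hk
      refine Subtype.ext ?_
      have hd : Perm.Disjoint (k : Perm α) x := by
        intro w
        by_cases hw : x w = w
        · exact Or.inr hw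
        · exact Or.inl (fix_outside H hk (hout w hw))
      exact hd.commute.eq
    have := centralizer_generalizedFitting_le hmem
    rw [← hFs, ← hKF] at this
    exact hz (fix_outside H this hza)
  exact ⟨hKF, hall, ⟨((MulEquiv.subgroupCongr hKF.symm).trans (classEquiv H a).symm).trans
    (Equiv.altCongrHom (Finite.equivFin _))⟩⟩

/-- If all classes are small, `F*(H)` centralises every three-cycle of `H`. -/
theorem small_comm (hF : Cfsg.IsQuasisimple ↥(Cfsg.generalizedFittingSubgroup ↥H))
    (hbig : ∀ a : α, Nat.card {b // (threeRel H).r b a} < 5) :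
    ∀ x ∈ T H, ∀ f ∈ Cfsg.generalizedFittingSubgroup ↥H, (f : Perm α) * x = x * (f : Perm α) := by
  classical
  set Fs := Cfsg.generalizedFittingSubgroup ↥H with hFs
  haveI hFn : Fs.Normal := inferInstanceAs (Cfsg.generalizedFittingSubgroup ↥H).Normal
  have hFc : Cfsg.IsComponent Fs := ⟨hFn.isSubnormal, hF⟩
  intro x hx f hf
  obtain ⟨a, ha, -⟩ := hx.2.isCycle
  set K := (Subgroup.closure (Tc H a)).subgroupOf H with hK
  have hxK : (⟨x, hx.1⟩ : H) ∈ K := by
    rw [hK, Subgroup.mem_subgroupOf]
    refine Subgroup.subset_closure ⟨hx.1, hx.2, fun z hz => ?_⟩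
    rcases three_support hx.2 ha hz with h | h | h
    · rw [h]
    · rw [h]; exact rel_of_mem H hx a
    · rw [h]; exact (threeRel H).trans' (rel_of_mem H hx _) (rel_of_mem H hx a)
  haveI : Group.IsSolvable K := by
    haveI := CfsgLib.Recognition.Zassenhaus.perm_solvable {b // (threeRel H).r b a}
      (by have := hbig a; omega)
    exact Group.isSolvable_of_isSolvable_injective
      (f := (alternatingGroup {b // (threeRel H).r b a}).subtype.comp (classEquiv H a).symm.toMonoidHom)
      ((Subgroup.subtype_injective _).comp (classEquiv H a).symm.injective)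
  rcases IsComponent.le_or_commutator_eq_bot hFc (subnormal_Tc H a) with h | h
  · exact absurd (Group.isSolvable_of_isSolvable_injective (Subgroup.inclusion_injective h))
      (IsQuasisimple.not_isSolvable hF)
  · exact congrArg Subtype.val (Subgroup.mem_centralizer_iff.mp
      (Subgroup.commutator_eq_bot_iff_le_centralizer.mp h hf) (⟨x, hx.1⟩ : H) hxK).symm

/-- Permutations commuting with a three-cycle commute with each other on its support. -/
theorem comm_on_support {x f g : Perm α} (hx : x.IsThreeCycle) {z : α} (hxz : x z ≠ z)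
    (hf : ∀ w, f (x w) = x (f w)) (hg : ∀ w, g (x w) = x (g w)) : f (g z) = g (f z) := by
  have hm : ∀ (u : Perm α), (∀ w, u (x w) = x (u w)) → x (u z) ≠ u z :=
    fun u hu e => hxz (u.injective ((hu z).trans e))
  rcases three_support hx hxz (hm f hf) with h1 | h1 | h1 <;>
    rcases three_support hx hxz (hm g hg) with h2 | h2 | h2 <;>
      simp [h1, h2, hf, hg]

/-- The main statement. -/
theorem main (hF : Cfsg.IsQuasisimple ↥(Cfsg.generalizedFittingSubgroup ↥H))
    (U : Finset α) (hU : Uᶜ.card ≤ 2) (hcov : ∀ z ∈ U, ∃ x ∈ T H, x z ≠ z) :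
    ∃ m : ℕ, U.card ≤ m ∧ m ≤ Fintype.card α ∧
      Nonempty (↥(Cfsg.generalizedFittingSubgroup ↥H) ≃* ↥(alternatingGroup (Fin m))) := by
  classical
  set Fs := Cfsg.generalizedFittingSubgroup ↥H with hFs
  by_cases hbig : ∃ a : α, 5 ≤ Nat.card {b // (threeRel H).r b a}
  · obtain ⟨a, ha⟩ := hbig
    obtain ⟨-, hall, hiso⟩ := big H hF ha
    refine ⟨Nat.card {b // (threeRel H).r b a}, ?_, ?_, hiso⟩
    · rw [Nat.card_eq_fintype_card, Fintype.card_subtype]
      refine Finset.card_le_card fun z hz => Finset.mem_filter.mpr ⟨Finset.mem_univ _, ?_⟩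
      obtain ⟨x, hx, hxz⟩ := hcov z hz
      exact hall x hx z hxz
    · rw [← Nat.card_eq_fintype_card]
      exact Nat.card_le_card_of_injective _ Subtype.val_injective
  · exfalso
    push Not at hbig
    have hcomm := small_comm H hF hbig
    apply IsQuasisimple.not_isMulCommutative hF
    refine ⟨⟨fun f g => Subtype.ext (Subtype.ext (Equiv.ext fun z => ?_))⟩⟩
    set f' : Perm α := ((f : H) : Perm α)
    set g' : Perm α := ((g : H) : Perm α)
    show f' (g' z) = g' (f' z)
    by_cases hz : ∃ x ∈ T H, x z ≠ z
    · obtain ⟨x, hx, hxz⟩ := hz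
      have hf : ∀ w, f' (x w) = x (f' w) := fun w => Equiv.congr_fun (hcomm x hx _ f.2) w
      have hg : ∀ w, g' (x w) = x (g' w) := fun w => Equiv.congr_fun (hcomm x hx _ g.2) w
      exact comm_on_support hx.2 hxz hf hg
    · have hUz : ∀ w, (∀ x ∈ T H, x w = w) → w ∈ Uᶜ := fun w hw => Finset.mem_compl.mpr fun h => by
        obtain ⟨x, hx, hxw⟩ := hcov w h
        exact hxw (hw x hx)
      push Not at hz
      have hstab : ∀ (u : Fs) (w : α), (∀ x ∈ T H, x w = w) →
          ∀ x ∈ T H, x (((u : H) : Perm α) w) = ((u : H) : Perm α) w := fun u w hw x hx => by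
        have := Equiv.congr_fun (hcomm x hx _ u.2) w
        simp only [Perm.mul_apply, hw x hx] at this
        exact this.symm
      by_contra hne
      have m1 := hUz z hz
      have m2 := hUz _ (hstab f z hz)
      have m3 := hUz _ (hstab g z hz)
      have hfx : ∀ (u : Perm α) w, w ∈ Uᶜ → u z ≠ z → u w ∈ Uᶜ → z ∈ Uᶜ → u z ∈ Uᶜ →
          w ≠ z → u w = z := by
        intro u w hw hu huw hzU huz hwz
        by_contra hcon
        have h3 : ({z, w, u w} : Finset α) ⊆ Uᶜ := by
          intro y hy
          simp only [Finset.mem_insert, Finset.mem_singleton] at hy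
          rcases hy with rfl | rfl | rfl <;> assumption
        have hwe : u w = w := by
          by_contra hne'
          have := Finset.card_le_card h3
          rw [Finset.card_eq_three.mpr ⟨z, w, u w, hwz.symm, Ne.symm hcon, Ne.symm hne', rfl⟩] at this
          omega
        have huzw : u z = w := by
          by_contra hne'
          have h4 : ({z, w, u z} : Finset α) ⊆ Uᶜ := by
            intro y hy
            simp only [Finset.mem_insert, Finset.mem_singleton] at hy
            rcases hy with rfl | rfl | rfl <;> assumption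
          have := Finset.card_le_card h4
          rw [Finset.card_eq_three.mpr ⟨z, w, u z, hwz.symm, Ne.symm hu, Ne.symm hne', rfl⟩] at this
          omega
        exact hwz (u.injective (huzw.trans hwe.symm)).symm
      by_cases hf1 : f' z = z
      · by_cases hg1 : g' z = z
        · exact hne (by rw [hg1, hf1, hg1])
        · apply hne
          rw [hf1]
          have hz3 : ({z, g' z, f' (g' z)} : Finset α) ⊆ Uᶜ := by
            intro y hy
            simp only [Finset.mem_insert, Finset.mem_singleton] at hy
            rcases hy with rfl | rfl | rfl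
            exacts [m1, m3, hUz _ (hstab f _ (hstab g z hz))]
          by_contra hne'
          have := Finset.card_le_card hz3
          rw [Finset.card_eq_three.mpr ⟨z, g' z, f' (g' z), Ne.symm hg1,
            fun e => hg1 (f'.injective (e.symm.trans hf1.symm)), Ne.symm hne', rfl⟩] at this
          omega
      · by_cases hg1 : g' z = z
        · apply hne
          rw [hg1]
          by_contra hne'
          have hz3 : ({z, f' z, g' (f' z)} : Finset α) ⊆ Uᶜ := by
            intro y hy
            simp only [Finset.mem_insert, Finset.mem_singleton] at hy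
            rcases hy with rfl | rfl | rfl
            exacts [m1, m2, hUz _ (hstab g _ (hstab f z hz))]
          have := Finset.card_le_card hz3
          rw [Finset.card_eq_three.mpr ⟨z, f' z, g' (f' z), Ne.symm hf1,
            fun e => hf1 (g'.injective (e.symm.trans hg1.symm)), hne', rfl⟩] at this
          omega
        · apply hne
          rw [hfx f' (g' z) m3 hf1 (hUz _ (hstab f _ (hstab g z hz))) m1 m2 hg1,
            hfx g' (f' z) m2 hg1 (hUz _ (hstab g _ (hstab f z hz))) m1 m3 hf1]

end CfsgLib.LocalEvenB.ThreeClasses
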