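import Cfsg.Agent.Lib.LocalEvenB.ZJClosedStatements
import Cfsg.Agent.Lib.Fusion.SL2Sections

/-!
Control of strong fusion by `N (Z (J S))` when the normalizers of the subgroups containing `Z(S)` have no
section `Qd(p)`.
-/

set_option autoImplicit false
set_option linter.style.haveILetI false
set_option linter.unusedSectionVars false

namespace CfsgLib.LocalEvenB.ZJCentric

open CfsgLib.Fusion.ZJGeneral CfsgLib.KGroups.Functor CfsgLib.LocalEven.SylowIn CfsgLib.LocalEvenB.ZJClosed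
  CfsgLib.LocalEvenB.ZJControl

universe u

variable {G : Type u} [Group G] [Finite G] {m p : ℕ} [Fact p.Prime]

/-- The centre of the Sylow subgroup, inside `G`. -/
abbrev zS (S : Sylow p G) : Subgroup G :=
  (S : Subgroup G) ⊓ Subgroup.centralizer ((S : Subgroup G) : Set G)

theorem zS_le_inf_normalizer (S : Sylow p G) {V : Subgroup G} (hV : V ≤ (S : Subgroup G)) :
    zS S ≤ (S : Subgroup G) ⊓ Subgroup.normalizer (V : Set G) :=
  le_inf inf_le_left ((inf_le_right.trans (Subgroup.centralizer_le (SetLike.coe_subset_coe.mpr hV))).trans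
    (Subgroup.centralizer_le_normalizer _))

/-- Control from control in the normalizers of the subgroups containing the centre of `S`. -/
theorem ctrl_of_centric (S : Sylow p G) (hexp : ∀ u ∈ (S : Subgroup G), u ^ m = 1)
    (hloc : ∀ T : Subgroup G, T ≤ (S : Subgroup G) → zS S ≤ T → ∀ a : G, T ^ᶜ a ≤ (S : Subgroup G) →
      Extremal S (T ^ᶜ a) →
      CtrlIn m (Subgroup.normalizer ((T ^ᶜ a : Subgroup G) : Set G))
        ((S : Subgroup G) ⊓ Subgroup.normalizer ((T ^ᶜ a : Subgroup G) : Set G))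
        ((S : Subgroup G) ⊓ Subgroup.normalizer ((T ^ᶜ a : Subgroup G) : Set G))) :
    Ctrl m (S : Subgroup G) (S : Subgroup G) := by
  set M := Subgroup.normalizer (Z m (S : Subgroup G) : Set G) with hM
  have hSM : (S : Subgroup G) ≤ M := Subgroup.le_normalizer.trans (normalizer_le_normalizer_Z _)
  have hNM : Subgroup.normalizer ((S : Subgroup G) : Set G) ≤ M := normalizer_le_normalizer_Z _
  intro A g
  induction hk : Nat.card (S : Subgroup G) - Nat.card A using Nat.strong_induction_on generalizing A g with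
  | _ k ih =>
  subst hk
  intro hA hg
  rcases eq_or_ne A (S : Subgroup G) with rfl | hne
  · exact ⟨g, hNM (conjG_eq_iff.mp (Subgroup.eq_of_le_of_card_ge hg (card_conjG _ g).ge)), fun _ _ => rfl⟩
  have hbig : ∀ (B : Subgroup G) (z : G), Nat.card A < Nat.card B → B ≤ (S : Subgroup G) →
      B ^ᶜ z ≤ (S : Subgroup G) → ∃ x ∈ M, ∀ b ∈ B, x * b * x⁻¹ = z * b * z⁻¹ := by
    intro B z h1 h2 h3
    have := card_le_sylow S h2
    exact ih _ (by omega) B z rfl h2 h3
  have hstep : ∀ (P B : Subgroup G) (z : G), B ≤ P → P ≤ (S : Subgroup G) → zS S ≤ P →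
      Nat.card B = Nat.card A → Nat.card A < Nat.card P → z ∈ Subgroup.normalizer (Z m P : Set G) → B ^ᶜ z ≤ P →
      ∃ x ∈ M, ∀ b ∈ B, x * b * x⁻¹ = z * b * z⁻¹ := by
    intro P
    induction hk : Nat.card (S : Subgroup G) - Nat.card P using Nat.strong_induction_on generalizing P with
    | _ k ihP =>
    subst hk
    intro B z hBP hPS hZP hBA hAP hz hzB
    rcases eq_or_ne P (S : Subgroup G) with rfl | hPne
    · exact ⟨z, hz, fun _ _ => rfl⟩
    set V := Z m P with hV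
    have hVS : V ≤ (S : Subgroup G) := (Z_le P).trans hPS
    have hZV : zS S ≤ V := fun x hx => mem_Z_of_central (hZP hx)
      (Subgroup.centralizer_le (SetLike.coe_subset_coe.mpr hPS) hx.2) (hexp x hx.1)
    obtain ⟨a, haS, haE⟩ := exists_extremal S hVS
    obtain ⟨k, hk1, hk2⟩ := haE.exists_conjG S rfl
    have hPN : (S : Subgroup G) ⊓ Subgroup.normalizer (P : Set G) ≤
        (S : Subgroup G) ⊓ Subgroup.normalizer (V : Set G) :=
      le_inf inf_le_left (inf_le_right.trans (normalizer_le_normalizer_Z P))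
    have hlt := card_lt_inf_normalizer S hPS hPne
    set Q := (S : Subgroup G) ⊓ Subgroup.normalizer (V : Set G) with hQ
    have hPQ : P ≤ Q := (le_inf hPS Subgroup.le_normalizer).trans hPN
    have hQc := Subgroup.card_le_of_le hPN
    obtain ⟨x₀, hx₀, h₀⟩ := hbig Q k (by omega) inf_le_left (hk2.trans inf_le_left)
    set R := (S : Subgroup G) ⊓ Subgroup.normalizer ((V ^ᶜ a : Subgroup G) : Set G) with hR
    have hz' : k * z * k⁻¹ ∈ Subgroup.normalizer ((V ^ᶜ a : Subgroup G) : Set G) := by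
      rw [← hk1, normalizer_map_conj]; exact conjG_mem hz
    have hB' : B ^ᶜ k ≤ R := (Subgroup.map_mono (hBP.trans hPQ)).trans hk2
    have hB'' : (B ^ᶜ k) ^ᶜ (k * z * k⁻¹) ≤ R := by
      rw [conjG_conjG, inv_mul_cancel_right, ← conjG_conjG]
      exact (Subgroup.map_mono (hzB.trans hPQ)).trans hk2
    obtain ⟨y, hy, hyag⟩ := hloc V hVS hZV a haS haE (B ^ᶜ k) (k * z * k⁻¹) hz' hB' hB''
    have hQ' : Nat.card Q ≤ Nat.card R := by rw [← card_conjG Q k]; exact Subgroup.card_le_of_le hk2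
    have hle : Nat.card R ≤ Nat.card (S : Subgroup G) := card_le_sylow S inf_le_left
    obtain ⟨x₁, hx₁, h₁⟩ := ihP _ (by omega) R rfl (B ^ᶜ k) y hB' inf_le_left (zS_le_inf_normalizer S haS)
      (by rw [card_conjG, hBA]) (by omega) hy.2
      (by rw [conjG_congr hyag]; exact hB'')
    refine ⟨x₀⁻¹ * x₁ * x₀, mul_mem (mul_mem (inv_mem hx₀) hx₁) hx₀, fun b hb => ?_⟩
    have hzb : z * b * z⁻¹ ∈ Q := hPQ (hzB (conjG_mem hb))
    calc x₀⁻¹ * x₁ * x₀ * b * (x₀⁻¹ * x₁ * x₀)⁻¹ = x₀⁻¹ * (x₁ * (x₀ * b * x₀⁻¹) * x₁⁻¹) * x₀ := by group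
      _ = x₀⁻¹ * (k * z * k⁻¹ * (k * b * k⁻¹) * (k * z * k⁻¹)⁻¹) * x₀ := by
          rw [h₀ b (hPQ (hBP hb)), h₁ _ (conjG_mem hb), hyag _ (conjG_mem hb)]
      _ = x₀⁻¹ * (k * (z * b * z⁻¹) * k⁻¹) * x₀ := by group
      _ = _ := by rw [← h₀ _ hzb]; group
  obtain ⟨a, haS, haE⟩ := exists_extremal S hA
  have hV' : (A ^ᶜ g) ^ᶜ (a * g⁻¹) = A ^ᶜ a := by rw [conjG_conjG, inv_mul_cancel_right]
  obtain ⟨k, hk1, hk2⟩ := haE.exists_conjG S (rfl : A ^ᶜ a = _)
  obtain ⟨w, hw1, hw2⟩ := haE.exists_conjG S hV'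
  have hgne : A ^ᶜ g ≠ (S : Subgroup G) := fun e => hne <|
    Subgroup.eq_of_le_of_card_ge hA (by rw [← card_conjG A g, e])
  have hlt := card_lt_inf_normalizer S hA hne
  have hlt' := card_lt_inf_normalizer S hg hgne
  rw [card_conjG A g] at hlt'
  obtain ⟨y₁, hy₁, h₁⟩ := hbig _ k hlt inf_le_left (hk2.trans inf_le_left)
  obtain ⟨y₃, hy₃, h₃⟩ := hbig _ w hlt' inf_le_left (hw2.trans inf_le_left)
  set U := A ^ᶜ a with hU
  set x := w * g * k⁻¹ with hxdef
  have hx : x ∈ Subgroup.normalizer (U : Set G) := by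
    rw [← conjG_eq_iff]
    conv_lhs => rw [← hk1]
    rw [conjG_conjG, inv_mul_cancel_right, ← conjG_conjG, hw1]
  suffices hmid : ∃ y₂ ∈ M, ∀ b ∈ U, y₂ * b * y₂⁻¹ = x * b * x⁻¹ by
    obtain ⟨y₂, hy₂, h₂⟩ := hmid
    refine ⟨y₃⁻¹ * y₂ * y₁, mul_mem (mul_mem (inv_mem hy₃) hy₂) hy₁, fun b hb => ?_⟩
    have hgb : g * b * g⁻¹ ∈ (S : Subgroup G) ⊓ Subgroup.normalizer ((A ^ᶜ g : Subgroup G) : Set G) :=
      ⟨hg (conjG_mem hb), Subgroup.le_normalizer (conjG_mem hb)⟩
    calc y₃⁻¹ * y₂ * y₁ * b * (y₃⁻¹ * y₂ * y₁)⁻¹ = y₃⁻¹ * (y₂ * (y₁ * b * y₁⁻¹) * y₂⁻¹) * y₃ := by group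
      _ = y₃⁻¹ * (x * (k * b * k⁻¹) * x⁻¹) * y₃ := by
          rw [h₁ b ⟨hA hb, Subgroup.le_normalizer hb⟩, h₂ _ (hk1 ▸ conjG_mem hb)]
      _ = y₃⁻¹ * (w * (g * b * g⁻¹) * w⁻¹) * y₃ := by rw [hxdef]; group
      _ = _ := by rw [← h₃ _ hgb]; group
  -- replace `x` by an element normalising `U C_S(U)`
  set N := Subgroup.normalizer (U : Set G) with hN
  set C := Subgroup.centralizer (U : Set G) with hC
  set R := (S : Subgroup G) ⊓ N with hR
  haveI : (C.subgroupOf N).Normal :=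
    Subgroup.normal_subgroupOf_iff_le_normalizer (Subgroup.centralizer_le_normalizer _) |>.mpr fun n hn => by
      refine Subgroup.mem_normalizer_iff_map_conj_eq.mpr (Subgroup.eq_of_le_of_card_ge ?_
        (Subgroup.card_map_of_injective (MulAut.conj n).injective).ge)
      rintro _ ⟨c, hc, rfl⟩
      refine Subgroup.mem_centralizer_iff.mpr fun u hu => ?_
      have h1 := Subgroup.mem_centralizer_iff.mp hc _ ((Subgroup.mem_normalizer_iff''.mp hn u).mp hu)
      show u * (n * c * n⁻¹) = n * c * n⁻¹ * u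
      calc u * (n * c * n⁻¹) = n * ((n⁻¹ * u * n) * c) * n⁻¹ := by group
        _ = n * (c * (n⁻¹ * u * n)) * n⁻¹ := by rw [h1]
        _ = _ := by group
  have hSylC : IsSylowIn p ((S : Subgroup G) ⊓ C) C := by
    refine isSylowIn_of_not_dvd inf_le_right (isPGroup_sylow_inf S C) ?_
    have h1 := Fusion.Basic.not_dvd_relIndex_of_normal haE.isSylowIn.toSylow (C.subgroupOf N)
    have e : (haE.isSylowIn.toSylow : Subgroup N) ⊓ C.subgroupOf N = ((S : Subgroup G) ⊓ C).subgroupOf N := by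
      ext z
      simp only [Subgroup.mem_inf, Subgroup.mem_subgroupOf]
      exact ⟨fun h => ⟨(Subgroup.mem_inf.mp h.1).1, h.2⟩, fun h => ⟨⟨h.1, z.2⟩, h.2⟩⟩
    rwa [e, Subgroup.relIndex_subgroupOf (Subgroup.centralizer_le_normalizer _)] at h1
  obtain ⟨c, hc, n, hn, hcn⟩ := frattini_argument hSylC (H := N) (g := x)
    (Subgroup.normal_subgroupOf_iff_le_normalizer (Subgroup.centralizer_le_normalizer _) |>.mp inferInstance)
    (Subgroup.centralizer_le_normalizer _) hx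
  have hnx : ∀ b ∈ U, n * b * n⁻¹ = x * b * x⁻¹ := fun b hb => by
    have h1 : c * (n * b * n⁻¹) = n * b * n⁻¹ * c :=
      (Subgroup.mem_centralizer_iff.mp hc _ ((Subgroup.mem_normalizer_iff.mp hn.1 b).mp hb)).symm
    calc n * b * n⁻¹ = c * (n * b * n⁻¹) * c⁻¹ := by rw [h1]; group
      _ = _ := by rw [hcn]; group
  suffices hmid : ∃ y₂ ∈ M, ∀ b ∈ U, y₂ * b * y₂⁻¹ = n * b * n⁻¹ by
    obtain ⟨y₂, hy₂, h₂⟩ := hmid
    exact ⟨y₂, hy₂, fun b hb => (h₂ b hb).trans (hnx b hb)⟩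
  have hcardU : Nat.card U = Nat.card A := card_conjG A a
  set U' := U ⊔ ((S : Subgroup G) ⊓ C) with hU'
  have hU'S : U' ≤ (S : Subgroup G) := sup_le haS inf_le_left
  have hU'n : U' ^ᶜ n = U' := by
    rw [hU', Subgroup.map_sup, conjG_eq_iff.mpr hn.1, conjG_eq_iff.mpr hn.2]
  rcases (le_sup_left : U ≤ U').eq_or_lt with heq | hlt''
  swap
  · obtain ⟨y, hy, hag⟩ := hbig U' n (hcardU ▸ Set.ncard_lt_ncard (SetLike.coe_ssubset_coe.mpr hlt''))
      hU'S (hU'n.le.trans hU'S)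
    exact ⟨y, hy, fun b hb => hag b (Subgroup.mem_sup_left hb)⟩
  have hZU : zS S ≤ U := by
    refine le_trans ?_ heq.ge
    exact le_trans (le_inf inf_le_left (inf_le_right.trans (Subgroup.centralizer_le (SetLike.coe_subset_coe.mpr haS))))
      le_sup_right
  have hUR : U ≤ R := le_inf haS Subgroup.le_normalizer
  obtain ⟨y, hy, hyag⟩ := hloc U haS hZU 1 (by rwa [conjG_one]) (by rwa [conjG_one])
    U n (by rw [conjG_one]; exact hn.1) (by rw [conjG_one]; exact hUR)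
    (by rw [conjG_one, conjG_eq_iff.mpr hn.1]; exact hUR)
  rw [conjG_one] at hy
  have hUne : U ≠ (S : Subgroup G) := fun e => hne <|
    Subgroup.eq_of_le_of_card_ge hA (by rw [← hcardU, e])
  obtain ⟨x₁, hx₁, h⟩ := hstep R U y hUR inf_le_left (zS_le_inf_normalizer S haS) hcardU
    (hcardU ▸ card_lt_inf_normalizer S haS hUne) hy.2
    (by rw [conjG_congr hyag, conjG_eq_iff.mpr hn.1]; exact hUR)
  exact ⟨x₁, hx₁, fun b hb => (h b hb).trans (hyag b hb)⟩

/-- Control when these normalizers have no section `Qd(p)`. -/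
theorem ctrl_of_qdFree_centric (hp : p ≠ 2) (hm : Odd m) (hpm : p ∣ m) (S : Sylow p G)
    (hexp : ∀ u ∈ (S : Subgroup G), u ^ m = 1)
    (hfree : ∀ T : Subgroup G, T ≤ (S : Subgroup G) → zS S ≤ T →
      ¬ CfsgLib.Fusion.QdSections.HasQdSection p (Subgroup.normalizer (T : Set G))) :
    Ctrl m (S : Subgroup G) (S : Subgroup G) := by
  refine ctrl_of_centric S hexp fun T hT hZT a haS haE => ?_
  set N := Subgroup.normalizer ((T ^ᶜ a : Subgroup G) : Set G) with hN
  have hP := haE.isSylowIn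
  have hcl : Cfsg.IsStronglyClosed (hP.toSylow : Subgroup N) (hP.toSylow : Subgroup N) := ⟨le_rfl, fun _ _ _ h => h⟩
  have hctl := ZJClosedStatements.ctrl_of_qdFree hp hm hpm (fun h => hfree T hT hZT ?_) hP.toSylow hcl
  · have h1 := ctrlIn_of_subgroup (D := (S : Subgroup G) ⊓ N) hP hctl
    rwa [inf_eq_left.mpr inf_le_right] at h1
  · have he : N = (Subgroup.normalizer (T : Set G)).map (MulAut.conj a).toMonoidHom := normalizer_map_conj T a
    let e := ((Subgroup.normalizer (T : Set G)).equivMapOfInjective (MulAut.conj a).toMonoidHom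
      (MulAut.conj a).injective).trans (MulEquiv.subgroupCongr he.symm)
    exact (CfsgLib.Fusion.QdSections.hasQdSection_iff.mpr h).of_surjective e.toMonoidHom e.surjective

end CfsgLib.LocalEvenB.ZJCentric
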