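import Cfsg.Agent.Lib.Fusion.ZJConstrained
import Cfsg.Prelude.Def_PLocal

/-!
Glauberman's `ZJ` theorem for a strongly closed subgroup `D` of a Sylow subgroup.
-/

set_option autoImplicit false
set_option linter.style.haveILetI false
set_option linter.unusedSectionVars false

open scoped commutatorElement

namespace CfsgLib.LocalEvenB.ZJClosed

open CfsgLib.Fusion CfsgLib.Fusion.ZJGeneral

variable {G : Type*} [Group G] [Finite G] {m p : ℕ} [Fact p.Prime]

/-- A strongly closed subgroup is normalised by the Sylow subgroup. -/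
theorem le_normalizer_of_closed {D P : Subgroup G} (hD : Cfsg.IsStronglyClosed D P) :
    P ≤ Subgroup.normalizer (D : Set G) := fun g hg =>
  Subgroup.mem_normalizer_iff.mpr fun x => ⟨fun hx => hD.2 x hx g (mul_mem (mul_mem hg (hD.1 hx)) (inv_mem hg)),
    fun hx => by
      have h := hD.2 _ hx g⁻¹ (mul_mem (mul_mem (inv_mem hg) (hD.1 hx)) (inv_mem (inv_mem hg)))
      simpa [mul_assoc] using h⟩

/-- `B ∩ Z m D` is normal for every normal `p`-subgroup `B`, when `D` is strongly closed. -/
theorem inter_normal (hp : p ≠ 2) (hm : Odd m) (hst : ∀ (P : Subgroup G) [P.Normal], IsPGroup p P → Cfsg.IsPStableOn p P)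
    (S : Sylow p G) {D : Subgroup G} (hD : Cfsg.IsStronglyClosed D (S : Subgroup G)) (B : Subgroup G) (hBn : B.Normal) (hB : IsPGroup p B) :
    (B ⊓ Z m D).Normal := by
  induction hk : Nat.card B using Nat.strong_induction_on generalizing B with
  | _ k ih =>
  subst hk
  set Zs := Z m D with hZdef
  set X := B ⊓ Zs with hX
  haveI := hBn
  rcases eq_or_ne B ⊥ with hbot | hbot
  · rw [hX, hbot, bot_inf_eq]; infer_instance
  rcases (Subgroup.normalClosure_le_normal (N := B) (s := (X : Set G))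
      fun x hx => hx.1).lt_or_eq with hlt | hgen
  · have h := ih _ (Set.ncard_lt_ncard (SetLike.coe_ssubset_coe.mpr hlt)) _
      inferInstance (hB.to_le hlt.le) rfl
    have e : Subgroup.normalClosure (X : Set G) ⊓ Zs = X := le_antisymm (inf_le_inf_right _ hlt.le)
      (le_inf Subgroup.le_normalClosure inf_le_right)
    rwa [e] at h
  have hBS : B ≤ (S : Subgroup G) := hB.le_sylow_of_normal S
  have hSZ : (S : Subgroup G) ≤ Subgroup.normalizer (Zs : Set G) :=
    (le_normalizer_of_closed hD).trans (normalizer_le_normalizer_Z _)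
  have hBD : B ≤ D := by
    refine hgen.ge.trans ?_
    rw [Subgroup.normalClosure, Subgroup.closure_le]
    intro c hc
    obtain ⟨z, hz, hconj⟩ := Group.mem_conjugatesOfSet_iff.mp hc
    obtain ⟨g, rfl⟩ := isConj_iff.mp hconj
    exact hD.2 z (Z_le D (Subgroup.mem_inf.mp hz).2) g (hBS (hBn.conj_mem z (Subgroup.mem_inf.mp hz).1 g))
  have hSX : (S : Subgroup G) ≤ Subgroup.normalizer (X : Set G) := by
    refine le_trans ?_ (Subgroup.inf_normalizer_le_normalizer_inf (H := B) (K := Zs))
    exact le_inf (by rw [Subgroup.normalizer_eq_top]; exact le_top) hSZ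
  set K := ⁅B, B⁆ with hK
  have hKlt : K < B := by
    haveI : Group.IsSolvable B := by haveI := hB.isNilpotent; infer_instance
    haveI : Nontrivial B := (Subgroup.nontrivial_iff_ne_bot B).mpr hbot
    have h1 := Group.IsSolvable.commutator_lt_top_of_nontrivial B
    rw [hK, ← Subgroup.map_subtype_commutator B]
    conv_rhs => rw [← Subgroup.range_subtype B, MonoidHom.range_eq_map]
    exact (Subgroup.map_lt_map_iff_of_injective B.subtype_injective).mpr h1
  haveI hNn : (K ⊓ Zs).Normal :=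
    ih _ (Set.ncard_lt_ncard (SetLike.coe_ssubset_coe.mpr hKlt)) K inferInstance (hB.to_le hKlt.le) rfl
  have hBN : ⁅B, B⁆ ≤ Zs := by
    set q := QuotientGroup.mk' (K ⊓ Zs) with hq
    set R := Subgroup.centralizer ((B.map q : Subgroup _) : Set (G ⧸ (K ⊓ Zs))) with hR
    haveI hBq : (B.map q).Normal := hBn.map q (QuotientGroup.mk'_surjective _)
    haveI hRn : R.Normal := inferInstance
    haveI : (R.comap q).Normal := hRn.comap q
    have hXR : (X : Set G) ⊆ (R.comap q : Subgroup G) := by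
      intro x hx
      rw [SetLike.mem_coe, Subgroup.mem_comap, hR, Subgroup.mem_centralizer_iff]
      rintro _ ⟨b, hb, rfl⟩
      have h1 : ⁅b, x⁆ ∈ K ⊓ Zs := by
        refine ⟨Subgroup.commutator_mem_commutator hb hx.1, ?_⟩
        exact Subgroup.le_normalizer_iff_commutator_le_right.mp (hBS.trans hSZ)
          (Subgroup.commutator_mem_commutator hb hx.2)
      have h2 : q ⁅b, x⁆ = 1 := (QuotientGroup.eq_one_iff _).mpr h1
      rw [map_commutatorElement] at h2
      exact commutatorElement_eq_one_iff_mul_comm.mp h2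
    have hBR : B ≤ R.comap q := hgen.ge.trans (Subgroup.normalClosure_le_normal hXR)
    rw [Subgroup.commutator_le]
    intro u hu v hv
    refine (Subgroup.mem_inf.mp ((QuotientGroup.eq_one_iff (N := K ⊓ Zs) ⁅u, v⁆).mp ?_)).2
    show q ⁅u, v⁆ = 1
    rw [map_commutatorElement]
    exact commutatorElement_eq_one_iff_mul_comm.mpr
      (Subgroup.mem_centralizer_iff.mp (hBR hv) _ ⟨u, hu, rfl⟩)
  set L := (Subgroup.normalizer (X : Set G)).normalCore with hL
  haveI hLn : L.Normal := Subgroup.normalCore_normal _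
  have hLX : L ≤ Subgroup.normalizer (X : Set G) := Subgroup.normalCore_le _
  obtain ⟨Q, hQ⟩ := CfsgLib.OddOrder.Puig.exists_sylow_inf L S
  have hFr := Sylow.normalizer_sup_eq_top (N := L) Q
  rw [hQ] at hFr
  set U := D ⊓ L with hU
  have hNU : Subgroup.normalizer (((S : Subgroup G) ⊓ L : Subgroup G) : Set G) ≤ Subgroup.normalizer (U : Set G) := by
    intro n hn
    refine Subgroup.mem_normalizer_iff_map_conj_eq.mpr (Subgroup.eq_of_le_of_card_ge ?_
      (Subgroup.card_map_of_injective (MulAut.conj n).injective).ge)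
    rintro _ ⟨x, hx, rfl⟩
    have h1 := Subgroup.mem_inf.mp ((Subgroup.mem_normalizer_iff.mp hn x).mp ⟨hD.1 (Subgroup.mem_inf.mp hx).1, (Subgroup.mem_inf.mp hx).2⟩)
    exact ⟨hD.2 x (Subgroup.mem_inf.mp hx).1 n h1.1, h1.2⟩
  replace hFr : Subgroup.normalizer (U : Set G) ⊔ L = ⊤ :=
    eq_top_iff.mpr (hFr.ge.trans (sup_le_sup_right hNU _))
  by_cases hall : ∀ A, IsMaxA m D A → A ≤ L
  · refine Subgroup.normalizer_eq_top_iff.mp (eq_top_iff.mpr (hFr.ge.trans (sup_le ?_ hLX)))
    have hJU : J m D ≤ U := sSup_le fun A hA => le_inf hA.1 (hall A hA)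
    have h1 : Subgroup.normalizer (U : Set G) ≤ Subgroup.normalizer (Zs : Set G) :=
      (normalizer_le_normalizer_Z (m := m) U).trans (le_of_eq (by rw [Z_eq_of_le inf_le_left hJU]))
    refine le_trans ?_ (Subgroup.inf_normalizer_le_normalizer_inf (H := B) (K := Zs))
    exact le_inf (le_top.trans (le_of_eq (Subgroup.normalizer_eq_top (H := B)).symm)) h1
  · exfalso
    push Not at hall
    obtain ⟨A, ⟨hA, hAL⟩, hAmax⟩ := Set.exists_max_image
      {A : Subgroup G | IsMaxA m D A ∧ ¬ A ≤ L}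
      (fun A => Nat.card (A ⊓ B : Subgroup G)) (Set.toFinite _) hall
    haveI := hA.2.1.1
    by_cases hBA : B ≤ Subgroup.normalizer (A : Set G)
    · exact hAL (le_normalCore B (hst B hB) X inf_le_left S hSX A hBA)
    obtain ⟨x, hx⟩ := Replacement.exists_setup (S.isPGroup'.to_le (sup_le hBS (hA.1.trans hD.1)))
      (fun h => absurd h hp) hA.2.1.1 (hBN.trans (Z_le_max hA)) hBA
    have hA' : IsMaxA m D (Replacement.star A x) :=
      ⟨hx.star_le_sup.trans (sup_le hBD hA.1), ⟨hx.star_comm, hx.star_pow hm hA.2.1.2⟩,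
        fun C hC hC' => (hA.2.2 C hC hC').trans hx.card_star.ge⟩
    have hA'L : Replacement.star A x ≤ L := by
      by_contra h
      exact absurd (hAmax _ ⟨hA', h⟩) (not_le.mpr (Set.ncard_lt_ncard (SetLike.coe_ssubset_coe.mpr hx.inf_lt)))
    have hA'U : Replacement.star A x ≤ U := le_inf hA'.1 hA'L
    have hYJ : J m U ≤ J m D := sSup_le fun C hC => le_J
      ⟨hC.1.trans inf_le_left, hC.2.1, fun D hD hD' => (hA'.2.2 D hD hD').trans (hC.2.2 _ hA'U hA'.2.1)⟩
    have hA'Y : Replacement.star A x ≤ J m U := le_J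
      ⟨hA'U, hA'.2.1, fun C hC hC' => hA'.2.2 C (hC.trans inf_le_left) hC'⟩
    refine hBA (hgen.ge.trans ?_)
    rw [Subgroup.normalClosure, Subgroup.closure_le]
    intro c hc
    obtain ⟨z, hz, hconj⟩ := Group.mem_conjugatesOfSet_iff.mp hc
    obtain ⟨g, rfl⟩ := isConj_iff.mp hconj
    have hcB : g * z * g⁻¹ ∈ B := hBn.conj_mem z (Subgroup.mem_inf.mp hz).1 g
    refine hx.star_le_normalizer (mem_of_commute hA' (hBD hcB)
      (by rw [conj_pow, (Subgroup.mem_inf.mp hz).2.2.2]; simp) fun a ha => ?_)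
    have hg : g ∈ ((Subgroup.normalizer (U : Set G) ⊔ L : Subgroup G) : Set G) := by
      rw [hFr]; exact Subgroup.mem_top g
    rw [Subgroup.mul_normal] at hg
    obtain ⟨n, hn, l, hl, rfl⟩ := Set.mem_mul.mp hg
    have h1 : l * z * l⁻¹ ∈ X := (Subgroup.mem_normalizer_iff.mp (hLX hl) z).mp hz
    have hnY : n ∈ Subgroup.normalizer (J m U : Set G) := by
      have hn' : n ∈ Subgroup.normalizer (U : Set G) := hn
      rw [Subgroup.mem_normalizer_iff_map_conj_eq] at hn' ⊢
      exact (J_map (MulAut.conj n) U).symm.trans (congrArg (J m) hn')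
    have hy' : n⁻¹ * a * n ∈ J m D :=
      hYJ ((Subgroup.mem_normalizer_iff''.mp hnY a).mp (hA'Y ha))
    calc a * (n * l * z * (n * l)⁻¹) = n * ((n⁻¹ * a * n) * (l * z * l⁻¹)) * n⁻¹ := by group
      _ = n * ((l * z * l⁻¹) * (n⁻¹ * a * n)) * n⁻¹ := by
            rw [Subgroup.mem_centralizer_iff.mp (Subgroup.mem_inf.mp h1).2.2.1 _ hy']
      _ = _ := by group

/-- `Z m D` is normal. -/
theorem Z_normal (hp : p ≠ 2) (hm : Odd m)
    (hc : Subgroup.centralizer (Cfsg.pCore p G : Set G) ≤ Cfsg.pCore p G)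
    (hst : ∀ (P : Subgroup G) [P.Normal], IsPGroup p P → Cfsg.IsPStableOn p P) (S : Sylow p G) {D : Subgroup G}
    (hD : Cfsg.IsStronglyClosed D (S : Subgroup G)) : (Z m D).Normal := by
  have hOp : IsPGroup p (Cfsg.pCore p G) := Solvable.Cores.isPGroup_pCore p
  haveI : IsMulCommutative (Z m D) := IsMulCommutative.of_comm fun a b =>
    Subtype.ext (Subgroup.mem_centralizer_iff.mp b.2.2.1 a a.2.1)
  have hSZ : (S : Subgroup G) ≤ Subgroup.normalizer (Z m D : Set G) :=
    (le_normalizer_of_closed hD).trans (normalizer_le_normalizer_Z _)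
  have hle : Z m D ≤ Cfsg.pCore p G := by
    set C := Subgroup.centralizer (Cfsg.pCore p G : Set G) with hC
    set E := (Cfsg.pCore p (G ⧸ C)).comap (QuotientGroup.mk' C) with hE
    haveI hEn : E.Normal := (inferInstance : (Cfsg.pCore p (G ⧸ C)).Normal).comap _
    have hEp : IsPGroup p E := (Solvable.Cores.isPGroup_pCore p).comap_of_ker_isPGroup _
      (by rw [QuotientGroup.ker_mk']; exact hOp.to_le hc)
    refine le_trans (fun a ha => ?_) (Solvable.Cores.le_pCore hEp)
    exact hst (Cfsg.pCore p G) hOp a (quadratic_mono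
      (CfsgLib.OddOrder.PStable.commutator_commutator_of_abelian ((hOp.le_sylow_of_normal S).trans hSZ)) ha)
  have := inter_normal hp hm hst S hD (Cfsg.pCore p G) inferInstance hOp
  rwa [inf_eq_right.mpr hle] at this

/-- An element of order dividing `m` in the centre of `D` lies in `Z m D`. -/
theorem mem_Z_of_central {D : Subgroup G} {x : G} (hx : x ∈ D) (hxc : x ∈ Subgroup.centralizer (D : Set G))
    (hxm : x ^ m = 1) : x ∈ Z m D := by
  obtain ⟨A, hA⟩ := exists_isMaxA (m := m) D
  refine ⟨le_J hA (mem_of_commute hA hx hxm fun a ha => Subgroup.mem_centralizer_iff.mp hxc a (hA.1 ha)), ?_, hxm⟩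
  exact Subgroup.centralizer_le (SetLike.coe_subset_coe.mpr (J_le D)) hxc

theorem Z_ne_bot (hpm : p ∣ m) {D : Subgroup G} (hDp : IsPGroup p D) (hne : D ≠ ⊥) : Z m D ≠ ⊥ := by
  haveI : Nontrivial D := (Subgroup.nontrivial_iff_ne_bot D).mpr hne
  haveI := hDp.center_nontrivial
  obtain ⟨k, hk, hcard⟩ := (hDp.to_subgroup (Subgroup.center D)).nontrivial_iff_card.mp inferInstance
  obtain ⟨z, hz⟩ := exists_prime_orderOf_dvd_card' (G := Subgroup.center D) p
    (by rw [hcard]; exact dvd_pow_self p hk.ne')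
  set x : G := ((z : D) : G) with hx
  have hxp : orderOf x = p := by rw [hx, Subgroup.orderOf_coe, Subgroup.orderOf_coe]; exact hz
  intro h
  have hmem : x ∈ Z m D := mem_Z_of_central (z : D).2
    (Subgroup.mem_centralizer_iff.mpr fun d hd =>
      congrArg Subtype.val (Subgroup.mem_center_iff.mp z.2 ⟨d, hd⟩))
    (orderOf_dvd_iff_pow_eq_one.mp (hxp ▸ hpm))
  rw [h, Subgroup.mem_bot] at hmem
  rw [hmem, orderOf_one] at hxp
  exact (Fact.out : p.Prime).ne_one hxp.symm

end CfsgLib.LocalEvenB.ZJClosed
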