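import Cfsg.Agent.Lib.LocalEvenB.ZJClosedStatements
import Cfsg.Agent.Lib.KGroups.Functor.Complement
import Cfsg.Agent.Lib.KGroups.Functor.AbelianResidual

/-!
The normal p-complement criterion for a strongly closed subgroup.
-/

set_option autoImplicit false
set_option linter.style.haveILetI false
set_option linter.unusedSectionVars false

namespace CfsgLib.LocalEvenB.ZJComplement

open CfsgLib.Fusion.ZJGeneral CfsgLib.KGroups.Functor CfsgLib.LocalEven.SylowIn CfsgLib.LocalEvenB.ZJClosed
  CfsgLib.LocalEvenB.ZJControl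

universe u

variable {G : Type u} [Group G] [Finite G] {m p : ℕ} [Fact p.Prime]

theorem npc_conjugate {V : Subgroup G} (g : G)
    (h : Cfsg.HasNormalPComplement p (Subgroup.normalizer ((V ^ᶜ g : Subgroup G) : Set G))) :
    Cfsg.HasNormalPComplement p (Subgroup.normalizer (V : Set G)) := by
  rw [normalizer_map_conj] at h
  exact Fusion.Basic.npc_of_injective
    ((Subgroup.equivMapOfInjective _ (MulAut.conj g).toMonoidHom (MulAut.conj g).injective).toMonoidHom)
    (MulEquiv.injective _) h

/-- The complement criterion. -/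
theorem npc_closed (hp : p ≠ 2) (hm : Odd m) (hpm : p ∣ m) :
    ∀ (n : ℕ) (X : Type u) [Group X] [Finite X], Nat.card X = n → ∀ (S : Sylow p X) (D : Subgroup X),
      Cfsg.IsStronglyClosed D (S : Subgroup X) →
      Cfsg.HasNormalPComplement p (Subgroup.normalizer (Z m D : Set X)) →
      Cfsg.HasNormalPComplement p X := by
  intro n
  induction n using Nat.strong_induction_on with
  | _ n ih =>
  intro X _ _ hn S D hD hN
  subst hn
  by_contra hbad
  have hZn : ¬ (Z m D).Normal := fun h => hbad (Fusion.Basic.npc_of_injective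
    ((MonoidHom.id X).codRestrict (Subgroup.normalizer (Z m D : Set X)) fun x => by
      rw [Subgroup.normalizer_eq_top]; trivial) (fun a b e => congrArg Subtype.val e) hN)
  have hDn : ¬ D.Normal := fun h => hZn (Subgroup.normalizer_eq_top_iff.mp (eq_top_iff.mpr
    (le_trans (by rw [Subgroup.normalizer_eq_top]) (normalizer_le_normalizer_Z D))))
  have hD0 : D ≠ ⊥ := fun e => hDn (e ▸ inferInstance)
  have hSZ : (S : Subgroup X) ≤ Subgroup.normalizer (Z m D : Set X) :=
    (le_normalizer_of_closed hD).trans (normalizer_le_normalizer_Z D)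
  have hsub : ∀ (L P' : Subgroup X), L ≠ ⊤ → ∀ hP' : IsSylowIn p P' L, P' = (S : Subgroup X) ⊓ L →
      Cfsg.HasNormalPComplement p (Subgroup.normalizer (Z m (D ⊓ L) : Set X) ⊓ L : Subgroup X) →
      Cfsg.HasNormalPComplement p L := by
    intro L P' hL hP' hPS hnpc
    refine ih _ (lt_of_le_of_ne (Subgroup.card_le_card_group L) fun e => hL (Subgroup.eq_top_of_card_eq L e))
      L rfl hP'.toSylow (D.subgroupOf L) (closed_subgroupOf hP' hPS hD) ?_
    have hmap : (Subgroup.normalizer (Z m (D.subgroupOf L) : Set L)).map L.subtype ≤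
        Subgroup.normalizer (Z m (D ⊓ L) : Set X) ⊓ L := by
      refine le_inf ((Subgroup.le_normalizer_map L.subtype).trans (le_of_eq ?_)) (Subgroup.map_subtype_le _)
      rw [← CfsgLib.Fusion.ZJConstrained.Z_map_inj L.subtype L.subtype_injective, Subgroup.subgroupOf_map_subtype]
    exact Fusion.Basic.npc_of_injective
      ((Subgroup.inclusion hmap).comp (Subgroup.equivMapOfInjective _ L.subtype L.subtype_injective).toMonoidHom)
      ((Subgroup.inclusion_injective hmap).comp (MulEquiv.injective _)) hnpc
  have hover : ∀ L : Subgroup X, (S : Subgroup X) ≤ L → L ≠ ⊤ → Cfsg.HasNormalPComplement p L := fun L hSL hL =>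
    hsub L _ hL (isSylowIn_of_le S hSL) (inf_eq_left.mpr hSL).symm
      (by rw [inf_eq_left.mpr (hD.1.trans hSL)]; exact Fusion.Basic.npc_of_le inf_le_left hN)
  -- some nontrivial p-subgroup is normal
  have hTbot : Cfsg.pCore p X ≠ ⊥ := by
    intro hT
    apply hbad
    rw [Fusion.Alperin.npc_iff_locals]
    suffices h : ∀ (d : ℕ) (U : Subgroup X), U ≤ (S : Subgroup X) → U ≠ ⊥ → Extremal S U →
        Nat.card X - Nat.card ↥((S : Subgroup X) ⊓ Subgroup.normalizer (U : Set X)) = d →
        Cfsg.HasNormalPComplement p (Subgroup.normalizer (U : Set X)) by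
      intro U hU hne
      obtain ⟨g, hg⟩ := exists_conjG_le S hU
      obtain ⟨a, haS, haE⟩ := exists_extremal S hg
      refine npc_conjugate g (npc_conjugate a (h _ _ haS ?_ haE rfl))
      rwa [Ne, Subgroup.map_eq_bot_iff_of_injective _ (MulAut.conj a).injective,
        Subgroup.map_eq_bot_iff_of_injective _ (MulAut.conj g).injective]
    intro d
    induction d using Nat.strong_induction_on with
    | _ d ihd =>
    intro U hUS hne hE hd
    subst hd
    set L := Subgroup.normalizer (U : Set X) with hLdef
    have hL : L ≠ ⊤ := fun htop => hne (by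
      have : U.Normal := Subgroup.normalizer_eq_top_iff.mp htop
      exact le_bot_iff.mp (hT ▸ Solvable.Cores.le_pCore (isPGroup_of_le S hUS)))
    refine hsub L _ hL hE.isSylowIn rfl ?_
    set P' := (S : Subgroup X) ⊓ L with hP'
    rcases eq_or_ne P' (S : Subgroup X) with heq | hlt
    · have hSL : (S : Subgroup X) ≤ L := inf_eq_left.mp heq
      rw [inf_eq_left.mpr (hD.1.trans hSL)]
      exact Fusion.Basic.npc_of_le inf_le_left hN
    · refine Fusion.Basic.npc_of_le inf_le_left ?_
      have hZN : (S : Subgroup X) ⊓ Subgroup.centralizer ((S : Subgroup X) : Set X) ≤ L :=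
        (inf_le_right.trans (Subgroup.centralizer_le (SetLike.coe_subset_coe.mpr hUS))).trans
          (Subgroup.centralizer_le_normalizer _)
      set V := Z m (D ⊓ L) with hV
      have hDL : D ⊓ L ≠ ⊥ := inf_ne_bot S hD hD0 hZN
      have hVne : V ≠ ⊥ := Z_ne_bot hpm (S.2.to_le (inf_le_left.trans hD.1)) hDL
      have hVS : V ≤ (S : Subgroup X) := (Z_le _).trans (inf_le_left.trans hD.1)
      have hle : (S : Subgroup X) ⊓ Subgroup.normalizer (P' : Set X) ≤
          (S : Subgroup X) ⊓ Subgroup.normalizer (V : Set X) := by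
        refine le_inf inf_le_left (le_trans ?_ (normalizer_le_normalizer_Z _))
        have e : D ⊓ L = D ⊓ P' := by rw [hP', ← inf_assoc, inf_eq_left.mpr hD.1]
        rw [e]
        exact (inf_le_inf_right _ (le_normalizer_of_closed hD)).trans
          (Subgroup.inf_normalizer_le_normalizer_inf (H := D) (K := P'))
      obtain ⟨a, haS, haE⟩ := exists_extremal S hVS
      obtain ⟨k, hk, hkle⟩ := haE.exists_conjG S rfl
      have hgt : Nat.card P' < Nat.card ↥((S : Subgroup X) ⊓ Subgroup.normalizer (P' : Set X)) :=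
        card_lt_inf_normalizer S inf_le_left hlt
      have h1 := Subgroup.card_le_of_le hle
      have h2 := Subgroup.card_le_of_le hkle
      rw [card_conjG] at h2
      have h3 := Subgroup.card_le_card_group ((S : Subgroup X) ⊓ Subgroup.normalizer ((V ^ᶜ a : Subgroup X) : Set X))
      refine npc_conjugate a (ihd _ (by omega) _ haS ?_ haE rfl)
      rwa [Ne, Subgroup.map_eq_bot_iff_of_injective _ (MulAut.conj a).injective]
  set T := Cfsg.pCore p X with hTdef
  have hTn : T.Normal := LocalEven.SylowIn.pCore_normal X p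
  have hTS : T ≤ (S : Subgroup X) := Solvable.Cores.pCore_le_sylow S
  have hquo : ∀ (N : Subgroup X) [N.Normal], N ≠ ⊥ →
      Cfsg.IsStronglyClosed (D.map (QuotientGroup.mk' N)) ((S : Subgroup X).map (QuotientGroup.mk' N)) →
      Cfsg.HasNormalPComplement p (Subgroup.normalizer (Z m (D.map (QuotientGroup.mk' N)) : Set (X ⧸ N))) →
      Cfsg.HasNormalPComplement p (X ⧸ N) := by
    intro N _ hNne hcl h
    refine ih _ ?_ (X ⧸ N) rfl (S.mapSurjective (QuotientGroup.mk'_surjective N)) _ hcl h
    rw [← Subgroup.card_mul_index N]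
    exact lt_mul_of_one_lt_left (Nat.pos_of_ne_zero Subgroup.index_ne_zero_of_finite)
      ((Subgroup.one_lt_card_iff_ne_bot N).mpr hNne)
  have hN' : Cfsg.pPrimeCore p X = ⊥ := by
    by_contra hNne
    apply hbad
    set N := Cfsg.pPrimeCore p X
    have hNn : N.Normal := Solvable.Cores.pPrimeCore_normal p
    have hcop : (Nat.card N).Coprime p := Solvable.Cores.coprime_card_pPrimeCore p
    have hker : (Nat.card (QuotientGroup.mk' N).ker).Coprime p := by rwa [QuotientGroup.ker_mk']
    have hs := QuotientGroup.mk'_surjective N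
    have h1 := hquo N hNne (closed_quotient S hD _ hs (Or.inl hker)) (by
      rw [CfsgLib.Fusion.ZJConstrained.Z_map_quotient hcop (S.2.to_le hD.1)]
      refine Fusion.Basic.npc_of_surjective
        (f := ((QuotientGroup.mk' N).comp (Subgroup.normalizer (Z m D : Set X)).subtype).codRestrict _
          fun n => Subgroup.le_normalizer_map _ ⟨n, n.2, rfl⟩) ?_ hN
      rintro ⟨x, hx⟩
      obtain ⟨n, hn, rfl⟩ := exists_normalizer_lift _ hs hker (S.2.to_le ((Z_le D).trans hD.1)) hx
      exact ⟨⟨n, hn⟩, rfl⟩)
    exact npc_of_quotient_coprime N hcop h1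
  have hDT : ¬ D ≤ T := fun hle => hDn (normal_of_le S (Solvable.Cores.isPGroup_pCore p) hD hle)
  have hquoT : Cfsg.HasNormalPComplement p (X ⧸ T) := by
    set π := QuotientGroup.mk' T with hπ
    have hπs := QuotientGroup.mk'_surjective T
    have hclq := closed_quotient S hD π hπs (Or.inr ((QuotientGroup.ker_mk' T).le.trans hTS))
    refine hquo T hTbot hclq ?_
    have hZb := Z_ne_bot (m := m) hpm ((S.2.map π).to_le hclq.1)
      (fun e => hDT (by rwa [Subgroup.map_eq_bot_iff, QuotientGroup.ker_mk'] at e))
    set N' := Subgroup.normalizer (Z m (D.map π) : Set (X ⧸ T))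
    set K := N'.comap π with hKdef
    have hSK : (S : Subgroup X) ≤ K := by
      rw [hKdef, ← Subgroup.map_le_iff_le_comap]
      exact (le_normalizer_of_closed hclq).trans (normalizer_le_normalizer_Z _)
    have hK : K ≠ ⊤ := by
      intro e
      have : (Z m (D.map π)).Normal := Subgroup.normalizer_eq_top_iff.mp (by
        show N' = ⊤
        rw [← Subgroup.map_comap_eq_self_of_surjective hπs N', ← hKdef, e, Subgroup.map_top_of_surjective π hπs])
      refine hZb ?_
      have h1 : (Z m (D.map π)).comap π ≤ T := by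
        refine Solvable.Cores.le_pCore (S.2.to_le ?_)
        refine (Subgroup.comap_mono ((Z_le _).trans (Subgroup.map_mono hD.1))).trans ?_
        rw [Subgroup.comap_map_eq, QuotientGroup.ker_mk', sup_eq_left.mpr hTS]
      rw [← Subgroup.map_comap_eq_self_of_surjective hπs (Z m (D.map π)), Subgroup.map_eq_bot_iff,
        QuotientGroup.ker_mk']
      exact h1
    refine Fusion.Basic.npc_of_surjective (f := (π.comp K.subtype).codRestrict N' fun k => k.2) ?_ (hover K hSK hK)
    rintro ⟨x, hx⟩
    obtain ⟨a, rfl⟩ := hπs x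
    exact ⟨⟨a, hx⟩, rfl⟩
  have hcon := centralizer_le_of_npc_quotient hN' hquoT
  have hco : IsCoatom (S : Subgroup X) := by
    refine ⟨fun e => hbad (Fusion.Basic.npc_of_isPGroup ?_), fun M hM => ?_⟩
    · exact (e ▸ S.2 : IsPGroup p (⊤ : Subgroup X)).of_equiv Subgroup.topEquiv
    · by_contra hMne
      refine hM.ne (S.3 ?_ hM.le).symm
      exact isPGroup_of_npc_of_constrained hcon (hTS.trans hM.le) (hover M hM.le hMne)
  have hst := CfsgLib.KGroups.Functor.AbelianResidual.stable hp
    (CfsgLib.KGroups.Functor.AbelianResidual.good_of_coatom S hco hquoT)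
  exact hZn (Z_normal hp hm hcon
    (fun P _ hP => ZJClosedStatements.isPStableOn_of_normalizerPStable hst P hP) S hD)

end CfsgLib.LocalEvenB.ZJComplement
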