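import Cfsg.Agent.Lib.LocalEvenB.ZJClosed
import Cfsg.Agent.Lib.KGroups.Functor.Reduce
import Cfsg.Agent.Lib.Solvable.FrattiniFitting

/-!
Control of strong fusion by the normalizer of `Z (J D)`, `D` strongly closed.
-/

set_option autoImplicit false
set_option linter.style.haveILetI false
set_option linter.unusedSectionVars false

namespace CfsgLib.LocalEvenB.ZJControl

open CfsgLib.Fusion.ZJGeneral CfsgLib.KGroups.Functor CfsgLib.LocalEven.SylowIn CfsgLib.LocalEvenB.ZJClosed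

universe u

variable {G : Type u} [Group G] [Finite G] {m p : ℕ} [Fact p.Prime]

/-- The normalizer of `Z m D` realises every conjugation inside `S`. -/
def Ctrl (m : ℕ) (S D : Subgroup G) : Prop :=
  ∀ (A : Subgroup G) (g : G), A ≤ S → A ^ᶜ g ≤ S →
    ∃ x ∈ Subgroup.normalizer (Z m D : Set G), ∀ a ∈ A, x * a * x⁻¹ = g * a * g⁻¹

/-- Control restricted to the elements of a subgroup `H`. -/
def CtrlIn (m : ℕ) (H S D : Subgroup G) : Prop :=
  ∀ (A : Subgroup G) (g : G), g ∈ H → A ≤ S → A ^ᶜ g ≤ S →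
    ∃ x ∈ H ⊓ Subgroup.normalizer (Z m D : Set G), ∀ a ∈ A, x * a * x⁻¹ = g * a * g⁻¹

theorem ctrl_of_normal {S D : Subgroup G} (h : (Z m D).Normal) : Ctrl m S D := fun _ g _ _ =>
  ⟨g, by rw [Subgroup.normalizer_eq_top]; exact Subgroup.mem_top g, fun _ _ => rfl⟩

/-- From the statement for sets. -/
theorem controls_of_ctrl {S D : Subgroup G} (h : Ctrl m S D) (A : Set G) (hA : A ⊆ S) :
    Cfsg.ControlsStrongFusionOf (Subgroup.normalizer (Z m D : Set G)) S A := by
  refine ⟨hA, fun g hg => ?_⟩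
  obtain ⟨x, hx, hag⟩ := h (Subgroup.closure A) g ((Subgroup.closure_le _).mpr hA) (conjG_closure_le hg)
  exact ⟨x, hx, fun a ha => (hag a (Subgroup.subset_closure ha)).symm⟩

theorem closed_subgroupOf {H P D S : Subgroup G} (hP : IsSylowIn p P H) (hPS : P = S ⊓ H)
    (hD : Cfsg.IsStronglyClosed D S) :
    Cfsg.IsStronglyClosed (D.subgroupOf H) (hP.toSylow : Subgroup H) := by
  refine ⟨fun x hx => ?_, fun x hx g hg => ?_⟩
  · show (x : G) ∈ P
    rw [hPS]
    exact ⟨hD.1 hx, x.2⟩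
  · refine hD.2 (x : G) hx (g : G) ?_
    have : ((g * x * g⁻¹ : H) : G) ∈ P := hg
    rw [hPS] at this
    exact this.1

/-- Control inside a subgroup, from control in the group formed by it. -/
theorem ctrlIn_of_subgroup {H P D : Subgroup G} (hP : IsSylowIn p P H)
    (h : Ctrl m (hP.toSylow : Subgroup H) (D.subgroupOf H)) : CtrlIn m H P (D ⊓ H) := by
  intro A g hg hA hgA
  have hAH : A ≤ H := hA.trans hP.1
  obtain ⟨x, hx, hag⟩ := h (A.subgroupOf H) ⟨g, hg⟩ (Subgroup.comap_mono hA) (by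
    rintro _ ⟨a, ha, rfl⟩
    exact hgA ⟨(a : G), ha, rfl⟩)
  refine ⟨x, ⟨x.2, ?_⟩, fun a ha => congrArg Subtype.val (hag ⟨a, hAH ha⟩ ha)⟩
  have := Subgroup.le_normalizer_map H.subtype (Subgroup.mem_map_of_mem H.subtype hx)
  rwa [← CfsgLib.Fusion.ZJConstrained.Z_map_inj H.subtype H.subtype_injective, Subgroup.subgroupOf_map_subtype] at this

/-- Reduction modulo a normal `p'`-subgroup. -/
theorem ctrl_of_quotient (S : Sylow p G) {D : Subgroup G} (hD : Cfsg.IsStronglyClosed D (S : Subgroup G))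
    {H : Type u} [Group H] [Finite H] (φ : G →* H) (hφ : Function.Surjective φ)
    (hker : (Nat.card φ.ker).Coprime p) (hZ : Z m (D.map φ) = (Z m D).map φ)
    (h : Ctrl m ((S : Subgroup G).map φ) (D.map φ)) : Ctrl m (S : Subgroup G) D := by
  intro A g hA hgA
  have hinj := injOn_sylow φ hker S.2
  obtain ⟨x, hx, hag⟩ := h (A.map φ) (φ g) (Subgroup.map_mono hA) (by rw [← map_conjG]; exact Subgroup.map_mono hgA)
  rw [hZ] at hx
  obtain ⟨n, hn, rfl⟩ := exists_normalizer_lift φ hφ hker (S.2.to_le ((Z_le D).trans hD.1)) hx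
  have hSN : (S : Subgroup G) ≤ Subgroup.normalizer (Z m D : Set G) :=
    (le_normalizer_of_closed hD).trans (normalizer_le_normalizer_Z D)
  have hle : A ^ᶜ n ≤ (S : Subgroup G) ⊔ φ.ker := by
    rw [← Subgroup.comap_map_eq, ← Subgroup.map_le_iff_le_comap, map_conjG,
      conjG_congr (g' := φ g) (by rintro _ ⟨a, ha, rfl⟩; exact hag _ ⟨a, ha, rfl⟩), ← map_conjG]
    exact Subgroup.map_mono hgA
  have hAn : A ^ᶜ n ≤ Subgroup.normalizer (Z m D : Set G) :=
    (Subgroup.map_mono (hA.trans hSN)).trans (conjG_eq_iff.mpr (Subgroup.le_normalizer hn)).le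
  obtain ⟨k, hk, hkA⟩ := exists_conj_le_of_le_sup hker S.2 ((isPGroup_of_le S hA).map _) hSN hAn hle
  rw [conjG_conjG] at hkA
  refine ⟨k * n, mul_mem hk.2 hn, fun a ha => hinj (hkA (conjG_mem ha)) (hgA (conjG_mem ha)) ?_⟩
  have := hag (φ a) (Subgroup.mem_map_of_mem φ ha)
  simp only [map_mul, map_inv, MonoidHom.mem_ker.mp hk.1, one_mul]
  exact this

theorem closed_quotient (S : Sylow p G) {D : Subgroup G} (hD : Cfsg.IsStronglyClosed D (S : Subgroup G))
    {H : Type u} [Group H] [Finite H] (φ : G →* H) (hφ : Function.Surjective φ)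
    (hker : (Nat.card φ.ker).Coprime p ∨ φ.ker ≤ (S : Subgroup G)) :
    Cfsg.IsStronglyClosed (D.map φ) ((S : Subgroup G).map φ) := by
  refine ⟨Subgroup.map_mono hD.1, ?_⟩
  rintro _ ⟨d, hd, rfl⟩ z hz
  obtain ⟨g, rfl⟩ := hφ z
  rw [← map_inv, ← map_mul, ← map_mul] at hz ⊢
  rcases hker with hker | hker
  · have hle : Subgroup.zpowers (g * d * g⁻¹) ≤ (S : Subgroup G) ⊔ φ.ker := by
      rw [← Subgroup.comap_map_eq, Subgroup.zpowers_le]
      exact hz
    have hp' : IsPGroup p (Subgroup.zpowers (g * d * g⁻¹)) := by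
      refine ((S.2.to_le (Subgroup.zpowers_le.mpr (hD.1 hd))).map (MulAut.conj g).toMonoidHom).to_le ?_
      rw [Subgroup.zpowers_le]
      exact ⟨d, Subgroup.mem_zpowers d, rfl⟩
    obtain ⟨k, hk, hkS⟩ := exists_conj_le_of_le_sup (K := ⊤) hker S.2 hp' le_top le_top hle
    have h1 := hD.2 d hd (k * g) (hkS ⟨_, Subgroup.mem_zpowers _, by simp [mul_assoc]⟩)
    refine ⟨_, h1, ?_⟩
    simp [MonoidHom.mem_ker.mp hk.1]
  · refine ⟨_, hD.2 d hd g ?_, rfl⟩
    have : g * d * g⁻¹ ∈ ((S : Subgroup G).map φ).comap φ := hz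
    rwa [Subgroup.comap_map_eq, sup_eq_left.mpr hker] at this

/-- A strongly closed subgroup inside a normal `p`-subgroup is normal. -/
theorem normal_of_le (S : Sylow p G) {D T : Subgroup G} [T.Normal] (hT : IsPGroup p T)
    (hD : Cfsg.IsStronglyClosed D (S : Subgroup G)) (hDT : D ≤ T) : D.Normal :=
  ⟨fun x hx g => hD.2 x hx g (hT.le_sylow_of_normal S ((inferInstance : T.Normal).conj_mem x (hDT hx) g))⟩

/-- A nontrivial strongly closed subgroup meets every subgroup containing the centre of `S`. -/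
theorem inf_ne_bot (S : Sylow p G) {D H : Subgroup G} (hD : Cfsg.IsStronglyClosed D (S : Subgroup G))
    (hne : D ≠ ⊥) (hH : (S : Subgroup G) ⊓ Subgroup.centralizer ((S : Subgroup G) : Set G) ≤ H) : D ⊓ H ≠ ⊥ := by
  haveI : Group.IsNilpotent ↥(S : Subgroup G) := S.2.isNilpotent
  haveI : (D.subgroupOf (S : Subgroup G)).Normal :=
    Subgroup.normal_subgroupOf_iff_le_normalizer hD.1 |>.mpr (le_normalizer_of_closed hD)
  intro h
  refine CfsgLib.Solvable.FrattiniFitting.inf_center_ne_bot (D.subgroupOf (S : Subgroup G)) ?_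
    ((Subgroup.eq_bot_iff_forall _).mpr fun x hx => ?_)
  · rw [Ne, Subgroup.subgroupOf_eq_bot, disjoint_iff, inf_eq_left.mpr hD.1]
    exact hne
  · have hmem : (x : G) ∈ D ⊓ H := ⟨hx.1, hH ⟨x.2, Subgroup.mem_centralizer_iff.mpr fun y hy =>
      congrArg Subtype.val (Subgroup.mem_center_iff.mp hx.2 ⟨y, hy⟩)⟩⟩
    rw [h, Subgroup.mem_bot] at hmem
    exact Subtype.ext hmem

open Classical in
/-- The conjugacy functor belonging to a strongly closed subgroup. -/
noncomputable def functorOf (m : ℕ) (D Q : Subgroup G) : Subgroup G :=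
  if Subgroup.closure {x | x ∈ Q ∧ ∃ h : G, h * x * h⁻¹ ∈ D} = ⊥ then Q
  else Z m (Subgroup.closure {x | x ∈ Q ∧ ∃ h : G, h * x * h⁻¹ ∈ D})

theorem closure_eq_inf (S : Sylow p G) {D Q : Subgroup G} (hD : Cfsg.IsStronglyClosed D (S : Subgroup G))
    (hQ : Q ≤ (S : Subgroup G)) : Subgroup.closure {x | x ∈ Q ∧ ∃ h : G, h * x * h⁻¹ ∈ D} = Q ⊓ D := by
  refine le_antisymm ((Subgroup.closure_le _).mpr ?_) fun x hx => Subgroup.subset_closure ⟨hx.1, 1, by simpa using hx.2⟩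
  rintro x ⟨hx, h, hh⟩
  refine ⟨hx, ?_⟩
  have := hD.2 _ hh h⁻¹ (by simpa [mul_assoc] using hQ hx)
  simpa [mul_assoc] using this

theorem isConjugacyFunctor_functorOf (hpm : p ∣ m) (D : Subgroup G) :
    Cfsg.IsConjugacyFunctor p (functorOf m D) := by
  intro Q hQ
  set U := Subgroup.closure {x | x ∈ Q ∧ ∃ h : G, h * x * h⁻¹ ∈ D} with hU
  have hUQ : U ≤ Q := (Subgroup.closure_le _).mpr fun x hx => hx.1
  refine ⟨?_, fun hne => ?_, fun g => ?_⟩
  · rw [functorOf]
    split_ifs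
    · exact le_rfl
    · exact (Z_le U).trans hUQ
  · rw [functorOf]
    split_ifs with h
    · exact hne
    · exact Z_ne_bot hpm (hQ.to_le hUQ) h
  · have hmap : Subgroup.closure {x | x ∈ Q ^ᶜ g ∧ ∃ h : G, h * x * h⁻¹ ∈ D} = U ^ᶜ g := by
      rw [hU, MonoidHom.map_closure]
      congr 1
      ext x
      constructor
      · rintro ⟨⟨y, hy, rfl⟩, h, hh⟩
        exact ⟨y, ⟨hy, h * g, by simpa [mul_assoc] using hh⟩, rfl⟩
      · rintro ⟨y, ⟨hy, h, hh⟩, rfl⟩
        exact ⟨⟨y, hy, rfl⟩, h * g⁻¹, by simpa [mul_assoc] using hh⟩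
    unfold functorOf
    rw [hmap]
    by_cases hU0 : U = ⊥
    · rw [if_pos hU0, if_pos (by rw [hU0, Subgroup.map_bot])]
    · rw [if_neg hU0, if_neg (fun h => hU0 ((Subgroup.map_eq_bot_iff_of_injective _ (MulAut.conj g).injective).mp h)),
        Z_map (MulAut.conj g)]

/-- Control in the normalizers of the extremal subgroups gives control. -/
theorem ctrl_of_locals (S : Sylow p G) {D : Subgroup G} (hD : Cfsg.IsStronglyClosed D (S : Subgroup G))
    (hpm : p ∣ m)
    (hloc : ∀ T : Subgroup G, T ≤ (S : Subgroup G) → T ≠ ⊥ → Extremal S T →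
      CtrlIn m (Subgroup.normalizer (T : Set G)) ((S : Subgroup G) ⊓ Subgroup.normalizer (T : Set G))
        (D ⊓ Subgroup.normalizer (T : Set G))) :
    Ctrl m (S : Subgroup G) D := by
  rcases eq_or_ne D ⊥ with rfl | hne
  · exact ctrl_of_normal (by rw [le_bot_iff.mp (Z_le (m := m) (⊥ : Subgroup G))]; infer_instance)
  have hW := isConjugacyFunctor_functorOf (m := m) hpm D
  have hval : ∀ Q : Subgroup G, Q ≤ (S : Subgroup G) → Q ⊓ D ≠ ⊥ → functorOf m D Q = Z m (Q ⊓ D) := fun Q hQ h => by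
    rw [functorOf, closure_eq_inf S hD hQ, if_neg h]
  have htop : Cfsg.ControlsStrongFusionIn p (functorOf m D) ⊤ := by
    refine controls_top S hW fun T hT1 hT => ?_
    have hE : Extremal S T := hT.2 0
    refine controls_of_exists_mem hE.isSylowIn fun A x hx hA hxA => ?_
    obtain ⟨y, hy, hag⟩ := hloc T hT.1 hT1 hE A x hx hA hxA
    set N := Subgroup.normalizer (T : Set G)
    have hZN : (S : Subgroup G) ⊓ Subgroup.centralizer ((S : Subgroup G) : Set G) ≤ N :=
      (inf_le_right.trans (Subgroup.centralizer_le (SetLike.coe_subset_coe.mpr hT.1))).trans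
        (Subgroup.centralizer_le_normalizer _)
    have e : ((S : Subgroup G) ⊓ N) ⊓ D = D ⊓ N := by
      rw [inf_right_comm, inf_eq_right.mpr hD.1]
    refine ⟨y, ?_, hag⟩
    rw [hval _ inf_le_left (e ▸ inf_ne_bot S hD hne hZN), e]
    exact hy
  intro A g hA hgA
  obtain ⟨x, hx, hag⟩ := exists_mem_of_controls hW htop (isSylowIn_top S) (Subgroup.mem_top g) hA hgA
  refine ⟨x, ?_, hag⟩
  have := hx.2
  rwa [hval _ le_rfl (by rwa [inf_eq_right.mpr hD.1]), inf_eq_right.mpr hD.1] at this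

/-- Control for a group all of whose sections are stable. -/
theorem ctrl_sec (hp : p ≠ 2) (hm : Odd m) (hpm : p ∣ m)
    (hst : ∀ (X : Type u) [Group X] [Finite X], Sec G X → ∀ (B : Subgroup X) [B.Normal], IsPGroup p B →
      Cfsg.IsPStableOn p B) :
    ∀ (X : Type u) [Group X] [Finite X], Sec G X → ∀ (S : Sylow p X) (D : Subgroup X),
      Cfsg.IsStronglyClosed D (S : Subgroup X) → Ctrl m (S : Subgroup X) D := by
  suffices key : ∀ (n : ℕ) (X : Type u) [Group X] [Finite X], Nat.card X = n → Sec G X →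
      ∀ (S : Sylow p X) (D : Subgroup X), Cfsg.IsStronglyClosed D (S : Subgroup X) → Ctrl m (S : Subgroup X) D from
    fun X _ _ hX => key _ X rfl hX
  intro n
  induction n using Nat.strong_induction_on with
  | _ n ih =>
  intro X _ _ hn hX S D hD
  subst hn
  have hloc : ∀ (H P : Subgroup X), H ≠ ⊤ → ∀ hP : IsSylowIn p P H, P = (S : Subgroup X) ⊓ H →
      CtrlIn m H P (D ⊓ H) := by
    intro H P hH hP hPS
    refine ctrlIn_of_subgroup hP (ih _ ?_ H rfl (hX.of_subgroup H) _ _ (closed_subgroupOf hP hPS hD))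
    exact lt_of_le_of_ne (Subgroup.card_le_card_group H) fun e => hH (Subgroup.eq_top_of_card_eq H e)
  have hsub : ∀ H : Subgroup X, (S : Subgroup X) ≤ H → H ≠ ⊤ → CtrlIn m H (S : Subgroup X) D := by
    intro H hSH hH
    have := hloc H (S : Subgroup X) hH (isSylowIn_of_le S hSH) (inf_eq_left.mpr hSH).symm
    rwa [inf_eq_left.mpr (hD.1.trans hSH)] at this
  have hquo : ∀ (N : Subgroup X) [N.Normal], N ≠ ⊥ →
      Cfsg.IsStronglyClosed (D.map (QuotientGroup.mk' N)) ((S : Subgroup X).map (QuotientGroup.mk' N)) →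
      Ctrl m ((S : Subgroup X).map (QuotientGroup.mk' N)) (D.map (QuotientGroup.mk' N)) := by
    intro N _ hN hcl
    refine ih _ ?_ (X ⧸ N) rfl (hX.of_surjective _ (QuotientGroup.mk'_surjective N))
      (S.mapSurjective (QuotientGroup.mk'_surjective N)) _ hcl
    rw [← Subgroup.card_mul_index N]
    exact lt_mul_of_one_lt_left (Nat.pos_of_ne_zero Subgroup.index_ne_zero_of_finite)
      ((Subgroup.one_lt_card_iff_ne_bot N).mpr hN)
  set T := Cfsg.pCore p X with hT
  have hTn : T.Normal := CfsgLib.LocalEven.SylowIn.pCore_normal X p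
  rcases eq_or_ne T ⊥ with hbot | hTbot
  · refine ctrl_of_locals S hD hpm fun U hUS hU hE => hloc _ _ ?_ hE.isSylowIn rfl
    intro htop
    have : U.Normal := Subgroup.normalizer_eq_top_iff.mp htop
    exact hU (le_bot_iff.mp (hbot ▸ Solvable.Cores.le_pCore (isPGroup_of_le S hUS)))
  by_cases hcon : Subgroup.centralizer (T : Set X) ≤ T
  · exact ctrl_of_normal (Z_normal hp hm hcon (fun P _ hP => hst X hX P hP) S hD)
  set N := Cfsg.pPrimeCore p X with hN
  have hNn : N.Normal := Solvable.Cores.pPrimeCore_normal p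
  have hTS : T ≤ (S : Subgroup X) := (Solvable.Cores.isPGroup_pCore p).le_sylow_of_normal S
  rcases eq_or_ne N ⊥ with hNbot | hNbot
  swap
  · have hNc : (Nat.card N).Coprime p := Solvable.Cores.coprime_card_pPrimeCore p
    refine ctrl_of_quotient S hD (QuotientGroup.mk' N) (QuotientGroup.mk'_surjective N)
      (by rwa [QuotientGroup.ker_mk']) (CfsgLib.Fusion.ZJConstrained.Z_map_quotient hNc (S.2.to_le hD.1))
      (hquo N hNbot (closed_quotient S hD _ (QuotientGroup.mk'_surjective N) (Or.inl (by rwa [QuotientGroup.ker_mk']))))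
  obtain ⟨L, hSL, hL, hfac⟩ := frattini_centralizer S hNbot hcon
  set C := Subgroup.centralizer (T : Set X) with hC
  rcases ne_or_eq (C ⊔ (S : Subgroup X)) ⊤ with hH | hH
  · intro A g hA hgA
    obtain ⟨c, hc, l, hl, rfl⟩ := hfac g
    obtain ⟨c', hc', l', hl', he, hl'A⟩ :=
      exists_factor S (X := C ⊔ (S : Subgroup X)) le_sup_right hSL (Subgroup.mem_sup_left hc) hl hA hgA
    rw [he] at hgA ⊢
    rw [← conjG_conjG] at hgA
    obtain ⟨z₁, hz₁, h1⟩ := hsub L hSL hL A l' hl' hA hl'A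
    obtain ⟨z₂, hz₂, h2⟩ := hsub _ le_sup_right hH (A ^ᶜ l') c' hc' hl'A hgA
    refine ⟨z₂ * z₁, mul_mem hz₂.2 hz₁.2, fun a ha => ?_⟩
    calc z₂ * z₁ * a * (z₂ * z₁)⁻¹ = z₂ * (z₁ * a * z₁⁻¹) * z₂⁻¹ := by group
      _ = c' * (l' * a * l'⁻¹) * c'⁻¹ := by rw [h1 a ha, h2 _ (conjG_mem ha)]
      _ = _ := by group
  -- the elements of order prime to `p` centralise `T`
  have hST : ¬ (S : Subgroup X) ≤ T := fun hle =>
    hcon (isPGroup_centralizer_of_inf_le S hNbot (inf_le_left.trans hle))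
  by_cases hDT : D ≤ T
  · have := normal_of_le S (Solvable.Cores.isPGroup_pCore p) hD hDT
    refine ctrl_of_normal (Subgroup.normalizer_eq_top_iff.mp (eq_top_iff.mpr ?_))
    calc (⊤ : Subgroup X) ≤ Subgroup.normalizer (D : Set X) := by rw [Subgroup.normalizer_eq_top]
      _ ≤ _ := normalizer_le_normalizer_Z D
  have hSn : Subgroup.normalizer ((S : Subgroup X) : Set X) ≠ ⊤ := fun htop => by
    have : (S : Subgroup X).Normal := Subgroup.normalizer_eq_top_iff.mp htop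
    exact hST (Solvable.Cores.le_pCore S.2)
  set π := QuotientGroup.mk' T with hπ
  have hπs := QuotientGroup.mk'_surjective T
  have hker : π.ker = T := QuotientGroup.ker_mk' T
  have hcomap : ((S : Subgroup X).map π).comap π = (S : Subgroup X) := by
    rw [Subgroup.comap_map_eq, hker, sup_eq_left.mpr hTS]
  have hclq := closed_quotient S hD π hπs (Or.inr (hker.le.trans hTS))
  have hDb : D.map π ≠ ⊥ := fun e => hDT (by rwa [Subgroup.map_eq_bot_iff, hker] at e)
  have hZb := Z_ne_bot (m := m) hpm ((S.2.map π).to_le hclq.1) hDb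
  set K := (Subgroup.normalizer (Z m (D.map π) : Set (X ⧸ T))).comap π with hK
  have hSK : (S : Subgroup X) ≤ K := by
    rw [hK, ← Subgroup.map_le_iff_le_comap]
    exact (le_normalizer_of_closed hclq).trans (normalizer_le_normalizer_Z _)
  have hKt : K ≠ ⊤ := by
    intro e
    have : (Z m (D.map π)).Normal := Subgroup.normalizer_eq_top_iff.mp (by
      rw [← Subgroup.map_comap_eq_self_of_surjective hπs (Subgroup.normalizer _), ← hK, e,
        Subgroup.map_top_of_surjective π hπs])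
    refine hZb ?_
    have h1 : (Z m (D.map π)).comap π ≤ T := by
      refine Solvable.Cores.le_pCore (S.2.to_le ?_)
      rw [← hcomap]
      exact Subgroup.comap_mono ((Z_le _).trans (Subgroup.map_mono hD.1))
    rw [← Subgroup.map_comap_eq_self_of_surjective hπs (Z m (D.map π)), Subgroup.map_eq_bot_iff, hker]
    exact h1
  suffices key : ∀ (B : Subgroup X) (g : X), T ≤ B → B ≤ (S : Subgroup X) → B ^ᶜ g ≤ (S : Subgroup X) →
      ∃ x ∈ Subgroup.normalizer (Z m D : Set X), ∀ a ∈ B, x * a * x⁻¹ = g * a * g⁻¹ by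
    intro A g hA hgA
    obtain ⟨x, hx, hag⟩ := key (A ⊔ T) g le_sup_right (sup_le hA hTS) (by
      rw [Subgroup.map_sup, (conjG_eq_iff (A := T)).mpr (by rw [Subgroup.normalizer_eq_top]; exact Subgroup.mem_top g)]
      exact sup_le hgA hTS)
    exact ⟨x, hx, fun a ha => hag a (Subgroup.mem_sup_left ha)⟩
  intro B
  induction hk : Nat.card (S : Subgroup X) - Nat.card B using Nat.strong_induction_on generalizing B with
  | _ k ihB =>
  subst hk
  intro g hTB hB hgB
  rcases eq_or_ne B (S : Subgroup X) with rfl | hne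
  · have hgN : g ∈ Subgroup.normalizer ((S : Subgroup X) : Set X) :=
      conjG_eq_iff.mp (Subgroup.eq_of_le_of_card_ge hgB (card_conjG _ g).ge)
    obtain ⟨x, hx, hag⟩ := hsub _ Subgroup.le_normalizer hSn (S : Subgroup X) g hgN le_rfl hgB
    exact ⟨x, hx.2, hag⟩
  obtain ⟨xb, hxb, hagb⟩ := hquo T hTbot hclq (B.map π) (π g) (Subgroup.map_mono hB)
    (by rw [← map_conjG]; exact Subgroup.map_mono hgB)
  obtain ⟨k, rfl⟩ := hπs xb
  have hag' : ∀ b ∈ B, π (k * b * k⁻¹) = π (g * b * g⁻¹) := fun b hb => by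
    rw [map_mul, map_mul, map_inv, map_mul, map_mul, map_inv]
    exact hagb _ (Subgroup.mem_map_of_mem π hb)
  have hTconj : ∀ z, T ≤ B ^ᶜ z := fun z => by
    refine le_trans (le_of_eq (conjG_eq_iff.mpr ?_).symm) (Subgroup.map_mono hTB)
    rw [Subgroup.normalizer_eq_top]; exact Subgroup.mem_top z
  have hkg : B ^ᶜ k = B ^ᶜ g := by
    rw [← Subgroup.comap_map_eq_self (f := π) (hker.le.trans (hTconj k)),
      ← Subgroup.comap_map_eq_self (f := π) (hker.le.trans (hTconj g)), map_conjG, map_conjG]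
    congr 1
    refine conjG_congr ?_
    rintro _ ⟨b, hb, rfl⟩
    simpa using hag' b hb
  obtain ⟨z₁, hz₁, hz₁ag⟩ := hsub K hSK hKt B k hxb hB (hkg ▸ hgB)
  set y := k⁻¹ * g with hydef
  have hyN : y ∈ Subgroup.normalizer (B : Set X) := by
    rw [← conjG_eq_iff, hydef, ← conjG_conjG, ← hkg, conjG_inv_conjG]
  obtain ⟨a, haS, haE⟩ := exists_extremal S hB
  obtain ⟨k₀, hk₀, hk₀S⟩ := haE.exists_conjG S rfl
  have hlt := card_lt_inf_normalizer S hB hne
  have hle := card_le_sylow S (inf_le_left : (S : Subgroup X) ⊓ Subgroup.normalizer (B : Set X) ≤ _)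
  obtain ⟨z₀, hz₀, hz₀ag⟩ := ihB _ (by omega) _ rfl k₀ (hTB.trans (le_inf hB Subgroup.le_normalizer)) inf_le_left
    (hk₀S.trans inf_le_left)
  replace hz₀ag : ∀ b ∈ B, z₀ * b * z₀⁻¹ = k₀ * b * k₀⁻¹ := fun b hb =>
    hz₀ag b ⟨hB hb, Subgroup.le_normalizer hb⟩
  have hy' : k₀ * y * k₀⁻¹ ∈ Subgroup.normalizer ((B ^ᶜ k₀ : Subgroup X) : Set X) := by
    rw [normalizer_map_conj]; exact conjG_mem hyN
  have hker' : ∀ b ∈ B ^ᶜ k₀, (k₀ * y * k₀⁻¹) * b * (k₀ * y * k₀⁻¹)⁻¹ * b⁻¹ ∈ T := by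
    rintro _ ⟨b, hb, rfl⟩
    have h2 : π (y * b * y⁻¹) = π b := by
      have h3 := hag' b hb
      simp only [hydef, map_mul, map_inv, mul_inv_rev, inv_inv] at h3 ⊢
      calc (π k)⁻¹ * π g * π b * ((π g)⁻¹ * π k) = (π k)⁻¹ * (π g * π b * (π g)⁻¹) * π k := by simp [mul_assoc]
        _ = π b := by rw [← h3]; simp [mul_assoc]
    rw [← hker, MonoidHom.mem_ker]
    show π ((k₀ * y * k₀⁻¹) * (k₀ * b * k₀⁻¹) * (k₀ * y * k₀⁻¹)⁻¹ * (k₀ * b * k₀⁻¹)⁻¹) = 1
    calc _ = π k₀ * π (y * b * y⁻¹) * (π b)⁻¹ * (π k₀)⁻¹ := by simp [mul_assoc]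
      _ = 1 := by rw [h2]; simp [mul_assoc]
  obtain ⟨s, hs, hsag⟩ := exists_mem_sylow_agree S (Solvable.Cores.isPGroup_pCore p)
    (mem_centralizer_of_sup S hH) (hk₀ ▸ haE) hy' hker'
  have hSZ : (S : Subgroup X) ≤ Subgroup.normalizer (Z m D : Set X) :=
    (le_normalizer_of_closed hD).trans (normalizer_le_normalizer_Z D)
  refine ⟨z₁ * (z₀⁻¹ * s * z₀), mul_mem hz₁.2 (mul_mem (mul_mem (inv_mem hz₀) (hSZ hs.1)) hz₀), fun b hb => ?_⟩
  have hyb : y * b * y⁻¹ ∈ B := (Subgroup.mem_normalizer_iff.mp hyN b).mp hb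
  have e1 : (z₀⁻¹ * s * z₀) * b * (z₀⁻¹ * s * z₀)⁻¹ = y * b * y⁻¹ := by
    calc (z₀⁻¹ * s * z₀) * b * (z₀⁻¹ * s * z₀)⁻¹
        = z₀⁻¹ * (s * (z₀ * b * z₀⁻¹) * s⁻¹) * z₀ := by group
      _ = z₀⁻¹ * (k₀ * y * k₀⁻¹ * (k₀ * b * k₀⁻¹) * (k₀ * y * k₀⁻¹)⁻¹) * z₀ := by
          rw [hz₀ag b hb, hsag _ (conjG_mem hb)]
      _ = z₀⁻¹ * (k₀ * (y * b * y⁻¹) * k₀⁻¹) * z₀ := by group
      _ = _ := by rw [← hz₀ag _ hyb]; group
  calc z₁ * (z₀⁻¹ * s * z₀) * b * (z₁ * (z₀⁻¹ * s * z₀))⁻¹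
      = z₁ * ((z₀⁻¹ * s * z₀) * b * (z₀⁻¹ * s * z₀)⁻¹) * z₁⁻¹ := by group
    _ = k * (y * b * y⁻¹) * k⁻¹ := by rw [e1, hz₁ag _ hyb]
    _ = _ := by rw [hydef]; group

end CfsgLib.LocalEvenB.ZJControl
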