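import Cfsg.Prelude.Def_IsolatedElements
import Cfsg.Agent.Lib.LocalEvenB.Isolated
import Cfsg.Agent.Lib.Components.PComponents
import Cfsg.Agent.Lib.Solvable.Basic

/-!
A minimal counterexample to the `Z*_p` statement: the derived subgroup is simple.
-/

set_option autoImplicit false
set_option linter.style.haveILetI false

namespace CfsgLib.LocalEvenB.ZStarMinimal

open Cfsg

variable {G : Type*} [Group G] [Finite G] {p : ℕ} [Fact p.Prime]

/-- The minimal counterexample hypotheses. -/
structure MinCE (p : ℕ) (x : G) : Prop where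
  ord : orderOf x = p
  iso : IsIsolated x
  bad : ¬ InZStar p x
  sub : ∀ (H : Subgroup G) (hxH : x ∈ H), H ≠ ⊤ → InZStar p (⟨x, hxH⟩ : ↥H)
  quot : ∀ (N : Subgroup G) [N.Normal], N ≠ ⊥ → InZStar p (QuotientGroup.mk x : G ⧸ N)

variable {x : G}

theorem pPrimeCore_eq_bot (h : MinCE p x) : pPrimeCore p G = ⊥ := by
  by_contra hne
  refine h.bad fun g => ?_
  have := h.quot (pPrimeCore p G) hne (g : G ⧸ pPrimeCore p G)
  rw [CfsgLib.Components.pPrimeCore_quotient_eq_bot, Subgroup.mem_bot] at this
  exact (QuotientGroup.eq_one_iff _).1 this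

theorem not_central (h : MinCE p x) : ∃ g : G, g * x * g⁻¹ ≠ x := by
  by_contra hc
  push Not at hc
  exact h.bad fun g => by rw [hc g, mul_inv_cancel]; exact one_mem _

theorem eq_bot_of_subnormal (h : MinCE p x) {K : Subgroup G} (hK : K.IsSubnormal)
    (hc : (Nat.card K).Coprime p) : K = ⊥ :=
  le_bot_iff.1 (pPrimeCore_eq_bot h ▸ CfsgLib.Components.le_pPrimeCore_of_subnormal hK hc)

/-- A normal subgroup containing `x` is everything. -/
theorem normal_eq_top (h : MinCE p x) {D : Subgroup G} (hD : D.Normal) (hx : x ∈ D) : D = ⊤ := by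
  by_contra hne
  have hz := h.sub D hx hne
  have hbot : pPrimeCore p ↥D = ⊥ := by
    rw [← Subgroup.map_eq_bot_iff_of_injective _ D.subtype_injective,
      CfsgLib.Components.pPrimeCore_map_subtype_eq hD.isSubnormal, pPrimeCore_eq_bot h, bot_inf_eq]
  obtain ⟨g, hg⟩ := not_central h
  refine hg (h.iso g ?_)
  have hmem : g * x * g⁻¹ ∈ D := hD.conj_mem x hx g
  have := hz ⟨_, hmem⟩
  rw [hbot, Subgroup.mem_bot] at this
  have e : (g * x * g⁻¹) * x * (g * x * g⁻¹)⁻¹ * x⁻¹ = 1 := congrArg Subtype.val this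
  show x * (g * x * g⁻¹) = (g * x * g⁻¹) * x
  calc x * (g * x * g⁻¹) = 1 * x * (g * x * g⁻¹) := by rw [one_mul]
    _ = (g * x * g⁻¹) * x * (g * x * g⁻¹)⁻¹ * x⁻¹ * x * (g * x * g⁻¹) := by rw [e]
    _ = (g * x * g⁻¹) * x := by group

theorem isPGroup_zpowers_x (h : MinCE p x) : IsPGroup p (Subgroup.zpowers x) :=
  IsPGroup.of_card (n := 1) (by rw [Nat.card_zpowers, h.ord, pow_one])

/-- No central normal subgroup. -/
theorem eq_bot_of_central (h : MinCE p x) {Z : Subgroup G} (hZ : Z ≤ Subgroup.center G) : Z = ⊥ := by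
  by_contra hne
  haveI : Z.Normal := ⟨fun n hn g => by
    rw [Subgroup.mem_center_iff.1 (hZ hn) g, mul_inv_cancel_right]; exact hn⟩
  obtain ⟨g, hg⟩ := not_central h
  have hq := h.quot Z hne (g : G ⧸ Z)
  set π := QuotientGroup.mk' Z
  set M := (pPrimeCore p (G ⧸ Z)).comap π with hM
  have hZM : Z ≤ M := fun z hz => by
    rw [hM, Subgroup.mem_comap, show π z = 1 from (QuotientGroup.eq_one_iff z).2 hz]
    exact one_mem _
  set c := g * x * g⁻¹ * x⁻¹ with hc
  have hcM : c ∈ M := hq
  -- `Z` is a `p`-group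
  have hZp : IsPGroup p Z := by
    haveI : IsMulCommutative Z := ⟨⟨fun a b => Subtype.ext
      (Subgroup.mem_center_iff.1 (hZ b.2) a)⟩⟩
    rw [IsPGroup.iff_card]
    refine ⟨(Nat.card Z).factorization p, ?_⟩
    refine Nat.eq_of_factorization_eq Nat.card_pos.ne' (pow_pos (Fact.out : p.Prime).pos _).ne' fun q => ?_
    rw [(Fact.out : p.Prime).factorization_pow, Finsupp.single_apply]
    split_ifs with hqp
    · rw [hqp]
    · by_contra hq0
      have hqP : q.Prime := Nat.prime_of_mem_primeFactors (Finsupp.mem_support_iff.2 hq0)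
      haveI : Fact q.Prime := ⟨hqP⟩
      obtain ⟨y, hy⟩ := exists_prime_orderOf_dvd_card' (G := Z) q
        (Nat.dvd_of_factorization_pos hq0)
      have hyo : orderOf (y : G) = q := by rw [Subgroup.orderOf_coe, hy]
      haveI : (Subgroup.zpowers (y : G)).Normal := ⟨fun n hn g => by
        have hnZ : n ∈ Z := (Subgroup.zpowers_le.2 y.2) hn
        rw [Subgroup.mem_center_iff.1 (hZ hnZ) g, mul_inv_cancel_right]; exact hn⟩
      have := eq_bot_of_subnormal h (Subgroup.Normal.isSubnormal (H := Subgroup.zpowers (y : G))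
        inferInstance) (by
          rw [Nat.card_zpowers, hyo]
          exact (Nat.coprime_primes hqP Fact.out).2 (Ne.symm hqp))
      rw [Subgroup.zpowers_eq_bot] at this
      rw [this, orderOf_one] at hyo
      exact hqP.one_lt.ne hyo
  -- a complement of `Z` in `M` is a subnormal `p'`-subgroup
  haveI : (Z.subgroupOf M).Normal := Subgroup.normal_subgroupOf
  have hidx : (Z.subgroupOf M).index = Nat.card (pPrimeCore p (G ⧸ Z)) := by
    have h1 := Subgroup.card_mul_index (Z.subgroupOf M)
    rw [Nat.card_congr (Subgroup.subgroupOfEquivOfLe hZM).toEquiv, hM,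
      CfsgLib.Solvable.Basic.card_comap_mk, mul_comm (Nat.card Z)] at h1
    first
      | exact Nat.eq_of_mul_eq_mul_right Nat.card_pos h1
      | exact Nat.eq_of_mul_eq_mul_left Nat.card_pos h1
  have hcop : Nat.Coprime (Nat.card (Z.subgroupOf M)) (Z.subgroupOf M).index := by
    rw [hidx, Nat.card_congr (Subgroup.subgroupOfEquivOfLe hZM).toEquiv]
    obtain ⟨k, hk⟩ := hZp.exists_card_eq
    rw [hk]
    exact ((CfsgLib.Solvable.Cores.coprime_card_pPrimeCore p).symm).pow_left k
  obtain ⟨K, hK⟩ := Subgroup.exists_right_complement'_of_coprime hcop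
  haveI hKn : K.Normal := by
    rw [← Subgroup.normalizer_eq_top_iff, eq_top_iff, ← hK.sup_eq_top]
    refine sup_le (fun z hz => ?_) Subgroup.le_normalizer
    rw [Subgroup.mem_normalizer_iff]
    intro k
    have : z * k = k * z := Subtype.ext (Subgroup.mem_center_iff.1 (hZ hz) k).symm
    rw [this, mul_inv_cancel_right]
  have hKc : (Nat.card K).Coprime p := by
    rw [← hK.symm.index_eq_card, hidx]
    exact CfsgLib.Solvable.Cores.coprime_card_pPrimeCore p
  have hK1 := eq_bot_of_subnormal h
    (Subgroup.IsSubnormal.trans' hKn.isSubnormal (Subgroup.Normal.isSubnormal (H := M) inferInstance))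
    (by rwa [CfsgLib.Coprime.card_map_subtype])
  rw [Subgroup.map_eq_bot_iff_of_injective _ M.subtype_injective] at hK1
  have htop := hK.sup_eq_top
  rw [hK1, sup_bot_eq] at htop
  have hcZ : c ∈ Z := Subgroup.subgroupOf_eq_top.1 htop hcM
  have : Commute x (g * x * g⁻¹) := by
    have e : g * x * g⁻¹ = c * x := by rw [hc]; group
    rw [e]
    exact (Commute.mul_right (Subgroup.mem_center_iff.1 (hZ hcZ) x) (Commute.refl x))
  exact hg (h.iso g this)

/-- The group is generated by `x` and any nontrivial normal subgroup. -/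
theorem sup_zpowers_eq_top (h : MinCE p x) {N : Subgroup G} (hN : N.Normal) (hN1 : N ≠ ⊥) :
    N ⊔ Subgroup.zpowers x = ⊤ := by
  haveI := hN
  by_contra hne
  set H := N ⊔ Subgroup.zpowers x with hH
  have hxH : x ∈ H := Subgroup.mem_sup_right (Subgroup.mem_zpowers x)
  have hz := h.sub H hxH hne
  set O := (pPrimeCore p ↥H).map H.subtype with hO
  have hON : O ⊓ N = ⊥ := by
    refine eq_bot_of_subnormal h ?_ ((CfsgLib.Solvable.Cores.coprime_card_pPrimeCore (G := H) p).coprime_dvd_left ?_)
    · refine Subgroup.IsSubnormal.step _ N inf_le_right hN.isSubnormal ?_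
      rw [Subgroup.normal_subgroupOf_iff_le_normalizer inf_le_right]
      refine le_trans ?_ (Subgroup.inf_normalizer_le_normalizer_inf (H := O) (K := N))
      refine le_inf ((le_sup_left : N ≤ H).trans ?_) Subgroup.le_normalizer
      refine (Subgroup.normal_subgroupOf_iff_le_normalizer (Subgroup.map_subtype_le _)).mp ?_
      rw [show O.subgroupOf H = pPrimeCore p ↥H from
        Subgroup.comap_map_eq_self_of_injective H.subtype_injective _]
      infer_instance
    · rw [← CfsgLib.Coprime.card_map_subtype]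
      exact Subgroup.card_dvd_of_le inf_le_left
  have hxN : x ∈ Subgroup.centralizer (N : Set G) := by
    rw [Subgroup.mem_centralizer_iff]
    intro n hn
    have h1 : n * x * n⁻¹ * x⁻¹ ∈ O ⊓ N :=
      ⟨⟨_, hz ⟨n, Subgroup.mem_sup_left hn⟩, rfl⟩,
        by
          have e : n * x * n⁻¹ * x⁻¹ = n * (x * n⁻¹ * x⁻¹) := by group
          rw [SetLike.mem_coe, e]; exact mul_mem hn (hN.conj_mem _ (inv_mem hn) x)⟩
    rw [hON, Subgroup.mem_bot] at h1
    calc n * x = (n * x * n⁻¹ * x⁻¹) * (x * n) := by group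
      _ = x * n := by rw [h1, one_mul]
  have htop := normal_eq_top h (D := Subgroup.centralizer (N : Set G)) inferInstance hxN
  refine hN1 (eq_bot_of_central h fun n hn => Subgroup.mem_center_iff.2 fun g => ?_)
  exact (Subgroup.mem_centralizer_iff.1 (htop ▸ Subgroup.mem_top g) n hn).symm

/-- A minimal normal subgroup is nonabelian, equals the derived subgroup, and is simple. -/
theorem structure_of_minimal (h : MinCE p x) {N : Subgroup G} (hN : N.Normal) (hN1 : N ≠ ⊥)
    (hmin : ∀ K : Subgroup G, K.Normal → K ≤ N → K = ⊥ ∨ K = N) :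
    ¬ IsMulCommutative N ∧ commutator G = N ∧ IsSimpleGroup N := by
  haveI := hN
  have hgen := sup_zpowers_eq_top h hN hN1
  have hnab : ¬ IsMulCommutative N := by
    intro hab
    haveI := hab
    haveI : Group.IsSolvable N := Group.isSolvable_of_comm fun a b => hab.is_comm.comm a b
    obtain ⟨-, q, hq, -, hqN⟩ := CfsgLib.Solvable.Basic.minimal_normal_solvable N hN1 hmin
    haveI : Fact q.Prime := ⟨hq⟩
    by_cases hqp : q = p
    · subst hqp
      have hR : IsPGroup q ↥(N ⊔ Subgroup.zpowers x) :=
        hqN.to_sup_of_normal_left' (isPGroup_zpowers_x h) (Subgroup.normalizer_eq_top (H := N) ▸ le_top)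
      have hle := Isolated.le_centralizer h.iso hR (Subgroup.mem_sup_right (Subgroup.mem_zpowers x))
      refine hN1 (eq_bot_of_central h fun n hn => Subgroup.mem_center_iff.2 fun g => ?_)
      have hg : g ∈ N ⊔ Subgroup.zpowers x := hgen ▸ Subgroup.mem_top g
      have hle2 : N ⊔ Subgroup.zpowers x ≤ Subgroup.centralizer ({n} : Set G) := by
        refine sup_le (fun m hm => ?_) (Subgroup.zpowers_le.2 ?_)
        · rw [Subgroup.mem_centralizer_singleton_iff]
          exact congrArg Subtype.val (hab.is_comm.comm ⟨m, hm⟩ ⟨n, hn⟩)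
        · rw [Subgroup.mem_centralizer_singleton_iff]
          exact (Subgroup.mem_centralizer_singleton_iff.1 (hle (Subgroup.mem_sup_left hn))).symm
      exact Subgroup.mem_centralizer_singleton_iff.1 (hle2 hg)
    · refine hN1 (eq_bot_of_subnormal h hN.isSubnormal ?_)
      obtain ⟨k, hk⟩ := hqN.exists_card_eq
      rw [hk]
      exact ((Nat.coprime_primes hq Fact.out).2 hqp).pow_left k
  have hcom : commutator G = N := by
    have hle : commutator G ≤ N := by
      have hcomm : ∀ a b : G ⧸ N, a * b = b * a := by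
        have htop : Subgroup.zpowers (QuotientGroup.mk x : G ⧸ N) = ⊤ := by
          have := congrArg (Subgroup.map (QuotientGroup.mk' N)) hgen
          rw [Subgroup.map_sup, QuotientGroup.map_mk'_self, bot_sup_eq, MonoidHom.map_zpowers,
            Subgroup.map_top_of_surjective _ (QuotientGroup.mk'_surjective N)] at this
          exact this
        intro a b
        obtain ⟨i, rfl⟩ : a ∈ Subgroup.zpowers (QuotientGroup.mk x : G ⧸ N) := htop ▸ Subgroup.mem_top a
        obtain ⟨j, rfl⟩ : b ∈ Subgroup.zpowers (QuotientGroup.mk x : G ⧸ N) := htop ▸ Subgroup.mem_top b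
        exact (Commute.refl _).zpow_zpow i j
      rw [commutator_def, Subgroup.commutator_le]
      intro a _ b _
      rw [← QuotientGroup.eq_one_iff, commutatorElement_def]
      simp only [QuotientGroup.mk_mul, QuotientGroup.mk_inv]
      rw [hcomm (a : G ⧸ N) b]; group
    refine (hmin _ inferInstance hle).resolve_left fun e => hnab ⟨⟨fun a b => Subtype.ext ?_⟩⟩
    have := Subgroup.commutator_mem_commutator (Subgroup.mem_top (a : G)) (Subgroup.mem_top (b : G))
    rw [← commutator_def, e, Subgroup.mem_bot, commutatorElement_eq_one_iff_mul_comm] at this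
    exact this
  refine ⟨hnab, hcom, ?_⟩
  haveI : Nontrivial N := (Subgroup.nontrivial_iff_ne_bot N).2 hN1
  refine { eq_bot_or_eq_top_of_normal := fun K hK => ?_ }
  by_contra hcon
  push Not at hcon
  haveI := hK
  obtain ⟨L₀, hL₀n, hL₀1, hL₀K, hL₀min⟩ := CfsgLib.Solvable.Basic.exists_minimal_normal_le hcon.1
  set L : ℕ → Subgroup G := fun i => (L₀.map N.subtype).map (MulAut.conj (x ^ i)).toMonoidHom with hL
  have hL0 : L 0 = L₀.map N.subtype := by
    ext z; simp [hL]
  have hLN : ∀ i, L i ≤ N := by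
    rintro i _ ⟨_, ⟨l, -, rfl⟩, rfl⟩
    exact hN.conj_mem _ l.2 _
  have hLnorm : ∀ i, N ≤ Subgroup.normalizer (L i : Set G) := by
    intro i n hn
    have h1 : N ≤ Subgroup.normalizer ((L₀.map N.subtype : Subgroup G) : Set G) := by
      refine (Subgroup.normal_subgroupOf_iff_le_normalizer (Subgroup.map_subtype_le _)).mp ?_
      rw [show (L₀.map N.subtype).subgroupOf N = L₀ from
        Subgroup.comap_map_eq_self_of_injective N.subtype_injective _]
      exact hL₀n
    have h2 : (x ^ i)⁻¹ * n * x ^ i ∈ N := by simpa using hN.conj_mem n hn (x ^ i)⁻¹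
    have h3 := Subgroup.mem_normalizer_iff.1 (h1 h2)
    rw [Subgroup.mem_normalizer_iff]
    intro z
    have key : ∀ w, w ∈ L i ↔ (x ^ i)⁻¹ * w * x ^ i ∈ L₀.map N.subtype := by
      intro w
      constructor
      · rintro ⟨l, hl, rfl⟩
        rwa [MulEquiv.coe_toMonoidHom, MulAut.conj_apply,
          show (x ^ i)⁻¹ * (x ^ i * l * (x ^ i)⁻¹) * x ^ i = l by group]
      · intro hw
        refine ⟨_, hw, ?_⟩
        rw [MulEquiv.coe_toMonoidHom, MulAut.conj_apply]; group
    rw [key, key, h3]
    simp [mul_assoc]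
  have hshift : ∀ i j, (L i).map (MulAut.conj (x ^ j)).toMonoidHom = L (j + i) := by
    intro i j
    rw [hL]
    simp only [Subgroup.map_map]
    congr 1
    ext z
    simp [pow_add, mul_assoc]
  have hper : ∀ i, L (i % p) = L i := by
    intro i
    simp only [hL]
    rw [← h.ord, pow_mod_orderOf]
  -- two translates are equal or meet trivially
  have hinf : ∀ i, L i ≠ L 0 → L i ⊓ L 0 = ⊥ := by
    intro i hne
    have hW : ((L i ⊓ L 0).subgroupOf N).Normal := by
      rw [Subgroup.normal_subgroupOf_iff_le_normalizer (inf_le_left.trans (hLN i))]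
      exact (le_inf (hLnorm i) (hLnorm 0)).trans Subgroup.inf_normalizer_le_normalizer_inf
    have hle : (L i ⊓ L 0).subgroupOf N ≤ L₀ := by
      intro z hz
      obtain ⟨l, hl, e⟩ : (z : G) ∈ L₀.map N.subtype := hL0 ▸ (Subgroup.mem_inf.1 hz).2
      exact (Subtype.ext e : l = z) ▸ hl
    rcases hL₀min _ hW hle with e | e
    · rw [Subgroup.subgroupOf_eq_bot] at e
      exact le_bot_iff.1 fun z hz => e.le_bot ⟨hz, hLN i (Subgroup.mem_inf.1 hz).1⟩
    · exfalso
      refine hne ?_
      have h0 : L 0 ≤ L i := by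
        rw [hL0]
        rintro _ ⟨l, hl, rfl⟩
        rw [← e] at hl
        exact (Subgroup.mem_inf.1 hl).1
      refine (Subgroup.eq_of_le_of_card_ge h0 ?_).symm
      rw [hL0, hL]
      exact (Subgroup.card_map_of_injective (MulAut.conj (x ^ i)).injective).le
  -- `x` moves `L 0`
  have hmove : ∀ i, ¬ p ∣ i → L i ≠ L 0 := by
    intro i hi e
    have hxi : x ^ i ∈ Subgroup.normalizer (L 0 : Set G) := by
      exact Subgroup.mem_normalizer_iff_map_conj_eq.2 ((hshift 0 i).trans (by rw [add_zero, e]))
    have hcop : Nat.Coprime i (orderOf x) := by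
      rw [h.ord]; exact ((Fact.out : p.Prime).coprime_iff_not_dvd.2 hi).symm
    obtain ⟨m, hm⟩ := exists_pow_eq_self_of_coprime hcop
    have hx' : x ∈ Subgroup.normalizer (L 0 : Set G) := hm ▸ pow_mem hxi m
    have hnorm : (L 0).Normal := by
      rw [← Subgroup.normalizer_eq_top_iff, eq_top_iff, ← hgen]
      exact sup_le (hLnorm 0) (Subgroup.zpowers_le.2 hx')
    rcases hmin _ hnorm (hLN 0) with e0 | e0
    · rw [hL0, Subgroup.map_eq_bot_iff_of_injective _ N.subtype_injective] at e0
      exact hL₀1 e0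
    · refine hcon.2 (eq_top_iff.2 fun z _ => hL₀K ?_)
      obtain ⟨l, hl, e'⟩ : (z : G) ∈ L₀.map N.subtype := hL0 ▸ e0.symm ▸ z.2
      exact (Subtype.ext e' : l = z) ▸ hl
  have hcomm : ∀ i j, L i ≠ L j → ∀ u ∈ L i, ∀ v ∈ L j, u * v = v * u := by
    intro i j hne u hu v hv
    -- translate so that `j` becomes `0`
    have hj : L i ⊓ L j = ⊥ := by
      set k := p - j % p with hk
      have hkj : L (k + j) = L 0 := by
        have hlt := Nat.mod_lt j (Fact.out : p.Prime).pos
        rw [← hper (k + j)]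
        congr 1
        rw [← Nat.div_add_mod j p, ← add_assoc, add_right_comm, hk,
          Nat.sub_add_cancel hlt.le]
        simp
      have hinj := (MulAut.conj (x ^ k)).injective
      refine (Subgroup.map_eq_bot_iff_of_injective _ (f := (MulAut.conj (x ^ k)).toMonoidHom) hinj).1 ?_
      rw [Subgroup.map_inf _ _ (MulAut.conj (x ^ k)).toMonoidHom hinj, hshift, hshift, hkj]
      refine hinf _ fun e => hne (Subgroup.map_injective (f := (MulAut.conj (x ^ k)).toMonoidHom) hinj ?_)
      rw [hshift, hshift, hkj, e]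
    have h1 : u * v * u⁻¹ * v⁻¹ ∈ L i ⊓ L j := by
      refine Subgroup.mem_inf.2 ⟨?_, ?_⟩
      · rw [show u * v * u⁻¹ * v⁻¹ = u * (v * u⁻¹ * v⁻¹) by group]
        exact mul_mem hu ((Subgroup.mem_normalizer_iff.1 (hLnorm i (hLN j hv)) _).1 (inv_mem hu))
      · exact mul_mem ((Subgroup.mem_normalizer_iff.1 (hLnorm j (hLN i hu)) v).1 hv) (inv_mem hv)
    rw [hj, Subgroup.mem_bot] at h1
    calc u * v = (u * v * u⁻¹ * v⁻¹) * (v * u) := by group
      _ = v * u := by rw [h1, one_mul]
  -- the join of the other translates meets `L 0` trivially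
  set J : Subgroup G := ⨆ i ∈ {i : ℕ | ¬ p ∣ i}, L i with hJ
  have hJc : J ≤ Subgroup.centralizer (L 0 : Set G) :=
    iSup₂_le fun i hi u hu v hv => hcomm 0 i (fun e => hmove i hi e.symm) v hv u hu
  have hJN : J ≤ N := iSup₂_le fun i _ => hLN i
  have hJinf : L 0 ⊓ J = ⊥ := by
    have hnormJ : N ≤ Subgroup.normalizer (J : Set G) := by
      intro n hn
      rw [Subgroup.mem_normalizer_iff_map_conj_eq, hJ, Subgroup.map_iSup]
      refine iSup_congr fun i => ?_
      rw [Subgroup.map_iSup]
      exact iSup_congr fun _ => Subgroup.mem_normalizer_iff_map_conj_eq.1 (hLnorm i hn)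
    have hW : ((L 0 ⊓ J).subgroupOf N).Normal := by
      rw [Subgroup.normal_subgroupOf_iff_le_normalizer (inf_le_left.trans (hLN 0))]
      exact (le_inf (hLnorm 0) hnormJ).trans Subgroup.inf_normalizer_le_normalizer_inf
    have hle : (L 0 ⊓ J).subgroupOf N ≤ L₀ := by
      intro z hz
      obtain ⟨l, hl, e⟩ : (z : G) ∈ L₀.map N.subtype := hL0 ▸ (Subgroup.mem_inf.1 hz).1
      exact (Subtype.ext e : l = z) ▸ hl
    rcases hL₀min _ hW hle with e | e
    · rw [Subgroup.subgroupOf_eq_bot] at e
      exact le_bot_iff.1 fun z hz => e.le_bot ⟨hz, hLN 0 (Subgroup.mem_inf.1 hz).1⟩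
    exfalso
    have h0J : L 0 ≤ J := by
      rw [hL0]
      rintro _ ⟨l, hl, rfl⟩
      rw [← e] at hl
      exact (Subgroup.mem_inf.1 hl).2
    -- then all translates commute and generate `N`
    have h00 : ∀ u ∈ L 0, ∀ v ∈ L 0, u * v = v * u := fun u hu v hv =>
      hJc (h0J hv) u hu
    have hall : ∀ i j, ∀ u ∈ L i, ∀ v ∈ L j, u * v = v * u := by
      intro i j u hu v hv
      by_cases hij : L i = L j
      · rw [← hij] at hv
        have e0 : L i = (L 0).map (MulAut.conj (x ^ i)).toMonoidHom := by rw [hshift, add_zero]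
        rw [e0] at hu hv
        obtain ⟨u, hu, rfl⟩ := hu
        obtain ⟨v, hv, rfl⟩ := hv
        rw [← map_mul, ← map_mul, h00 u hu v hv]
      · exact hcomm i j hij u hu v hv
    set W : Subgroup G := Subgroup.closure (⋃ i, (L i : Set G)) with hW'
    haveI hWc : IsMulCommutative W := Subgroup.isMulCommutative_closure (by
      intro u hu v hv
      simp only [Set.mem_iUnion] at hu hv
      obtain ⟨i, hu⟩ := hu
      obtain ⟨j, hv⟩ := hv
      exact hall i j u hu v hv)
    have hWn : W.Normal := by
      rw [← Subgroup.normalizer_eq_top_iff, eq_top_iff, ← hgen]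
      have hW2 : W = ⨆ i, L i := by
        rw [hW', Subgroup.closure_iUnion]; simp
      refine sup_le (fun n hn => ?_) (Subgroup.zpowers_le.2 ?_)
      · rw [Subgroup.mem_normalizer_iff_map_conj_eq, hW2, Subgroup.map_iSup]
        exact iSup_congr fun i => Subgroup.mem_normalizer_iff_map_conj_eq.1 (hLnorm i hn)
      · rw [Subgroup.mem_normalizer_iff_map_conj_eq]
        refine Subgroup.eq_of_le_of_card_ge ?_ (Subgroup.card_map_of_injective (MulAut.conj x).injective).ge
        rw [hW2, Subgroup.map_iSup]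
        refine iSup_le fun i => ?_
        have := hshift i 1
        rw [pow_one] at this
        exact le_of_eq_of_le this (le_iSup L (1 + i))
    have hWle : W ≤ N := (Subgroup.closure_le _).2 (Set.iUnion_subset fun i => hLN i)
    rcases hmin W hWn hWle with e' | e'
    · refine hL₀1 ((Subgroup.map_eq_bot_iff_of_injective _ N.subtype_injective).1 (le_bot_iff.1 ?_))
      rw [← e', ← hL0]
      exact (Set.subset_iUnion (fun i => (L i : Set G)) 0).trans Subgroup.subset_closure
    · exact hnab (e' ▸ hWc)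
  -- an element of order `p` in `L 0`
  have hdvd : p ∣ Nat.card (L 0) := by
    by_contra hnd
    refine hL₀1 ((Subgroup.map_eq_bot_iff_of_injective _ N.subtype_injective).1 ?_)
    refine eq_bot_of_subnormal h (Subgroup.IsSubnormal.trans' hL₀n.isSubnormal hN.isSubnormal) ?_
    rw [← hL0]
    exact ((Fact.out : p.Prime).coprime_iff_not_dvd.2 hnd).symm
  obtain ⟨⟨l, hl⟩, hlo⟩ := exists_prime_orderOf_dvd_card' (G := L 0) p hdvd
  rw [Subgroup.orderOf_mk] at hlo
  set a : ℕ → G := fun i => x ^ i * l * (x ^ i)⁻¹ with ha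
  have haL : ∀ i, a i ∈ L i := fun i => by
    have h0 : L i = (L 0).map (MulAut.conj (x ^ i)).toMonoidHom := by rw [hshift, add_zero]
    rw [h0]; exact ⟨l, hl, rfl⟩
  have haper : ∀ i, a (i % p) = a i := by
    intro i; simp only [ha]; rw [← h.ord, pow_mod_orderOf]
  have hac : ∀ i j, Commute (a i) (a j) := by
    intro i j
    by_cases hij : L i = L j
    · rw [← haper i, ← haper j]
      have : i % p = j % p := by
        by_contra hne
        set k := p - j % p with hk
        have hlt := Nat.mod_lt j (Fact.out : p.Prime).pos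
        refine hmove (k + i % p) ?_ ?_
        · intro hd
          obtain ⟨c, hc⟩ := hd
          have hlti := Nat.mod_lt i (Fact.out : p.Prime).pos
          have : c < 2 := by
            by_contra hc2
            have h2 : p * 2 ≤ p * c := Nat.mul_le_mul_left _ (by omega)
            omega
          interval_cases c <;> omega
        · have h1 := congrArg (Subgroup.map (MulAut.conj (x ^ k)).toMonoidHom)
            (show L (i % p) = L (j % p) by rw [hper, hper, hij])
          rw [hshift, hshift, show k + j % p = p by omega, ← hper p, Nat.mod_self] at h1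
          exact h1
      rw [this]
    · exact hcomm i j hij _ (haL i) _ (haL j)
  let D : ℕ → G := fun n => n.rec 1 (fun m D => D * a m)
  let g : ℕ → G := fun n => n.rec 1 (fun m g => g * a m ^ m)
  have hstep : ∀ m, x * a m * x⁻¹ = a (m + 1) := fun m => by
    simp only [ha, pow_succ', mul_inv_rev, mul_assoc]
  have hDa : ∀ n j, Commute (D n) (a j) := by
    intro n j
    induction n with
    | zero => exact Commute.one_left _
    | succ n ih => exact ih.mul_left (hac n j)
  have hga : ∀ n j, Commute (g n) (a j) := by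
    intro n j
    induction n with
    | zero => exact Commute.one_left _
    | succ n ih => exact ih.mul_left ((hac n j).pow_left n)
  have hgD : ∀ n, x * g n * x⁻¹ * D (n + 1) = g (n + 1) * a 0 := by
    intro n
    induction n with
    | zero => show x * 1 * x⁻¹ * (1 * a 0) = (1 * a 0 ^ 0) * a 0; simp
    | succ n ih =>
      show x * (g n * a n ^ n) * x⁻¹ * (D (n + 1) * a (n + 1)) =
        g (n + 1) * a (n + 1) ^ (n + 1) * a 0
      calc x * (g n * a n ^ n) * x⁻¹ * (D (n + 1) * a (n + 1))
          = x * g n * x⁻¹ * ((x * a n * x⁻¹) ^ n * D (n + 1)) * a (n + 1) := by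
            rw [show (x * a n * x⁻¹) ^ n = x * a n ^ n * x⁻¹ from conj_pow]
            simp only [mul_assoc, inv_mul_cancel_left]
        _ = x * g n * x⁻¹ * (D (n + 1) * a (n + 1) ^ n) * a (n + 1) := by
            rw [hstep, ((hDa (n + 1) (n + 1)).pow_right n).eq]
        _ = (x * g n * x⁻¹ * D (n + 1)) * a (n + 1) ^ (n + 1) := by
            simp only [pow_succ, mul_assoc]
        _ = g (n + 1) * (a 0 * a (n + 1) ^ (n + 1)) := by rw [ih, mul_assoc]
        _ = _ := by rw [((hac 0 (n + 1)).pow_right (n + 1)).eq, ← mul_assoc]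
  have hDx : ∀ n, a 0 * (x * D n * x⁻¹) = D (n + 1) := by
    intro n
    induction n with
    | zero => show a 0 * (x * 1 * x⁻¹) = 1 * a 0; simp
    | succ n ih =>
      show a 0 * (x * (D n * a n) * x⁻¹) = D (n + 1) * a (n + 1)
      rw [← ih, ← hstep]; group
  have hap : a p = a 0 := by rw [← haper p, Nat.mod_self]
  have hapow : a p ^ p = 1 := by
    rw [hap]
    show (x ^ 0 * l * (x ^ 0)⁻¹) ^ p = 1
    simp [← hlo, pow_orderOf_eq_one]
  have hDfix : x * D p * x⁻¹ = D p := by
    have h1 := hDx p
    show _ = D p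
    have h2 : D (p + 1) = a 0 * D p := by
      show D p * a p = _
      rw [hap, (hDa p 0).eq]
    rw [h2] at h1
    exact mul_left_cancel h1
  have hgfix : x * g p * x⁻¹ * D p = g p := by
    have h1 := hgD p
    have h2 : D (p + 1) = D p * a 0 := by show D p * a p = _; rw [hap]
    have h3 : g (p + 1) = g p := by show g p * a p ^ p = _; rw [hapow, mul_one]
    rw [h2, h3, ← mul_assoc] at h1
    exact mul_right_cancel h1
  have hD1 : D p ≠ 1 := by
    have htail : ∀ n, n < p → ∃ t ∈ J, D (n + 1) = a 0 * t := by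
      intro n hn
      induction n with
      | zero => exact ⟨1, one_mem _, by show 1 * a 0 = a 0 * 1; simp⟩
      | succ n ih =>
        obtain ⟨t, ht, he⟩ := ih (by omega)
        refine ⟨t * a (n + 1), mul_mem ht ?_, by
          show D (n + 1) * a (n + 1) = _; rw [he, mul_assoc]⟩
        refine Subgroup.mem_iSup_of_mem (n + 1) (Subgroup.mem_iSup_of_mem ?_ (haL (n + 1)))
        exact fun hd => absurd (Nat.le_of_dvd (Nat.succ_pos n) hd) (by omega)
    obtain ⟨t, ht, he⟩ := htail (p - 1) (by have := (Fact.out : p.Prime).pos; omega)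
    rw [Nat.sub_add_cancel (Fact.out : p.Prime).pos] at he
    intro e
    rw [e] at he
    have h0 : a 0 ∈ L 0 ⊓ J := Subgroup.mem_inf.2 ⟨haL 0, by
      rw [eq_inv_of_mul_eq_one_left he.symm]; exact inv_mem ht⟩
    rw [hJinf, Subgroup.mem_bot] at h0
    have : l = 1 := by simpa [ha] using h0
    rw [this, orderOf_one] at hlo
    exact (Fact.out : p.Prime).one_lt.ne hlo
  have hconj : (g p)⁻¹ * x * ((g p)⁻¹)⁻¹ = (D p)⁻¹ * x := by
    rw [inv_inv]
    have e : x * g p = g p * (D p)⁻¹ * x := by
      conv_rhs => rw [← hgfix]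
      group
    calc (g p)⁻¹ * x * g p = (g p)⁻¹ * (x * g p) := by group
      _ = (D p)⁻¹ * x := by rw [e]; group
  have hxD : Commute x (D p) := by
    show x * D p = D p * x
    calc x * D p = (x * D p * x⁻¹) * x := by group
      _ = D p * x := by rw [hDfix]
  have := h.iso (g p)⁻¹ (by rw [hconj]; exact hxD.inv_right.mul_right (Commute.refl x))
  rw [hconj] at this
  exact hD1 (inv_eq_one.1 (mul_eq_right.1 this))

end CfsgLib.LocalEvenB.ZStarMinimal
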